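/-
A certificate checker for identities `∑ c • (g • v) = 0` in a module of a permutation group.

The group elements occurring in a certificate are words in a fixed list of generators; products are
compared through their lists of images.
-/
import Mathlib

set_option autoImplicit false

namespace Cfsg.Agent.AltSolvCent

/-- Composition of image lists. -/
def comp (A B : List ℕ) : List ℕ := B.map fun i => A.getD i 0

/-- A sparse table of coefficients. -/
inductive Tally where
  | nil
  | node (c : ℕ) (l r : Tally)

namespace Tally

/-- Add `c` at position `i`. -/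
def ins : ℕ → Tally → ℕ → ℕ → Tally
  | 0, t, _, _ => t
  | f + 1, .nil, i, c =>
    if i = 0 then .node c .nil .nil
    else if i % 2 = 1 then .node 0 (ins f .nil (i / 2) c) .nil
    else .node 0 .nil (ins f .nil (i / 2 - 1) c)
  | f + 1, .node d l r, i, c =>
    if i = 0 then .node (d + c) l r
    else if i % 2 = 1 then .node d (ins f l (i / 2) c) r
    else .node d l (ins f r (i / 2 - 1) c)

/-- All coefficients vanish modulo `p`. -/
def isZero (p : ℕ) : Tally → Bool
  | .nil => true
  | .node c l r => (c % p == 0) && l.isZero p && r.isZero p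

variable {V : Type*} [AddCommGroup V]

/-- The value of a table. -/
def eval (x : ℕ → V) : Tally → V
  | .nil => 0
  | .node c l r => c • x 0 + l.eval (fun i => x (2 * i + 1)) + r.eval (fun i => x (2 * i + 2))

theorem eval_ins (f : ℕ) : ∀ (t : Tally) (x : ℕ → V) (i c : ℕ), i + 1 < 2 ^ f →
    (ins f t i c).eval x = t.eval x + c • x i := by
  induction f with
  | zero => intro t x i c h; simp at h
  | succ f ih =>
    intro t x i c h
    have hlt : i ≠ 0 → i / 2 + 1 < 2 ^ f ∨ (i % 2 = 0 ∧ i / 2 - 1 + 1 < 2 ^ f) := by
      intro hi; rw [pow_succ] at h; omega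
    rcases t with _ | ⟨d, l, r⟩
    all_goals
      by_cases hi : i = 0
      · subst hi; simp [ins, eval, add_smul]; try abel
      · rw [pow_succ] at h
        by_cases ho : i % 2 = 1
        · have e : 2 * (i / 2) + 1 = i := by omega
          simp [ins, hi, ho, eval, ih _ _ (i / 2) c (by omega), e]; try abel
        · have e : 2 * (i / 2 - 1) + 2 = i := by omega
          simp [ins, hi, ho, eval, ih _ _ (i / 2 - 1) c (by omega), e]; try abel

theorem eval_eq_zero {p : ℕ} (hp : ∀ v : V, p • v = 0) :
    ∀ (t : Tally) (x : ℕ → V), t.isZero p = true → t.eval x = 0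
  | .nil, _, _ => rfl
  | .node c l r, x, h => by
    simp only [isZero, Bool.and_eq_true, beq_iff_eq] at h
    have hc : c • x 0 = 0 := by
      obtain ⟨k, rfl⟩ := Nat.dvd_of_mod_eq_zero h.1.1
      rw [mul_nsmul, hp, smul_zero]
    simp [eval, hc, eval_eq_zero hp l _ h.1.2, eval_eq_zero hp r _ h.2]

/-- Add a list of terms. -/
def addList (t : Tally) (T : List (ℕ × ℕ)) : Tally :=
  T.foldl (fun t a => ins 16 t a.2 a.1) t

theorem eval_addList (T : List (ℕ × ℕ)) : ∀ (t : Tally) (x : ℕ → V),
    (∀ a ∈ T, a.2 + 1 < 2 ^ 16) →
      (addList t T).eval x = t.eval x + (T.map fun a => a.1 • x a.2).sum := by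
  induction T with
  | nil => intro t x _; simp [addList]
  | cons a T ih =>
    intro t x h
    have h1 := ih (ins 16 t a.2 a.1) x fun b hb => h b (List.mem_cons_of_mem _ hb)
    simp only [addList, List.foldl_cons] at h1 ⊢
    rw [h1, eval_ins 16 t x a.2 a.1 (h a (List.mem_cons_self ..))]
    simp only [List.map_cons, List.sum_cons]
    abel

end Tally

/-- A table of group elements: words together with their image lists. -/
abbrev Table := List (List ℕ × List ℕ)

/-- A step of a certificate: a multiplier, a translating word, the number of a relation, and the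
position (representative, stabiliser element) of each translated term. -/
structure Step where
  mult : ℕ
  tr : List ℕ
  rel : ℕ
  dest : List (ℕ × ℕ)

/-- The data of a certificate. -/
structure Ctx where
  /-- the degree -/
  deg : ℕ
  /-- image lists of the generators -/
  gi : List (List ℕ)
  /-- operating elements -/
  elts : Table
  /-- representatives -/
  reps : Table
  /-- stabiliser elements -/
  stab : Table
  /-- scalars of the stabiliser elements -/
  scal : List ℕ

namespace Ctx

variable (C : Ctx)

/-- The identity image list. -/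
def idImg : List ℕ := List.range C.deg

/-- The image list of a word. -/
def img : List ℕ → List ℕ
  | [] => C.idImg
  | k :: w => comp (C.gi.getD k C.idImg) (img w)

/-- The image lists stored in a table are correct. -/
def tblOK (T : Table) : Bool := T.all fun a => C.img a.1 == a.2

/-- Lookup in a table. -/
def get (T : Table) (k : ℕ) : List ℕ × List ℕ := T.getD k ([], C.idImg)

/-- Check the terms of a translated relation and list the resulting terms. -/
def terms (m : ℕ) (gimg : List ℕ) :
    List (ℕ × ℕ × ℕ) → List (ℕ × ℕ) → Option (List (ℕ × ℕ))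
  | [], [] => some []
  | (c, a, k) :: L, (j, u) :: D =>
    if comp gimg (comp (C.get C.elts a).2 (C.get C.reps k).2) ==
        comp (C.get C.reps j).2 (C.get C.stab u).2 && Nat.blt (j + 1) 65536 then
      (terms m gimg L D).map fun T => ((m * c * C.scal.getD u 1), j) :: T
    else none
  | _, _ => none

/-- Run the steps. -/
def run (rels : List (List (ℕ × ℕ × ℕ))) : List Step → Tally → Option Tally
  | [], t => some t
  | s :: S, t =>
    match C.terms s.mult (C.img s.tr) (rels.getD s.rel []) s.dest with
    | none => none
    | some T => run rels S (t.addList T)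

/-- The tables are correct. -/
def ok : Bool := C.tblOK C.elts && C.tblOK C.reps && C.tblOK C.stab

/-- The steps prove that the value of `goal` vanishes. -/
def check (p : ℕ) (rels : List (List (ℕ × ℕ × ℕ))) (steps : List Step)
    (goal : List (ℕ × ℕ × ℕ)) (dest : List (ℕ × ℕ)) : Bool :=
  match C.run rels steps .nil, C.terms 1 C.idImg goal dest with
  | some t, some T => (t.addList T).isZero p
  | _, _ => false

section

variable {n : ℕ} {Γ : Subgroup (Equiv.Perm (Fin n))} (gs : List ↥Γ)

/-- The element of a word. -/
def el : List ℕ → ↥Γ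
  | [] => 1
  | k :: w => gs.getD k 1 * el w

/-- The generators have the stated images. -/
def GensOK : Prop := C.deg = n ∧ gs.length = C.gi.length ∧
  ∀ k, k < gs.length → C.gi.getD k C.idImg = List.ofFn fun i => (((gs.getD k 1 : ↥Γ) : Equiv.Perm (Fin n)) i).val

/-- The image list of a permutation. -/
def imgOf (σ : Equiv.Perm (Fin n)) : List ℕ := List.ofFn fun i => (σ i).val

theorem comp_imgOf (σ τ : Equiv.Perm (Fin n)) : comp (imgOf σ) (imgOf τ) = imgOf (σ * τ) := by
  simp only [comp, imgOf, List.map_ofFn]
  congr 1
  funext i
  simp [Function.comp_apply, List.getD_eq_getElem?_getD, List.getElem?_ofFn]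

theorem imgOf_injective : Function.Injective (imgOf (n := n)) := fun σ τ h =>
  Equiv.ext fun i => Fin.ext (congrFun (List.ofFn_injective h) i)

variable {C gs}

theorem img_eq (hg : C.GensOK gs) : ∀ w, C.img w = imgOf ((el gs w : ↥Γ) : Equiv.Perm (Fin n))
  | [] => by
    simp only [img, idImg, el, hg.1]
    apply List.ext_getElem <;> simp [imgOf]
  | k :: w => by
    simp only [img, el, Subgroup.coe_mul, ← comp_imgOf, img_eq hg w]
    congr 1
    by_cases hk : k < gs.length
    · exact hg.2.2 k hk
    · have hk' : gs.length ≤ k := not_lt.1 hk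
      rw [List.getD_eq_default _ _ hk', List.getD_eq_default _ _ (hg.2.1 ▸ hk')]
      simp only [idImg, hg.1]
      apply List.ext_getElem <;> simp [imgOf]

theorem eq_of_img (hg : C.GensOK gs) {v w : List ℕ} (h : C.img v = C.img w) :
    (el gs v : ↥Γ) = el gs w := by
  rw [img_eq hg, img_eq hg] at h
  exact Subtype.ext (imgOf_injective h)

theorem tbl_get (hg : C.GensOK gs) {T : Table} (hT : C.tblOK T = true) (k : ℕ) :
    (C.get T k).2 = imgOf ((el gs (C.get T k).1 : ↥Γ) : Equiv.Perm (Fin n)) := by
  rw [← img_eq hg]
  by_cases hk : k < T.length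
  · simp only [tblOK, List.all_eq_true, beq_iff_eq] at hT
    simp only [get, List.getD_eq_getElem _ _ hk]
    exact (hT _ (List.getElem_mem hk)).symm
  · unfold get
    rw [List.getD_eq_default _ _ (not_lt.1 hk)]
    rfl

variable {V : Type*} [AddCommGroup V] [DistribMulAction ↥Γ V]

variable (C gs) in
/-- The value of a term of a relation. -/
def atom (w : V) (a : ℕ × ℕ × ℕ) : V :=
  a.1 • ((el gs (C.get C.elts a.2.1).1 : ↥Γ) • ((el gs (C.get C.reps a.2.2).1 : ↥Γ) • w))

variable (C gs) in
/-- The value of a relation. -/
def val (w : V) (L : List (ℕ × ℕ × ℕ)) : V := (L.map (atom C gs w)).sum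

variable (C gs) in
/-- The translates of the base vector. -/
def pt (w : V) (j : ℕ) : V := (el gs (C.get C.reps j).1 : ↥Γ) • w

theorem terms_sound (hg : C.GensOK gs) (hok : C.ok = true) {w : V}
    (hU : ∀ u, (el gs (C.get C.stab u).1 : ↥Γ) • w = (C.scal.getD u 1) • w) (m : ℕ) (g : ↥Γ) :
    ∀ (L : List (ℕ × ℕ × ℕ)) (D T : List (ℕ × ℕ)),
      C.terms m (imgOf (g : Equiv.Perm (Fin n))) L D = some T →
      (∀ a ∈ T, a.2 + 1 < 2 ^ 16) ∧
        (T.map fun a => a.1 • pt C gs w a.2).sum = m • (g • val C gs w L) := by
  intro L
  simp only [ok, Bool.and_eq_true] at hok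
  induction L with
  | nil =>
    intro D T h
    cases D with
    | nil =>
      simp only [terms, Option.some.injEq] at h
      subst h
      simp [val]
    | cons a D => simp [terms] at h
  | cons a L ih =>
    obtain ⟨c, a, k⟩ := a
    intro D T h
    cases D with
    | nil => simp [terms] at h
    | cons d D =>
      obtain ⟨j, u⟩ := d
      simp only [terms] at h
      split at h
      · rename_i hc
        obtain ⟨T', hT', rfl⟩ := Option.map_eq_some_iff.1 h
        simp only [Bool.and_eq_true, beq_iff_eq, Nat.blt_eq] at hc
        obtain ⟨hc, hj⟩ := hc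
        rw [tbl_get hg hok.1.1, tbl_get hg hok.1.2, tbl_get hg hok.1.2, tbl_get hg hok.2,
          comp_imgOf, comp_imgOf, comp_imgOf, ← Subgroup.coe_mul, ← Subgroup.coe_mul,
          ← Subgroup.coe_mul] at hc
        have he := Subtype.ext (imgOf_injective hc)
        obtain ⟨h1, h2⟩ := ih D T' hT'
        refine ⟨?_, ?_⟩
        · intro b hb
          rcases List.mem_cons.1 hb with rfl | hb
          · exact hj
          · exact h1 b hb
        · have key : g • atom C gs w (c, a, k) = (c * C.scal.getD u 1) • pt C gs w j := by
            have e1 : g • atom C gs w (c, a, k) = c • ((g * ((el gs (C.get C.elts a).1 : ↥Γ) *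
                el gs (C.get C.reps k).1)) • w) := by
              simp only [atom, smul_comm g c, mul_smul]
            rw [e1, he, mul_smul, hU, smul_comm _ (C.scal.getD u 1), ← mul_nsmul']
            rfl
          simp only [List.map_cons, List.sum_cons, val, smul_add] at h2 ⊢
          rw [h2, key, ← mul_nsmul', ← mul_assoc]
      · exact absurd h (by simp)

theorem run_sound (hg : C.GensOK gs) (hok : C.ok = true) {w : V}
    (hU : ∀ u, (el gs (C.get C.stab u).1 : ↥Γ) • w = (C.scal.getD u 1) • w)
    {rels : List (List (ℕ × ℕ × ℕ))} (hrels : ∀ L ∈ rels, val C gs w L = 0) :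
    ∀ (S : List Step) (t t' : Tally), C.run rels S t = some t' →
      t.eval (pt C gs w) = 0 → t'.eval (pt C gs w) = 0 := by
  intro S
  induction S with
  | nil =>
    intro t t' h h0
    simp only [run, Option.some.injEq] at h
    exact h ▸ h0
  | cons s S ih =>
    intro t t' h h0
    simp only [run] at h
    split at h
    · exact absurd h (by simp)
    · rename_i T hT
      rw [img_eq hg] at hT
      obtain ⟨h1, h2⟩ := terms_sound hg hok hU s.mult _ _ _ _ hT
      refine ih _ t' h ?_
      rw [Tally.eval_addList T t _ h1, h0, h2]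
      have hv : val C gs w (rels.getD s.rel []) = 0 := by
        by_cases hk : s.rel < rels.length
        · rw [List.getD_eq_getElem _ _ hk]; exact hrels _ (List.getElem_mem hk)
        · rw [List.getD_eq_default _ _ (not_lt.1 hk)]
          rfl
      rw [hv, smul_zero, smul_zero, add_zero]

/-- Soundness of the checker. -/
theorem sound (hg : C.GensOK gs) (hok : C.ok = true) {p : ℕ} (hp : ∀ v : V, p • v = 0) {w : V}
    (hU : ∀ u, (el gs (C.get C.stab u).1 : ↥Γ) • w = (C.scal.getD u 1) • w)
    {rels : List (List (ℕ × ℕ × ℕ))} (hrels : ∀ L ∈ rels, val C gs w L = 0)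
    {S : List Step} {goal : List (ℕ × ℕ × ℕ)} {dest : List (ℕ × ℕ)}
    (h : C.check p rels S goal dest = true) : val C gs w goal = 0 := by
  simp only [check] at h
  split at h
  · rename_i t T ht hT
    have e : C.idImg = imgOf (((el gs [] : ↥Γ)) : Equiv.Perm (Fin n)) := img_eq hg []
    rw [e] at hT
    obtain ⟨h1, h2⟩ := terms_sound hg hok hU 1 _ _ _ _ hT
    have h3 := run_sound hg hok hU hrels S .nil t ht rfl
    have h4 := Tally.eval_eq_zero hp _ (pt C gs w) h
    rw [Tally.eval_addList T t _ h1, h3, h2] at h4
    simpa [el] using h4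
  · exact absurd h (by simp)

end

end Ctx

end Cfsg.Agent.AltSolvCent
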