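import Cfsg.Agent.AltSolvCent.Cert

/-! Machine generated certificate data for fixed vectors of the alternating group of degree ten in characteristic five. -/

set_option autoImplicit false

namespace Cfsg.Agent.AltSolvCent.Five

def gi : List (List ℕ) := [[1, 2, 0, 3, 4, 5, 6, 7, 8, 9], [1, 3, 2, 0, 4, 5, 6, 7, 8, 9], [1, 4, 2, 3, 0, 5, 6, 7, 8, 9], [1, 5, 2, 3, 4, 0, 6, 7, 8, 9], [1, 6, 2, 3, 4, 5, 0, 7, 8, 9], [1, 7, 2, 3, 4, 5, 6, 0, 8, 9], [1, 8, 2, 3, 4, 5, 6, 7, 0, 9], [1, 9, 2, 3, 4, 5, 6, 7, 8, 0]]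

def gX : List (List ℕ) := [[0], [2, 1, 1, 0], [5, 3, 4, 5, 3], [3, 5, 7, 4, 6, 3, 5]]

def gS1 : List (List ℕ) := [[0], [2, 1, 1, 0]]

def gS2 : List (List ℕ) := [[5, 3, 4, 5, 3], [3, 5, 7, 4, 6, 3, 5]]

def gT6 : List (List ℕ) := [[2, 1, 1, 0], [3, 2]]

def gD : List (List ℕ) := [[5, 3, 4, 5, 3, 0], [2, 4, 1, 3, 6, 7, 5, 6, 4, 0]]

def gA1 : List (List ℕ) := [[0], [1, 1, 0]]

def gA2 : List (List ℕ) := [[6, 4, 5, 6, 4], [7, 5, 6, 7, 5]]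

def gV1 : List (List ℕ) := [[0, 1, 1, 0], [0, 1]]

def gV2 : List (List ℕ) := [[6, 4, 7, 5, 6, 4], [5, 4, 7, 6, 5, 4]]

def gA6 : List (List ℕ) := [[0], [1], [2], [3]]

def gU : List (List ℕ) := [[2, 1, 1, 0], [3, 5, 7, 4, 6, 3, 5], [0, 2, 1, 0, 0], [5, 4, 6, 7, 5, 4]]

def gU1 : List (List ℕ) := [[2, 1, 1, 0], [0, 2, 1, 0, 0]]

def gU2 : List (List ℕ) := [[3, 5, 7, 4, 6, 3, 5], [5, 4, 6, 7, 5, 4]]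

def sigma : List ℕ := [1, 0, 7, 6, 1, 0, 4, 5]

def simpleSets_0 : List (List (List ℕ) × List (List ℕ × List ℕ)) :=
  [(gS1, [([0, 0], [1, 1, 0, 0, 1, 0, 1]), ([0], [0, 1, 0, 1])]),
    (gS2, [([0, 0], [1, 1, 0, 0, 1, 0, 1]), ([0], [0, 1, 0, 1])]),
    (gT6, [([0, 0, 0], [1, 0, 0, 1, 0, 0, 0, 1]), ([0, 1, 0, 0, 0], [1, 0, 0, 0, 1, 0])]),
    (gD, [([0, 0], [1, 1, 0, 0, 1, 0, 1]), ([0], [0, 1, 0, 1])])]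

def simpleSets : List (List (List ℕ) × List (List ℕ × List ℕ)) :=
  simpleSets_0

def opI : List (ℕ × List ℕ) := [(1, [])]

def opT1_0 : List (ℕ × List ℕ) :=
  [(1, [0, 0, 2, 1, 1, 0]),
    (1, [2, 1, 1, 0, 0, 0, 2, 1, 1, 0]),
    (1, [2, 1, 1, 0, 2, 1, 1, 0, 0, 0, 2, 1, 1, 0]),
    (1, [0, 2, 1, 1, 0, 2, 1, 1, 0, 2, 1, 1, 0]),
    (1, [2, 1, 1, 0, 0, 2, 1, 1, 0, 2, 1, 1, 0, 2, 1, 1, 0])]

def opT1 : List (ℕ × List ℕ) :=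
  opT1_0

def opT2_0 : List (ℕ × List ℕ) :=
  [(1, [5, 3, 4, 5, 3, 5, 3, 4, 5, 3, 3, 5, 7, 4, 6, 3, 5]),
    (1, [3, 5, 7, 4, 6, 3, 5, 5, 3, 4, 5, 3, 5, 3, 4, 5, 3, 3, 5, 7, 4, 6, 3, 5]),
    (1, [3, 5, 7, 4, 6, 3, 5, 3, 5, 7, 4, 6, 3, 5, 5, 3, 4, 5, 3, 5, 3, 4, 5, 3, 3, 5, 7, 4, 6, 3, 5]),
    (1, [5, 3, 4, 5, 3, 3, 5, 7, 4, 6, 3, 5, 3, 5, 7, 4, 6, 3, 5, 3, 5, 7, 4, 6, 3, 5]),
    (1, [3, 5, 7, 4, 6, 3, 5, 5, 3, 4, 5, 3, 3, 5, 7, 4, 6, 3, 5, 3, 5, 7, 4, 6, 3, 5, 3, 5, 7, 4, 6, 3, 5])]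

def opT2 : List (ℕ × List ℕ) :=
  opT2_0

def opDelta_0 : List (ℕ × List ℕ) :=
  [(1, []),
    (4, [5, 3, 4, 5, 3]),
    (4, [0]),
    (4, [5, 3, 4, 5, 3, 5, 3, 4, 5, 3]),
    (1, [5, 3, 4, 5, 3, 0]),
    (4, [0, 0]),
    (4, [5, 3, 4, 5, 3, 5, 3, 4, 5, 3, 0]),
    (4, [5, 3, 4, 5, 3, 0, 0]),
    (1, [5, 3, 4, 5, 3, 5, 3, 4, 5, 3, 0, 0])]

def opDelta : List (ℕ × List ℕ) :=
  opDelta_0

def opE1_0 : List (ℕ × List ℕ) :=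
  [(2, [0]),
    (2, [0, 0]),
    (2, [0, 0, 2, 1, 1, 0]),
    (2, [0, 2, 1, 1, 0, 0]),
    (3, [0, 2, 1, 1, 0, 2, 1, 1, 0]),
    (2, [2, 1, 1, 0, 0, 0]),
    (3, [2, 1, 1, 0, 0, 2, 1, 1, 0]),
    (3, [2, 1, 1, 0, 2, 1, 1, 0, 0]),
    (2, [2, 1, 1, 0, 2, 1, 1, 0, 2, 1, 1, 0, 2, 1, 1, 0, 0]),
    (2, [2, 1, 1, 0, 2, 1, 1, 0, 2, 1, 1, 0, 0, 2, 1, 1, 0]),
    (3, [2, 1, 1, 0, 2, 1, 1, 0, 0, 0, 2, 1, 1, 0]),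
    (3, [2, 1, 1, 0, 0, 0, 2, 1, 1, 0, 2, 1, 1, 0]),
    (2, [2, 1, 1, 0, 0, 2, 1, 1, 0, 2, 1, 1, 0, 2, 1, 1, 0]),
    (2, [0, 2, 1, 1, 0, 2, 1, 1, 0, 2, 1, 1, 0, 2, 1, 1, 0]),
    (3, [0, 2, 1, 1, 0, 2, 1, 1, 0, 2, 1, 1, 0, 0]),
    (2, [2, 1, 1, 0, 0, 2, 1, 1, 0, 2, 1, 1, 0, 2, 1, 1, 0, 2, 1, 1, 0]),
    (2, [2, 1, 1, 0, 0, 2, 1, 1, 0, 2, 1, 1, 0, 2, 1, 1, 0, 0]),
    (2, [2, 1, 1, 0, 2, 1, 1, 0, 0, 2, 1, 1, 0, 0, 2, 1, 1, 0]),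
    (2, [2, 1, 1, 0, 2, 1, 1, 0, 0, 2, 1, 1, 0, 0, 0]),
    (3, [0, 0, 2, 1, 1, 0, 0, 2, 1, 1, 0, 0]),
    (2, [0, 2, 1, 1, 0, 2, 1, 1, 0, 2, 1, 1, 0, 0, 2, 1, 1, 0]),
    (2, [2, 1, 1, 0, 2, 1, 1, 0, 2, 1, 1, 0, 2, 1, 1, 0, 0, 2, 1, 1, 0]),
    (2, [2, 1, 1, 0, 2, 1, 1, 0, 0, 0, 2, 1, 1, 0, 0]),
    (2, [2, 1, 1, 0, 2, 1, 1, 0, 2, 1, 1, 0, 0, 2, 1, 1, 0, 0]),
    (2, [2, 1, 1, 0, 0, 0, 2, 1, 1, 0, 0, 2, 1, 1, 0]),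
    (3, [0, 2, 1, 1, 0, 0, 2, 1, 1, 0, 0, 0]),
    (3, [2, 1, 1, 0, 2, 1, 1, 0, 0, 0, 2, 1, 1, 0, 0, 2, 1, 1, 0]),
    (3, [2, 1, 1, 0, 2, 1, 1, 0, 2, 1, 1, 0, 0, 2, 1, 1, 0, 0, 2, 1, 1, 0]),
    (3, [2, 1, 1, 0, 2, 1, 1, 0, 2, 1, 1, 0, 0, 2, 1, 1, 0, 0, 0]),
    (3, [2, 1, 1, 0, 0, 0, 2, 1, 1, 0, 0, 2, 1, 1, 0, 0]),
    (3, [0, 2, 1, 1, 0, 2, 1, 1, 0, 2, 1, 1, 0, 0, 2, 1, 1, 0, 0]),
    (3, [2, 1, 1, 0, 2, 1, 1, 0, 2, 1, 1, 0, 2, 1, 1, 0, 0, 2, 1, 1, 0, 0]),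
    (3, [2, 1, 1, 0, 2, 1, 1, 0, 0, 0, 2, 1, 1, 0, 0, 2, 1, 1, 0, 0]),
    (2, [0, 2, 1, 1, 0, 2, 1, 1, 0, 2, 1, 1, 0, 0, 2, 1, 1, 0, 0, 0]),
    (2, [2, 1, 1, 0, 2, 1, 1, 0, 2, 1, 1, 0, 2, 1, 1, 0, 0, 2, 1, 1, 0, 0, 0])]

def opE1 : List (ℕ × List ℕ) :=
  opE1_0

def opE2_0 : List (ℕ × List ℕ) :=
  [(2, [5, 3, 4, 5, 3]),
    (2, [5, 3, 4, 5, 3, 5, 3, 4, 5, 3]),
    (2, [5, 3, 4, 5, 3, 5, 3, 4, 5, 3, 3, 5, 7, 4, 6, 3, 5]),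
    (2, [5, 3, 4, 5, 3, 3, 5, 7, 4, 6, 3, 5, 5, 3, 4, 5, 3]),
    (3, [5, 3, 4, 5, 3, 3, 5, 7, 4, 6, 3, 5, 3, 5, 7, 4, 6, 3, 5]),
    (2, [3, 5, 7, 4, 6, 3, 5, 5, 3, 4, 5, 3, 5, 3, 4, 5, 3]),
    (3, [3, 5, 7, 4, 6, 3, 5, 5, 3, 4, 5, 3, 3, 5, 7, 4, 6, 3, 5]),
    (3, [3, 5, 7, 4, 6, 3, 5, 3, 5, 7, 4, 6, 3, 5, 5, 3, 4, 5, 3]),
    (2, [3, 5, 7, 4, 6, 3, 5, 3, 5, 7, 4, 6, 3, 5, 3, 5, 7, 4, 6, 3, 5, 3, 5, 7, 4, 6, 3, 5, 5, 3, 4, 5, 3]),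
    (2, [3, 5, 7, 4, 6, 3, 5, 3, 5, 7, 4, 6, 3, 5, 3, 5, 7, 4, 6, 3, 5, 5, 3, 4, 5, 3, 3, 5, 7, 4, 6, 3, 5]),
    (3, [3, 5, 7, 4, 6, 3, 5, 3, 5, 7, 4, 6, 3, 5, 5, 3, 4, 5, 3, 5, 3, 4, 5, 3, 3, 5, 7, 4, 6, 3, 5]),
    (3, [3, 5, 7, 4, 6, 3, 5, 5, 3, 4, 5, 3, 5, 3, 4, 5, 3, 3, 5, 7, 4, 6, 3, 5, 3, 5, 7, 4, 6, 3, 5]),
    (2, [3, 5, 7, 4, 6, 3, 5, 5, 3, 4, 5, 3, 3, 5, 7, 4, 6, 3, 5, 3, 5, 7, 4, 6, 3, 5, 3, 5, 7, 4, 6, 3, 5]),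
    (2, [5, 3, 4, 5, 3, 3, 5, 7, 4, 6, 3, 5, 3, 5, 7, 4, 6, 3, 5, 3, 5, 7, 4, 6, 3, 5, 3, 5, 7, 4, 6, 3, 5]),
    (3, [5, 3, 4, 5, 3, 3, 5, 7, 4, 6, 3, 5, 3, 5, 7, 4, 6, 3, 5, 3, 5, 7, 4, 6, 3, 5, 5, 3, 4, 5, 3]),
    (2, [3, 5, 7, 4, 6, 3, 5, 5, 3, 4, 5, 3, 3, 5, 7, 4, 6, 3, 5, 3, 5, 7, 4, 6, 3, 5, 3, 5, 7, 4, 6, 3, 5, 3, 5, 7, 4, 6, 3, 5]),
    (2, [3, 5, 7, 4, 6, 3, 5, 5, 3, 4, 5, 3, 3, 5, 7, 4, 6, 3, 5, 3, 5, 7, 4, 6, 3, 5, 3, 5, 7, 4, 6, 3, 5, 5, 3, 4, 5, 3]),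
    (2, [3, 5, 7, 4, 6, 3, 5, 3, 5, 7, 4, 6, 3, 5, 5, 3, 4, 5, 3, 3, 5, 7, 4, 6, 3, 5, 5, 3, 4, 5, 3, 3, 5, 7, 4, 6, 3, 5]),
    (2, [3, 5, 7, 4, 6, 3, 5, 3, 5, 7, 4, 6, 3, 5, 5, 3, 4, 5, 3, 3, 5, 7, 4, 6, 3, 5, 5, 3, 4, 5, 3, 5, 3, 4, 5, 3]),
    (3, [5, 3, 4, 5, 3, 5, 3, 4, 5, 3, 3, 5, 7, 4, 6, 3, 5, 5, 3, 4, 5, 3, 3, 5, 7, 4, 6, 3, 5, 5, 3, 4, 5, 3]),
    (2, [5, 3, 4, 5, 3, 3, 5, 7, 4, 6, 3, 5, 3, 5, 7, 4, 6, 3, 5, 3, 5, 7, 4, 6, 3, 5, 5, 3, 4, 5, 3, 3, 5, 7, 4, 6, 3, 5]),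
    (2, [3, 5, 7, 4, 6, 3, 5, 3, 5, 7, 4, 6, 3, 5, 3, 5, 7, 4, 6, 3, 5, 3, 5, 7, 4, 6, 3, 5, 5, 3, 4, 5, 3, 3, 5, 7, 4, 6, 3, 5]),
    (2, [3, 5, 7, 4, 6, 3, 5, 3, 5, 7, 4, 6, 3, 5, 5, 3, 4, 5, 3, 5, 3, 4, 5, 3, 3, 5, 7, 4, 6, 3, 5, 5, 3, 4, 5, 3]),
    (2, [3, 5, 7, 4, 6, 3, 5, 3, 5, 7, 4, 6, 3, 5, 3, 5, 7, 4, 6, 3, 5, 5, 3, 4, 5, 3, 3, 5, 7, 4, 6, 3, 5, 5, 3, 4, 5, 3]),
    (2, [3, 5, 7, 4, 6, 3, 5, 5, 3, 4, 5, 3, 5, 3, 4, 5, 3, 3, 5, 7, 4, 6, 3, 5, 5, 3, 4, 5, 3, 3, 5, 7, 4, 6, 3, 5]),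
    (3, [5, 3, 4, 5, 3, 3, 5, 7, 4, 6, 3, 5, 5, 3, 4, 5, 3, 3, 5, 7, 4, 6, 3, 5, 5, 3, 4, 5, 3, 5, 3, 4, 5, 3]),
    (3, [3, 5, 7, 4, 6, 3, 5, 3, 5, 7, 4, 6, 3, 5, 5, 3, 4, 5, 3, 5, 3, 4, 5, 3, 3, 5, 7, 4, 6, 3, 5, 5, 3, 4, 5, 3, 3, 5, 7, 4, 6, 3, 5]),
    (3, [3, 5, 7, 4, 6, 3, 5, 3, 5, 7, 4, 6, 3, 5, 3, 5, 7, 4, 6, 3, 5, 5, 3, 4, 5, 3, 3, 5, 7, 4, 6, 3, 5, 5, 3, 4, 5, 3, 3, 5, 7, 4, 6, 3, 5]),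
    (3, [3, 5, 7, 4, 6, 3, 5, 3, 5, 7, 4, 6, 3, 5, 3, 5, 7, 4, 6, 3, 5, 5, 3, 4, 5, 3, 3, 5, 7, 4, 6, 3, 5, 5, 3, 4, 5, 3, 5, 3, 4, 5, 3]),
    (3, [3, 5, 7, 4, 6, 3, 5, 5, 3, 4, 5, 3, 5, 3, 4, 5, 3, 3, 5, 7, 4, 6, 3, 5, 5, 3, 4, 5, 3, 3, 5, 7, 4, 6, 3, 5, 5, 3, 4, 5, 3]),
    (3, [5, 3, 4, 5, 3, 3, 5, 7, 4, 6, 3, 5, 3, 5, 7, 4, 6, 3, 5, 3, 5, 7, 4, 6, 3, 5, 5, 3, 4, 5, 3, 3, 5, 7, 4, 6, 3, 5, 5, 3, 4, 5, 3]),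
    (3, [3, 5, 7, 4, 6, 3, 5, 3, 5, 7, 4, 6, 3, 5, 3, 5, 7, 4, 6, 3, 5, 3, 5, 7, 4, 6, 3, 5, 5, 3, 4, 5, 3, 3, 5, 7, 4, 6, 3, 5, 5, 3, 4, 5, 3]),
    (3, [3, 5, 7, 4, 6, 3, 5, 3, 5, 7, 4, 6, 3, 5, 5, 3, 4, 5, 3, 5, 3, 4, 5, 3, 3, 5, 7, 4, 6, 3, 5, 5, 3, 4, 5, 3, 3, 5, 7, 4, 6, 3, 5, 5, 3, 4, 5, 3]),
    (2, [5, 3, 4, 5, 3, 3, 5, 7, 4, 6, 3, 5, 3, 5, 7, 4, 6, 3, 5, 3, 5, 7, 4, 6, 3, 5, 5, 3, 4, 5, 3, 3, 5, 7, 4, 6, 3, 5, 5, 3, 4, 5, 3, 5, 3, 4, 5, 3]),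
    (2, [3, 5, 7, 4, 6, 3, 5, 3, 5, 7, 4, 6, 3, 5, 3, 5, 7, 4, 6, 3, 5, 3, 5, 7, 4, 6, 3, 5, 5, 3, 4, 5, 3, 3, 5, 7, 4, 6, 3, 5, 5, 3, 4, 5, 3, 5, 3, 4, 5, 3])]

def opE2 : List (ℕ × List ℕ) :=
  opE2_0

def opNT_0 : List (ℕ × List ℕ) :=
  [(1, []),
    (1, [1, 0, 3, 2, 1, 0]),
    (1, [2, 3, 3, 2, 0]),
    (1, [1, 2, 3, 1, 0]),
    (1, [2, 3, 0, 2, 1]),
    (1, [0, 1, 3, 0, 0]),
    (1, [3, 0, 1, 3, 2]),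
    (1, [0, 0, 2, 1, 1, 0, 0, 2, 1, 1, 0, 0]),
    (1, [1, 3, 2, 1, 1]),
    (1, [0, 1, 2, 0, 3]),
    (1, [1, 3, 3, 1]),
    (1, [2, 1, 1, 0, 0, 0, 2, 1, 1, 0, 0, 2, 1, 1, 0, 0]),
    (1, [2, 1, 3, 2, 1, 0]),
    (1, [2, 1, 1, 0]),
    (1, [3, 2, 2, 1]),
    (1, [1, 2, 0, 3, 2, 0]),
    (1, [0, 3, 3, 2]),
    (1, [2, 1, 0, 3, 1, 0]),
    (1, [1, 0, 0, 3]),
    (1, [3, 1, 0, 2, 1, 0]),
    (1, [1, 3, 3, 2, 0, 1]),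
    (1, [3, 2, 0, 3]),
    (1, [2, 1, 1, 0, 2, 1, 1, 0, 0, 0, 2, 1, 1, 0, 0, 2, 1, 1, 0, 0]),
    (1, [2, 1, 3, 0, 1]),
    (1, [3, 0, 1]),
    (1, [2, 1, 1, 0, 2, 1, 1, 0]),
    (1, [1, 3, 0, 2]),
    (1, [3, 1, 0, 2]),
    (1, [0, 3]),
    (1, [2, 1, 0, 3]),
    (1, [0, 3, 3, 2, 1, 0]),
    (1, [0, 3, 1, 0]),
    (1, [2, 2, 3, 1, 2]),
    (1, [3, 2, 0, 1, 2]),
    (1, [0, 2, 1, 1, 0, 2, 1, 1, 0, 2, 1, 1, 0, 0, 2, 1, 1, 0, 0]),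
    (1, [3, 2, 1, 0]),
    (1, [2, 1, 1, 0, 2, 1, 1, 0, 2, 1, 1, 0]),
    (1, [2, 3, 1, 1]),
    (1, [0, 2, 1, 3]),
    (1, [2, 0, 1, 3])]

def opNT_1 : List (ℕ × List ℕ) :=
  [(1, [2, 1, 1, 0, 2, 1, 1, 0, 2, 1, 1, 0, 2, 1, 1, 0]),
    (1, [0, 2, 3, 1, 1, 0]),
    (1, [0, 3, 1, 2, 3]),
    (1, [0, 0, 3, 2, 0]),
    (1, [3, 1, 2, 0]),
    (1, [1, 3, 2, 0]),
    (1, [0, 3, 2, 1]),
    (1, [0, 2, 1, 1, 0, 0, 2, 1, 1, 0, 0, 0]),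
    (1, [3, 0, 2, 2]),
    (1, [1, 2, 3]),
    (1, [2, 1, 3, 2]),
    (1, [0, 3, 2, 1, 1, 0]),
    (1, [3, 0, 1, 1, 0]),
    (1, [1, 0, 2, 3, 0]),
    (1, [1, 1, 3, 0]),
    (1, [2, 3, 0]),
    (1, [0, 2, 3, 1]),
    (1, [2, 0, 3, 1]),
    (1, [1, 0, 3, 2]),
    (1, [3, 2])]

def opNT : List (ℕ × List ℕ) :=
  opNT_0 ++ opNT_1

def opNV_0 : List (ℕ × List ℕ) :=
  [(1, []),
    (1, [2, 1, 1, 0, 2, 1, 1, 0, 2, 1, 1, 0, 0, 2, 1, 1, 0, 0, 0]),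
    (1, [2, 1, 1, 0, 2, 1, 1, 0, 0, 0, 2, 1, 1, 0]),
    (1, [0, 2, 1, 1, 0, 2, 1, 1, 0, 2, 1, 1, 0, 0, 2, 1, 1, 0, 0])]

def opNV : List (ℕ × List ℕ) :=
  opNV_0

def opNA1_0 : List (ℕ × List ℕ) :=
  [(1, []),
    (1, [2, 1, 1, 0, 0, 2, 1, 1, 0, 2, 1, 1, 0, 2, 1, 1, 0, 2, 1, 1, 0]),
    (1, [2, 1, 1, 0, 2, 1, 1, 0, 2, 1, 1, 0, 0, 2, 1, 1, 0]),
    (1, [2, 1, 1, 0, 2, 1, 1, 0, 2, 1, 1, 0, 0, 2, 1, 1, 0, 0, 0]),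
    (1, [0]),
    (1, [0, 2, 1, 1, 0, 2, 1, 1, 0, 2, 1, 1, 0, 0, 2, 1, 1, 0]),
    (1, [0, 0]),
    (1, [0, 2, 1, 1, 0, 2, 1, 1, 0, 2, 1, 1, 0, 0, 2, 1, 1, 0, 0, 0]),
    (1, [2, 1, 1, 0, 2, 1, 1, 0, 0, 0, 2, 1, 1, 0]),
    (1, [2, 1, 1, 0, 2, 1, 1, 0, 0, 0, 2, 1, 1, 0, 0]),
    (1, [2, 1, 1, 0, 2, 1, 1, 0, 2, 1, 1, 0, 0, 2, 1, 1, 0, 0]),
    (1, [0, 2, 1, 1, 0, 2, 1, 1, 0, 2, 1, 1, 0, 0, 2, 1, 1, 0, 0])]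

def opNA1 : List (ℕ × List ℕ) :=
  opNA1_0

def opNA2_0 : List (ℕ × List ℕ) :=
  [(1, []),
    (1, [5, 3, 4, 5, 3, 5, 3, 4, 5, 3, 3, 5, 7, 4, 6, 3, 5]),
    (1, [3, 5, 7, 4, 6, 3, 5, 3, 5, 7, 4, 6, 3, 5, 3, 5, 7, 4, 6, 3, 5, 3, 5, 7, 4, 6, 3, 5, 5, 3, 4, 5, 3]),
    (1, [3, 5, 7, 4, 6, 3, 5, 3, 5, 7, 4, 6, 3, 5, 5, 3, 4, 5, 3, 5, 3, 4, 5, 3, 3, 5, 7, 4, 6, 3, 5, 5, 3, 4, 5, 3, 3, 5, 7, 4, 6, 3, 5]),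
    (1, [3, 5, 7, 4, 6, 3, 5, 5, 3, 4, 5, 3, 3, 5, 7, 4, 6, 3, 5, 3, 5, 7, 4, 6, 3, 5, 3, 5, 7, 4, 6, 3, 5, 3, 5, 7, 4, 6, 3, 5]),
    (1, [3, 5, 7, 4, 6, 3, 5, 5, 3, 4, 5, 3, 3, 5, 7, 4, 6, 3, 5, 3, 5, 7, 4, 6, 3, 5, 3, 5, 7, 4, 6, 3, 5, 5, 3, 4, 5, 3]),
    (1, [3, 5, 7, 4, 6, 3, 5, 3, 5, 7, 4, 6, 3, 5, 3, 5, 7, 4, 6, 3, 5, 5, 3, 4, 5, 3, 3, 5, 7, 4, 6, 3, 5]),
    (1, [5, 3, 4, 5, 3, 3, 5, 7, 4, 6, 3, 5, 5, 3, 4, 5, 3]),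
    (1, [5, 3, 4, 5, 3, 3, 5, 7, 4, 6, 3, 5, 3, 5, 7, 4, 6, 3, 5]),
    (1, [3, 5, 7, 4, 6, 3, 5, 3, 5, 7, 4, 6, 3, 5, 5, 3, 4, 5, 3, 3, 5, 7, 4, 6, 3, 5, 5, 3, 4, 5, 3, 3, 5, 7, 4, 6, 3, 5]),
    (1, [3, 5, 7, 4, 6, 3, 5, 3, 5, 7, 4, 6, 3, 5, 5, 3, 4, 5, 3, 3, 5, 7, 4, 6, 3, 5, 5, 3, 4, 5, 3, 5, 3, 4, 5, 3]),
    (1, [5, 3, 4, 5, 3, 5, 3, 4, 5, 3, 3, 5, 7, 4, 6, 3, 5, 5, 3, 4, 5, 3, 3, 5, 7, 4, 6, 3, 5, 5, 3, 4, 5, 3])]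

def opNA2 : List (ℕ × List ℕ) :=
  opNA2_0

def opP1_0 : List (ℕ × List ℕ) :=
  [(1, []),
    (1, [0]),
    (1, [0, 0]),
    (1, [2, 1, 1, 0, 0]),
    (1, [2, 1, 1, 0, 0, 0]),
    (1, [0, 2, 1, 1, 0, 0])]

def opP1 : List (ℕ × List ℕ) :=
  opP1_0

def opP2_0 : List (ℕ × List ℕ) :=
  [(1, []),
    (1, [5, 3, 4, 5, 3]),
    (1, [5, 3, 4, 5, 3, 5, 3, 4, 5, 3]),
    (1, [3, 5, 7, 4, 6, 3, 5, 5, 3, 4, 5, 3]),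
    (1, [3, 5, 7, 4, 6, 3, 5, 5, 3, 4, 5, 3, 5, 3, 4, 5, 3]),
    (1, [5, 3, 4, 5, 3, 3, 5, 7, 4, 6, 3, 5, 5, 3, 4, 5, 3])]

def opP2 : List (ℕ × List ℕ) :=
  opP2_0

def opQ0_0 : List (ℕ × List ℕ) :=
  [(1, []),
    (1, [0]),
    (1, [0, 0]),
    (1, [2, 1, 1, 0, 0]),
    (1, [2, 1, 1, 0, 0, 0]),
    (1, [0, 2, 1, 1, 0, 0])]

def opQ0 : List (ℕ × List ℕ) :=
  opQ0_0

def opQ1_0 : List (ℕ × List ℕ) :=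
  [(1, []),
    (1, [5, 3, 4, 5, 3]),
    (1, [5, 3, 4, 5, 3, 5, 3, 4, 5, 3]),
    (1, [3, 5, 7, 4, 6, 3, 5, 5, 3, 4, 5, 3]),
    (1, [3, 5, 7, 4, 6, 3, 5, 5, 3, 4, 5, 3, 5, 3, 4, 5, 3]),
    (1, [5, 3, 4, 5, 3, 3, 5, 7, 4, 6, 3, 5, 5, 3, 4, 5, 3])]

def opQ1 : List (ℕ × List ℕ) :=
  opQ1_0

def opQ2_0 : List (ℕ × List ℕ) :=
  [(1, []),
    (1, [5, 3, 4, 5, 3, 0]),
    (1, [5, 3, 4, 5, 3, 5, 3, 4, 5, 3, 0, 0]),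
    (1, [3, 5, 7, 4, 6, 3, 5, 5, 3, 4, 5, 3, 2, 1, 1, 0, 0]),
    (1, [3, 5, 7, 4, 6, 3, 5, 5, 3, 4, 5, 3, 5, 3, 4, 5, 3, 2, 1, 1, 0, 0, 0]),
    (1, [5, 3, 4, 5, 3, 3, 5, 7, 4, 6, 3, 5, 5, 3, 4, 5, 3, 0, 2, 1, 1, 0, 0])]

def opQ2 : List (ℕ × List ℕ) :=
  opQ2_0

def mm_opT1_0 : List (ℕ × ℕ) :=
  [(1, 2),
    (1, 3),
    (1, 4),
    (1, 5),
    (1, 6)]

def mm_opT1 : List (ℕ × ℕ) :=
  mm_opT1_0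

def mm_opT2_0 : List (ℕ × ℕ) :=
  [(1, 15),
    (1, 16),
    (1, 17),
    (1, 18),
    (1, 19)]

def mm_opT2 : List (ℕ × ℕ) :=
  mm_opT2_0

def mm_opDelta_0 : List (ℕ × ℕ) :=
  [(1, 0),
    (4, 23),
    (4, 9),
    (4, 20),
    (1, 43),
    (4, 11),
    (4, 40),
    (4, 28),
    (1, 25)]

def mm_opDelta : List (ℕ × ℕ) :=
  mm_opDelta_0

def mm_g0 : List (ℕ × ℕ) := [(1, 1)]

def mm_g1 : List (ℕ × ℕ) := [(1, 12)]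

def mm_g2 : List (ℕ × ℕ) := [(1, 13)]

def mm_g3 : List (ℕ × ℕ) := [(1, 14)]

def mm_g4 : List (ℕ × ℕ) := [(1, 43)]

def mm_g5 : List (ℕ × ℕ) := [(1, 50)]

def mm_g6 : List (ℕ × ℕ) := [(1, 9)]

def mm_g7 : List (ℕ × ℕ) := [(1, 1)]

def mm_g8 : List (ℕ × ℕ) := [(1, 23)]

def mm_g9 : List (ℕ × ℕ) := [(1, 12)]

def mmT_0 : List (List ℕ × List ℕ) :=
  [([], [0, 1, 2, 3, 4, 5, 6, 7, 8, 9]),
    ([2, 1, 1, 0], [1, 2, 3, 4, 0, 5, 6, 7, 8, 9]),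
    ([0, 0, 2, 1, 1, 0], [0, 1, 3, 4, 2, 5, 6, 7, 8, 9]),
    ([2, 1, 1, 0, 0, 0, 2, 1, 1, 0], [1, 2, 4, 0, 3, 5, 6, 7, 8, 9]),
    ([2, 1, 1, 0, 2, 1, 1, 0, 0, 0, 2, 1, 1, 0], [2, 3, 0, 1, 4, 5, 6, 7, 8, 9]),
    ([0, 2, 1, 1, 0, 2, 1, 1, 0, 2, 1, 1, 0], [3, 4, 1, 2, 0, 5, 6, 7, 8, 9]),
    ([2, 1, 1, 0, 0, 2, 1, 1, 0, 2, 1, 1, 0, 2, 1, 1, 0], [4, 0, 2, 3, 1, 5, 6, 7, 8, 9]),
    ([2, 1, 1, 0, 0, 0], [3, 1, 2, 4, 0, 5, 6, 7, 8, 9]),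
    ([0, 2, 1, 1, 0, 0], [0, 3, 2, 4, 1, 5, 6, 7, 8, 9]),
    ([0], [1, 2, 0, 3, 4, 5, 6, 7, 8, 9]),
    ([2, 1, 1, 0, 0], [2, 3, 1, 4, 0, 5, 6, 7, 8, 9]),
    ([0, 0], [2, 0, 1, 3, 4, 5, 6, 7, 8, 9]),
    ([3, 5, 7, 4, 6, 3, 5], [0, 1, 2, 3, 4, 6, 7, 8, 9, 5]),
    ([0, 0, 2, 1, 1, 0, 0, 2, 1, 1, 0, 0], [0, 4, 3, 2, 1, 5, 6, 7, 8, 9]),
    ([5, 3, 4, 5, 3, 5, 3, 4, 5, 3, 3, 5, 7, 4, 6, 3, 5, 5, 3, 4, 5, 3, 3, 5, 7, 4, 6, 3, 5, 5, 3, 4, 5, 3], [0, 1, 2, 3, 4, 5, 9, 8, 7, 6]),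
    ([5, 3, 4, 5, 3, 5, 3, 4, 5, 3, 3, 5, 7, 4, 6, 3, 5], [0, 1, 2, 3, 4, 5, 6, 8, 9, 7]),
    ([3, 5, 7, 4, 6, 3, 5, 5, 3, 4, 5, 3, 5, 3, 4, 5, 3, 3, 5, 7, 4, 6, 3, 5], [0, 1, 2, 3, 4, 6, 7, 9, 5, 8]),
    ([3, 5, 7, 4, 6, 3, 5, 3, 5, 7, 4, 6, 3, 5, 5, 3, 4, 5, 3, 5, 3, 4, 5, 3, 3, 5, 7, 4, 6, 3, 5], [0, 1, 2, 3, 4, 7, 8, 5, 6, 9]),
    ([5, 3, 4, 5, 3, 3, 5, 7, 4, 6, 3, 5, 3, 5, 7, 4, 6, 3, 5, 3, 5, 7, 4, 6, 3, 5], [0, 1, 2, 3, 4, 8, 9, 6, 7, 5]),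
    ([3, 5, 7, 4, 6, 3, 5, 5, 3, 4, 5, 3, 3, 5, 7, 4, 6, 3, 5, 3, 5, 7, 4, 6, 3, 5, 3, 5, 7, 4, 6, 3, 5], [0, 1, 2, 3, 4, 9, 5, 7, 8, 6]),
    ([5, 3, 4, 5, 3, 5, 3, 4, 5, 3], [0, 1, 2, 3, 4, 7, 5, 6, 8, 9]),
    ([3, 5, 7, 4, 6, 3, 5, 5, 3, 4, 5, 3, 5, 3, 4, 5, 3], [0, 1, 2, 3, 4, 8, 6, 7, 9, 5]),
    ([5, 3, 4, 5, 3, 3, 5, 7, 4, 6, 3, 5, 5, 3, 4, 5, 3], [0, 1, 2, 3, 4, 5, 8, 7, 9, 6]),
    ([5, 3, 4, 5, 3], [0, 1, 2, 3, 4, 6, 7, 5, 8, 9]),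
    ([3, 5, 7, 4, 6, 3, 5, 5, 3, 4, 5, 3], [0, 1, 2, 3, 4, 7, 8, 6, 9, 5]),
    ([5, 3, 4, 5, 3, 5, 3, 4, 5, 3, 0, 0], [2, 0, 1, 3, 4, 7, 5, 6, 8, 9]),
    ([3, 5, 7, 4, 6, 3, 5, 5, 3, 4, 5, 3, 5, 3, 4, 5, 3, 0, 0], [2, 0, 1, 3, 4, 8, 6, 7, 9, 5]),
    ([5, 3, 4, 5, 3, 3, 5, 7, 4, 6, 3, 5, 5, 3, 4, 5, 3, 0, 0], [2, 0, 1, 3, 4, 5, 8, 7, 9, 6]),
    ([5, 3, 4, 5, 3, 0, 0], [2, 0, 1, 3, 4, 6, 7, 5, 8, 9]),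
    ([3, 5, 7, 4, 6, 3, 5, 5, 3, 4, 5, 3, 0, 0], [2, 0, 1, 3, 4, 7, 8, 6, 9, 5]),
    ([5, 3, 4, 5, 3, 5, 3, 4, 5, 3, 2, 1, 1, 0, 0, 0], [3, 1, 2, 4, 0, 7, 5, 6, 8, 9]),
    ([3, 5, 7, 4, 6, 3, 5, 5, 3, 4, 5, 3, 5, 3, 4, 5, 3, 2, 1, 1, 0, 0, 0], [3, 1, 2, 4, 0, 8, 6, 7, 9, 5]),
    ([5, 3, 4, 5, 3, 3, 5, 7, 4, 6, 3, 5, 5, 3, 4, 5, 3, 2, 1, 1, 0, 0, 0], [3, 1, 2, 4, 0, 5, 8, 7, 9, 6]),
    ([5, 3, 4, 5, 3, 2, 1, 1, 0, 0, 0], [3, 1, 2, 4, 0, 6, 7, 5, 8, 9]),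
    ([3, 5, 7, 4, 6, 3, 5, 5, 3, 4, 5, 3, 2, 1, 1, 0, 0, 0], [3, 1, 2, 4, 0, 7, 8, 6, 9, 5]),
    ([5, 3, 4, 5, 3, 5, 3, 4, 5, 3, 0, 2, 1, 1, 0, 0], [0, 3, 2, 4, 1, 7, 5, 6, 8, 9]),
    ([3, 5, 7, 4, 6, 3, 5, 5, 3, 4, 5, 3, 5, 3, 4, 5, 3, 0, 2, 1, 1, 0, 0], [0, 3, 2, 4, 1, 8, 6, 7, 9, 5]),
    ([5, 3, 4, 5, 3, 3, 5, 7, 4, 6, 3, 5, 5, 3, 4, 5, 3, 0, 2, 1, 1, 0, 0], [0, 3, 2, 4, 1, 5, 8, 7, 9, 6]),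
    ([5, 3, 4, 5, 3, 0, 2, 1, 1, 0, 0], [0, 3, 2, 4, 1, 6, 7, 5, 8, 9]),
    ([3, 5, 7, 4, 6, 3, 5, 5, 3, 4, 5, 3, 0, 2, 1, 1, 0, 0], [0, 3, 2, 4, 1, 7, 8, 6, 9, 5])]

def mmT_1 : List (List ℕ × List ℕ) :=
  [([5, 3, 4, 5, 3, 5, 3, 4, 5, 3, 0], [1, 2, 0, 3, 4, 7, 5, 6, 8, 9]),
    ([3, 5, 7, 4, 6, 3, 5, 5, 3, 4, 5, 3, 5, 3, 4, 5, 3, 0], [1, 2, 0, 3, 4, 8, 6, 7, 9, 5]),
    ([5, 3, 4, 5, 3, 3, 5, 7, 4, 6, 3, 5, 5, 3, 4, 5, 3, 0], [1, 2, 0, 3, 4, 5, 8, 7, 9, 6]),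
    ([5, 3, 4, 5, 3, 0], [1, 2, 0, 3, 4, 6, 7, 5, 8, 9]),
    ([3, 5, 7, 4, 6, 3, 5, 5, 3, 4, 5, 3, 0], [1, 2, 0, 3, 4, 7, 8, 6, 9, 5]),
    ([5, 3, 4, 5, 3, 5, 3, 4, 5, 3, 2, 1, 1, 0, 0], [2, 3, 1, 4, 0, 7, 5, 6, 8, 9]),
    ([3, 5, 7, 4, 6, 3, 5, 5, 3, 4, 5, 3, 5, 3, 4, 5, 3, 2, 1, 1, 0, 0], [2, 3, 1, 4, 0, 8, 6, 7, 9, 5]),
    ([5, 3, 4, 5, 3, 3, 5, 7, 4, 6, 3, 5, 5, 3, 4, 5, 3, 2, 1, 1, 0, 0], [2, 3, 1, 4, 0, 5, 8, 7, 9, 6]),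
    ([5, 3, 4, 5, 3, 2, 1, 1, 0, 0], [2, 3, 1, 4, 0, 6, 7, 5, 8, 9]),
    ([3, 5, 7, 4, 6, 3, 5, 5, 3, 4, 5, 3, 2, 1, 1, 0, 0], [2, 3, 1, 4, 0, 7, 8, 6, 9, 5]),
    ([3, 5, 7, 4, 6, 3, 5, 2, 1, 1, 0], [1, 2, 3, 4, 0, 6, 7, 8, 9, 5])]

def mmT : List (List ℕ × List ℕ) :=
  mmT_0 ++ mmT_1

def mmTexps_0 : List (List ℕ) :=
  [[],
    [1],
    [0, 0, 1],
    [1, 0, 0, 1],
    [1, 1, 0, 0, 1],
    [0, 1, 1, 1],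
    [1, 0, 1, 1, 1],
    [1, 0, 0],
    [0, 1, 0],
    [0],
    [1, 0],
    [0, 0],
    [3],
    [0, 0, 1, 0, 1, 0],
    [2, 2, 3, 2, 3, 2],
    [2, 2, 3],
    [3, 2, 2, 3],
    [3, 3, 2, 2, 3],
    [2, 3, 3, 3],
    [3, 2, 3, 3, 3],
    [2, 2],
    [3, 2, 2],
    [2, 3, 2],
    [2],
    [3, 2],
    [2, 2, 0, 0],
    [3, 2, 2, 0, 0],
    [2, 3, 2, 0, 0],
    [2, 0, 0],
    [3, 2, 0, 0],
    [2, 2, 1, 0, 0],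
    [3, 2, 2, 1, 0, 0],
    [2, 3, 2, 1, 0, 0],
    [2, 1, 0, 0],
    [3, 2, 1, 0, 0],
    [2, 2, 0, 1, 0],
    [3, 2, 2, 0, 1, 0],
    [2, 3, 2, 0, 1, 0],
    [2, 0, 1, 0],
    [3, 2, 0, 1, 0]]

def mmTexps_1 : List (List ℕ) :=
  [[2, 2, 0],
    [3, 2, 2, 0],
    [2, 3, 2, 0],
    [2, 0],
    [3, 2, 0],
    [2, 2, 1, 0],
    [3, 2, 2, 1, 0],
    [2, 3, 2, 1, 0],
    [2, 1, 0],
    [3, 2, 1, 0],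
    [3, 1]]

def mmTexps : List (List ℕ) :=
  mmTexps_0 ++ mmTexps_1

def mmS_0 : List (List ℕ × List ℕ) :=
  [([], [0, 1, 2, 3, 4, 5, 6, 7, 8, 9]),
    ([2, 1, 1, 0], [1, 2, 3, 4, 0, 5, 6, 7, 8, 9]),
    ([2, 1, 1, 0, 2, 1, 1, 0, 0, 2, 1, 0, 0], [2, 1, 0, 4, 3, 5, 6, 7, 8, 9]),
    ([2, 1, 1, 0, 2, 1, 1, 0, 2, 1, 1, 0], [3, 4, 0, 1, 2, 5, 6, 7, 8, 9]),
    ([3, 5, 7, 4, 6, 3, 5, 2, 1, 1, 0], [1, 2, 3, 4, 0, 6, 7, 8, 9, 5]),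
    ([2, 1, 1, 0, 2, 1, 1, 0, 0, 2, 1, 0, 0, 3, 5, 7, 4, 6, 3, 5], [2, 1, 0, 4, 3, 6, 7, 8, 9, 5]),
    ([3, 5, 7, 4, 6, 3, 5, 2, 1, 1, 0, 2, 1, 1, 0, 2, 1, 1, 0], [3, 4, 0, 1, 2, 6, 7, 8, 9, 5]),
    ([0, 2, 1, 0, 0, 2, 1, 1, 0], [4, 3, 2, 1, 0, 5, 6, 7, 8, 9]),
    ([2, 1, 1, 0, 0, 2, 1, 0, 0], [1, 0, 4, 3, 2, 5, 6, 7, 8, 9]),
    ([0, 2, 1, 0, 0, 2, 1, 1, 0, 0, 2, 1, 0, 0], [4, 0, 1, 2, 3, 5, 6, 7, 8, 9]),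
    ([5, 4, 6, 7, 5, 4, 2, 1, 1, 0], [1, 2, 3, 4, 0, 5, 9, 8, 7, 6]),
    ([5, 4, 6, 7, 5, 4, 2, 1, 1, 0, 2, 1, 1, 0, 0, 2, 1, 0, 0], [2, 1, 0, 4, 3, 5, 9, 8, 7, 6]),
    ([5, 4, 6, 7, 5, 4, 2, 1, 1, 0, 2, 1, 1, 0, 2, 1, 1, 0], [3, 4, 0, 1, 2, 5, 9, 8, 7, 6]),
    ([3, 5, 7, 4, 6, 3, 5, 3, 5, 7, 4, 6, 3, 5, 5, 4, 6, 7, 5, 4, 2, 1, 1, 0], [1, 2, 3, 4, 0, 7, 6, 5, 9, 8]),
    ([3, 5, 7, 4, 6, 3, 5, 3, 5, 7, 4, 6, 3, 5, 3, 5, 7, 4, 6, 3, 5, 2, 1, 1, 0], [1, 2, 3, 4, 0, 8, 9, 5, 6, 7]),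
    ([3, 5, 7, 4, 6, 3, 5], [0, 1, 2, 3, 4, 6, 7, 8, 9, 5]),
    ([3, 5, 7, 4, 6, 3, 5, 3, 5, 7, 4, 6, 3, 5, 5, 4, 6, 7, 5, 4], [0, 1, 2, 3, 4, 7, 6, 5, 9, 8]),
    ([3, 5, 7, 4, 6, 3, 5, 3, 5, 7, 4, 6, 3, 5, 3, 5, 7, 4, 6, 3, 5], [0, 1, 2, 3, 4, 8, 9, 5, 6, 7]),
    ([0, 2, 1, 0, 0, 3, 5, 7, 4, 6, 3, 5], [0, 4, 3, 2, 1, 6, 7, 8, 9, 5]),
    ([3, 5, 7, 4, 6, 3, 5, 3, 5, 7, 4, 6, 3, 5, 5, 4, 6, 7, 5, 4, 0, 2, 1, 0, 0], [0, 4, 3, 2, 1, 7, 6, 5, 9, 8]),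
    ([0, 2, 1, 0, 0, 3, 5, 7, 4, 6, 3, 5, 3, 5, 7, 4, 6, 3, 5, 3, 5, 7, 4, 6, 3, 5], [0, 4, 3, 2, 1, 8, 9, 5, 6, 7]),
    ([5, 4, 6, 7, 5, 4, 3, 5, 7, 4, 6, 3, 5], [0, 1, 2, 3, 4, 9, 8, 7, 6, 5]),
    ([3, 5, 7, 4, 6, 3, 5, 5, 4, 6, 7, 5, 4], [0, 1, 2, 3, 4, 6, 5, 9, 8, 7]),
    ([5, 4, 6, 7, 5, 4, 3, 5, 7, 4, 6, 3, 5, 5, 4, 6, 7, 5, 4], [0, 1, 2, 3, 4, 9, 5, 6, 7, 8]),
    ([0, 2, 1, 0, 0], [0, 4, 3, 2, 1, 5, 6, 7, 8, 9]),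
    ([0, 2, 1, 0, 0, 2, 1, 1, 0, 2, 1, 1, 0], [3, 2, 1, 0, 4, 5, 6, 7, 8, 9]),
    ([2, 1, 1, 0, 2, 1, 1, 0], [2, 3, 4, 0, 1, 5, 6, 7, 8, 9]),
    ([5, 4, 6, 7, 5, 4], [0, 1, 2, 3, 4, 5, 9, 8, 7, 6]),
    ([5, 4, 6, 7, 5, 4, 3, 5, 7, 4, 6, 3, 5, 3, 5, 7, 4, 6, 3, 5], [0, 1, 2, 3, 4, 8, 7, 6, 5, 9]),
    ([3, 5, 7, 4, 6, 3, 5, 3, 5, 7, 4, 6, 3, 5], [0, 1, 2, 3, 4, 7, 8, 9, 5, 6]),
    ([3, 5, 7, 4, 6, 3, 5, 3, 5, 7, 4, 6, 3, 5, 5, 4, 6, 7, 5, 4, 2, 1, 1, 0, 2, 1, 1, 0, 0, 2, 1, 0, 0], [2, 1, 0, 4, 3, 7, 6, 5, 9, 8]),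
    ([2, 1, 1, 0, 2, 1, 1, 0, 0, 2, 1, 0, 0, 3, 5, 7, 4, 6, 3, 5, 3, 5, 7, 4, 6, 3, 5, 3, 5, 7, 4, 6, 3, 5], [2, 1, 0, 4, 3, 8, 9, 5, 6, 7]),
    ([3, 5, 7, 4, 6, 3, 5, 3, 5, 7, 4, 6, 3, 5, 5, 4, 6, 7, 5, 4, 2, 1, 1, 0, 2, 1, 1, 0, 2, 1, 1, 0], [3, 4, 0, 1, 2, 7, 6, 5, 9, 8]),
    ([3, 5, 7, 4, 6, 3, 5, 3, 5, 7, 4, 6, 3, 5, 3, 5, 7, 4, 6, 3, 5, 2, 1, 1, 0, 2, 1, 1, 0, 2, 1, 1, 0], [3, 4, 0, 1, 2, 8, 9, 5, 6, 7]),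
    ([3, 5, 7, 4, 6, 3, 5, 5, 4, 6, 7, 5, 4, 2, 1, 1, 0], [1, 2, 3, 4, 0, 6, 5, 9, 8, 7]),
    ([3, 5, 7, 4, 6, 3, 5, 5, 4, 6, 7, 5, 4, 2, 1, 1, 0, 2, 1, 1, 0, 0, 2, 1, 0, 0], [2, 1, 0, 4, 3, 6, 5, 9, 8, 7]),
    ([3, 5, 7, 4, 6, 3, 5, 5, 4, 6, 7, 5, 4, 2, 1, 1, 0, 2, 1, 1, 0, 2, 1, 1, 0], [3, 4, 0, 1, 2, 6, 5, 9, 8, 7]),
    ([5, 4, 6, 7, 5, 4, 3, 5, 7, 4, 6, 3, 5, 3, 5, 7, 4, 6, 3, 5, 2, 1, 1, 0], [1, 2, 3, 4, 0, 8, 7, 6, 5, 9]),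
    ([5, 4, 6, 7, 5, 4, 0, 2, 1, 0, 0, 3, 5, 7, 4, 6, 3, 5, 3, 5, 7, 4, 6, 3, 5], [0, 4, 3, 2, 1, 8, 7, 6, 5, 9]),
    ([5, 4, 6, 7, 5, 4, 2, 1, 1, 0, 2, 1, 1, 0, 0, 2, 1, 0, 0, 3, 5, 7, 4, 6, 3, 5, 3, 5, 7, 4, 6, 3, 5], [2, 1, 0, 4, 3, 8, 7, 6, 5, 9])]

def mmS_1 : List (List ℕ × List ℕ) :=
  [([5, 4, 6, 7, 5, 4, 3, 5, 7, 4, 6, 3, 5, 3, 5, 7, 4, 6, 3, 5, 2, 1, 1, 0, 2, 1, 1, 0, 2, 1, 1, 0], [3, 4, 0, 1, 2, 8, 7, 6, 5, 9]),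
    ([5, 4, 6, 7, 5, 4, 0, 2, 1, 0, 0, 3, 5, 7, 4, 6, 3, 5, 3, 5, 7, 4, 6, 3, 5, 2, 1, 1, 0, 2, 1, 1, 0], [3, 2, 1, 0, 4, 8, 7, 6, 5, 9]),
    ([2, 1, 1, 0, 0, 2, 1, 0, 0, 3, 5, 7, 4, 6, 3, 5], [1, 0, 4, 3, 2, 6, 7, 8, 9, 5]),
    ([5, 4, 6, 7, 5, 4, 2, 1, 1, 0, 0, 2, 1, 0, 0], [1, 0, 4, 3, 2, 5, 9, 8, 7, 6]),
    ([3, 5, 7, 4, 6, 3, 5, 3, 5, 7, 4, 6, 3, 5, 5, 4, 6, 7, 5, 4, 2, 1, 1, 0, 0, 2, 1, 0, 0], [1, 0, 4, 3, 2, 7, 6, 5, 9, 8]),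
    ([2, 1, 1, 0, 0, 2, 1, 0, 0, 3, 5, 7, 4, 6, 3, 5, 3, 5, 7, 4, 6, 3, 5, 3, 5, 7, 4, 6, 3, 5], [1, 0, 4, 3, 2, 8, 9, 5, 6, 7]),
    ([5, 4, 6, 7, 5, 4, 2, 1, 1, 0, 0, 2, 1, 0, 0, 3, 5, 7, 4, 6, 3, 5, 3, 5, 7, 4, 6, 3, 5], [1, 0, 4, 3, 2, 8, 7, 6, 5, 9]),
    ([5, 4, 6, 7, 5, 4, 0, 2, 1, 0, 0], [0, 4, 3, 2, 1, 5, 9, 8, 7, 6]),
    ([5, 4, 6, 7, 5, 4, 3, 5, 7, 4, 6, 3, 5, 5, 4, 6, 7, 5, 4, 0, 2, 1, 0, 0], [0, 4, 3, 2, 1, 9, 5, 6, 7, 8]),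
    ([5, 4, 6, 7, 5, 4, 3, 5, 7, 4, 6, 3, 5, 3, 5, 7, 4, 6, 3, 5, 2, 1, 1, 0, 2, 1, 1, 0], [2, 3, 4, 0, 1, 8, 7, 6, 5, 9]),
    ([5, 4, 6, 7, 5, 4, 0, 2, 1, 0, 0, 3, 5, 7, 4, 6, 3, 5, 3, 5, 7, 4, 6, 3, 5, 2, 1, 1, 0], [4, 3, 2, 1, 0, 8, 7, 6, 5, 9]),
    ([0, 2, 1, 0, 0, 3, 5, 7, 4, 6, 3, 5, 2, 1, 1, 0], [4, 3, 2, 1, 0, 6, 7, 8, 9, 5]),
    ([3, 5, 7, 4, 6, 3, 5, 5, 4, 6, 7, 5, 4, 0, 2, 1, 0, 0], [0, 4, 3, 2, 1, 6, 5, 9, 8, 7]),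
    ([3, 5, 7, 4, 6, 3, 5, 5, 4, 6, 7, 5, 4, 0, 2, 1, 0, 0, 2, 1, 1, 0], [4, 3, 2, 1, 0, 6, 5, 9, 8, 7]),
    ([5, 4, 6, 7, 5, 4, 3, 5, 7, 4, 6, 3, 5, 5, 4, 6, 7, 5, 4, 2, 1, 1, 0], [1, 2, 3, 4, 0, 9, 5, 6, 7, 8]),
    ([3, 5, 7, 4, 6, 3, 5, 3, 5, 7, 4, 6, 3, 5, 2, 1, 1, 0], [1, 2, 3, 4, 0, 7, 8, 9, 5, 6]),
    ([5, 4, 6, 7, 5, 4, 3, 5, 7, 4, 6, 3, 5, 2, 1, 1, 0], [1, 2, 3, 4, 0, 9, 8, 7, 6, 5]),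
    ([5, 4, 6, 7, 5, 4, 2, 1, 1, 0, 0, 2, 1, 0, 0, 3, 5, 7, 4, 6, 3, 5], [1, 0, 4, 3, 2, 9, 8, 7, 6, 5]),
    ([3, 5, 7, 4, 6, 3, 5, 3, 5, 7, 4, 6, 3, 5, 2, 1, 1, 0, 2, 1, 1, 0, 2, 1, 1, 0], [3, 4, 0, 1, 2, 7, 8, 9, 5, 6]),
    ([0, 2, 1, 0, 0, 3, 5, 7, 4, 6, 3, 5, 3, 5, 7, 4, 6, 3, 5, 2, 1, 1, 0, 2, 1, 1, 0], [3, 2, 1, 0, 4, 7, 8, 9, 5, 6]),
    ([0, 2, 1, 0, 0, 3, 5, 7, 4, 6, 3, 5, 3, 5, 7, 4, 6, 3, 5, 3, 5, 7, 4, 6, 3, 5, 2, 1, 1, 0, 2, 1, 1, 0], [3, 2, 1, 0, 4, 8, 9, 5, 6, 7]),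
    ([3, 5, 7, 4, 6, 3, 5, 3, 5, 7, 4, 6, 3, 5, 2, 1, 1, 0, 2, 1, 1, 0], [2, 3, 4, 0, 1, 7, 8, 9, 5, 6]),
    ([3, 5, 7, 4, 6, 3, 5, 3, 5, 7, 4, 6, 3, 5, 3, 5, 7, 4, 6, 3, 5, 2, 1, 1, 0, 2, 1, 1, 0], [2, 3, 4, 0, 1, 8, 9, 5, 6, 7]),
    ([3, 5, 7, 4, 6, 3, 5, 5, 4, 6, 7, 5, 4, 0, 2, 1, 0, 0, 2, 1, 1, 0, 0, 2, 1, 0, 0], [4, 0, 1, 2, 3, 6, 5, 9, 8, 7])]

def mmS : List (List ℕ × List ℕ) :=
  mmS_0 ++ mmS_1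

def mmSexps_0 : List (List ℕ) :=
  [[],
    [0],
    [0, 0, 2],
    [0, 0, 0],
    [1, 0],
    [0, 0, 2, 1],
    [1, 0, 0, 0],
    [2, 0],
    [0, 2],
    [2, 0, 2],
    [3, 0],
    [3, 0, 0, 2],
    [3, 0, 0, 0],
    [1, 1, 3, 0],
    [1, 1, 1, 0],
    [1],
    [1, 1, 3],
    [1, 1, 1],
    [2, 1],
    [1, 1, 3, 2],
    [2, 1, 1, 1],
    [3, 1],
    [1, 3],
    [3, 1, 3],
    [2],
    [2, 0, 0],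
    [0, 0],
    [3],
    [3, 1, 1],
    [1, 1],
    [1, 1, 3, 0, 0, 2],
    [0, 0, 2, 1, 1, 1],
    [1, 1, 3, 0, 0, 0],
    [1, 1, 1, 0, 0, 0],
    [1, 3, 0],
    [1, 3, 0, 0, 2],
    [1, 3, 0, 0, 0],
    [3, 1, 1, 0],
    [3, 2, 1, 1],
    [3, 0, 0, 2, 1, 1]]

def mmSexps_1 : List (List ℕ) :=
  [[3, 1, 1, 0, 0, 0],
    [3, 2, 1, 1, 0, 0],
    [0, 2, 1],
    [3, 0, 2],
    [1, 1, 3, 0, 2],
    [0, 2, 1, 1, 1],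
    [3, 0, 2, 1, 1],
    [3, 2],
    [3, 1, 3, 2],
    [3, 1, 1, 0, 0],
    [3, 2, 1, 1, 0],
    [2, 1, 0],
    [1, 3, 2],
    [1, 3, 2, 0],
    [3, 1, 3, 0],
    [1, 1, 0],
    [3, 1, 0],
    [3, 0, 2, 1],
    [1, 1, 0, 0, 0],
    [2, 1, 1, 0, 0],
    [2, 1, 1, 1, 0, 0],
    [1, 1, 0, 0],
    [1, 1, 1, 0, 0],
    [1, 3, 2, 0, 2]]

def mmSexps : List (List ℕ) :=
  mmSexps_0 ++ mmSexps_1

def mmCtx : Ctx := ⟨10, gi, mmT, mmT, mmS, [1, 1, 4, 1, 1, 4, 1, 4, 4, 1, 4, 1, 4, 4, 1, 1, 4, 1, 4, 1, 4, 4, 4, 1, 4, 4, 1, 4, 4, 1, 1, 4, 4, 1, 4, 1, 4, 4, 1, 1, 4, 1, 4, 1, 1, 4, 1, 1, 4, 4, 1, 4, 1, 1, 1, 1, 4, 1, 1, 4, 4, 1, 1, 4]⟩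

def mm_t1eig0Dest_0 : List (ℕ × ℕ) :=
  [(7, 1),
    (8, 2),
    (9, 3),
    (10, 3),
    (11, 1),
    (11, 1),
    (7, 1),
    (8, 2),
    (9, 3),
    (10, 3)]

def mm_t1eig0Dest : List (ℕ × ℕ) :=
  mm_t1eig0Dest_0

def mm_t1eig1Dest_0 : List (ℕ × ℕ) :=
  [(11, 4),
    (7, 4),
    (8, 5),
    (9, 6),
    (10, 6),
    (11, 1),
    (7, 1),
    (8, 2),
    (9, 3),
    (10, 3)]

def mm_t1eig1Dest : List (ℕ × ℕ) :=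
  mm_t1eig1Dest_0

def mm_t1eig2Dest_0 : List (ℕ × ℕ) :=
  [(7, 7),
    (11, 7),
    (10, 8),
    (9, 8),
    (8, 9),
    (11, 1),
    (7, 1),
    (8, 2),
    (9, 3),
    (10, 3)]

def mm_t1eig2Dest : List (ℕ × ℕ) :=
  mm_t1eig2Dest_0

def mm_t1eig3Dest_0 : List (ℕ × ℕ) :=
  [(11, 10),
    (7, 10),
    (8, 11),
    (9, 12),
    (10, 12),
    (11, 1),
    (7, 1),
    (8, 2),
    (9, 3),
    (10, 3)]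

def mm_t1eig3Dest : List (ℕ × ℕ) :=
  mm_t1eig3Dest_0

def mm_t2eig0Dest_0 : List (ℕ × ℕ) :=
  [(20, 4),
    (21, 4),
    (22, 13),
    (23, 14),
    (24, 14),
    (20, 15),
    (21, 15),
    (22, 16),
    (23, 17),
    (24, 17)]

def mm_t2eig0Dest : List (ℕ × ℕ) :=
  mm_t2eig0Dest_0

def mm_t2eig1Dest_0 : List (ℕ × ℕ) :=
  [(21, 15),
    (22, 16),
    (23, 17),
    (24, 17),
    (20, 15),
    (20, 15),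
    (21, 15),
    (22, 16),
    (23, 17),
    (24, 17)]

def mm_t2eig1Dest : List (ℕ × ℕ) :=
  mm_t2eig1Dest_0

def mm_t2eig2Dest_0 : List (ℕ × ℕ) :=
  [(20, 18),
    (21, 18),
    (22, 19),
    (23, 20),
    (24, 20),
    (20, 15),
    (21, 15),
    (22, 16),
    (23, 17),
    (24, 17)]

def mm_t2eig2Dest : List (ℕ × ℕ) :=
  mm_t2eig2Dest_0

def mm_t2eig3Dest_0 : List (ℕ × ℕ) :=
  [(21, 21),
    (20, 21),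
    (24, 22),
    (23, 22),
    (22, 23),
    (20, 15),
    (21, 15),
    (22, 16),
    (23, 17),
    (24, 17)]

def mm_t2eig3Dest : List (ℕ × ℕ) :=
  mm_t2eig3Dest_0

def mm_t11Dest_0 : List (ℕ × ℕ) :=
  [(8, 24),
    (10, 2),
    (0, 3),
    (7, 25),
    (9, 1),
    (9, 0),
    (11, 24),
    (0, 9),
    (8, 0),
    (10, 1),
    (10, 0),
    (7, 24),
    (0, 0),
    (9, 24),
    (11, 9),
    (11, 3),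
    (8, 3),
    (0, 1),
    (10, 24),
    (7, 9),
    (7, 3),
    (9, 2),
    (0, 26),
    (11, 25),
    (8, 7)]

def mm_t11Dest : List (ℕ × ℕ) :=
  mm_t11Dest_0

def mm_t22Dest_0 : List (ℕ × ℕ) :=
  [(22, 27),
    (24, 16),
    (0, 17),
    (21, 28),
    (23, 15),
    (23, 0),
    (20, 27),
    (0, 23),
    (22, 0),
    (24, 15),
    (24, 0),
    (21, 27),
    (0, 0),
    (23, 27),
    (20, 23),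
    (20, 17),
    (22, 17),
    (0, 15),
    (24, 27),
    (21, 23),
    (21, 17),
    (23, 16),
    (0, 29),
    (20, 28),
    (22, 21)]

def mm_t22Dest : List (ℕ × ℕ) :=
  mm_t22Dest_0

def mm_t12Dest_0 : List (ℕ × ℕ) :=
  [(25, 4),
    (26, 4),
    (27, 13),
    (28, 14),
    (29, 14),
    (30, 4),
    (31, 4),
    (32, 13),
    (33, 14),
    (34, 14),
    (35, 5),
    (36, 5),
    (37, 30),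
    (38, 31),
    (39, 31),
    (40, 6),
    (41, 6),
    (42, 32),
    (43, 33),
    (44, 33),
    (45, 6),
    (46, 6),
    (47, 32),
    (48, 33),
    (49, 33),
    (25, 4),
    (30, 4),
    (35, 5),
    (40, 6),
    (45, 6),
    (26, 4),
    (31, 4),
    (36, 5),
    (41, 6),
    (46, 6),
    (27, 13),
    (32, 13),
    (37, 30),
    (42, 32),
    (47, 32),
    (28, 14),
    (33, 14),
    (38, 31),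
    (43, 33),
    (48, 33),
    (29, 14),
    (34, 14),
    (39, 31),
    (44, 33),
    (49, 33)]

def mm_t12Dest : List (ℕ × ℕ) :=
  mm_t12Dest_0

def mm_dfix0Dest_0 : List (ℕ × ℕ) :=
  [(43, 0),
    (40, 0),
    (28, 0),
    (9, 0),
    (25, 0),
    (23, 0),
    (11, 0),
    (20, 0),
    (0, 0),
    (0, 0),
    (23, 0),
    (9, 0),
    (20, 0),
    (43, 0),
    (11, 0),
    (40, 0),
    (28, 0),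
    (25, 0)]

def mm_dfix0Dest : List (ℕ × ℕ) :=
  mm_dfix0Dest_0

def mm_dfix1Dest_0 : List (ℕ × ℕ) :=
  [(0, 4),
    (24, 1),
    (10, 15),
    (21, 1),
    (49, 0),
    (7, 15),
    (46, 0),
    (34, 0),
    (31, 0),
    (0, 0),
    (23, 0),
    (9, 0),
    (20, 0),
    (43, 0),
    (11, 0),
    (40, 0),
    (28, 0),
    (25, 0)]

def mm_dfix1Dest : List (ℕ × ℕ) :=
  mm_dfix1Dest_0

def mm_dfix1Steps_0 : List (Step) :=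
  [⟨3, [5, 3, 4, 5, 3, 5, 3, 4, 5, 3, 3, 5, 7, 4, 6, 3, 5, 5, 3, 4, 5, 3], 0, [(26, 34), (31, 34), (36, 35), (41, 36), (46, 36)]⟩,
    ⟨2, [3, 5, 7, 4, 6, 3, 5, 5, 3, 4, 5, 3, 5, 3, 4, 5, 3, 0], 0, [(21, 1), (46, 24), (31, 9), (26, 3), (36, 3)]⟩,
    ⟨1, [3, 5, 7, 4, 6, 3, 5, 5, 3, 4, 5, 3, 2, 1, 1, 0, 0, 0], 1, [(7, 29), (30, 28), (32, 21), (31, 17), (33, 16)]⟩,
    ⟨4, [5, 3, 4, 5, 3], 0, [(28, 1), (33, 1), (38, 2), (43, 3), (48, 3)]⟩,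
    ⟨2, [3, 5, 7, 4, 6, 3, 5, 3, 5, 7, 4, 6, 3, 5, 5, 3, 4, 5, 3, 5, 3, 4, 5, 3, 0], 1, [(40, 23), (44, 0), (41, 27), (9, 0), (43, 27)]⟩,
    ⟨1, [3, 5, 7, 4, 6, 3, 5, 3, 5, 7, 4, 6, 3, 5, 5, 3, 4, 5, 3, 5, 3, 4, 5, 3, 0, 0], 0, [(42, 37), (37, 38), (47, 39), (22, 40), (32, 41)]⟩,
    ⟨3, [3, 5, 7, 4, 6, 3, 5, 5, 3, 4, 5, 3, 5, 3, 4, 5, 3, 0, 2, 1, 1, 0, 0], 0, [(41, 26), (21, 25), (31, 26), (46, 25), (26, 2)]⟩,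
    ⟨4, [5, 3, 4, 5, 3, 5, 3, 4, 5, 3, 0, 2, 1, 1, 0, 0, 0], 1, [(48, 42), (47, 43), (49, 44), (10, 45), (46, 46)]⟩,
    ⟨1, [5, 3, 4, 5, 3, 3, 5, 7, 4, 6, 3, 5, 5, 3, 4, 5, 3, 5, 3, 4, 5, 3, 0, 0], 1, [(27, 15), (25, 0), (11, 27), (28, 23), (26, 22)]⟩,
    ⟨4, [5, 3, 4, 5, 3, 0, 2, 1, 1, 0, 0, 0], 0, [(38, 1), (28, 0), (23, 24), (43, 9), (33, 8)]⟩,
    ⟨3, [5, 3, 4, 5, 3, 2, 1, 1, 0, 0, 2, 1, 1, 0, 0], 1, [(9, 18), (44, 47), (41, 48), (40, 20), (42, 20)]⟩,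
    ⟨3, [3, 5, 7, 4, 6, 3, 5, 5, 3, 4, 5, 3, 5, 3, 4, 5, 3], 1, [(24, 15), (23, 0), (20, 27), (0, 23), (22, 0)]⟩,
    ⟨1, [2, 1, 1, 0, 0, 0], 1, [(30, 15), (31, 15), (32, 16), (33, 17), (34, 17)]⟩,
    ⟨4, [3, 5, 7, 4, 6, 3, 5, 3, 5, 7, 4, 6, 3, 5, 5, 3, 4, 5, 3, 5, 3, 4, 5, 3, 2, 1, 1, 0, 0], 0, [(22, 49), (27, 41), (37, 50), (32, 40), (42, 39)]⟩,
    ⟨2, [5, 3, 4, 5, 3], 1, [(0, 15), (24, 27), (21, 23), (20, 17), (22, 17)]⟩]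

def mm_dfix1Steps : List (Step) :=
  mm_dfix1Steps_0

def mm_dfix1Used : List ℕ := [0, 1]

def mm_dfix1Ks : List ℕ := [2, 15]

def mm_killDest_0 : List (ℕ × ℕ) :=
  [(0, 0)]

def mm_killDest : List (ℕ × ℕ) :=
  mm_killDest_0

def mm_killSteps_0 : List (Step) :=
  [⟨3, [5, 3, 4, 5, 3, 3, 5, 7, 4, 6, 3, 5, 0, 2, 1, 1, 0, 0, 2, 1, 1, 0, 0], 2, [(28, 18), (27, 24), (23, 51), (29, 52), (22, 7), (38, 4), (24, 53), (37, 1), (39, 34)]⟩,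
    ⟨4, [3, 5, 7, 4, 6, 3, 5, 3, 5, 7, 4, 6, 3, 5, 3, 5, 7, 4, 6, 3, 5, 3, 5, 7, 4, 6, 3, 5, 2, 1, 1, 0], 2, [(0, 54), (22, 10), (10, 23), (24, 55), (47, 27), (7, 23), (49, 29), (32, 27), (34, 29)]⟩,
    ⟨2, [3, 5, 7, 4, 6, 3, 5, 5, 3, 4, 5, 3, 5, 3, 4, 5, 3, 0], 1, [(44, 15), (43, 0), (40, 27), (9, 23), (42, 0)]⟩,
    ⟨4, [0, 2, 1, 1, 0, 0, 0], 0, [(8, 1), (11, 0), (0, 24), (9, 9), (7, 8)]⟩,
    ⟨1, [3, 5, 7, 4, 6, 3, 5, 3, 5, 7, 4, 6, 3, 5, 5, 3, 4, 5, 3, 5, 3, 4, 5, 3, 0, 0], 1, [(25, 23), (29, 0), (26, 27), (11, 0), (28, 27)]⟩,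
    ⟨3, [5, 3, 4, 5, 3, 3, 5, 7, 4, 6, 3, 5, 5, 3, 4, 5, 3, 2, 1, 1, 0, 0], 0, [(22, 26), (27, 25), (37, 7), (32, 3), (42, 2)]⟩,
    ⟨4, [3, 5, 7, 4, 6, 3, 5, 5, 3, 4, 5, 3, 0], 1, [(9, 29), (40, 28), (42, 21), (41, 17), (43, 16)]⟩,
    ⟨1, [5, 3, 4, 5, 3, 2, 1, 1, 0, 0, 0], 1, [(7, 15), (34, 27), (31, 23), (30, 17), (32, 17)]⟩,
    ⟨1, [3, 5, 7, 4, 6, 3, 5, 5, 3, 4, 5, 3, 0, 2, 1, 1, 0, 0], 1, [(8, 29), (35, 28), (37, 21), (36, 17), (38, 16)]⟩,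
    ⟨3, [0, 2, 1, 1, 0, 0], 1, [(35, 15), (36, 15), (37, 16), (38, 17), (39, 17)]⟩,
    ⟨1, [5, 3, 4, 5, 3, 5, 3, 4, 5, 3, 0, 0], 0, [(40, 1), (35, 24), (45, 2), (20, 3), (30, 25)]⟩,
    ⟨1, [5, 3, 4, 5, 3, 0, 2, 1, 1, 0, 0, 0], 0, [(38, 1), (28, 0), (23, 24), (43, 9), (33, 8)]⟩,
    ⟨4, [5, 3, 4, 5, 3, 5, 3, 4, 5, 3, 3, 5, 7, 4, 6, 3, 5, 5, 3, 4, 5, 3], 0, [(26, 34), (31, 34), (36, 35), (41, 36), (46, 36)]⟩,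
    ⟨3, [3, 5, 7, 4, 6, 3, 5, 5, 3, 4, 5, 3, 3, 5, 7, 4, 6, 3, 5, 0, 0, 2, 1, 1, 0], 2, [(29, 4), (28, 10), (34, 42), (25, 56), (33, 43), (39, 42), (30, 57), (38, 43), (35, 57)]⟩,
    ⟨2, [3, 5, 7, 4, 6, 3, 5, 5, 3, 4, 5, 3, 5, 3, 4, 5, 3, 2, 1, 1, 0, 0, 0], 1, [(34, 15), (33, 0), (30, 27), (7, 23), (32, 0)]⟩,
    ⟨1, [3, 5, 7, 4, 6, 3, 5, 5, 3, 4, 5, 3, 0, 2, 1, 1, 0, 0], 0, [(44, 26), (24, 25), (34, 26), (49, 25), (29, 2)]⟩,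
    ⟨1, [5, 3, 4, 5, 3, 5, 3, 4, 5, 3, 3, 5, 7, 4, 6, 3, 5, 3, 5, 7, 4, 6, 3, 5, 2, 1, 1, 0, 2, 1, 1, 0, 0], 2, [(25, 58), (28, 33), (35, 59), (29, 40), (38, 60), (20, 61), (39, 41), (23, 62), (24, 49)]⟩,
    ⟨3, [3, 5, 7, 4, 6, 3, 5, 5, 3, 4, 5, 3, 0, 0], 0, [(44, 1), (39, 24), (49, 2), (24, 3), (34, 25)]⟩,
    ⟨3, [3, 5, 7, 4, 6, 3, 5, 5, 3, 4, 5, 3, 5, 3, 4, 5, 3, 0, 2, 1, 1, 0, 0], 0, [(41, 26), (21, 25), (31, 26), (46, 25), (26, 2)]⟩,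
    ⟨3, [5, 3, 4, 5, 3, 5, 3, 4, 5, 3, 3, 5, 7, 4, 6, 3, 5, 5, 3, 4, 5, 3, 2, 1, 1, 0, 0, 0], 0, [(46, 34), (41, 22), (26, 52), (21, 63), (36, 22)]⟩]

def mm_killSteps_1 : List (Step) :=
  [⟨4, [3, 5, 7, 4, 6, 3, 5, 5, 3, 4, 5, 3, 5, 3, 4, 5, 3, 2, 1, 1, 0, 0], 1, [(49, 15), (48, 0), (45, 27), (10, 23), (47, 0)]⟩,
    ⟨1, [5, 3, 4, 5, 3, 3, 5, 7, 4, 6, 3, 5, 5, 3, 4, 5, 3, 5, 3, 4, 5, 3], 0, [(29, 34), (34, 34), (39, 35), (44, 36), (49, 36)]⟩,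
    ⟨1, [5, 3, 4, 5, 3], 0, [(28, 1), (33, 1), (38, 2), (43, 3), (48, 3)]⟩,
    ⟨1, [3, 5, 7, 4, 6, 3, 5, 5, 3, 4, 5, 3, 3, 5, 7, 4, 6, 3, 5, 5, 3, 4, 5, 3, 5, 3, 4, 5, 3], 1, [(23, 21), (21, 0), (0, 22), (24, 23), (22, 29)]⟩]

def mm_killSteps : List (Step) :=
  mm_killSteps_0 ++ mm_killSteps_1

def mm_killUsed : List ℕ := [0, 1, 2]

def mm_killKs : List ℕ := [2, 15, 0]

def pp_opQ0_0 : List (ℕ × ℕ) :=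
  [(1, 0),
    (1, 1),
    (1, 2),
    (1, 3),
    (1, 4),
    (1, 5)]

def pp_opQ0 : List (ℕ × ℕ) :=
  pp_opQ0_0

def pp_opQ1_0 : List (ℕ × ℕ) :=
  [(1, 0),
    (1, 7),
    (1, 8),
    (1, 9),
    (1, 10),
    (1, 11)]

def pp_opQ1 : List (ℕ × ℕ) :=
  pp_opQ1_0

def pp_opQ2_0 : List (ℕ × ℕ) :=
  [(1, 0),
    (1, 13),
    (1, 30),
    (1, 31),
    (1, 32),
    (1, 33)]

def pp_opQ2 : List (ℕ × ℕ) :=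
  pp_opQ2_0

def pp_g0 : List (ℕ × ℕ) := [(1, 6)]

def pp_g1 : List (ℕ × ℕ) := [(1, 12)]

def pp_g2 : List (ℕ × ℕ) := [(1, 35)]

def pp_g3 : List (ℕ × ℕ) := [(1, 36)]

def pp_g4 : List (ℕ × ℕ) := [(1, 13)]

def pp_g5 : List (ℕ × ℕ) := [(1, 34)]

def pp_g6 : List (ℕ × ℕ) := [(1, 1)]

def pp_g7 : List (ℕ × ℕ) := [(1, 6)]

def pp_g8 : List (ℕ × ℕ) := [(1, 7)]

def pp_g9 : List (ℕ × ℕ) := [(1, 12)]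

def ppT_0 : List (List ℕ × List ℕ) :=
  [([], [0, 1, 2, 3, 4, 5, 6, 7, 8, 9]),
    ([0], [1, 2, 0, 3, 4, 5, 6, 7, 8, 9]),
    ([0, 0], [2, 0, 1, 3, 4, 5, 6, 7, 8, 9]),
    ([2, 1, 1, 0, 0], [2, 3, 1, 4, 0, 5, 6, 7, 8, 9]),
    ([2, 1, 1, 0, 0, 0], [3, 1, 2, 4, 0, 5, 6, 7, 8, 9]),
    ([0, 2, 1, 1, 0, 0], [0, 3, 2, 4, 1, 5, 6, 7, 8, 9]),
    ([2, 1, 1, 0], [1, 2, 3, 4, 0, 5, 6, 7, 8, 9]),
    ([5, 3, 4, 5, 3], [0, 1, 2, 3, 4, 6, 7, 5, 8, 9]),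
    ([5, 3, 4, 5, 3, 5, 3, 4, 5, 3], [0, 1, 2, 3, 4, 7, 5, 6, 8, 9]),
    ([3, 5, 7, 4, 6, 3, 5, 5, 3, 4, 5, 3], [0, 1, 2, 3, 4, 7, 8, 6, 9, 5]),
    ([3, 5, 7, 4, 6, 3, 5, 5, 3, 4, 5, 3, 5, 3, 4, 5, 3], [0, 1, 2, 3, 4, 8, 6, 7, 9, 5]),
    ([5, 3, 4, 5, 3, 3, 5, 7, 4, 6, 3, 5, 5, 3, 4, 5, 3], [0, 1, 2, 3, 4, 5, 8, 7, 9, 6]),
    ([3, 5, 7, 4, 6, 3, 5], [0, 1, 2, 3, 4, 6, 7, 8, 9, 5]),
    ([5, 3, 4, 5, 3, 0], [1, 2, 0, 3, 4, 6, 7, 5, 8, 9]),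
    ([3, 5, 7, 4, 6, 3, 5, 5, 3, 4, 5, 3, 0, 0], [2, 0, 1, 3, 4, 7, 8, 6, 9, 5]),
    ([3, 5, 7, 4, 6, 3, 5, 5, 3, 4, 5, 3, 5, 3, 4, 5, 3, 0, 2, 1, 1, 0, 0], [0, 3, 2, 4, 1, 8, 6, 7, 9, 5]),
    ([5, 3, 4, 5, 3, 3, 5, 7, 4, 6, 3, 5, 5, 3, 4, 5, 3, 2, 1, 1, 0, 0], [2, 3, 1, 4, 0, 5, 8, 7, 9, 6]),
    ([3, 5, 7, 4, 6, 3, 5, 5, 3, 4, 5, 3, 0], [1, 2, 0, 3, 4, 7, 8, 6, 9, 5]),
    ([3, 5, 7, 4, 6, 3, 5, 5, 3, 4, 5, 3, 5, 3, 4, 5, 3, 0, 0], [2, 0, 1, 3, 4, 8, 6, 7, 9, 5]),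
    ([5, 3, 4, 5, 3, 5, 3, 4, 5, 3, 2, 1, 1, 0, 0], [2, 3, 1, 4, 0, 7, 5, 6, 8, 9]),
    ([5, 3, 4, 5, 3, 3, 5, 7, 4, 6, 3, 5, 5, 3, 4, 5, 3, 2, 1, 1, 0, 0, 0], [3, 1, 2, 4, 0, 5, 8, 7, 9, 6]),
    ([5, 3, 4, 5, 3, 0, 2, 1, 1, 0, 0], [0, 3, 2, 4, 1, 6, 7, 5, 8, 9]),
    ([5, 3, 4, 5, 3, 5, 3, 4, 5, 3, 2, 1, 1, 0, 0, 0], [3, 1, 2, 4, 0, 7, 5, 6, 8, 9]),
    ([3, 5, 7, 4, 6, 3, 5, 5, 3, 4, 5, 3, 0, 2, 1, 1, 0, 0], [0, 3, 2, 4, 1, 7, 8, 6, 9, 5]),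
    ([5, 3, 4, 5, 3, 2, 1, 1, 0, 0], [2, 3, 1, 4, 0, 6, 7, 5, 8, 9]),
    ([5, 3, 4, 5, 3, 3, 5, 7, 4, 6, 3, 5, 5, 3, 4, 5, 3, 0], [1, 2, 0, 3, 4, 5, 8, 7, 9, 6]),
    ([3, 5, 7, 4, 6, 3, 5, 5, 3, 4, 5, 3, 2, 1, 1, 0, 0, 0], [3, 1, 2, 4, 0, 7, 8, 6, 9, 5]),
    ([3, 5, 7, 4, 6, 3, 5, 5, 3, 4, 5, 3, 5, 3, 4, 5, 3, 0], [1, 2, 0, 3, 4, 8, 6, 7, 9, 5]),
    ([5, 3, 4, 5, 3, 0, 0], [2, 0, 1, 3, 4, 6, 7, 5, 8, 9]),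
    ([5, 3, 4, 5, 3, 5, 3, 4, 5, 3, 0, 2, 1, 1, 0, 0], [0, 3, 2, 4, 1, 7, 5, 6, 8, 9]),
    ([5, 3, 4, 5, 3, 5, 3, 4, 5, 3, 0, 0], [2, 0, 1, 3, 4, 7, 5, 6, 8, 9]),
    ([3, 5, 7, 4, 6, 3, 5, 5, 3, 4, 5, 3, 2, 1, 1, 0, 0], [2, 3, 1, 4, 0, 7, 8, 6, 9, 5]),
    ([3, 5, 7, 4, 6, 3, 5, 5, 3, 4, 5, 3, 5, 3, 4, 5, 3, 2, 1, 1, 0, 0, 0], [3, 1, 2, 4, 0, 8, 6, 7, 9, 5]),
    ([5, 3, 4, 5, 3, 3, 5, 7, 4, 6, 3, 5, 5, 3, 4, 5, 3, 0, 2, 1, 1, 0, 0], [0, 3, 2, 4, 1, 5, 8, 7, 9, 6]),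
    ([3, 5, 7, 4, 6, 3, 5, 2, 1, 1, 0], [1, 2, 3, 4, 0, 6, 7, 8, 9, 5]),
    ([0, 0, 2, 1, 1, 0, 0, 2, 1, 1, 0, 0], [0, 4, 3, 2, 1, 5, 6, 7, 8, 9]),
    ([5, 3, 4, 5, 3, 5, 3, 4, 5, 3, 3, 5, 7, 4, 6, 3, 5, 5, 3, 4, 5, 3, 3, 5, 7, 4, 6, 3, 5, 5, 3, 4, 5, 3], [0, 1, 2, 3, 4, 5, 9, 8, 7, 6])]

def ppT : List (List ℕ × List ℕ) :=
  ppT_0

def ppTexps_0 : List (List ℕ) :=
  [[],
    [0],
    [0, 0],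
    [1, 0],
    [1, 0, 0],
    [0, 1, 0],
    [1],
    [2],
    [2, 2],
    [3, 2],
    [3, 2, 2],
    [2, 3, 2],
    [3],
    [2, 0],
    [3, 2, 0, 0],
    [3, 2, 2, 0, 1, 0],
    [2, 3, 2, 1, 0],
    [3, 2, 0],
    [3, 2, 2, 0, 0],
    [2, 2, 1, 0],
    [2, 3, 2, 1, 0, 0],
    [2, 0, 1, 0],
    [2, 2, 1, 0, 0],
    [3, 2, 0, 1, 0],
    [2, 1, 0],
    [2, 3, 2, 0],
    [3, 2, 1, 0, 0],
    [3, 2, 2, 0],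
    [2, 0, 0],
    [2, 2, 0, 1, 0],
    [2, 2, 0, 0],
    [3, 2, 1, 0],
    [3, 2, 2, 1, 0, 0],
    [2, 3, 2, 0, 1, 0],
    [3, 1],
    [0, 0, 1, 0, 1, 0],
    [2, 2, 3, 2, 3, 2]]

def ppTexps : List (List ℕ) :=
  ppTexps_0

def ppS_0 : List (List ℕ × List ℕ) :=
  [([], [0, 1, 2, 3, 4, 5, 6, 7, 8, 9]),
    ([2, 1, 1, 0, 0, 2, 1, 0, 0], [1, 0, 4, 3, 2, 5, 6, 7, 8, 9]),
    ([2, 1, 1, 0], [1, 2, 3, 4, 0, 5, 6, 7, 8, 9]),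
    ([2, 1, 1, 0, 2, 1, 1, 0, 2, 1, 1, 0], [3, 4, 0, 1, 2, 5, 6, 7, 8, 9]),
    ([0, 2, 1, 0, 0, 2, 1, 1, 0, 2, 1, 1, 0], [3, 2, 1, 0, 4, 5, 6, 7, 8, 9]),
    ([0, 2, 1, 0, 0], [0, 4, 3, 2, 1, 5, 6, 7, 8, 9]),
    ([3, 5, 7, 4, 6, 3, 5, 5, 4, 6, 7, 5, 4], [0, 1, 2, 3, 4, 6, 5, 9, 8, 7]),
    ([3, 5, 7, 4, 6, 3, 5], [0, 1, 2, 3, 4, 6, 7, 8, 9, 5]),
    ([3, 5, 7, 4, 6, 3, 5, 3, 5, 7, 4, 6, 3, 5, 3, 5, 7, 4, 6, 3, 5], [0, 1, 2, 3, 4, 8, 9, 5, 6, 7]),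
    ([5, 4, 6, 7, 5, 4, 3, 5, 7, 4, 6, 3, 5, 3, 5, 7, 4, 6, 3, 5], [0, 1, 2, 3, 4, 8, 7, 6, 5, 9]),
    ([5, 4, 6, 7, 5, 4], [0, 1, 2, 3, 4, 5, 9, 8, 7, 6]),
    ([2, 1, 1, 0, 2, 1, 1, 0], [2, 3, 4, 0, 1, 5, 6, 7, 8, 9]),
    ([0, 2, 1, 0, 0, 2, 1, 1, 0, 0, 2, 1, 0, 0], [4, 0, 1, 2, 3, 5, 6, 7, 8, 9]),
    ([0, 2, 1, 0, 0, 2, 1, 1, 0], [4, 3, 2, 1, 0, 5, 6, 7, 8, 9]),
    ([3, 5, 7, 4, 6, 3, 5, 3, 5, 7, 4, 6, 3, 5], [0, 1, 2, 3, 4, 7, 8, 9, 5, 6]),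
    ([2, 1, 1, 0, 0, 2, 1, 0, 0, 3, 5, 7, 4, 6, 3, 5, 3, 5, 7, 4, 6, 3, 5, 3, 5, 7, 4, 6, 3, 5], [1, 0, 4, 3, 2, 8, 9, 5, 6, 7]),
    ([5, 4, 6, 7, 5, 4, 3, 5, 7, 4, 6, 3, 5, 3, 5, 7, 4, 6, 3, 5, 2, 1, 1, 0], [1, 2, 3, 4, 0, 8, 7, 6, 5, 9]),
    ([0, 2, 1, 0, 0, 3, 5, 7, 4, 6, 3, 5, 3, 5, 7, 4, 6, 3, 5, 3, 5, 7, 4, 6, 3, 5], [0, 4, 3, 2, 1, 8, 9, 5, 6, 7]),
    ([0, 2, 1, 0, 0, 3, 5, 7, 4, 6, 3, 5, 3, 5, 7, 4, 6, 3, 5, 2, 1, 1, 0], [4, 3, 2, 1, 0, 7, 8, 9, 5, 6]),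
    ([5, 4, 6, 7, 5, 4, 0, 2, 1, 0, 0, 2, 1, 1, 0], [4, 3, 2, 1, 0, 5, 9, 8, 7, 6]),
    ([5, 4, 6, 7, 5, 4, 2, 1, 1, 0, 2, 1, 1, 0], [2, 3, 4, 0, 1, 5, 9, 8, 7, 6]),
    ([3, 5, 7, 4, 6, 3, 5, 5, 4, 6, 7, 5, 4, 2, 1, 1, 0], [1, 2, 3, 4, 0, 6, 5, 9, 8, 7]),
    ([0, 2, 1, 0, 0, 3, 5, 7, 4, 6, 3, 5, 3, 5, 7, 4, 6, 3, 5, 3, 5, 7, 4, 6, 3, 5, 2, 1, 1, 0], [4, 3, 2, 1, 0, 8, 9, 5, 6, 7]),
    ([3, 5, 7, 4, 6, 3, 5, 5, 4, 6, 7, 5, 4, 2, 1, 1, 0, 0, 2, 1, 0, 0], [1, 0, 4, 3, 2, 6, 5, 9, 8, 7]),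
    ([3, 5, 7, 4, 6, 3, 5, 2, 1, 1, 0], [1, 2, 3, 4, 0, 6, 7, 8, 9, 5]),
    ([3, 5, 7, 4, 6, 3, 5, 3, 5, 7, 4, 6, 3, 5, 3, 5, 7, 4, 6, 3, 5, 2, 1, 1, 0, 2, 1, 1, 0, 2, 1, 1, 0], [3, 4, 0, 1, 2, 8, 9, 5, 6, 7]),
    ([5, 4, 6, 7, 5, 4, 0, 2, 1, 0, 0, 3, 5, 7, 4, 6, 3, 5, 3, 5, 7, 4, 6, 3, 5, 2, 1, 1, 0, 2, 1, 1, 0], [3, 2, 1, 0, 4, 8, 7, 6, 5, 9]),
    ([5, 4, 6, 7, 5, 4, 0, 2, 1, 0, 0], [0, 4, 3, 2, 1, 5, 9, 8, 7, 6])]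

def ppS : List (List ℕ × List ℕ) :=
  ppS_0

def ppSexps_0 : List (List ℕ) :=
  [[],
    [0, 2],
    [0],
    [0, 0, 0],
    [2, 0, 0],
    [2],
    [1, 3],
    [1],
    [1, 1, 1],
    [3, 1, 1],
    [3],
    [0, 0],
    [2, 0, 2],
    [2, 0],
    [1, 1],
    [0, 2, 1, 1, 1],
    [3, 1, 1, 0],
    [2, 1, 1, 1],
    [2, 1, 1, 0],
    [3, 2, 0],
    [3, 0, 0],
    [1, 3, 0],
    [2, 1, 1, 1, 0],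
    [1, 3, 0, 2],
    [1, 0],
    [1, 1, 1, 0, 0, 0],
    [3, 2, 1, 1, 0, 0],
    [3, 2]]

def ppSexps : List (List ℕ) :=
  ppSexps_0

def ppCtx : Ctx := ⟨10, gi, ppT, ppT, ppS, [1, 1, 1, 1, 1, 1, 1, 1, 1, 1, 1, 1, 1, 1, 1, 1, 1, 1, 1, 1, 1, 1, 1, 1, 1, 1, 1, 1]⟩

def pp_n1fix0Dest_0 : List (ℕ × ℕ) :=
  [(1, 0),
    (2, 0),
    (0, 0),
    (5, 0),
    (3, 1),
    (4, 1),
    (0, 0),
    (1, 0),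
    (2, 0),
    (3, 0),
    (4, 0),
    (5, 0)]

def pp_n1fix0Dest : List (ℕ × ℕ) :=
  pp_n1fix0Dest_0

def pp_n1fix1Dest_0 : List (ℕ × ℕ) :=
  [(0, 2),
    (3, 0),
    (4, 0),
    (2, 3),
    (5, 4),
    (1, 5),
    (0, 0),
    (1, 0),
    (2, 0),
    (3, 0),
    (4, 0),
    (5, 0)]

def pp_n1fix1Dest : List (ℕ × ℕ) :=
  pp_n1fix1Dest_0

def pp_n2fix0Dest_0 : List (ℕ × ℕ) :=
  [(7, 0),
    (8, 0),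
    (0, 0),
    (11, 0),
    (9, 6),
    (10, 6),
    (0, 0),
    (7, 0),
    (8, 0),
    (9, 0),
    (10, 0),
    (11, 0)]

def pp_n2fix0Dest : List (ℕ × ℕ) :=
  pp_n2fix0Dest_0

def pp_n2fix1Dest_0 : List (ℕ × ℕ) :=
  [(0, 7),
    (9, 0),
    (10, 0),
    (8, 8),
    (11, 9),
    (7, 10),
    (0, 0),
    (7, 0),
    (8, 0),
    (9, 0),
    (10, 0),
    (11, 0)]

def pp_n2fix1Dest : List (ℕ × ℕ) :=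
  pp_n2fix1Dest_0

def pp_killDest_0 : List (ℕ × ℕ) :=
  [(0, 0)]

def pp_killDest : List (ℕ × ℕ) :=
  pp_killDest_0

def pp_killSteps_0 : List (Step) :=
  [⟨4, [], 1, [(0, 0), (7, 0), (8, 0), (9, 0), (10, 0), (11, 0)]⟩,
    ⟨1, [2, 1, 1, 0, 2, 1, 1, 0, 2, 1, 1, 0, 0], 2, [(4, 3), (13, 11), (8, 3), (14, 4), (15, 12), (16, 4)]⟩,
    ⟨4, [3, 5, 7, 4, 6, 3, 5], 2, [(0, 7), (17, 0), (18, 0), (19, 8), (20, 9), (21, 10)]⟩,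
    ⟨4, [0, 0, 2, 1, 1, 0, 0, 2, 1, 1, 0, 0], 2, [(0, 5), (13, 13), (22, 5), (23, 2), (18, 5), (16, 12)]⟩,
    ⟨4, [2, 1, 1, 0], 2, [(0, 2), (24, 0), (22, 0), (14, 3), (15, 4), (25, 5)]⟩,
    ⟨1, [3, 5, 7, 4, 6, 3, 5, 3, 5, 7, 4, 6, 3, 5, 0, 2, 1, 1, 0, 0], 2, [(5, 14), (19, 15), (25, 16), (18, 17), (7, 18), (26, 19)]⟩,
    ⟨1, [3, 5, 7, 4, 6, 3, 5, 3, 5, 7, 4, 6, 3, 5, 2, 1, 1, 0, 0], 2, [(3, 14), (22, 8), (11, 16), (27, 17), (28, 18), (23, 20)]⟩,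
    ⟨4, [2, 1, 1, 0, 2, 1, 1, 0], 2, [(0, 11), (28, 3), (29, 4), (26, 3), (27, 11), (16, 5)]⟩,
    ⟨4, [], 0, [(0, 0), (1, 0), (2, 0), (3, 0), (4, 0), (5, 0)]⟩,
    ⟨1, [5, 3, 4, 5, 3, 3, 5, 7, 4, 6, 3, 5, 0, 2, 1, 1, 0, 0], 2, [(21, 7), (16, 1), (17, 21), (2, 17), (10, 22), (22, 19)]⟩,
    ⟨1, [5, 3, 4, 5, 3, 3, 5, 7, 4, 6, 3, 5, 2, 1, 1, 0, 0], 2, [(24, 7), (20, 0), (9, 21), (1, 17), (18, 22), (29, 20)]⟩]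

def pp_killSteps : List (Step) :=
  pp_killSteps_0

def pp_killUsed : List ℕ := [0, 1, 2]

def pp_killKs : List ℕ := [0, 0, 0]

def pp_dfix0_0Dest_0 : List (ℕ × ℕ) :=
  [(13, 0),
    (30, 0),
    (0, 0),
    (33, 0),
    (31, 23),
    (32, 23),
    (0, 0),
    (13, 0),
    (30, 0),
    (31, 0),
    (32, 0),
    (33, 0)]

def pp_dfix0_0Dest : List (ℕ × ℕ) :=
  pp_dfix0_0Dest_0

def pp_dfix0_1Dest_0 : List (ℕ × ℕ) :=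
  [(0, 24),
    (31, 0),
    (32, 0),
    (30, 25),
    (33, 26),
    (13, 27),
    (0, 0),
    (13, 0),
    (30, 0),
    (31, 0),
    (32, 0),
    (33, 0)]

def pp_dfix0_1Dest : List (ℕ × ℕ) :=
  pp_dfix0_1Dest_0

def p1_opP1_0 : List (ℕ × ℕ) :=
  [(1, 0),
    (1, 1),
    (1, 2),
    (1, 3),
    (1, 4),
    (1, 5)]

def p1_opP1 : List (ℕ × ℕ) :=
  p1_opP1_0

def p1_opE1_0 : List (ℕ × ℕ) :=
  [(2, 1),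
    (2, 2),
    (2, 7),
    (2, 5),
    (3, 8),
    (2, 4),
    (3, 9),
    (3, 10),
    (2, 11),
    (2, 12),
    (3, 13),
    (3, 14),
    (2, 15),
    (2, 16),
    (3, 17),
    (2, 18),
    (2, 19),
    (2, 20),
    (2, 21),
    (3, 22),
    (2, 23),
    (2, 24),
    (2, 25),
    (2, 26),
    (2, 27),
    (3, 28),
    (3, 29),
    (3, 30),
    (3, 31),
    (3, 32),
    (3, 33),
    (3, 34),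
    (3, 35),
    (2, 36),
    (2, 37)]

def p1_opE1 : List (ℕ × ℕ) :=
  p1_opE1_0

def p1_g0 : List (ℕ × ℕ) := [(1, 1)]

def p1_g1 : List (ℕ × ℕ) := [(1, 6)]

def p1T_0 : List (List ℕ × List ℕ) :=
  [([], [0, 1, 2, 3, 4, 5, 6, 7, 8, 9]),
    ([0], [1, 2, 0, 3, 4, 5, 6, 7, 8, 9]),
    ([0, 0], [2, 0, 1, 3, 4, 5, 6, 7, 8, 9]),
    ([2, 1, 1, 0, 0], [2, 3, 1, 4, 0, 5, 6, 7, 8, 9]),
    ([2, 1, 1, 0, 0, 0], [3, 1, 2, 4, 0, 5, 6, 7, 8, 9]),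
    ([0, 2, 1, 1, 0, 0], [0, 3, 2, 4, 1, 5, 6, 7, 8, 9]),
    ([2, 1, 1, 0], [1, 2, 3, 4, 0, 5, 6, 7, 8, 9]),
    ([0, 0, 2, 1, 1, 0], [0, 1, 3, 4, 2, 5, 6, 7, 8, 9]),
    ([0, 2, 1, 1, 0, 2, 1, 1, 0], [0, 3, 4, 1, 2, 5, 6, 7, 8, 9]),
    ([2, 1, 1, 0, 0, 2, 1, 1, 0], [3, 1, 4, 0, 2, 5, 6, 7, 8, 9]),
    ([2, 1, 1, 0, 2, 1, 1, 0, 0], [3, 4, 2, 0, 1, 5, 6, 7, 8, 9]),
    ([2, 1, 1, 0, 2, 1, 1, 0, 2, 1, 1, 0, 2, 1, 1, 0, 0], [0, 1, 4, 2, 3, 5, 6, 7, 8, 9]),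
    ([2, 1, 1, 0, 2, 1, 1, 0, 2, 1, 1, 0, 0, 2, 1, 1, 0], [0, 3, 1, 2, 4, 5, 6, 7, 8, 9]),
    ([2, 1, 1, 0, 2, 1, 1, 0, 0, 0, 2, 1, 1, 0], [2, 3, 0, 1, 4, 5, 6, 7, 8, 9]),
    ([2, 1, 1, 0, 0, 0, 2, 1, 1, 0, 2, 1, 1, 0], [2, 4, 0, 3, 1, 5, 6, 7, 8, 9]),
    ([2, 1, 1, 0, 0, 2, 1, 1, 0, 2, 1, 1, 0, 2, 1, 1, 0], [4, 0, 2, 3, 1, 5, 6, 7, 8, 9]),
    ([0, 2, 1, 1, 0, 2, 1, 1, 0, 2, 1, 1, 0, 2, 1, 1, 0], [4, 1, 2, 0, 3, 5, 6, 7, 8, 9]),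
    ([0, 2, 1, 1, 0, 2, 1, 1, 0, 2, 1, 1, 0, 0], [4, 1, 3, 2, 0, 5, 6, 7, 8, 9]),
    ([2, 1, 1, 0, 0, 2, 1, 1, 0, 2, 1, 1, 0, 2, 1, 1, 0, 2, 1, 1, 0], [0, 2, 3, 1, 4, 5, 6, 7, 8, 9]),
    ([2, 1, 1, 0, 0, 2, 1, 1, 0, 2, 1, 1, 0, 2, 1, 1, 0, 0], [0, 2, 4, 3, 1, 5, 6, 7, 8, 9]),
    ([2, 1, 1, 0, 2, 1, 1, 0, 0, 2, 1, 1, 0, 0, 2, 1, 1, 0], [0, 4, 1, 3, 2, 5, 6, 7, 8, 9]),
    ([2, 1, 1, 0, 2, 1, 1, 0, 0, 2, 1, 1, 0, 0, 0], [0, 4, 2, 1, 3, 5, 6, 7, 8, 9]),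
    ([0, 0, 2, 1, 1, 0, 0, 2, 1, 1, 0, 0], [0, 4, 3, 2, 1, 5, 6, 7, 8, 9]),
    ([0, 2, 1, 1, 0, 2, 1, 1, 0, 2, 1, 1, 0, 0, 2, 1, 1, 0], [1, 3, 2, 0, 4, 5, 6, 7, 8, 9]),
    ([2, 1, 1, 0, 2, 1, 1, 0, 2, 1, 1, 0, 2, 1, 1, 0, 0, 2, 1, 1, 0], [1, 4, 2, 3, 0, 5, 6, 7, 8, 9]),
    ([2, 1, 1, 0, 2, 1, 1, 0, 0, 0, 2, 1, 1, 0, 0], [3, 0, 2, 1, 4, 5, 6, 7, 8, 9]),
    ([2, 1, 1, 0, 2, 1, 1, 0, 2, 1, 1, 0, 0, 2, 1, 1, 0, 0], [3, 1, 0, 2, 4, 5, 6, 7, 8, 9]),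
    ([2, 1, 1, 0, 0, 0, 2, 1, 1, 0, 0, 2, 1, 1, 0], [4, 1, 0, 3, 2, 5, 6, 7, 8, 9]),
    ([0, 2, 1, 1, 0, 0, 2, 1, 1, 0, 0, 0], [4, 3, 2, 1, 0, 5, 6, 7, 8, 9]),
    ([2, 1, 1, 0, 2, 1, 1, 0, 0, 0, 2, 1, 1, 0, 0, 2, 1, 1, 0], [0, 2, 1, 4, 3, 5, 6, 7, 8, 9]),
    ([2, 1, 1, 0, 2, 1, 1, 0, 2, 1, 1, 0, 0, 2, 1, 1, 0, 0, 2, 1, 1, 0], [1, 0, 2, 4, 3, 5, 6, 7, 8, 9]),
    ([2, 1, 1, 0, 2, 1, 1, 0, 2, 1, 1, 0, 0, 2, 1, 1, 0, 0, 0], [1, 0, 3, 2, 4, 5, 6, 7, 8, 9]),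
    ([2, 1, 1, 0, 0, 0, 2, 1, 1, 0, 0, 2, 1, 1, 0, 0], [1, 0, 4, 3, 2, 5, 6, 7, 8, 9]),
    ([0, 2, 1, 1, 0, 2, 1, 1, 0, 2, 1, 1, 0, 0, 2, 1, 1, 0, 0], [3, 2, 1, 0, 4, 5, 6, 7, 8, 9]),
    ([2, 1, 1, 0, 2, 1, 1, 0, 2, 1, 1, 0, 2, 1, 1, 0, 0, 2, 1, 1, 0, 0], [4, 2, 1, 3, 0, 5, 6, 7, 8, 9]),
    ([2, 1, 1, 0, 2, 1, 1, 0, 0, 0, 2, 1, 1, 0, 0, 2, 1, 1, 0, 0], [2, 1, 0, 4, 3, 5, 6, 7, 8, 9]),
    ([0, 2, 1, 1, 0, 2, 1, 1, 0, 2, 1, 1, 0, 0, 2, 1, 1, 0, 0, 0], [2, 1, 3, 0, 4, 5, 6, 7, 8, 9]),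
    ([2, 1, 1, 0, 2, 1, 1, 0, 2, 1, 1, 0, 2, 1, 1, 0, 0, 2, 1, 1, 0, 0, 0], [2, 1, 4, 3, 0, 5, 6, 7, 8, 9])]

def p1T : List (List ℕ × List ℕ) :=
  p1T_0

def p1Texps_0 : List (List ℕ) :=
  [[],
    [0],
    [0, 0],
    [1, 0],
    [1, 0, 0],
    [0, 1, 0],
    [1],
    [0, 0, 1],
    [0, 1, 1],
    [1, 0, 1],
    [1, 1, 0],
    [1, 1, 1, 1, 0],
    [1, 1, 1, 0, 1],
    [1, 1, 0, 0, 1],
    [1, 0, 0, 1, 1],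
    [1, 0, 1, 1, 1],
    [0, 1, 1, 1, 1],
    [0, 1, 1, 1, 0],
    [1, 0, 1, 1, 1, 1],
    [1, 0, 1, 1, 1, 0],
    [1, 1, 0, 1, 0, 1],
    [1, 1, 0, 1, 0, 0],
    [0, 0, 1, 0, 1, 0],
    [0, 1, 1, 1, 0, 1],
    [1, 1, 1, 1, 0, 1],
    [1, 1, 0, 0, 1, 0],
    [1, 1, 1, 0, 1, 0],
    [1, 0, 0, 1, 0, 1],
    [0, 1, 0, 1, 0, 0],
    [1, 1, 0, 0, 1, 0, 1],
    [1, 1, 1, 0, 1, 0, 1],
    [1, 1, 1, 0, 1, 0, 0],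
    [1, 0, 0, 1, 0, 1, 0],
    [0, 1, 1, 1, 0, 1, 0],
    [1, 1, 1, 1, 0, 1, 0],
    [1, 1, 0, 0, 1, 0, 1, 0],
    [0, 1, 1, 1, 0, 1, 0, 0],
    [1, 1, 1, 1, 0, 1, 0, 0]]

def p1Texps : List (List ℕ) :=
  p1Texps_0

def p1S_0 : List (List ℕ × List ℕ) :=
  [([], [0, 1, 2, 3, 4, 5, 6, 7, 8, 9]),
    ([2, 1, 1, 0, 0, 2, 1, 0, 0], [1, 0, 4, 3, 2, 5, 6, 7, 8, 9]),
    ([2, 1, 1, 0], [1, 2, 3, 4, 0, 5, 6, 7, 8, 9]),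
    ([2, 1, 1, 0, 2, 1, 1, 0, 2, 1, 1, 0], [3, 4, 0, 1, 2, 5, 6, 7, 8, 9]),
    ([0, 2, 1, 0, 0, 2, 1, 1, 0, 2, 1, 1, 0], [3, 2, 1, 0, 4, 5, 6, 7, 8, 9]),
    ([0, 2, 1, 0, 0], [0, 4, 3, 2, 1, 5, 6, 7, 8, 9]),
    ([2, 1, 1, 0, 2, 1, 1, 0], [2, 3, 4, 0, 1, 5, 6, 7, 8, 9]),
    ([0, 2, 1, 0, 0, 2, 1, 1, 0, 0, 2, 1, 0, 0], [4, 0, 1, 2, 3, 5, 6, 7, 8, 9]),
    ([2, 1, 1, 0, 2, 1, 1, 0, 0, 2, 1, 0, 0], [2, 1, 0, 4, 3, 5, 6, 7, 8, 9]),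
    ([0, 2, 1, 0, 0, 2, 1, 1, 0], [4, 3, 2, 1, 0, 5, 6, 7, 8, 9])]

def p1S : List (List ℕ × List ℕ) :=
  p1S_0

def p1Sexps_0 : List (List ℕ) :=
  [[],
    [0, 1],
    [0],
    [0, 0, 0],
    [1, 0, 0],
    [1],
    [0, 0],
    [1, 0, 1],
    [0, 0, 1],
    [1, 0]]

def p1Sexps : List (List ℕ) :=
  p1Sexps_0

def p1Ctx : Ctx := ⟨10, gi, p1T, p1T, p1S, [1, 1, 1, 1, 1, 1, 1, 1, 1, 1]⟩

def p1_nfix0Dest_0 : List (ℕ × ℕ) :=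
  [(1, 0),
    (2, 0),
    (0, 0),
    (5, 0),
    (3, 1),
    (4, 1),
    (0, 0),
    (1, 0),
    (2, 0),
    (3, 0),
    (4, 0),
    (5, 0)]

def p1_nfix0Dest : List (ℕ × ℕ) :=
  p1_nfix0Dest_0

def p1_nfix1Dest_0 : List (ℕ × ℕ) :=
  [(0, 2),
    (3, 0),
    (4, 0),
    (2, 3),
    (5, 4),
    (1, 5),
    (0, 0),
    (1, 0),
    (2, 0),
    (3, 0),
    (4, 0),
    (5, 0)]

def p1_nfix1Dest : List (ℕ × ℕ) :=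
  p1_nfix1Dest_0

def p1_eoneDest_0 : List (ℕ × ℕ) :=
  [(1, 0),
    (2, 0),
    (2, 2),
    (5, 0),
    (1, 6),
    (4, 0),
    (3, 2),
    (2, 3),
    (5, 5),
    (4, 7),
    (5, 8),
    (4, 6),
    (3, 3),
    (1, 7),
    (3, 4),
    (3, 7),
    (2, 1),
    (3, 9),
    (4, 9),
    (0, 5),
    (3, 8),
    (5, 9),
    (1, 4),
    (2, 4),
    (5, 3),
    (0, 9),
    (1, 8),
    (2, 8),
    (5, 7),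
    (0, 1),
    (0, 4),
    (4, 4),
    (0, 8),
    (4, 8),
    (1, 1),
    (0, 0)]

def p1_eoneDest : List (ℕ × ℕ) :=
  p1_eoneDest_0

def p1_eoneSteps_0 : List (Step) :=
  [⟨1, [], 0, [(0, 0), (1, 0), (2, 0), (3, 0), (4, 0), (5, 0)]⟩]

def p1_eoneSteps : List (Step) :=
  p1_eoneSteps_0

def p1_eoneUsed : List ℕ := [0]

def p1_eoneKs : List ℕ := [0]

def m1_opE1_0 : List (ℕ × ℕ) :=
  [(2, 1),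
    (2, 2),
    (2, 3),
    (2, 4),
    (3, 5),
    (2, 6),
    (3, 7),
    (3, 8),
    (2, 9),
    (2, 10),
    (3, 11),
    (3, 12),
    (2, 13),
    (2, 14),
    (3, 15),
    (2, 16),
    (2, 17),
    (2, 18),
    (2, 19),
    (3, 20),
    (2, 21),
    (2, 22),
    (2, 23),
    (2, 24),
    (2, 25),
    (3, 26),
    (3, 27),
    (3, 28),
    (3, 29),
    (3, 30),
    (3, 31),
    (3, 32),
    (3, 33),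
    (2, 34),
    (2, 35)]

def m1_opE1 : List (ℕ × ℕ) :=
  m1_opE1_0

def m1T_0 : List (List ℕ × List ℕ) :=
  [([], [0, 1, 2, 3, 4, 5, 6, 7, 8, 9]),
    ([0], [1, 2, 0, 3, 4, 5, 6, 7, 8, 9]),
    ([0, 0], [2, 0, 1, 3, 4, 5, 6, 7, 8, 9]),
    ([0, 0, 2, 1, 1, 0], [0, 1, 3, 4, 2, 5, 6, 7, 8, 9]),
    ([0, 2, 1, 1, 0, 0], [0, 3, 2, 4, 1, 5, 6, 7, 8, 9]),
    ([0, 2, 1, 1, 0, 2, 1, 1, 0], [0, 3, 4, 1, 2, 5, 6, 7, 8, 9]),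
    ([2, 1, 1, 0, 0, 0], [3, 1, 2, 4, 0, 5, 6, 7, 8, 9]),
    ([2, 1, 1, 0, 0, 2, 1, 1, 0], [3, 1, 4, 0, 2, 5, 6, 7, 8, 9]),
    ([2, 1, 1, 0, 2, 1, 1, 0, 0], [3, 4, 2, 0, 1, 5, 6, 7, 8, 9]),
    ([2, 1, 1, 0, 2, 1, 1, 0, 2, 1, 1, 0, 2, 1, 1, 0, 0], [0, 1, 4, 2, 3, 5, 6, 7, 8, 9]),
    ([2, 1, 1, 0, 2, 1, 1, 0, 2, 1, 1, 0, 0, 2, 1, 1, 0], [0, 3, 1, 2, 4, 5, 6, 7, 8, 9]),
    ([2, 1, 1, 0, 2, 1, 1, 0, 0, 0, 2, 1, 1, 0], [2, 3, 0, 1, 4, 5, 6, 7, 8, 9]),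
    ([2, 1, 1, 0, 0, 0, 2, 1, 1, 0, 2, 1, 1, 0], [2, 4, 0, 3, 1, 5, 6, 7, 8, 9]),
    ([2, 1, 1, 0, 0, 2, 1, 1, 0, 2, 1, 1, 0, 2, 1, 1, 0], [4, 0, 2, 3, 1, 5, 6, 7, 8, 9]),
    ([0, 2, 1, 1, 0, 2, 1, 1, 0, 2, 1, 1, 0, 2, 1, 1, 0], [4, 1, 2, 0, 3, 5, 6, 7, 8, 9]),
    ([0, 2, 1, 1, 0, 2, 1, 1, 0, 2, 1, 1, 0, 0], [4, 1, 3, 2, 0, 5, 6, 7, 8, 9]),
    ([2, 1, 1, 0, 0, 2, 1, 1, 0, 2, 1, 1, 0, 2, 1, 1, 0, 2, 1, 1, 0], [0, 2, 3, 1, 4, 5, 6, 7, 8, 9]),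
    ([2, 1, 1, 0, 0, 2, 1, 1, 0, 2, 1, 1, 0, 2, 1, 1, 0, 0], [0, 2, 4, 3, 1, 5, 6, 7, 8, 9]),
    ([2, 1, 1, 0, 2, 1, 1, 0, 0, 2, 1, 1, 0, 0, 2, 1, 1, 0], [0, 4, 1, 3, 2, 5, 6, 7, 8, 9]),
    ([2, 1, 1, 0, 2, 1, 1, 0, 0, 2, 1, 1, 0, 0, 0], [0, 4, 2, 1, 3, 5, 6, 7, 8, 9]),
    ([0, 0, 2, 1, 1, 0, 0, 2, 1, 1, 0, 0], [0, 4, 3, 2, 1, 5, 6, 7, 8, 9]),
    ([0, 2, 1, 1, 0, 2, 1, 1, 0, 2, 1, 1, 0, 0, 2, 1, 1, 0], [1, 3, 2, 0, 4, 5, 6, 7, 8, 9]),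
    ([2, 1, 1, 0, 2, 1, 1, 0, 2, 1, 1, 0, 2, 1, 1, 0, 0, 2, 1, 1, 0], [1, 4, 2, 3, 0, 5, 6, 7, 8, 9]),
    ([2, 1, 1, 0, 2, 1, 1, 0, 0, 0, 2, 1, 1, 0, 0], [3, 0, 2, 1, 4, 5, 6, 7, 8, 9]),
    ([2, 1, 1, 0, 2, 1, 1, 0, 2, 1, 1, 0, 0, 2, 1, 1, 0, 0], [3, 1, 0, 2, 4, 5, 6, 7, 8, 9]),
    ([2, 1, 1, 0, 0, 0, 2, 1, 1, 0, 0, 2, 1, 1, 0], [4, 1, 0, 3, 2, 5, 6, 7, 8, 9]),
    ([0, 2, 1, 1, 0, 0, 2, 1, 1, 0, 0, 0], [4, 3, 2, 1, 0, 5, 6, 7, 8, 9]),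
    ([2, 1, 1, 0, 2, 1, 1, 0, 0, 0, 2, 1, 1, 0, 0, 2, 1, 1, 0], [0, 2, 1, 4, 3, 5, 6, 7, 8, 9]),
    ([2, 1, 1, 0, 2, 1, 1, 0, 2, 1, 1, 0, 0, 2, 1, 1, 0, 0, 2, 1, 1, 0], [1, 0, 2, 4, 3, 5, 6, 7, 8, 9]),
    ([2, 1, 1, 0, 2, 1, 1, 0, 2, 1, 1, 0, 0, 2, 1, 1, 0, 0, 0], [1, 0, 3, 2, 4, 5, 6, 7, 8, 9]),
    ([2, 1, 1, 0, 0, 0, 2, 1, 1, 0, 0, 2, 1, 1, 0, 0], [1, 0, 4, 3, 2, 5, 6, 7, 8, 9]),
    ([0, 2, 1, 1, 0, 2, 1, 1, 0, 2, 1, 1, 0, 0, 2, 1, 1, 0, 0], [3, 2, 1, 0, 4, 5, 6, 7, 8, 9]),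
    ([2, 1, 1, 0, 2, 1, 1, 0, 2, 1, 1, 0, 2, 1, 1, 0, 0, 2, 1, 1, 0, 0], [4, 2, 1, 3, 0, 5, 6, 7, 8, 9]),
    ([2, 1, 1, 0, 2, 1, 1, 0, 0, 0, 2, 1, 1, 0, 0, 2, 1, 1, 0, 0], [2, 1, 0, 4, 3, 5, 6, 7, 8, 9]),
    ([0, 2, 1, 1, 0, 2, 1, 1, 0, 2, 1, 1, 0, 0, 2, 1, 1, 0, 0, 0], [2, 1, 3, 0, 4, 5, 6, 7, 8, 9]),
    ([2, 1, 1, 0, 2, 1, 1, 0, 2, 1, 1, 0, 2, 1, 1, 0, 0, 2, 1, 1, 0, 0, 0], [2, 1, 4, 3, 0, 5, 6, 7, 8, 9]),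
    ([2, 1, 1, 0, 0], [2, 3, 1, 4, 0, 5, 6, 7, 8, 9])]

def m1T : List (List ℕ × List ℕ) :=
  m1T_0

def m1Texps_0 : List (List ℕ) :=
  [[],
    [0],
    [0, 0],
    [0, 0, 1],
    [0, 1, 0],
    [0, 1, 1],
    [1, 0, 0],
    [1, 0, 1],
    [1, 1, 0],
    [1, 1, 1, 1, 0],
    [1, 1, 1, 0, 1],
    [1, 1, 0, 0, 1],
    [1, 0, 0, 1, 1],
    [1, 0, 1, 1, 1],
    [0, 1, 1, 1, 1],
    [0, 1, 1, 1, 0],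
    [1, 0, 1, 1, 1, 1],
    [1, 0, 1, 1, 1, 0],
    [1, 1, 0, 1, 0, 1],
    [1, 1, 0, 1, 0, 0],
    [0, 0, 1, 0, 1, 0],
    [0, 1, 1, 1, 0, 1],
    [1, 1, 1, 1, 0, 1],
    [1, 1, 0, 0, 1, 0],
    [1, 1, 1, 0, 1, 0],
    [1, 0, 0, 1, 0, 1],
    [0, 1, 0, 1, 0, 0],
    [1, 1, 0, 0, 1, 0, 1],
    [1, 1, 1, 0, 1, 0, 1],
    [1, 1, 1, 0, 1, 0, 0],
    [1, 0, 0, 1, 0, 1, 0],
    [0, 1, 1, 1, 0, 1, 0],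
    [1, 1, 1, 1, 0, 1, 0],
    [1, 1, 0, 0, 1, 0, 1, 0],
    [0, 1, 1, 1, 0, 1, 0, 0],
    [1, 1, 1, 1, 0, 1, 0, 0],
    [1, 0]]

def m1Texps : List (List ℕ) :=
  m1Texps_0

def m1S_0 : List (List ℕ × List ℕ) :=
  [([], [0, 1, 2, 3, 4, 5, 6, 7, 8, 9]),
    ([2, 1, 1, 0], [1, 2, 3, 4, 0, 5, 6, 7, 8, 9]),
    ([2, 1, 1, 0, 2, 1, 1, 0], [2, 3, 4, 0, 1, 5, 6, 7, 8, 9]),
    ([2, 1, 1, 0, 2, 1, 1, 0, 2, 1, 1, 0], [3, 4, 0, 1, 2, 5, 6, 7, 8, 9]),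
    ([0, 2, 1, 0, 0], [0, 4, 3, 2, 1, 5, 6, 7, 8, 9]),
    ([0, 2, 1, 0, 0, 2, 1, 1, 0, 0, 2, 1, 0, 0], [4, 0, 1, 2, 3, 5, 6, 7, 8, 9]),
    ([2, 1, 1, 0, 2, 1, 1, 0, 0, 2, 1, 0, 0], [2, 1, 0, 4, 3, 5, 6, 7, 8, 9]),
    ([0, 2, 1, 0, 0, 2, 1, 1, 0, 2, 1, 1, 0], [3, 2, 1, 0, 4, 5, 6, 7, 8, 9]),
    ([2, 1, 1, 0, 0, 2, 1, 0, 0], [1, 0, 4, 3, 2, 5, 6, 7, 8, 9]),
    ([0, 2, 1, 0, 0, 2, 1, 1, 0], [4, 3, 2, 1, 0, 5, 6, 7, 8, 9])]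

def m1S : List (List ℕ × List ℕ) :=
  m1S_0

def m1Sexps_0 : List (List ℕ) :=
  [[],
    [0],
    [0, 0],
    [0, 0, 0],
    [1],
    [1, 0, 1],
    [0, 0, 1],
    [1, 0, 0],
    [0, 1],
    [1, 0]]

def m1Sexps : List (List ℕ) :=
  m1Sexps_0

def m1Ctx : Ctx := ⟨10, gi, m1T, m1T, m1S, [1, 1, 1, 1, 4, 1, 4, 4, 4, 4]⟩

def m1_ezeroDest_0 : List (ℕ × ℕ) :=
  [(1, 0),
    (2, 0),
    (2, 1),
    (4, 0),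
    (1, 2),
    (6, 0),
    (36, 1),
    (2, 3),
    (4, 4),
    (6, 5),
    (4, 6),
    (6, 2),
    (36, 3),
    (1, 5),
    (36, 7),
    (36, 5),
    (2, 8),
    (36, 9),
    (6, 9),
    (0, 4),
    (36, 6),
    (4, 9),
    (1, 7),
    (2, 7),
    (4, 3),
    (0, 9),
    (1, 6),
    (2, 6),
    (4, 5),
    (0, 8),
    (0, 7),
    (6, 7),
    (0, 6),
    (6, 6),
    (1, 8)]

def m1_ezeroDest : List (ℕ × ℕ) :=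
  m1_ezeroDest_0

def p2_opP2_0 : List (ℕ × ℕ) :=
  [(1, 0),
    (1, 1),
    (1, 2),
    (1, 3),
    (1, 4),
    (1, 5)]

def p2_opP2 : List (ℕ × ℕ) :=
  p2_opP2_0

def p2_opE2_0 : List (ℕ × ℕ) :=
  [(2, 1),
    (2, 2),
    (2, 7),
    (2, 5),
    (3, 8),
    (2, 4),
    (3, 9),
    (3, 10),
    (2, 11),
    (2, 12),
    (3, 13),
    (3, 14),
    (2, 15),
    (2, 16),
    (3, 17),
    (2, 18),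
    (2, 19),
    (2, 20),
    (2, 21),
    (3, 22),
    (2, 23),
    (2, 24),
    (2, 25),
    (2, 26),
    (2, 27),
    (3, 28),
    (3, 29),
    (3, 30),
    (3, 31),
    (3, 32),
    (3, 33),
    (3, 34),
    (3, 35),
    (2, 36),
    (2, 37)]

def p2_opE2 : List (ℕ × ℕ) :=
  p2_opE2_0

def p2_g0 : List (ℕ × ℕ) := [(1, 1)]

def p2_g1 : List (ℕ × ℕ) := [(1, 6)]

def p2T_0 : List (List ℕ × List ℕ) :=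
  [([], [0, 1, 2, 3, 4, 5, 6, 7, 8, 9]),
    ([5, 3, 4, 5, 3], [0, 1, 2, 3, 4, 6, 7, 5, 8, 9]),
    ([5, 3, 4, 5, 3, 5, 3, 4, 5, 3], [0, 1, 2, 3, 4, 7, 5, 6, 8, 9]),
    ([3, 5, 7, 4, 6, 3, 5, 5, 3, 4, 5, 3], [0, 1, 2, 3, 4, 7, 8, 6, 9, 5]),
    ([3, 5, 7, 4, 6, 3, 5, 5, 3, 4, 5, 3, 5, 3, 4, 5, 3], [0, 1, 2, 3, 4, 8, 6, 7, 9, 5]),
    ([5, 3, 4, 5, 3, 3, 5, 7, 4, 6, 3, 5, 5, 3, 4, 5, 3], [0, 1, 2, 3, 4, 5, 8, 7, 9, 6]),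
    ([3, 5, 7, 4, 6, 3, 5], [0, 1, 2, 3, 4, 6, 7, 8, 9, 5]),
    ([5, 3, 4, 5, 3, 5, 3, 4, 5, 3, 3, 5, 7, 4, 6, 3, 5], [0, 1, 2, 3, 4, 5, 6, 8, 9, 7]),
    ([5, 3, 4, 5, 3, 3, 5, 7, 4, 6, 3, 5, 3, 5, 7, 4, 6, 3, 5], [0, 1, 2, 3, 4, 5, 8, 9, 6, 7]),
    ([3, 5, 7, 4, 6, 3, 5, 5, 3, 4, 5, 3, 3, 5, 7, 4, 6, 3, 5], [0, 1, 2, 3, 4, 8, 6, 9, 5, 7]),
    ([3, 5, 7, 4, 6, 3, 5, 3, 5, 7, 4, 6, 3, 5, 5, 3, 4, 5, 3], [0, 1, 2, 3, 4, 8, 9, 7, 5, 6]),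
    ([3, 5, 7, 4, 6, 3, 5, 3, 5, 7, 4, 6, 3, 5, 3, 5, 7, 4, 6, 3, 5, 3, 5, 7, 4, 6, 3, 5, 5, 3, 4, 5, 3], [0, 1, 2, 3, 4, 5, 6, 9, 7, 8]),
    ([3, 5, 7, 4, 6, 3, 5, 3, 5, 7, 4, 6, 3, 5, 3, 5, 7, 4, 6, 3, 5, 5, 3, 4, 5, 3, 3, 5, 7, 4, 6, 3, 5], [0, 1, 2, 3, 4, 5, 8, 6, 7, 9]),
    ([3, 5, 7, 4, 6, 3, 5, 3, 5, 7, 4, 6, 3, 5, 5, 3, 4, 5, 3, 5, 3, 4, 5, 3, 3, 5, 7, 4, 6, 3, 5], [0, 1, 2, 3, 4, 7, 8, 5, 6, 9]),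
    ([3, 5, 7, 4, 6, 3, 5, 5, 3, 4, 5, 3, 5, 3, 4, 5, 3, 3, 5, 7, 4, 6, 3, 5, 3, 5, 7, 4, 6, 3, 5], [0, 1, 2, 3, 4, 7, 9, 5, 8, 6]),
    ([3, 5, 7, 4, 6, 3, 5, 5, 3, 4, 5, 3, 3, 5, 7, 4, 6, 3, 5, 3, 5, 7, 4, 6, 3, 5, 3, 5, 7, 4, 6, 3, 5], [0, 1, 2, 3, 4, 9, 5, 7, 8, 6]),
    ([5, 3, 4, 5, 3, 3, 5, 7, 4, 6, 3, 5, 3, 5, 7, 4, 6, 3, 5, 3, 5, 7, 4, 6, 3, 5, 3, 5, 7, 4, 6, 3, 5], [0, 1, 2, 3, 4, 9, 6, 7, 5, 8]),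
    ([5, 3, 4, 5, 3, 3, 5, 7, 4, 6, 3, 5, 3, 5, 7, 4, 6, 3, 5, 3, 5, 7, 4, 6, 3, 5, 5, 3, 4, 5, 3], [0, 1, 2, 3, 4, 9, 6, 8, 7, 5]),
    ([3, 5, 7, 4, 6, 3, 5, 5, 3, 4, 5, 3, 3, 5, 7, 4, 6, 3, 5, 3, 5, 7, 4, 6, 3, 5, 3, 5, 7, 4, 6, 3, 5, 3, 5, 7, 4, 6, 3, 5], [0, 1, 2, 3, 4, 5, 7, 8, 6, 9]),
    ([3, 5, 7, 4, 6, 3, 5, 5, 3, 4, 5, 3, 3, 5, 7, 4, 6, 3, 5, 3, 5, 7, 4, 6, 3, 5, 3, 5, 7, 4, 6, 3, 5, 5, 3, 4, 5, 3], [0, 1, 2, 3, 4, 5, 7, 9, 8, 6]),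
    ([3, 5, 7, 4, 6, 3, 5, 3, 5, 7, 4, 6, 3, 5, 5, 3, 4, 5, 3, 3, 5, 7, 4, 6, 3, 5, 5, 3, 4, 5, 3, 3, 5, 7, 4, 6, 3, 5], [0, 1, 2, 3, 4, 5, 9, 6, 8, 7]),
    ([3, 5, 7, 4, 6, 3, 5, 3, 5, 7, 4, 6, 3, 5, 5, 3, 4, 5, 3, 3, 5, 7, 4, 6, 3, 5, 5, 3, 4, 5, 3, 5, 3, 4, 5, 3], [0, 1, 2, 3, 4, 5, 9, 7, 6, 8]),
    ([5, 3, 4, 5, 3, 5, 3, 4, 5, 3, 3, 5, 7, 4, 6, 3, 5, 5, 3, 4, 5, 3, 3, 5, 7, 4, 6, 3, 5, 5, 3, 4, 5, 3], [0, 1, 2, 3, 4, 5, 9, 8, 7, 6]),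
    ([5, 3, 4, 5, 3, 3, 5, 7, 4, 6, 3, 5, 3, 5, 7, 4, 6, 3, 5, 3, 5, 7, 4, 6, 3, 5, 5, 3, 4, 5, 3, 3, 5, 7, 4, 6, 3, 5], [0, 1, 2, 3, 4, 6, 8, 7, 5, 9]),
    ([3, 5, 7, 4, 6, 3, 5, 3, 5, 7, 4, 6, 3, 5, 3, 5, 7, 4, 6, 3, 5, 3, 5, 7, 4, 6, 3, 5, 5, 3, 4, 5, 3, 3, 5, 7, 4, 6, 3, 5], [0, 1, 2, 3, 4, 6, 9, 7, 8, 5]),
    ([3, 5, 7, 4, 6, 3, 5, 3, 5, 7, 4, 6, 3, 5, 5, 3, 4, 5, 3, 5, 3, 4, 5, 3, 3, 5, 7, 4, 6, 3, 5, 5, 3, 4, 5, 3], [0, 1, 2, 3, 4, 8, 5, 7, 6, 9]),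
    ([3, 5, 7, 4, 6, 3, 5, 3, 5, 7, 4, 6, 3, 5, 3, 5, 7, 4, 6, 3, 5, 5, 3, 4, 5, 3, 3, 5, 7, 4, 6, 3, 5, 5, 3, 4, 5, 3], [0, 1, 2, 3, 4, 8, 6, 5, 7, 9]),
    ([3, 5, 7, 4, 6, 3, 5, 5, 3, 4, 5, 3, 5, 3, 4, 5, 3, 3, 5, 7, 4, 6, 3, 5, 5, 3, 4, 5, 3, 3, 5, 7, 4, 6, 3, 5], [0, 1, 2, 3, 4, 9, 6, 5, 8, 7]),
    ([5, 3, 4, 5, 3, 3, 5, 7, 4, 6, 3, 5, 5, 3, 4, 5, 3, 3, 5, 7, 4, 6, 3, 5, 5, 3, 4, 5, 3, 5, 3, 4, 5, 3], [0, 1, 2, 3, 4, 9, 8, 7, 6, 5]),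
    ([3, 5, 7, 4, 6, 3, 5, 3, 5, 7, 4, 6, 3, 5, 5, 3, 4, 5, 3, 5, 3, 4, 5, 3, 3, 5, 7, 4, 6, 3, 5, 5, 3, 4, 5, 3, 3, 5, 7, 4, 6, 3, 5], [0, 1, 2, 3, 4, 5, 7, 6, 9, 8]),
    ([3, 5, 7, 4, 6, 3, 5, 3, 5, 7, 4, 6, 3, 5, 3, 5, 7, 4, 6, 3, 5, 5, 3, 4, 5, 3, 3, 5, 7, 4, 6, 3, 5, 5, 3, 4, 5, 3, 3, 5, 7, 4, 6, 3, 5], [0, 1, 2, 3, 4, 6, 5, 7, 9, 8]),
    ([3, 5, 7, 4, 6, 3, 5, 3, 5, 7, 4, 6, 3, 5, 3, 5, 7, 4, 6, 3, 5, 5, 3, 4, 5, 3, 3, 5, 7, 4, 6, 3, 5, 5, 3, 4, 5, 3, 5, 3, 4, 5, 3], [0, 1, 2, 3, 4, 6, 5, 8, 7, 9]),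
    ([3, 5, 7, 4, 6, 3, 5, 5, 3, 4, 5, 3, 5, 3, 4, 5, 3, 3, 5, 7, 4, 6, 3, 5, 5, 3, 4, 5, 3, 3, 5, 7, 4, 6, 3, 5, 5, 3, 4, 5, 3], [0, 1, 2, 3, 4, 6, 5, 9, 8, 7]),
    ([5, 3, 4, 5, 3, 3, 5, 7, 4, 6, 3, 5, 3, 5, 7, 4, 6, 3, 5, 3, 5, 7, 4, 6, 3, 5, 5, 3, 4, 5, 3, 3, 5, 7, 4, 6, 3, 5, 5, 3, 4, 5, 3], [0, 1, 2, 3, 4, 8, 7, 6, 5, 9]),
    ([3, 5, 7, 4, 6, 3, 5, 3, 5, 7, 4, 6, 3, 5, 3, 5, 7, 4, 6, 3, 5, 3, 5, 7, 4, 6, 3, 5, 5, 3, 4, 5, 3, 3, 5, 7, 4, 6, 3, 5, 5, 3, 4, 5, 3], [0, 1, 2, 3, 4, 9, 7, 6, 8, 5]),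
    ([3, 5, 7, 4, 6, 3, 5, 3, 5, 7, 4, 6, 3, 5, 5, 3, 4, 5, 3, 5, 3, 4, 5, 3, 3, 5, 7, 4, 6, 3, 5, 5, 3, 4, 5, 3, 3, 5, 7, 4, 6, 3, 5, 5, 3, 4, 5, 3], [0, 1, 2, 3, 4, 7, 6, 5, 9, 8]),
    ([5, 3, 4, 5, 3, 3, 5, 7, 4, 6, 3, 5, 3, 5, 7, 4, 6, 3, 5, 3, 5, 7, 4, 6, 3, 5, 5, 3, 4, 5, 3, 3, 5, 7, 4, 6, 3, 5, 5, 3, 4, 5, 3, 5, 3, 4, 5, 3], [0, 1, 2, 3, 4, 7, 6, 8, 5, 9]),
    ([3, 5, 7, 4, 6, 3, 5, 3, 5, 7, 4, 6, 3, 5, 3, 5, 7, 4, 6, 3, 5, 3, 5, 7, 4, 6, 3, 5, 5, 3, 4, 5, 3, 3, 5, 7, 4, 6, 3, 5, 5, 3, 4, 5, 3, 5, 3, 4, 5, 3], [0, 1, 2, 3, 4, 7, 6, 9, 8, 5])]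

def p2T : List (List ℕ × List ℕ) :=
  p2T_0

def p2Texps_0 : List (List ℕ) :=
  [[],
    [0],
    [0, 0],
    [1, 0],
    [1, 0, 0],
    [0, 1, 0],
    [1],
    [0, 0, 1],
    [0, 1, 1],
    [1, 0, 1],
    [1, 1, 0],
    [1, 1, 1, 1, 0],
    [1, 1, 1, 0, 1],
    [1, 1, 0, 0, 1],
    [1, 0, 0, 1, 1],
    [1, 0, 1, 1, 1],
    [0, 1, 1, 1, 1],
    [0, 1, 1, 1, 0],
    [1, 0, 1, 1, 1, 1],
    [1, 0, 1, 1, 1, 0],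
    [1, 1, 0, 1, 0, 1],
    [1, 1, 0, 1, 0, 0],
    [0, 0, 1, 0, 1, 0],
    [0, 1, 1, 1, 0, 1],
    [1, 1, 1, 1, 0, 1],
    [1, 1, 0, 0, 1, 0],
    [1, 1, 1, 0, 1, 0],
    [1, 0, 0, 1, 0, 1],
    [0, 1, 0, 1, 0, 0],
    [1, 1, 0, 0, 1, 0, 1],
    [1, 1, 1, 0, 1, 0, 1],
    [1, 1, 1, 0, 1, 0, 0],
    [1, 0, 0, 1, 0, 1, 0],
    [0, 1, 1, 1, 0, 1, 0],
    [1, 1, 1, 1, 0, 1, 0],
    [1, 1, 0, 0, 1, 0, 1, 0],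
    [0, 1, 1, 1, 0, 1, 0, 0],
    [1, 1, 1, 1, 0, 1, 0, 0]]

def p2Texps : List (List ℕ) :=
  p2Texps_0

def p2S_0 : List (List ℕ × List ℕ) :=
  [([], [0, 1, 2, 3, 4, 5, 6, 7, 8, 9]),
    ([3, 5, 7, 4, 6, 3, 5, 5, 4, 6, 7, 5, 4], [0, 1, 2, 3, 4, 6, 5, 9, 8, 7]),
    ([3, 5, 7, 4, 6, 3, 5], [0, 1, 2, 3, 4, 6, 7, 8, 9, 5]),
    ([3, 5, 7, 4, 6, 3, 5, 3, 5, 7, 4, 6, 3, 5, 3, 5, 7, 4, 6, 3, 5], [0, 1, 2, 3, 4, 8, 9, 5, 6, 7]),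
    ([5, 4, 6, 7, 5, 4, 3, 5, 7, 4, 6, 3, 5, 3, 5, 7, 4, 6, 3, 5], [0, 1, 2, 3, 4, 8, 7, 6, 5, 9]),
    ([5, 4, 6, 7, 5, 4], [0, 1, 2, 3, 4, 5, 9, 8, 7, 6]),
    ([3, 5, 7, 4, 6, 3, 5, 3, 5, 7, 4, 6, 3, 5], [0, 1, 2, 3, 4, 7, 8, 9, 5, 6]),
    ([5, 4, 6, 7, 5, 4, 3, 5, 7, 4, 6, 3, 5, 5, 4, 6, 7, 5, 4], [0, 1, 2, 3, 4, 9, 5, 6, 7, 8]),
    ([3, 5, 7, 4, 6, 3, 5, 3, 5, 7, 4, 6, 3, 5, 5, 4, 6, 7, 5, 4], [0, 1, 2, 3, 4, 7, 6, 5, 9, 8]),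
    ([5, 4, 6, 7, 5, 4, 3, 5, 7, 4, 6, 3, 5], [0, 1, 2, 3, 4, 9, 8, 7, 6, 5])]

def p2S : List (List ℕ × List ℕ) :=
  p2S_0

def p2Sexps_0 : List (List ℕ) :=
  [[],
    [0, 1],
    [0],
    [0, 0, 0],
    [1, 0, 0],
    [1],
    [0, 0],
    [1, 0, 1],
    [0, 0, 1],
    [1, 0]]

def p2Sexps : List (List ℕ) :=
  p2Sexps_0

def p2Ctx : Ctx := ⟨10, gi, p2T, p2T, p2S, [1, 1, 1, 1, 1, 1, 1, 1, 1, 1]⟩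

def p2_nfix0Dest_0 : List (ℕ × ℕ) :=
  [(1, 0),
    (2, 0),
    (0, 0),
    (5, 0),
    (3, 1),
    (4, 1),
    (0, 0),
    (1, 0),
    (2, 0),
    (3, 0),
    (4, 0),
    (5, 0)]

def p2_nfix0Dest : List (ℕ × ℕ) :=
  p2_nfix0Dest_0

def p2_nfix1Dest_0 : List (ℕ × ℕ) :=
  [(0, 2),
    (3, 0),
    (4, 0),
    (2, 3),
    (5, 4),
    (1, 5),
    (0, 0),
    (1, 0),
    (2, 0),
    (3, 0),
    (4, 0),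
    (5, 0)]

def p2_nfix1Dest : List (ℕ × ℕ) :=
  p2_nfix1Dest_0

def p2_eoneDest_0 : List (ℕ × ℕ) :=
  [(1, 0),
    (2, 0),
    (2, 2),
    (5, 0),
    (1, 6),
    (4, 0),
    (3, 2),
    (2, 3),
    (5, 5),
    (4, 7),
    (5, 8),
    (4, 6),
    (3, 3),
    (1, 7),
    (3, 4),
    (3, 7),
    (2, 1),
    (3, 9),
    (4, 9),
    (0, 5),
    (3, 8),
    (5, 9),
    (1, 4),
    (2, 4),
    (5, 3),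
    (0, 9),
    (1, 8),
    (2, 8),
    (5, 7),
    (0, 1),
    (0, 4),
    (4, 4),
    (0, 8),
    (4, 8),
    (1, 1),
    (0, 0)]

def p2_eoneDest : List (ℕ × ℕ) :=
  p2_eoneDest_0

def p2_eoneSteps_0 : List (Step) :=
  [⟨1, [], 0, [(0, 0), (1, 0), (2, 0), (3, 0), (4, 0), (5, 0)]⟩]

def p2_eoneSteps : List (Step) :=
  p2_eoneSteps_0

def p2_eoneUsed : List ℕ := [0]

def p2_eoneKs : List ℕ := [0]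

def m2_opE2_0 : List (ℕ × ℕ) :=
  [(2, 1),
    (2, 2),
    (2, 3),
    (2, 4),
    (3, 5),
    (2, 6),
    (3, 7),
    (3, 8),
    (2, 9),
    (2, 10),
    (3, 11),
    (3, 12),
    (2, 13),
    (2, 14),
    (3, 15),
    (2, 16),
    (2, 17),
    (2, 18),
    (2, 19),
    (3, 20),
    (2, 21),
    (2, 22),
    (2, 23),
    (2, 24),
    (2, 25),
    (3, 26),
    (3, 27),
    (3, 28),
    (3, 29),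
    (3, 30),
    (3, 31),
    (3, 32),
    (3, 33),
    (2, 34),
    (2, 35)]

def m2_opE2 : List (ℕ × ℕ) :=
  m2_opE2_0

def m2T_0 : List (List ℕ × List ℕ) :=
  [([], [0, 1, 2, 3, 4, 5, 6, 7, 8, 9]),
    ([5, 3, 4, 5, 3], [0, 1, 2, 3, 4, 6, 7, 5, 8, 9]),
    ([5, 3, 4, 5, 3, 5, 3, 4, 5, 3], [0, 1, 2, 3, 4, 7, 5, 6, 8, 9]),
    ([5, 3, 4, 5, 3, 5, 3, 4, 5, 3, 3, 5, 7, 4, 6, 3, 5], [0, 1, 2, 3, 4, 5, 6, 8, 9, 7]),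
    ([5, 3, 4, 5, 3, 3, 5, 7, 4, 6, 3, 5, 5, 3, 4, 5, 3], [0, 1, 2, 3, 4, 5, 8, 7, 9, 6]),
    ([5, 3, 4, 5, 3, 3, 5, 7, 4, 6, 3, 5, 3, 5, 7, 4, 6, 3, 5], [0, 1, 2, 3, 4, 5, 8, 9, 6, 7]),
    ([3, 5, 7, 4, 6, 3, 5, 5, 3, 4, 5, 3, 5, 3, 4, 5, 3], [0, 1, 2, 3, 4, 8, 6, 7, 9, 5]),
    ([3, 5, 7, 4, 6, 3, 5, 5, 3, 4, 5, 3, 3, 5, 7, 4, 6, 3, 5], [0, 1, 2, 3, 4, 8, 6, 9, 5, 7]),
    ([3, 5, 7, 4, 6, 3, 5, 3, 5, 7, 4, 6, 3, 5, 5, 3, 4, 5, 3], [0, 1, 2, 3, 4, 8, 9, 7, 5, 6]),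
    ([3, 5, 7, 4, 6, 3, 5, 3, 5, 7, 4, 6, 3, 5, 3, 5, 7, 4, 6, 3, 5, 3, 5, 7, 4, 6, 3, 5, 5, 3, 4, 5, 3], [0, 1, 2, 3, 4, 5, 6, 9, 7, 8]),
    ([3, 5, 7, 4, 6, 3, 5, 3, 5, 7, 4, 6, 3, 5, 3, 5, 7, 4, 6, 3, 5, 5, 3, 4, 5, 3, 3, 5, 7, 4, 6, 3, 5], [0, 1, 2, 3, 4, 5, 8, 6, 7, 9]),
    ([3, 5, 7, 4, 6, 3, 5, 3, 5, 7, 4, 6, 3, 5, 5, 3, 4, 5, 3, 5, 3, 4, 5, 3, 3, 5, 7, 4, 6, 3, 5], [0, 1, 2, 3, 4, 7, 8, 5, 6, 9]),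
    ([3, 5, 7, 4, 6, 3, 5, 5, 3, 4, 5, 3, 5, 3, 4, 5, 3, 3, 5, 7, 4, 6, 3, 5, 3, 5, 7, 4, 6, 3, 5], [0, 1, 2, 3, 4, 7, 9, 5, 8, 6]),
    ([3, 5, 7, 4, 6, 3, 5, 5, 3, 4, 5, 3, 3, 5, 7, 4, 6, 3, 5, 3, 5, 7, 4, 6, 3, 5, 3, 5, 7, 4, 6, 3, 5], [0, 1, 2, 3, 4, 9, 5, 7, 8, 6]),
    ([5, 3, 4, 5, 3, 3, 5, 7, 4, 6, 3, 5, 3, 5, 7, 4, 6, 3, 5, 3, 5, 7, 4, 6, 3, 5, 3, 5, 7, 4, 6, 3, 5], [0, 1, 2, 3, 4, 9, 6, 7, 5, 8]),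
    ([5, 3, 4, 5, 3, 3, 5, 7, 4, 6, 3, 5, 3, 5, 7, 4, 6, 3, 5, 3, 5, 7, 4, 6, 3, 5, 5, 3, 4, 5, 3], [0, 1, 2, 3, 4, 9, 6, 8, 7, 5]),
    ([3, 5, 7, 4, 6, 3, 5, 5, 3, 4, 5, 3, 3, 5, 7, 4, 6, 3, 5, 3, 5, 7, 4, 6, 3, 5, 3, 5, 7, 4, 6, 3, 5, 3, 5, 7, 4, 6, 3, 5], [0, 1, 2, 3, 4, 5, 7, 8, 6, 9]),
    ([3, 5, 7, 4, 6, 3, 5, 5, 3, 4, 5, 3, 3, 5, 7, 4, 6, 3, 5, 3, 5, 7, 4, 6, 3, 5, 3, 5, 7, 4, 6, 3, 5, 5, 3, 4, 5, 3], [0, 1, 2, 3, 4, 5, 7, 9, 8, 6]),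
    ([3, 5, 7, 4, 6, 3, 5, 3, 5, 7, 4, 6, 3, 5, 5, 3, 4, 5, 3, 3, 5, 7, 4, 6, 3, 5, 5, 3, 4, 5, 3, 3, 5, 7, 4, 6, 3, 5], [0, 1, 2, 3, 4, 5, 9, 6, 8, 7]),
    ([3, 5, 7, 4, 6, 3, 5, 3, 5, 7, 4, 6, 3, 5, 5, 3, 4, 5, 3, 3, 5, 7, 4, 6, 3, 5, 5, 3, 4, 5, 3, 5, 3, 4, 5, 3], [0, 1, 2, 3, 4, 5, 9, 7, 6, 8]),
    ([5, 3, 4, 5, 3, 5, 3, 4, 5, 3, 3, 5, 7, 4, 6, 3, 5, 5, 3, 4, 5, 3, 3, 5, 7, 4, 6, 3, 5, 5, 3, 4, 5, 3], [0, 1, 2, 3, 4, 5, 9, 8, 7, 6]),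
    ([5, 3, 4, 5, 3, 3, 5, 7, 4, 6, 3, 5, 3, 5, 7, 4, 6, 3, 5, 3, 5, 7, 4, 6, 3, 5, 5, 3, 4, 5, 3, 3, 5, 7, 4, 6, 3, 5], [0, 1, 2, 3, 4, 6, 8, 7, 5, 9]),
    ([3, 5, 7, 4, 6, 3, 5, 3, 5, 7, 4, 6, 3, 5, 3, 5, 7, 4, 6, 3, 5, 3, 5, 7, 4, 6, 3, 5, 5, 3, 4, 5, 3, 3, 5, 7, 4, 6, 3, 5], [0, 1, 2, 3, 4, 6, 9, 7, 8, 5]),
    ([3, 5, 7, 4, 6, 3, 5, 3, 5, 7, 4, 6, 3, 5, 5, 3, 4, 5, 3, 5, 3, 4, 5, 3, 3, 5, 7, 4, 6, 3, 5, 5, 3, 4, 5, 3], [0, 1, 2, 3, 4, 8, 5, 7, 6, 9]),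
    ([3, 5, 7, 4, 6, 3, 5, 3, 5, 7, 4, 6, 3, 5, 3, 5, 7, 4, 6, 3, 5, 5, 3, 4, 5, 3, 3, 5, 7, 4, 6, 3, 5, 5, 3, 4, 5, 3], [0, 1, 2, 3, 4, 8, 6, 5, 7, 9]),
    ([3, 5, 7, 4, 6, 3, 5, 5, 3, 4, 5, 3, 5, 3, 4, 5, 3, 3, 5, 7, 4, 6, 3, 5, 5, 3, 4, 5, 3, 3, 5, 7, 4, 6, 3, 5], [0, 1, 2, 3, 4, 9, 6, 5, 8, 7]),
    ([5, 3, 4, 5, 3, 3, 5, 7, 4, 6, 3, 5, 5, 3, 4, 5, 3, 3, 5, 7, 4, 6, 3, 5, 5, 3, 4, 5, 3, 5, 3, 4, 5, 3], [0, 1, 2, 3, 4, 9, 8, 7, 6, 5]),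
    ([3, 5, 7, 4, 6, 3, 5, 3, 5, 7, 4, 6, 3, 5, 5, 3, 4, 5, 3, 5, 3, 4, 5, 3, 3, 5, 7, 4, 6, 3, 5, 5, 3, 4, 5, 3, 3, 5, 7, 4, 6, 3, 5], [0, 1, 2, 3, 4, 5, 7, 6, 9, 8]),
    ([3, 5, 7, 4, 6, 3, 5, 3, 5, 7, 4, 6, 3, 5, 3, 5, 7, 4, 6, 3, 5, 5, 3, 4, 5, 3, 3, 5, 7, 4, 6, 3, 5, 5, 3, 4, 5, 3, 3, 5, 7, 4, 6, 3, 5], [0, 1, 2, 3, 4, 6, 5, 7, 9, 8]),
    ([3, 5, 7, 4, 6, 3, 5, 3, 5, 7, 4, 6, 3, 5, 3, 5, 7, 4, 6, 3, 5, 5, 3, 4, 5, 3, 3, 5, 7, 4, 6, 3, 5, 5, 3, 4, 5, 3, 5, 3, 4, 5, 3], [0, 1, 2, 3, 4, 6, 5, 8, 7, 9]),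
    ([3, 5, 7, 4, 6, 3, 5, 5, 3, 4, 5, 3, 5, 3, 4, 5, 3, 3, 5, 7, 4, 6, 3, 5, 5, 3, 4, 5, 3, 3, 5, 7, 4, 6, 3, 5, 5, 3, 4, 5, 3], [0, 1, 2, 3, 4, 6, 5, 9, 8, 7]),
    ([5, 3, 4, 5, 3, 3, 5, 7, 4, 6, 3, 5, 3, 5, 7, 4, 6, 3, 5, 3, 5, 7, 4, 6, 3, 5, 5, 3, 4, 5, 3, 3, 5, 7, 4, 6, 3, 5, 5, 3, 4, 5, 3], [0, 1, 2, 3, 4, 8, 7, 6, 5, 9]),
    ([3, 5, 7, 4, 6, 3, 5, 3, 5, 7, 4, 6, 3, 5, 3, 5, 7, 4, 6, 3, 5, 3, 5, 7, 4, 6, 3, 5, 5, 3, 4, 5, 3, 3, 5, 7, 4, 6, 3, 5, 5, 3, 4, 5, 3], [0, 1, 2, 3, 4, 9, 7, 6, 8, 5]),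
    ([3, 5, 7, 4, 6, 3, 5, 3, 5, 7, 4, 6, 3, 5, 5, 3, 4, 5, 3, 5, 3, 4, 5, 3, 3, 5, 7, 4, 6, 3, 5, 5, 3, 4, 5, 3, 3, 5, 7, 4, 6, 3, 5, 5, 3, 4, 5, 3], [0, 1, 2, 3, 4, 7, 6, 5, 9, 8]),
    ([5, 3, 4, 5, 3, 3, 5, 7, 4, 6, 3, 5, 3, 5, 7, 4, 6, 3, 5, 3, 5, 7, 4, 6, 3, 5, 5, 3, 4, 5, 3, 3, 5, 7, 4, 6, 3, 5, 5, 3, 4, 5, 3, 5, 3, 4, 5, 3], [0, 1, 2, 3, 4, 7, 6, 8, 5, 9]),
    ([3, 5, 7, 4, 6, 3, 5, 3, 5, 7, 4, 6, 3, 5, 3, 5, 7, 4, 6, 3, 5, 3, 5, 7, 4, 6, 3, 5, 5, 3, 4, 5, 3, 3, 5, 7, 4, 6, 3, 5, 5, 3, 4, 5, 3, 5, 3, 4, 5, 3], [0, 1, 2, 3, 4, 7, 6, 9, 8, 5]),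
    ([3, 5, 7, 4, 6, 3, 5, 5, 3, 4, 5, 3], [0, 1, 2, 3, 4, 7, 8, 6, 9, 5])]

def m2T : List (List ℕ × List ℕ) :=
  m2T_0

def m2Texps_0 : List (List ℕ) :=
  [[],
    [0],
    [0, 0],
    [0, 0, 1],
    [0, 1, 0],
    [0, 1, 1],
    [1, 0, 0],
    [1, 0, 1],
    [1, 1, 0],
    [1, 1, 1, 1, 0],
    [1, 1, 1, 0, 1],
    [1, 1, 0, 0, 1],
    [1, 0, 0, 1, 1],
    [1, 0, 1, 1, 1],
    [0, 1, 1, 1, 1],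
    [0, 1, 1, 1, 0],
    [1, 0, 1, 1, 1, 1],
    [1, 0, 1, 1, 1, 0],
    [1, 1, 0, 1, 0, 1],
    [1, 1, 0, 1, 0, 0],
    [0, 0, 1, 0, 1, 0],
    [0, 1, 1, 1, 0, 1],
    [1, 1, 1, 1, 0, 1],
    [1, 1, 0, 0, 1, 0],
    [1, 1, 1, 0, 1, 0],
    [1, 0, 0, 1, 0, 1],
    [0, 1, 0, 1, 0, 0],
    [1, 1, 0, 0, 1, 0, 1],
    [1, 1, 1, 0, 1, 0, 1],
    [1, 1, 1, 0, 1, 0, 0],
    [1, 0, 0, 1, 0, 1, 0],
    [0, 1, 1, 1, 0, 1, 0],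
    [1, 1, 1, 1, 0, 1, 0],
    [1, 1, 0, 0, 1, 0, 1, 0],
    [0, 1, 1, 1, 0, 1, 0, 0],
    [1, 1, 1, 1, 0, 1, 0, 0],
    [1, 0]]

def m2Texps : List (List ℕ) :=
  m2Texps_0

def m2S_0 : List (List ℕ × List ℕ) :=
  [([], [0, 1, 2, 3, 4, 5, 6, 7, 8, 9]),
    ([3, 5, 7, 4, 6, 3, 5], [0, 1, 2, 3, 4, 6, 7, 8, 9, 5]),
    ([3, 5, 7, 4, 6, 3, 5, 3, 5, 7, 4, 6, 3, 5], [0, 1, 2, 3, 4, 7, 8, 9, 5, 6]),
    ([3, 5, 7, 4, 6, 3, 5, 3, 5, 7, 4, 6, 3, 5, 3, 5, 7, 4, 6, 3, 5], [0, 1, 2, 3, 4, 8, 9, 5, 6, 7]),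
    ([5, 4, 6, 7, 5, 4], [0, 1, 2, 3, 4, 5, 9, 8, 7, 6]),
    ([5, 4, 6, 7, 5, 4, 3, 5, 7, 4, 6, 3, 5, 5, 4, 6, 7, 5, 4], [0, 1, 2, 3, 4, 9, 5, 6, 7, 8]),
    ([3, 5, 7, 4, 6, 3, 5, 3, 5, 7, 4, 6, 3, 5, 5, 4, 6, 7, 5, 4], [0, 1, 2, 3, 4, 7, 6, 5, 9, 8]),
    ([5, 4, 6, 7, 5, 4, 3, 5, 7, 4, 6, 3, 5, 3, 5, 7, 4, 6, 3, 5], [0, 1, 2, 3, 4, 8, 7, 6, 5, 9]),
    ([3, 5, 7, 4, 6, 3, 5, 5, 4, 6, 7, 5, 4], [0, 1, 2, 3, 4, 6, 5, 9, 8, 7]),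
    ([5, 4, 6, 7, 5, 4, 3, 5, 7, 4, 6, 3, 5], [0, 1, 2, 3, 4, 9, 8, 7, 6, 5])]

def m2S : List (List ℕ × List ℕ) :=
  m2S_0

def m2Sexps_0 : List (List ℕ) :=
  [[],
    [0],
    [0, 0],
    [0, 0, 0],
    [1],
    [1, 0, 1],
    [0, 0, 1],
    [1, 0, 0],
    [0, 1],
    [1, 0]]

def m2Sexps : List (List ℕ) :=
  m2Sexps_0

def m2Ctx : Ctx := ⟨10, gi, m2T, m2T, m2S, [1, 1, 1, 1, 4, 1, 4, 4, 4, 4]⟩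

def m2_ezeroDest_0 : List (ℕ × ℕ) :=
  [(1, 0),
    (2, 0),
    (2, 1),
    (4, 0),
    (1, 2),
    (6, 0),
    (36, 1),
    (2, 3),
    (4, 4),
    (6, 5),
    (4, 6),
    (6, 2),
    (36, 3),
    (1, 5),
    (36, 7),
    (36, 5),
    (2, 8),
    (36, 9),
    (6, 9),
    (0, 4),
    (36, 6),
    (4, 9),
    (1, 7),
    (2, 7),
    (4, 3),
    (0, 9),
    (1, 6),
    (2, 6),
    (4, 5),
    (0, 8),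
    (0, 7),
    (6, 7),
    (0, 6),
    (6, 6),
    (1, 8)]

def m2_ezeroDest : List (ℕ × ℕ) :=
  m2_ezeroDest_0

def x_opE1_0 : List (ℕ × ℕ) :=
  [(2, 1),
    (2, 2),
    (2, 3),
    (2, 4),
    (3, 5),
    (2, 6),
    (3, 7),
    (3, 8),
    (2, 9),
    (2, 10),
    (3, 11),
    (3, 12),
    (2, 13),
    (2, 14),
    (3, 15),
    (2, 16),
    (2, 17),
    (2, 18),
    (2, 19),
    (3, 20),
    (2, 21),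
    (2, 22),
    (2, 23),
    (2, 24),
    (2, 25),
    (3, 26),
    (3, 27),
    (3, 28),
    (3, 29),
    (3, 30),
    (3, 31),
    (3, 32),
    (3, 33),
    (2, 34),
    (2, 35)]

def x_opE1 : List (ℕ × ℕ) :=
  x_opE1_0

def x_opE2_0 : List (ℕ × ℕ) :=
  [(2, 60),
    (2, 132),
    (2, 133),
    (2, 134),
    (3, 135),
    (2, 136),
    (3, 137),
    (3, 138),
    (2, 139),
    (2, 140),
    (3, 141),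
    (3, 142),
    (2, 143),
    (2, 144),
    (3, 145),
    (2, 146),
    (2, 147),
    (2, 148),
    (2, 149),
    (3, 150),
    (2, 151),
    (2, 152),
    (2, 153),
    (2, 154),
    (2, 155),
    (3, 156),
    (3, 157),
    (3, 158),
    (3, 159),
    (3, 160),
    (3, 161),
    (3, 162),
    (3, 163),
    (2, 164),
    (2, 165)]

def x_opE2 : List (ℕ × ℕ) :=
  x_opE2_0

def x_g0 : List (ℕ × ℕ) := [(1, 1)]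

def x_g1 : List (ℕ × ℕ) := [(1, 36)]

def x_g2 : List (ℕ × ℕ) := [(1, 60)]

def x_g3 : List (ℕ × ℕ) := [(1, 96)]

def xT_0 : List (List ℕ × List ℕ) :=
  [([], [0, 1, 2, 3, 4, 5, 6, 7, 8, 9]),
    ([0], [1, 2, 0, 3, 4, 5, 6, 7, 8, 9]),
    ([0, 0], [2, 0, 1, 3, 4, 5, 6, 7, 8, 9]),
    ([0, 0, 2, 1, 1, 0], [0, 1, 3, 4, 2, 5, 6, 7, 8, 9]),
    ([0, 2, 1, 1, 0, 0], [0, 3, 2, 4, 1, 5, 6, 7, 8, 9]),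
    ([0, 2, 1, 1, 0, 2, 1, 1, 0], [0, 3, 4, 1, 2, 5, 6, 7, 8, 9]),
    ([2, 1, 1, 0, 0, 0], [3, 1, 2, 4, 0, 5, 6, 7, 8, 9]),
    ([2, 1, 1, 0, 0, 2, 1, 1, 0], [3, 1, 4, 0, 2, 5, 6, 7, 8, 9]),
    ([2, 1, 1, 0, 2, 1, 1, 0, 0], [3, 4, 2, 0, 1, 5, 6, 7, 8, 9]),
    ([2, 1, 1, 0, 2, 1, 1, 0, 2, 1, 1, 0, 2, 1, 1, 0, 0], [0, 1, 4, 2, 3, 5, 6, 7, 8, 9]),
    ([2, 1, 1, 0, 2, 1, 1, 0, 2, 1, 1, 0, 0, 2, 1, 1, 0], [0, 3, 1, 2, 4, 5, 6, 7, 8, 9]),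
    ([2, 1, 1, 0, 2, 1, 1, 0, 0, 0, 2, 1, 1, 0], [2, 3, 0, 1, 4, 5, 6, 7, 8, 9]),
    ([2, 1, 1, 0, 0, 0, 2, 1, 1, 0, 2, 1, 1, 0], [2, 4, 0, 3, 1, 5, 6, 7, 8, 9]),
    ([2, 1, 1, 0, 0, 2, 1, 1, 0, 2, 1, 1, 0, 2, 1, 1, 0], [4, 0, 2, 3, 1, 5, 6, 7, 8, 9]),
    ([0, 2, 1, 1, 0, 2, 1, 1, 0, 2, 1, 1, 0, 2, 1, 1, 0], [4, 1, 2, 0, 3, 5, 6, 7, 8, 9]),
    ([0, 2, 1, 1, 0, 2, 1, 1, 0, 2, 1, 1, 0, 0], [4, 1, 3, 2, 0, 5, 6, 7, 8, 9]),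
    ([2, 1, 1, 0, 0, 2, 1, 1, 0, 2, 1, 1, 0, 2, 1, 1, 0, 2, 1, 1, 0], [0, 2, 3, 1, 4, 5, 6, 7, 8, 9]),
    ([2, 1, 1, 0, 0, 2, 1, 1, 0, 2, 1, 1, 0, 2, 1, 1, 0, 0], [0, 2, 4, 3, 1, 5, 6, 7, 8, 9]),
    ([2, 1, 1, 0, 2, 1, 1, 0, 0, 2, 1, 1, 0, 0, 2, 1, 1, 0], [0, 4, 1, 3, 2, 5, 6, 7, 8, 9]),
    ([2, 1, 1, 0, 2, 1, 1, 0, 0, 2, 1, 1, 0, 0, 0], [0, 4, 2, 1, 3, 5, 6, 7, 8, 9]),
    ([0, 0, 2, 1, 1, 0, 0, 2, 1, 1, 0, 0], [0, 4, 3, 2, 1, 5, 6, 7, 8, 9]),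
    ([0, 2, 1, 1, 0, 2, 1, 1, 0, 2, 1, 1, 0, 0, 2, 1, 1, 0], [1, 3, 2, 0, 4, 5, 6, 7, 8, 9]),
    ([2, 1, 1, 0, 2, 1, 1, 0, 2, 1, 1, 0, 2, 1, 1, 0, 0, 2, 1, 1, 0], [1, 4, 2, 3, 0, 5, 6, 7, 8, 9]),
    ([2, 1, 1, 0, 2, 1, 1, 0, 0, 0, 2, 1, 1, 0, 0], [3, 0, 2, 1, 4, 5, 6, 7, 8, 9]),
    ([2, 1, 1, 0, 2, 1, 1, 0, 2, 1, 1, 0, 0, 2, 1, 1, 0, 0], [3, 1, 0, 2, 4, 5, 6, 7, 8, 9]),
    ([2, 1, 1, 0, 0, 0, 2, 1, 1, 0, 0, 2, 1, 1, 0], [4, 1, 0, 3, 2, 5, 6, 7, 8, 9]),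
    ([0, 2, 1, 1, 0, 0, 2, 1, 1, 0, 0, 0], [4, 3, 2, 1, 0, 5, 6, 7, 8, 9]),
    ([2, 1, 1, 0, 2, 1, 1, 0, 0, 0, 2, 1, 1, 0, 0, 2, 1, 1, 0], [0, 2, 1, 4, 3, 5, 6, 7, 8, 9]),
    ([2, 1, 1, 0, 2, 1, 1, 0, 2, 1, 1, 0, 0, 2, 1, 1, 0, 0, 2, 1, 1, 0], [1, 0, 2, 4, 3, 5, 6, 7, 8, 9]),
    ([2, 1, 1, 0, 2, 1, 1, 0, 2, 1, 1, 0, 0, 2, 1, 1, 0, 0, 0], [1, 0, 3, 2, 4, 5, 6, 7, 8, 9]),
    ([2, 1, 1, 0, 0, 0, 2, 1, 1, 0, 0, 2, 1, 1, 0, 0], [1, 0, 4, 3, 2, 5, 6, 7, 8, 9]),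
    ([0, 2, 1, 1, 0, 2, 1, 1, 0, 2, 1, 1, 0, 0, 2, 1, 1, 0, 0], [3, 2, 1, 0, 4, 5, 6, 7, 8, 9]),
    ([2, 1, 1, 0, 2, 1, 1, 0, 2, 1, 1, 0, 2, 1, 1, 0, 0, 2, 1, 1, 0, 0], [4, 2, 1, 3, 0, 5, 6, 7, 8, 9]),
    ([2, 1, 1, 0, 2, 1, 1, 0, 0, 0, 2, 1, 1, 0, 0, 2, 1, 1, 0, 0], [2, 1, 0, 4, 3, 5, 6, 7, 8, 9]),
    ([0, 2, 1, 1, 0, 2, 1, 1, 0, 2, 1, 1, 0, 0, 2, 1, 1, 0, 0, 0], [2, 1, 3, 0, 4, 5, 6, 7, 8, 9]),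
    ([2, 1, 1, 0, 2, 1, 1, 0, 2, 1, 1, 0, 2, 1, 1, 0, 0, 2, 1, 1, 0, 0, 0], [2, 1, 4, 3, 0, 5, 6, 7, 8, 9]),
    ([2, 1, 1, 0], [1, 2, 3, 4, 0, 5, 6, 7, 8, 9]),
    ([0, 0, 2, 1, 1, 0, 0], [1, 3, 0, 4, 2, 5, 6, 7, 8, 9]),
    ([0, 0, 2, 1, 1, 0, 2, 1, 1, 0], [1, 3, 4, 2, 0, 5, 6, 7, 8, 9]),
    ([0, 2, 1, 1, 0, 0, 0], [3, 2, 0, 4, 1, 5, 6, 7, 8, 9])]

def xT_1 : List (List ℕ × List ℕ) :=
  [([0, 2, 1, 1, 0, 0, 2, 1, 1, 0], [3, 2, 4, 1, 0, 5, 6, 7, 8, 9]),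
    ([2, 1, 1, 0, 2, 1, 1, 0, 2, 1, 1, 0], [3, 4, 0, 1, 2, 5, 6, 7, 8, 9]),
    ([2, 1, 1, 0, 0, 0, 2, 1, 1, 0], [1, 2, 4, 0, 3, 5, 6, 7, 8, 9]),
    ([2, 1, 1, 0, 2, 1, 1, 0, 0, 2, 1, 1, 0], [4, 2, 0, 1, 3, 5, 6, 7, 8, 9]),
    ([2, 1, 1, 0, 2, 1, 1, 0, 0, 0], [4, 2, 3, 0, 1, 5, 6, 7, 8, 9]),
    ([2, 1, 1, 0, 0, 2, 1, 1, 0, 2, 1, 1, 0], [1, 4, 0, 2, 3, 5, 6, 7, 8, 9]),
    ([2, 1, 1, 0, 0, 2, 1, 1, 0, 0], [1, 4, 3, 0, 2, 5, 6, 7, 8, 9]),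
    ([2, 1, 1, 0, 0, 2, 1, 1, 0, 0, 2, 1, 1, 0], [4, 3, 0, 2, 1, 5, 6, 7, 8, 9]),
    ([0, 2, 1, 1, 0], [2, 0, 3, 4, 1, 5, 6, 7, 8, 9]),
    ([2, 1, 1, 0, 0], [2, 3, 1, 4, 0, 5, 6, 7, 8, 9]),
    ([2, 1, 1, 0, 2, 1, 1, 0], [2, 3, 4, 0, 1, 5, 6, 7, 8, 9]),
    ([0, 0, 2, 1, 1, 0, 0, 0], [3, 0, 1, 4, 2, 5, 6, 7, 8, 9]),
    ([0, 0, 2, 1, 1, 0, 0, 2, 1, 1, 0], [3, 0, 4, 2, 1, 5, 6, 7, 8, 9]),
    ([0, 2, 1, 1, 0, 2, 1, 1, 0, 2, 1, 1, 0], [3, 4, 1, 2, 0, 5, 6, 7, 8, 9]),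
    ([2, 1, 1, 0, 2, 1, 1, 0, 0, 2, 1, 1, 0, 0], [2, 0, 4, 1, 3, 5, 6, 7, 8, 9]),
    ([2, 1, 1, 0, 2, 1, 1, 0, 2, 1, 1, 0, 2, 1, 1, 0], [4, 0, 1, 2, 3, 5, 6, 7, 8, 9]),
    ([2, 1, 1, 0, 2, 1, 1, 0, 2, 1, 1, 0, 0], [4, 0, 3, 1, 2, 5, 6, 7, 8, 9]),
    ([2, 1, 1, 0, 0, 0, 2, 1, 1, 0, 0], [2, 4, 1, 0, 3, 5, 6, 7, 8, 9]),
    ([0, 2, 1, 1, 0, 0, 2, 1, 1, 0, 0], [2, 4, 3, 1, 0, 5, 6, 7, 8, 9]),
    ([2, 1, 1, 0, 0, 2, 1, 1, 0, 0, 0], [4, 3, 1, 0, 2, 5, 6, 7, 8, 9]),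
    ([5, 3, 4, 5, 3], [0, 1, 2, 3, 4, 6, 7, 5, 8, 9]),
    ([5, 3, 4, 5, 3, 0], [1, 2, 0, 3, 4, 6, 7, 5, 8, 9]),
    ([5, 3, 4, 5, 3, 0, 0], [2, 0, 1, 3, 4, 6, 7, 5, 8, 9]),
    ([5, 3, 4, 5, 3, 0, 0, 2, 1, 1, 0], [0, 1, 3, 4, 2, 6, 7, 5, 8, 9]),
    ([5, 3, 4, 5, 3, 0, 2, 1, 1, 0, 0], [0, 3, 2, 4, 1, 6, 7, 5, 8, 9]),
    ([5, 3, 4, 5, 3, 0, 2, 1, 1, 0, 2, 1, 1, 0], [0, 3, 4, 1, 2, 6, 7, 5, 8, 9]),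
    ([5, 3, 4, 5, 3, 2, 1, 1, 0, 0, 0], [3, 1, 2, 4, 0, 6, 7, 5, 8, 9]),
    ([5, 3, 4, 5, 3, 2, 1, 1, 0, 0, 2, 1, 1, 0], [3, 1, 4, 0, 2, 6, 7, 5, 8, 9]),
    ([5, 3, 4, 5, 3, 2, 1, 1, 0, 2, 1, 1, 0, 0], [3, 4, 2, 0, 1, 6, 7, 5, 8, 9]),
    ([5, 3, 4, 5, 3, 2, 1, 1, 0, 2, 1, 1, 0, 2, 1, 1, 0, 2, 1, 1, 0, 0], [0, 1, 4, 2, 3, 6, 7, 5, 8, 9]),
    ([5, 3, 4, 5, 3, 2, 1, 1, 0, 2, 1, 1, 0, 2, 1, 1, 0, 0, 2, 1, 1, 0], [0, 3, 1, 2, 4, 6, 7, 5, 8, 9]),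
    ([5, 3, 4, 5, 3, 2, 1, 1, 0, 2, 1, 1, 0, 0, 0, 2, 1, 1, 0], [2, 3, 0, 1, 4, 6, 7, 5, 8, 9]),
    ([5, 3, 4, 5, 3, 2, 1, 1, 0, 0, 0, 2, 1, 1, 0, 2, 1, 1, 0], [2, 4, 0, 3, 1, 6, 7, 5, 8, 9]),
    ([5, 3, 4, 5, 3, 2, 1, 1, 0, 0, 2, 1, 1, 0, 2, 1, 1, 0, 2, 1, 1, 0], [4, 0, 2, 3, 1, 6, 7, 5, 8, 9]),
    ([5, 3, 4, 5, 3, 0, 2, 1, 1, 0, 2, 1, 1, 0, 2, 1, 1, 0, 2, 1, 1, 0], [4, 1, 2, 0, 3, 6, 7, 5, 8, 9]),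
    ([5, 3, 4, 5, 3, 0, 2, 1, 1, 0, 2, 1, 1, 0, 2, 1, 1, 0, 0], [4, 1, 3, 2, 0, 6, 7, 5, 8, 9]),
    ([5, 3, 4, 5, 3, 2, 1, 1, 0, 0, 2, 1, 1, 0, 2, 1, 1, 0, 2, 1, 1, 0, 2, 1, 1, 0], [0, 2, 3, 1, 4, 6, 7, 5, 8, 9]),
    ([5, 3, 4, 5, 3, 2, 1, 1, 0, 0, 2, 1, 1, 0, 2, 1, 1, 0, 2, 1, 1, 0, 0], [0, 2, 4, 3, 1, 6, 7, 5, 8, 9]),
    ([5, 3, 4, 5, 3, 2, 1, 1, 0, 2, 1, 1, 0, 0, 2, 1, 1, 0, 0, 2, 1, 1, 0], [0, 4, 1, 3, 2, 6, 7, 5, 8, 9]),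
    ([5, 3, 4, 5, 3, 2, 1, 1, 0, 2, 1, 1, 0, 0, 2, 1, 1, 0, 0, 0], [0, 4, 2, 1, 3, 6, 7, 5, 8, 9])]

def xT_2 : List (List ℕ × List ℕ) :=
  [([5, 3, 4, 5, 3, 0, 0, 2, 1, 1, 0, 0, 2, 1, 1, 0, 0], [0, 4, 3, 2, 1, 6, 7, 5, 8, 9]),
    ([5, 3, 4, 5, 3, 0, 2, 1, 1, 0, 2, 1, 1, 0, 2, 1, 1, 0, 0, 2, 1, 1, 0], [1, 3, 2, 0, 4, 6, 7, 5, 8, 9]),
    ([5, 3, 4, 5, 3, 2, 1, 1, 0, 2, 1, 1, 0, 2, 1, 1, 0, 2, 1, 1, 0, 0, 2, 1, 1, 0], [1, 4, 2, 3, 0, 6, 7, 5, 8, 9]),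
    ([5, 3, 4, 5, 3, 2, 1, 1, 0, 2, 1, 1, 0, 0, 0, 2, 1, 1, 0, 0], [3, 0, 2, 1, 4, 6, 7, 5, 8, 9]),
    ([5, 3, 4, 5, 3, 2, 1, 1, 0, 2, 1, 1, 0, 2, 1, 1, 0, 0, 2, 1, 1, 0, 0], [3, 1, 0, 2, 4, 6, 7, 5, 8, 9]),
    ([5, 3, 4, 5, 3, 2, 1, 1, 0, 0, 0, 2, 1, 1, 0, 0, 2, 1, 1, 0], [4, 1, 0, 3, 2, 6, 7, 5, 8, 9]),
    ([5, 3, 4, 5, 3, 0, 2, 1, 1, 0, 0, 2, 1, 1, 0, 0, 0], [4, 3, 2, 1, 0, 6, 7, 5, 8, 9]),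
    ([5, 3, 4, 5, 3, 2, 1, 1, 0, 2, 1, 1, 0, 0, 0, 2, 1, 1, 0, 0, 2, 1, 1, 0], [0, 2, 1, 4, 3, 6, 7, 5, 8, 9]),
    ([5, 3, 4, 5, 3, 2, 1, 1, 0, 2, 1, 1, 0, 2, 1, 1, 0, 0, 2, 1, 1, 0, 0, 2, 1, 1, 0], [1, 0, 2, 4, 3, 6, 7, 5, 8, 9]),
    ([5, 3, 4, 5, 3, 2, 1, 1, 0, 2, 1, 1, 0, 2, 1, 1, 0, 0, 2, 1, 1, 0, 0, 0], [1, 0, 3, 2, 4, 6, 7, 5, 8, 9]),
    ([5, 3, 4, 5, 3, 2, 1, 1, 0, 0, 0, 2, 1, 1, 0, 0, 2, 1, 1, 0, 0], [1, 0, 4, 3, 2, 6, 7, 5, 8, 9]),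
    ([5, 3, 4, 5, 3, 0, 2, 1, 1, 0, 2, 1, 1, 0, 2, 1, 1, 0, 0, 2, 1, 1, 0, 0], [3, 2, 1, 0, 4, 6, 7, 5, 8, 9]),
    ([5, 3, 4, 5, 3, 2, 1, 1, 0, 2, 1, 1, 0, 2, 1, 1, 0, 2, 1, 1, 0, 0, 2, 1, 1, 0, 0], [4, 2, 1, 3, 0, 6, 7, 5, 8, 9]),
    ([5, 3, 4, 5, 3, 2, 1, 1, 0, 2, 1, 1, 0, 0, 0, 2, 1, 1, 0, 0, 2, 1, 1, 0, 0], [2, 1, 0, 4, 3, 6, 7, 5, 8, 9]),
    ([5, 3, 4, 5, 3, 0, 2, 1, 1, 0, 2, 1, 1, 0, 2, 1, 1, 0, 0, 2, 1, 1, 0, 0, 0], [2, 1, 3, 0, 4, 6, 7, 5, 8, 9]),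
    ([5, 3, 4, 5, 3, 2, 1, 1, 0, 2, 1, 1, 0, 2, 1, 1, 0, 2, 1, 1, 0, 0, 2, 1, 1, 0, 0, 0], [2, 1, 4, 3, 0, 6, 7, 5, 8, 9]),
    ([3, 5, 7, 4, 6, 3, 5], [0, 1, 2, 3, 4, 6, 7, 8, 9, 5]),
    ([3, 5, 7, 4, 6, 3, 5, 0], [1, 2, 0, 3, 4, 6, 7, 8, 9, 5]),
    ([3, 5, 7, 4, 6, 3, 5, 0, 0], [2, 0, 1, 3, 4, 6, 7, 8, 9, 5]),
    ([3, 5, 7, 4, 6, 3, 5, 0, 0, 2, 1, 1, 0], [0, 1, 3, 4, 2, 6, 7, 8, 9, 5]),
    ([3, 5, 7, 4, 6, 3, 5, 0, 2, 1, 1, 0, 0], [0, 3, 2, 4, 1, 6, 7, 8, 9, 5]),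
    ([3, 5, 7, 4, 6, 3, 5, 0, 2, 1, 1, 0, 2, 1, 1, 0], [0, 3, 4, 1, 2, 6, 7, 8, 9, 5]),
    ([3, 5, 7, 4, 6, 3, 5, 2, 1, 1, 0, 0, 0], [3, 1, 2, 4, 0, 6, 7, 8, 9, 5]),
    ([3, 5, 7, 4, 6, 3, 5, 2, 1, 1, 0, 0, 2, 1, 1, 0], [3, 1, 4, 0, 2, 6, 7, 8, 9, 5]),
    ([3, 5, 7, 4, 6, 3, 5, 2, 1, 1, 0, 2, 1, 1, 0, 0], [3, 4, 2, 0, 1, 6, 7, 8, 9, 5]),
    ([3, 5, 7, 4, 6, 3, 5, 2, 1, 1, 0, 2, 1, 1, 0, 2, 1, 1, 0, 2, 1, 1, 0, 0], [0, 1, 4, 2, 3, 6, 7, 8, 9, 5]),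
    ([3, 5, 7, 4, 6, 3, 5, 2, 1, 1, 0, 2, 1, 1, 0, 2, 1, 1, 0, 0, 2, 1, 1, 0], [0, 3, 1, 2, 4, 6, 7, 8, 9, 5]),
    ([3, 5, 7, 4, 6, 3, 5, 2, 1, 1, 0, 2, 1, 1, 0, 0, 0, 2, 1, 1, 0], [2, 3, 0, 1, 4, 6, 7, 8, 9, 5]),
    ([3, 5, 7, 4, 6, 3, 5, 2, 1, 1, 0, 0, 0, 2, 1, 1, 0, 2, 1, 1, 0], [2, 4, 0, 3, 1, 6, 7, 8, 9, 5]),
    ([3, 5, 7, 4, 6, 3, 5, 2, 1, 1, 0, 0, 2, 1, 1, 0, 2, 1, 1, 0, 2, 1, 1, 0], [4, 0, 2, 3, 1, 6, 7, 8, 9, 5]),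
    ([3, 5, 7, 4, 6, 3, 5, 0, 2, 1, 1, 0, 2, 1, 1, 0, 2, 1, 1, 0, 2, 1, 1, 0], [4, 1, 2, 0, 3, 6, 7, 8, 9, 5]),
    ([3, 5, 7, 4, 6, 3, 5, 0, 2, 1, 1, 0, 2, 1, 1, 0, 2, 1, 1, 0, 0], [4, 1, 3, 2, 0, 6, 7, 8, 9, 5]),
    ([3, 5, 7, 4, 6, 3, 5, 2, 1, 1, 0, 0, 2, 1, 1, 0, 2, 1, 1, 0, 2, 1, 1, 0, 2, 1, 1, 0], [0, 2, 3, 1, 4, 6, 7, 8, 9, 5]),
    ([3, 5, 7, 4, 6, 3, 5, 2, 1, 1, 0, 0, 2, 1, 1, 0, 2, 1, 1, 0, 2, 1, 1, 0, 0], [0, 2, 4, 3, 1, 6, 7, 8, 9, 5]),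
    ([3, 5, 7, 4, 6, 3, 5, 2, 1, 1, 0, 2, 1, 1, 0, 0, 2, 1, 1, 0, 0, 2, 1, 1, 0], [0, 4, 1, 3, 2, 6, 7, 8, 9, 5]),
    ([3, 5, 7, 4, 6, 3, 5, 2, 1, 1, 0, 2, 1, 1, 0, 0, 2, 1, 1, 0, 0, 0], [0, 4, 2, 1, 3, 6, 7, 8, 9, 5]),
    ([3, 5, 7, 4, 6, 3, 5, 0, 0, 2, 1, 1, 0, 0, 2, 1, 1, 0, 0], [0, 4, 3, 2, 1, 6, 7, 8, 9, 5]),
    ([3, 5, 7, 4, 6, 3, 5, 0, 2, 1, 1, 0, 2, 1, 1, 0, 2, 1, 1, 0, 0, 2, 1, 1, 0], [1, 3, 2, 0, 4, 6, 7, 8, 9, 5]),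
    ([3, 5, 7, 4, 6, 3, 5, 2, 1, 1, 0, 2, 1, 1, 0, 2, 1, 1, 0, 2, 1, 1, 0, 0, 2, 1, 1, 0], [1, 4, 2, 3, 0, 6, 7, 8, 9, 5]),
    ([3, 5, 7, 4, 6, 3, 5, 2, 1, 1, 0, 2, 1, 1, 0, 0, 0, 2, 1, 1, 0, 0], [3, 0, 2, 1, 4, 6, 7, 8, 9, 5])]

def xT_3 : List (List ℕ × List ℕ) :=
  [([3, 5, 7, 4, 6, 3, 5, 2, 1, 1, 0, 2, 1, 1, 0, 2, 1, 1, 0, 0, 2, 1, 1, 0, 0], [3, 1, 0, 2, 4, 6, 7, 8, 9, 5]),
    ([3, 5, 7, 4, 6, 3, 5, 2, 1, 1, 0, 0, 0, 2, 1, 1, 0, 0, 2, 1, 1, 0], [4, 1, 0, 3, 2, 6, 7, 8, 9, 5]),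
    ([3, 5, 7, 4, 6, 3, 5, 0, 2, 1, 1, 0, 0, 2, 1, 1, 0, 0, 0], [4, 3, 2, 1, 0, 6, 7, 8, 9, 5]),
    ([3, 5, 7, 4, 6, 3, 5, 2, 1, 1, 0, 2, 1, 1, 0, 0, 0, 2, 1, 1, 0, 0, 2, 1, 1, 0], [0, 2, 1, 4, 3, 6, 7, 8, 9, 5]),
    ([3, 5, 7, 4, 6, 3, 5, 2, 1, 1, 0, 2, 1, 1, 0, 2, 1, 1, 0, 0, 2, 1, 1, 0, 0, 2, 1, 1, 0], [1, 0, 2, 4, 3, 6, 7, 8, 9, 5]),
    ([3, 5, 7, 4, 6, 3, 5, 2, 1, 1, 0, 2, 1, 1, 0, 2, 1, 1, 0, 0, 2, 1, 1, 0, 0, 0], [1, 0, 3, 2, 4, 6, 7, 8, 9, 5]),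
    ([3, 5, 7, 4, 6, 3, 5, 2, 1, 1, 0, 0, 0, 2, 1, 1, 0, 0, 2, 1, 1, 0, 0], [1, 0, 4, 3, 2, 6, 7, 8, 9, 5]),
    ([3, 5, 7, 4, 6, 3, 5, 0, 2, 1, 1, 0, 2, 1, 1, 0, 2, 1, 1, 0, 0, 2, 1, 1, 0, 0], [3, 2, 1, 0, 4, 6, 7, 8, 9, 5]),
    ([3, 5, 7, 4, 6, 3, 5, 2, 1, 1, 0, 2, 1, 1, 0, 2, 1, 1, 0, 2, 1, 1, 0, 0, 2, 1, 1, 0, 0], [4, 2, 1, 3, 0, 6, 7, 8, 9, 5]),
    ([3, 5, 7, 4, 6, 3, 5, 2, 1, 1, 0, 2, 1, 1, 0, 0, 0, 2, 1, 1, 0, 0, 2, 1, 1, 0, 0], [2, 1, 0, 4, 3, 6, 7, 8, 9, 5]),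
    ([3, 5, 7, 4, 6, 3, 5, 0, 2, 1, 1, 0, 2, 1, 1, 0, 2, 1, 1, 0, 0, 2, 1, 1, 0, 0, 0], [2, 1, 3, 0, 4, 6, 7, 8, 9, 5]),
    ([3, 5, 7, 4, 6, 3, 5, 2, 1, 1, 0, 2, 1, 1, 0, 2, 1, 1, 0, 2, 1, 1, 0, 0, 2, 1, 1, 0, 0, 0], [2, 1, 4, 3, 0, 6, 7, 8, 9, 5]),
    ([5, 3, 4, 5, 3, 5, 3, 4, 5, 3], [0, 1, 2, 3, 4, 7, 5, 6, 8, 9]),
    ([5, 3, 4, 5, 3, 5, 3, 4, 5, 3, 3, 5, 7, 4, 6, 3, 5], [0, 1, 2, 3, 4, 5, 6, 8, 9, 7]),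
    ([5, 3, 4, 5, 3, 3, 5, 7, 4, 6, 3, 5, 5, 3, 4, 5, 3], [0, 1, 2, 3, 4, 5, 8, 7, 9, 6]),
    ([5, 3, 4, 5, 3, 3, 5, 7, 4, 6, 3, 5, 3, 5, 7, 4, 6, 3, 5], [0, 1, 2, 3, 4, 5, 8, 9, 6, 7]),
    ([3, 5, 7, 4, 6, 3, 5, 5, 3, 4, 5, 3, 5, 3, 4, 5, 3], [0, 1, 2, 3, 4, 8, 6, 7, 9, 5]),
    ([3, 5, 7, 4, 6, 3, 5, 5, 3, 4, 5, 3, 3, 5, 7, 4, 6, 3, 5], [0, 1, 2, 3, 4, 8, 6, 9, 5, 7]),
    ([3, 5, 7, 4, 6, 3, 5, 3, 5, 7, 4, 6, 3, 5, 5, 3, 4, 5, 3], [0, 1, 2, 3, 4, 8, 9, 7, 5, 6]),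
    ([3, 5, 7, 4, 6, 3, 5, 3, 5, 7, 4, 6, 3, 5, 3, 5, 7, 4, 6, 3, 5, 3, 5, 7, 4, 6, 3, 5, 5, 3, 4, 5, 3], [0, 1, 2, 3, 4, 5, 6, 9, 7, 8]),
    ([3, 5, 7, 4, 6, 3, 5, 3, 5, 7, 4, 6, 3, 5, 3, 5, 7, 4, 6, 3, 5, 5, 3, 4, 5, 3, 3, 5, 7, 4, 6, 3, 5], [0, 1, 2, 3, 4, 5, 8, 6, 7, 9]),
    ([3, 5, 7, 4, 6, 3, 5, 3, 5, 7, 4, 6, 3, 5, 5, 3, 4, 5, 3, 5, 3, 4, 5, 3, 3, 5, 7, 4, 6, 3, 5], [0, 1, 2, 3, 4, 7, 8, 5, 6, 9]),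
    ([3, 5, 7, 4, 6, 3, 5, 5, 3, 4, 5, 3, 5, 3, 4, 5, 3, 3, 5, 7, 4, 6, 3, 5, 3, 5, 7, 4, 6, 3, 5], [0, 1, 2, 3, 4, 7, 9, 5, 8, 6]),
    ([3, 5, 7, 4, 6, 3, 5, 5, 3, 4, 5, 3, 3, 5, 7, 4, 6, 3, 5, 3, 5, 7, 4, 6, 3, 5, 3, 5, 7, 4, 6, 3, 5], [0, 1, 2, 3, 4, 9, 5, 7, 8, 6]),
    ([5, 3, 4, 5, 3, 3, 5, 7, 4, 6, 3, 5, 3, 5, 7, 4, 6, 3, 5, 3, 5, 7, 4, 6, 3, 5, 3, 5, 7, 4, 6, 3, 5], [0, 1, 2, 3, 4, 9, 6, 7, 5, 8]),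
    ([5, 3, 4, 5, 3, 3, 5, 7, 4, 6, 3, 5, 3, 5, 7, 4, 6, 3, 5, 3, 5, 7, 4, 6, 3, 5, 5, 3, 4, 5, 3], [0, 1, 2, 3, 4, 9, 6, 8, 7, 5]),
    ([3, 5, 7, 4, 6, 3, 5, 5, 3, 4, 5, 3, 3, 5, 7, 4, 6, 3, 5, 3, 5, 7, 4, 6, 3, 5, 3, 5, 7, 4, 6, 3, 5, 3, 5, 7, 4, 6, 3, 5], [0, 1, 2, 3, 4, 5, 7, 8, 6, 9]),
    ([3, 5, 7, 4, 6, 3, 5, 5, 3, 4, 5, 3, 3, 5, 7, 4, 6, 3, 5, 3, 5, 7, 4, 6, 3, 5, 3, 5, 7, 4, 6, 3, 5, 5, 3, 4, 5, 3], [0, 1, 2, 3, 4, 5, 7, 9, 8, 6]),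
    ([3, 5, 7, 4, 6, 3, 5, 3, 5, 7, 4, 6, 3, 5, 5, 3, 4, 5, 3, 3, 5, 7, 4, 6, 3, 5, 5, 3, 4, 5, 3, 3, 5, 7, 4, 6, 3, 5], [0, 1, 2, 3, 4, 5, 9, 6, 8, 7]),
    ([3, 5, 7, 4, 6, 3, 5, 3, 5, 7, 4, 6, 3, 5, 5, 3, 4, 5, 3, 3, 5, 7, 4, 6, 3, 5, 5, 3, 4, 5, 3, 5, 3, 4, 5, 3], [0, 1, 2, 3, 4, 5, 9, 7, 6, 8]),
    ([5, 3, 4, 5, 3, 5, 3, 4, 5, 3, 3, 5, 7, 4, 6, 3, 5, 5, 3, 4, 5, 3, 3, 5, 7, 4, 6, 3, 5, 5, 3, 4, 5, 3], [0, 1, 2, 3, 4, 5, 9, 8, 7, 6]),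
    ([5, 3, 4, 5, 3, 3, 5, 7, 4, 6, 3, 5, 3, 5, 7, 4, 6, 3, 5, 3, 5, 7, 4, 6, 3, 5, 5, 3, 4, 5, 3, 3, 5, 7, 4, 6, 3, 5], [0, 1, 2, 3, 4, 6, 8, 7, 5, 9]),
    ([3, 5, 7, 4, 6, 3, 5, 3, 5, 7, 4, 6, 3, 5, 3, 5, 7, 4, 6, 3, 5, 3, 5, 7, 4, 6, 3, 5, 5, 3, 4, 5, 3, 3, 5, 7, 4, 6, 3, 5], [0, 1, 2, 3, 4, 6, 9, 7, 8, 5]),
    ([3, 5, 7, 4, 6, 3, 5, 3, 5, 7, 4, 6, 3, 5, 5, 3, 4, 5, 3, 5, 3, 4, 5, 3, 3, 5, 7, 4, 6, 3, 5, 5, 3, 4, 5, 3], [0, 1, 2, 3, 4, 8, 5, 7, 6, 9]),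
    ([3, 5, 7, 4, 6, 3, 5, 3, 5, 7, 4, 6, 3, 5, 3, 5, 7, 4, 6, 3, 5, 5, 3, 4, 5, 3, 3, 5, 7, 4, 6, 3, 5, 5, 3, 4, 5, 3], [0, 1, 2, 3, 4, 8, 6, 5, 7, 9]),
    ([3, 5, 7, 4, 6, 3, 5, 5, 3, 4, 5, 3, 5, 3, 4, 5, 3, 3, 5, 7, 4, 6, 3, 5, 5, 3, 4, 5, 3, 3, 5, 7, 4, 6, 3, 5], [0, 1, 2, 3, 4, 9, 6, 5, 8, 7]),
    ([5, 3, 4, 5, 3, 3, 5, 7, 4, 6, 3, 5, 5, 3, 4, 5, 3, 3, 5, 7, 4, 6, 3, 5, 5, 3, 4, 5, 3, 5, 3, 4, 5, 3], [0, 1, 2, 3, 4, 9, 8, 7, 6, 5]),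
    ([3, 5, 7, 4, 6, 3, 5, 3, 5, 7, 4, 6, 3, 5, 5, 3, 4, 5, 3, 5, 3, 4, 5, 3, 3, 5, 7, 4, 6, 3, 5, 5, 3, 4, 5, 3, 3, 5, 7, 4, 6, 3, 5], [0, 1, 2, 3, 4, 5, 7, 6, 9, 8]),
    ([3, 5, 7, 4, 6, 3, 5, 3, 5, 7, 4, 6, 3, 5, 3, 5, 7, 4, 6, 3, 5, 5, 3, 4, 5, 3, 3, 5, 7, 4, 6, 3, 5, 5, 3, 4, 5, 3, 3, 5, 7, 4, 6, 3, 5], [0, 1, 2, 3, 4, 6, 5, 7, 9, 8]),
    ([3, 5, 7, 4, 6, 3, 5, 3, 5, 7, 4, 6, 3, 5, 3, 5, 7, 4, 6, 3, 5, 5, 3, 4, 5, 3, 3, 5, 7, 4, 6, 3, 5, 5, 3, 4, 5, 3, 5, 3, 4, 5, 3], [0, 1, 2, 3, 4, 6, 5, 8, 7, 9])]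

def xT_4 : List (List ℕ × List ℕ) :=
  [([3, 5, 7, 4, 6, 3, 5, 5, 3, 4, 5, 3, 5, 3, 4, 5, 3, 3, 5, 7, 4, 6, 3, 5, 5, 3, 4, 5, 3, 3, 5, 7, 4, 6, 3, 5, 5, 3, 4, 5, 3], [0, 1, 2, 3, 4, 6, 5, 9, 8, 7]),
    ([5, 3, 4, 5, 3, 3, 5, 7, 4, 6, 3, 5, 3, 5, 7, 4, 6, 3, 5, 3, 5, 7, 4, 6, 3, 5, 5, 3, 4, 5, 3, 3, 5, 7, 4, 6, 3, 5, 5, 3, 4, 5, 3], [0, 1, 2, 3, 4, 8, 7, 6, 5, 9]),
    ([3, 5, 7, 4, 6, 3, 5, 3, 5, 7, 4, 6, 3, 5, 3, 5, 7, 4, 6, 3, 5, 3, 5, 7, 4, 6, 3, 5, 5, 3, 4, 5, 3, 3, 5, 7, 4, 6, 3, 5, 5, 3, 4, 5, 3], [0, 1, 2, 3, 4, 9, 7, 6, 8, 5]),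
    ([3, 5, 7, 4, 6, 3, 5, 3, 5, 7, 4, 6, 3, 5, 5, 3, 4, 5, 3, 5, 3, 4, 5, 3, 3, 5, 7, 4, 6, 3, 5, 5, 3, 4, 5, 3, 3, 5, 7, 4, 6, 3, 5, 5, 3, 4, 5, 3], [0, 1, 2, 3, 4, 7, 6, 5, 9, 8]),
    ([5, 3, 4, 5, 3, 3, 5, 7, 4, 6, 3, 5, 3, 5, 7, 4, 6, 3, 5, 3, 5, 7, 4, 6, 3, 5, 5, 3, 4, 5, 3, 3, 5, 7, 4, 6, 3, 5, 5, 3, 4, 5, 3, 5, 3, 4, 5, 3], [0, 1, 2, 3, 4, 7, 6, 8, 5, 9]),
    ([3, 5, 7, 4, 6, 3, 5, 3, 5, 7, 4, 6, 3, 5, 3, 5, 7, 4, 6, 3, 5, 3, 5, 7, 4, 6, 3, 5, 5, 3, 4, 5, 3, 3, 5, 7, 4, 6, 3, 5, 5, 3, 4, 5, 3, 5, 3, 4, 5, 3], [0, 1, 2, 3, 4, 7, 6, 9, 8, 5]),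
    ([5, 3, 4, 5, 3, 5, 3, 4, 5, 3, 3, 5, 7, 4, 6, 3, 5, 5, 3, 4, 5, 3], [0, 1, 2, 3, 4, 6, 8, 5, 9, 7]),
    ([5, 3, 4, 5, 3, 5, 3, 4, 5, 3, 3, 5, 7, 4, 6, 3, 5, 3, 5, 7, 4, 6, 3, 5], [0, 1, 2, 3, 4, 6, 8, 9, 7, 5]),
    ([5, 3, 4, 5, 3, 3, 5, 7, 4, 6, 3, 5, 5, 3, 4, 5, 3, 5, 3, 4, 5, 3], [0, 1, 2, 3, 4, 8, 7, 5, 9, 6]),
    ([5, 3, 4, 5, 3, 3, 5, 7, 4, 6, 3, 5, 5, 3, 4, 5, 3, 3, 5, 7, 4, 6, 3, 5], [0, 1, 2, 3, 4, 8, 7, 9, 6, 5]),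
    ([3, 5, 7, 4, 6, 3, 5, 3, 5, 7, 4, 6, 3, 5, 3, 5, 7, 4, 6, 3, 5], [0, 1, 2, 3, 4, 8, 9, 5, 6, 7]),
    ([3, 5, 7, 4, 6, 3, 5, 5, 3, 4, 5, 3, 5, 3, 4, 5, 3, 3, 5, 7, 4, 6, 3, 5], [0, 1, 2, 3, 4, 6, 7, 9, 5, 8]),
    ([3, 5, 7, 4, 6, 3, 5, 3, 5, 7, 4, 6, 3, 5, 5, 3, 4, 5, 3, 3, 5, 7, 4, 6, 3, 5], [0, 1, 2, 3, 4, 9, 7, 5, 6, 8]),
    ([3, 5, 7, 4, 6, 3, 5, 3, 5, 7, 4, 6, 3, 5, 5, 3, 4, 5, 3, 5, 3, 4, 5, 3], [0, 1, 2, 3, 4, 9, 7, 8, 5, 6]),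
    ([3, 5, 7, 4, 6, 3, 5, 5, 3, 4, 5, 3, 3, 5, 7, 4, 6, 3, 5, 3, 5, 7, 4, 6, 3, 5], [0, 1, 2, 3, 4, 6, 9, 5, 7, 8]),
    ([3, 5, 7, 4, 6, 3, 5, 5, 3, 4, 5, 3, 3, 5, 7, 4, 6, 3, 5, 5, 3, 4, 5, 3], [0, 1, 2, 3, 4, 6, 9, 8, 5, 7]),
    ([3, 5, 7, 4, 6, 3, 5, 5, 3, 4, 5, 3, 3, 5, 7, 4, 6, 3, 5, 5, 3, 4, 5, 3, 3, 5, 7, 4, 6, 3, 5], [0, 1, 2, 3, 4, 9, 8, 5, 7, 6]),
    ([5, 3, 4, 5, 3, 3, 5, 7, 4, 6, 3, 5], [0, 1, 2, 3, 4, 7, 5, 8, 9, 6]),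
    ([3, 5, 7, 4, 6, 3, 5, 5, 3, 4, 5, 3], [0, 1, 2, 3, 4, 7, 8, 6, 9, 5]),
    ([3, 5, 7, 4, 6, 3, 5, 3, 5, 7, 4, 6, 3, 5], [0, 1, 2, 3, 4, 7, 8, 9, 5, 6]),
    ([5, 3, 4, 5, 3, 5, 3, 4, 5, 3, 3, 5, 7, 4, 6, 3, 5, 5, 3, 4, 5, 3, 5, 3, 4, 5, 3], [0, 1, 2, 3, 4, 8, 5, 6, 9, 7]),
    ([5, 3, 4, 5, 3, 5, 3, 4, 5, 3, 3, 5, 7, 4, 6, 3, 5, 5, 3, 4, 5, 3, 3, 5, 7, 4, 6, 3, 5], [0, 1, 2, 3, 4, 8, 5, 9, 7, 6]),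
    ([5, 3, 4, 5, 3, 3, 5, 7, 4, 6, 3, 5, 3, 5, 7, 4, 6, 3, 5, 3, 5, 7, 4, 6, 3, 5], [0, 1, 2, 3, 4, 8, 9, 6, 7, 5]),
    ([3, 5, 7, 4, 6, 3, 5, 3, 5, 7, 4, 6, 3, 5, 5, 3, 4, 5, 3, 3, 5, 7, 4, 6, 3, 5, 5, 3, 4, 5, 3], [0, 1, 2, 3, 4, 7, 5, 9, 6, 8]),
    ([3, 5, 7, 4, 6, 3, 5, 3, 5, 7, 4, 6, 3, 5, 3, 5, 7, 4, 6, 3, 5, 3, 5, 7, 4, 6, 3, 5], [0, 1, 2, 3, 4, 9, 5, 6, 7, 8]),
    ([3, 5, 7, 4, 6, 3, 5, 3, 5, 7, 4, 6, 3, 5, 3, 5, 7, 4, 6, 3, 5, 5, 3, 4, 5, 3], [0, 1, 2, 3, 4, 9, 5, 8, 6, 7]),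
    ([3, 5, 7, 4, 6, 3, 5, 5, 3, 4, 5, 3, 5, 3, 4, 5, 3, 3, 5, 7, 4, 6, 3, 5, 5, 3, 4, 5, 3], [0, 1, 2, 3, 4, 7, 9, 6, 5, 8]),
    ([5, 3, 4, 5, 3, 3, 5, 7, 4, 6, 3, 5, 5, 3, 4, 5, 3, 3, 5, 7, 4, 6, 3, 5, 5, 3, 4, 5, 3], [0, 1, 2, 3, 4, 7, 9, 8, 6, 5]),
    ([3, 5, 7, 4, 6, 3, 5, 5, 3, 4, 5, 3, 3, 5, 7, 4, 6, 3, 5, 5, 3, 4, 5, 3, 5, 3, 4, 5, 3], [0, 1, 2, 3, 4, 9, 8, 6, 5, 7]),
    ([5, 3, 4, 5, 3, 5, 3, 4, 5, 3, 0], [1, 2, 0, 3, 4, 7, 5, 6, 8, 9]),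
    ([5, 3, 4, 5, 3, 5, 3, 4, 5, 3, 3, 5, 7, 4, 6, 3, 5, 0], [1, 2, 0, 3, 4, 5, 6, 8, 9, 7]),
    ([5, 3, 4, 5, 3, 3, 5, 7, 4, 6, 3, 5, 5, 3, 4, 5, 3, 0], [1, 2, 0, 3, 4, 5, 8, 7, 9, 6]),
    ([5, 3, 4, 5, 3, 3, 5, 7, 4, 6, 3, 5, 3, 5, 7, 4, 6, 3, 5, 0], [1, 2, 0, 3, 4, 5, 8, 9, 6, 7]),
    ([3, 5, 7, 4, 6, 3, 5, 5, 3, 4, 5, 3, 5, 3, 4, 5, 3, 0], [1, 2, 0, 3, 4, 8, 6, 7, 9, 5]),
    ([3, 5, 7, 4, 6, 3, 5, 5, 3, 4, 5, 3, 3, 5, 7, 4, 6, 3, 5, 0], [1, 2, 0, 3, 4, 8, 6, 9, 5, 7]),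
    ([3, 5, 7, 4, 6, 3, 5, 3, 5, 7, 4, 6, 3, 5, 5, 3, 4, 5, 3, 0], [1, 2, 0, 3, 4, 8, 9, 7, 5, 6]),
    ([3, 5, 7, 4, 6, 3, 5, 3, 5, 7, 4, 6, 3, 5, 3, 5, 7, 4, 6, 3, 5, 3, 5, 7, 4, 6, 3, 5, 5, 3, 4, 5, 3, 0], [1, 2, 0, 3, 4, 5, 6, 9, 7, 8]),
    ([3, 5, 7, 4, 6, 3, 5, 3, 5, 7, 4, 6, 3, 5, 3, 5, 7, 4, 6, 3, 5, 5, 3, 4, 5, 3, 3, 5, 7, 4, 6, 3, 5, 0], [1, 2, 0, 3, 4, 5, 8, 6, 7, 9]),
    ([3, 5, 7, 4, 6, 3, 5, 3, 5, 7, 4, 6, 3, 5, 5, 3, 4, 5, 3, 5, 3, 4, 5, 3, 3, 5, 7, 4, 6, 3, 5, 0], [1, 2, 0, 3, 4, 7, 8, 5, 6, 9]),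
    ([3, 5, 7, 4, 6, 3, 5, 5, 3, 4, 5, 3, 5, 3, 4, 5, 3, 3, 5, 7, 4, 6, 3, 5, 3, 5, 7, 4, 6, 3, 5, 0], [1, 2, 0, 3, 4, 7, 9, 5, 8, 6])]

def xT_5 : List (List ℕ × List ℕ) :=
  [([3, 5, 7, 4, 6, 3, 5, 5, 3, 4, 5, 3, 3, 5, 7, 4, 6, 3, 5, 3, 5, 7, 4, 6, 3, 5, 3, 5, 7, 4, 6, 3, 5, 0], [1, 2, 0, 3, 4, 9, 5, 7, 8, 6]),
    ([5, 3, 4, 5, 3, 3, 5, 7, 4, 6, 3, 5, 3, 5, 7, 4, 6, 3, 5, 3, 5, 7, 4, 6, 3, 5, 3, 5, 7, 4, 6, 3, 5, 0], [1, 2, 0, 3, 4, 9, 6, 7, 5, 8]),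
    ([5, 3, 4, 5, 3, 3, 5, 7, 4, 6, 3, 5, 3, 5, 7, 4, 6, 3, 5, 3, 5, 7, 4, 6, 3, 5, 5, 3, 4, 5, 3, 0], [1, 2, 0, 3, 4, 9, 6, 8, 7, 5]),
    ([3, 5, 7, 4, 6, 3, 5, 5, 3, 4, 5, 3, 3, 5, 7, 4, 6, 3, 5, 3, 5, 7, 4, 6, 3, 5, 3, 5, 7, 4, 6, 3, 5, 3, 5, 7, 4, 6, 3, 5, 0], [1, 2, 0, 3, 4, 5, 7, 8, 6, 9]),
    ([3, 5, 7, 4, 6, 3, 5, 5, 3, 4, 5, 3, 3, 5, 7, 4, 6, 3, 5, 3, 5, 7, 4, 6, 3, 5, 3, 5, 7, 4, 6, 3, 5, 5, 3, 4, 5, 3, 0], [1, 2, 0, 3, 4, 5, 7, 9, 8, 6]),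
    ([3, 5, 7, 4, 6, 3, 5, 3, 5, 7, 4, 6, 3, 5, 5, 3, 4, 5, 3, 3, 5, 7, 4, 6, 3, 5, 5, 3, 4, 5, 3, 3, 5, 7, 4, 6, 3, 5, 0], [1, 2, 0, 3, 4, 5, 9, 6, 8, 7]),
    ([3, 5, 7, 4, 6, 3, 5, 3, 5, 7, 4, 6, 3, 5, 5, 3, 4, 5, 3, 3, 5, 7, 4, 6, 3, 5, 5, 3, 4, 5, 3, 5, 3, 4, 5, 3, 0], [1, 2, 0, 3, 4, 5, 9, 7, 6, 8]),
    ([5, 3, 4, 5, 3, 5, 3, 4, 5, 3, 3, 5, 7, 4, 6, 3, 5, 5, 3, 4, 5, 3, 3, 5, 7, 4, 6, 3, 5, 5, 3, 4, 5, 3, 0], [1, 2, 0, 3, 4, 5, 9, 8, 7, 6]),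
    ([5, 3, 4, 5, 3, 3, 5, 7, 4, 6, 3, 5, 3, 5, 7, 4, 6, 3, 5, 3, 5, 7, 4, 6, 3, 5, 5, 3, 4, 5, 3, 3, 5, 7, 4, 6, 3, 5, 0], [1, 2, 0, 3, 4, 6, 8, 7, 5, 9]),
    ([3, 5, 7, 4, 6, 3, 5, 3, 5, 7, 4, 6, 3, 5, 3, 5, 7, 4, 6, 3, 5, 3, 5, 7, 4, 6, 3, 5, 5, 3, 4, 5, 3, 3, 5, 7, 4, 6, 3, 5, 0], [1, 2, 0, 3, 4, 6, 9, 7, 8, 5]),
    ([3, 5, 7, 4, 6, 3, 5, 3, 5, 7, 4, 6, 3, 5, 5, 3, 4, 5, 3, 5, 3, 4, 5, 3, 3, 5, 7, 4, 6, 3, 5, 5, 3, 4, 5, 3, 0], [1, 2, 0, 3, 4, 8, 5, 7, 6, 9]),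
    ([3, 5, 7, 4, 6, 3, 5, 3, 5, 7, 4, 6, 3, 5, 3, 5, 7, 4, 6, 3, 5, 5, 3, 4, 5, 3, 3, 5, 7, 4, 6, 3, 5, 5, 3, 4, 5, 3, 0], [1, 2, 0, 3, 4, 8, 6, 5, 7, 9]),
    ([3, 5, 7, 4, 6, 3, 5, 5, 3, 4, 5, 3, 5, 3, 4, 5, 3, 3, 5, 7, 4, 6, 3, 5, 5, 3, 4, 5, 3, 3, 5, 7, 4, 6, 3, 5, 0], [1, 2, 0, 3, 4, 9, 6, 5, 8, 7]),
    ([5, 3, 4, 5, 3, 3, 5, 7, 4, 6, 3, 5, 5, 3, 4, 5, 3, 3, 5, 7, 4, 6, 3, 5, 5, 3, 4, 5, 3, 5, 3, 4, 5, 3, 0], [1, 2, 0, 3, 4, 9, 8, 7, 6, 5]),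
    ([3, 5, 7, 4, 6, 3, 5, 3, 5, 7, 4, 6, 3, 5, 5, 3, 4, 5, 3, 5, 3, 4, 5, 3, 3, 5, 7, 4, 6, 3, 5, 5, 3, 4, 5, 3, 3, 5, 7, 4, 6, 3, 5, 0], [1, 2, 0, 3, 4, 5, 7, 6, 9, 8]),
    ([3, 5, 7, 4, 6, 3, 5, 3, 5, 7, 4, 6, 3, 5, 3, 5, 7, 4, 6, 3, 5, 5, 3, 4, 5, 3, 3, 5, 7, 4, 6, 3, 5, 5, 3, 4, 5, 3, 3, 5, 7, 4, 6, 3, 5, 0], [1, 2, 0, 3, 4, 6, 5, 7, 9, 8]),
    ([3, 5, 7, 4, 6, 3, 5, 3, 5, 7, 4, 6, 3, 5, 3, 5, 7, 4, 6, 3, 5, 5, 3, 4, 5, 3, 3, 5, 7, 4, 6, 3, 5, 5, 3, 4, 5, 3, 5, 3, 4, 5, 3, 0], [1, 2, 0, 3, 4, 6, 5, 8, 7, 9]),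
    ([3, 5, 7, 4, 6, 3, 5, 5, 3, 4, 5, 3, 5, 3, 4, 5, 3, 3, 5, 7, 4, 6, 3, 5, 5, 3, 4, 5, 3, 3, 5, 7, 4, 6, 3, 5, 5, 3, 4, 5, 3, 0], [1, 2, 0, 3, 4, 6, 5, 9, 8, 7]),
    ([5, 3, 4, 5, 3, 3, 5, 7, 4, 6, 3, 5, 3, 5, 7, 4, 6, 3, 5, 3, 5, 7, 4, 6, 3, 5, 5, 3, 4, 5, 3, 3, 5, 7, 4, 6, 3, 5, 5, 3, 4, 5, 3, 0], [1, 2, 0, 3, 4, 8, 7, 6, 5, 9]),
    ([3, 5, 7, 4, 6, 3, 5, 3, 5, 7, 4, 6, 3, 5, 3, 5, 7, 4, 6, 3, 5, 3, 5, 7, 4, 6, 3, 5, 5, 3, 4, 5, 3, 3, 5, 7, 4, 6, 3, 5, 5, 3, 4, 5, 3, 0], [1, 2, 0, 3, 4, 9, 7, 6, 8, 5]),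
    ([3, 5, 7, 4, 6, 3, 5, 3, 5, 7, 4, 6, 3, 5, 5, 3, 4, 5, 3, 5, 3, 4, 5, 3, 3, 5, 7, 4, 6, 3, 5, 5, 3, 4, 5, 3, 3, 5, 7, 4, 6, 3, 5, 5, 3, 4, 5, 3, 0], [1, 2, 0, 3, 4, 7, 6, 5, 9, 8]),
    ([5, 3, 4, 5, 3, 3, 5, 7, 4, 6, 3, 5, 3, 5, 7, 4, 6, 3, 5, 3, 5, 7, 4, 6, 3, 5, 5, 3, 4, 5, 3, 3, 5, 7, 4, 6, 3, 5, 5, 3, 4, 5, 3, 5, 3, 4, 5, 3, 0], [1, 2, 0, 3, 4, 7, 6, 8, 5, 9]),
    ([3, 5, 7, 4, 6, 3, 5, 3, 5, 7, 4, 6, 3, 5, 3, 5, 7, 4, 6, 3, 5, 3, 5, 7, 4, 6, 3, 5, 5, 3, 4, 5, 3, 3, 5, 7, 4, 6, 3, 5, 5, 3, 4, 5, 3, 5, 3, 4, 5, 3, 0], [1, 2, 0, 3, 4, 7, 6, 9, 8, 5]),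
    ([5, 3, 4, 5, 3, 2, 1, 1, 0], [1, 2, 3, 4, 0, 6, 7, 5, 8, 9]),
    ([5, 3, 4, 5, 3, 5, 3, 4, 5, 3, 2, 1, 1, 0], [1, 2, 3, 4, 0, 7, 5, 6, 8, 9]),
    ([5, 3, 4, 5, 3, 5, 3, 4, 5, 3, 3, 5, 7, 4, 6, 3, 5, 2, 1, 1, 0], [1, 2, 3, 4, 0, 5, 6, 8, 9, 7]),
    ([5, 3, 4, 5, 3, 3, 5, 7, 4, 6, 3, 5, 5, 3, 4, 5, 3, 2, 1, 1, 0], [1, 2, 3, 4, 0, 5, 8, 7, 9, 6]),
    ([5, 3, 4, 5, 3, 3, 5, 7, 4, 6, 3, 5, 3, 5, 7, 4, 6, 3, 5, 2, 1, 1, 0], [1, 2, 3, 4, 0, 5, 8, 9, 6, 7]),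
    ([3, 5, 7, 4, 6, 3, 5, 5, 3, 4, 5, 3, 5, 3, 4, 5, 3, 2, 1, 1, 0], [1, 2, 3, 4, 0, 8, 6, 7, 9, 5]),
    ([3, 5, 7, 4, 6, 3, 5, 5, 3, 4, 5, 3, 3, 5, 7, 4, 6, 3, 5, 2, 1, 1, 0], [1, 2, 3, 4, 0, 8, 6, 9, 5, 7]),
    ([3, 5, 7, 4, 6, 3, 5, 3, 5, 7, 4, 6, 3, 5, 5, 3, 4, 5, 3, 2, 1, 1, 0], [1, 2, 3, 4, 0, 8, 9, 7, 5, 6]),
    ([3, 5, 7, 4, 6, 3, 5, 3, 5, 7, 4, 6, 3, 5, 3, 5, 7, 4, 6, 3, 5, 3, 5, 7, 4, 6, 3, 5, 5, 3, 4, 5, 3, 2, 1, 1, 0], [1, 2, 3, 4, 0, 5, 6, 9, 7, 8]),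
    ([3, 5, 7, 4, 6, 3, 5, 3, 5, 7, 4, 6, 3, 5, 3, 5, 7, 4, 6, 3, 5, 5, 3, 4, 5, 3, 3, 5, 7, 4, 6, 3, 5, 2, 1, 1, 0], [1, 2, 3, 4, 0, 5, 8, 6, 7, 9]),
    ([3, 5, 7, 4, 6, 3, 5, 3, 5, 7, 4, 6, 3, 5, 5, 3, 4, 5, 3, 5, 3, 4, 5, 3, 3, 5, 7, 4, 6, 3, 5, 2, 1, 1, 0], [1, 2, 3, 4, 0, 7, 8, 5, 6, 9]),
    ([3, 5, 7, 4, 6, 3, 5, 5, 3, 4, 5, 3, 5, 3, 4, 5, 3, 3, 5, 7, 4, 6, 3, 5, 3, 5, 7, 4, 6, 3, 5, 2, 1, 1, 0], [1, 2, 3, 4, 0, 7, 9, 5, 8, 6]),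
    ([3, 5, 7, 4, 6, 3, 5, 5, 3, 4, 5, 3, 3, 5, 7, 4, 6, 3, 5, 3, 5, 7, 4, 6, 3, 5, 3, 5, 7, 4, 6, 3, 5, 2, 1, 1, 0], [1, 2, 3, 4, 0, 9, 5, 7, 8, 6]),
    ([5, 3, 4, 5, 3, 3, 5, 7, 4, 6, 3, 5, 3, 5, 7, 4, 6, 3, 5, 3, 5, 7, 4, 6, 3, 5, 3, 5, 7, 4, 6, 3, 5, 2, 1, 1, 0], [1, 2, 3, 4, 0, 9, 6, 7, 5, 8]),
    ([5, 3, 4, 5, 3, 3, 5, 7, 4, 6, 3, 5, 3, 5, 7, 4, 6, 3, 5, 3, 5, 7, 4, 6, 3, 5, 5, 3, 4, 5, 3, 2, 1, 1, 0], [1, 2, 3, 4, 0, 9, 6, 8, 7, 5]),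
    ([3, 5, 7, 4, 6, 3, 5, 5, 3, 4, 5, 3, 3, 5, 7, 4, 6, 3, 5, 3, 5, 7, 4, 6, 3, 5, 3, 5, 7, 4, 6, 3, 5, 3, 5, 7, 4, 6, 3, 5, 2, 1, 1, 0], [1, 2, 3, 4, 0, 5, 7, 8, 6, 9]),
    ([3, 5, 7, 4, 6, 3, 5, 5, 3, 4, 5, 3, 3, 5, 7, 4, 6, 3, 5, 3, 5, 7, 4, 6, 3, 5, 3, 5, 7, 4, 6, 3, 5, 5, 3, 4, 5, 3, 2, 1, 1, 0], [1, 2, 3, 4, 0, 5, 7, 9, 8, 6])]

def xT_6 : List (List ℕ × List ℕ) :=
  [([3, 5, 7, 4, 6, 3, 5, 3, 5, 7, 4, 6, 3, 5, 5, 3, 4, 5, 3, 3, 5, 7, 4, 6, 3, 5, 5, 3, 4, 5, 3, 3, 5, 7, 4, 6, 3, 5, 2, 1, 1, 0], [1, 2, 3, 4, 0, 5, 9, 6, 8, 7]),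
    ([3, 5, 7, 4, 6, 3, 5, 3, 5, 7, 4, 6, 3, 5, 5, 3, 4, 5, 3, 3, 5, 7, 4, 6, 3, 5, 5, 3, 4, 5, 3, 5, 3, 4, 5, 3, 2, 1, 1, 0], [1, 2, 3, 4, 0, 5, 9, 7, 6, 8]),
    ([5, 3, 4, 5, 3, 5, 3, 4, 5, 3, 3, 5, 7, 4, 6, 3, 5, 5, 3, 4, 5, 3, 3, 5, 7, 4, 6, 3, 5, 5, 3, 4, 5, 3, 2, 1, 1, 0], [1, 2, 3, 4, 0, 5, 9, 8, 7, 6]),
    ([5, 3, 4, 5, 3, 3, 5, 7, 4, 6, 3, 5, 3, 5, 7, 4, 6, 3, 5, 3, 5, 7, 4, 6, 3, 5, 5, 3, 4, 5, 3, 3, 5, 7, 4, 6, 3, 5, 2, 1, 1, 0], [1, 2, 3, 4, 0, 6, 8, 7, 5, 9]),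
    ([3, 5, 7, 4, 6, 3, 5, 3, 5, 7, 4, 6, 3, 5, 3, 5, 7, 4, 6, 3, 5, 3, 5, 7, 4, 6, 3, 5, 5, 3, 4, 5, 3, 3, 5, 7, 4, 6, 3, 5, 2, 1, 1, 0], [1, 2, 3, 4, 0, 6, 9, 7, 8, 5]),
    ([3, 5, 7, 4, 6, 3, 5, 3, 5, 7, 4, 6, 3, 5, 5, 3, 4, 5, 3, 5, 3, 4, 5, 3, 3, 5, 7, 4, 6, 3, 5, 5, 3, 4, 5, 3, 2, 1, 1, 0], [1, 2, 3, 4, 0, 8, 5, 7, 6, 9]),
    ([3, 5, 7, 4, 6, 3, 5, 3, 5, 7, 4, 6, 3, 5, 3, 5, 7, 4, 6, 3, 5, 5, 3, 4, 5, 3, 3, 5, 7, 4, 6, 3, 5, 5, 3, 4, 5, 3, 2, 1, 1, 0], [1, 2, 3, 4, 0, 8, 6, 5, 7, 9]),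
    ([3, 5, 7, 4, 6, 3, 5, 5, 3, 4, 5, 3, 5, 3, 4, 5, 3, 3, 5, 7, 4, 6, 3, 5, 5, 3, 4, 5, 3, 3, 5, 7, 4, 6, 3, 5, 2, 1, 1, 0], [1, 2, 3, 4, 0, 9, 6, 5, 8, 7]),
    ([5, 3, 4, 5, 3, 3, 5, 7, 4, 6, 3, 5, 5, 3, 4, 5, 3, 3, 5, 7, 4, 6, 3, 5, 5, 3, 4, 5, 3, 5, 3, 4, 5, 3, 2, 1, 1, 0], [1, 2, 3, 4, 0, 9, 8, 7, 6, 5]),
    ([3, 5, 7, 4, 6, 3, 5, 3, 5, 7, 4, 6, 3, 5, 5, 3, 4, 5, 3, 5, 3, 4, 5, 3, 3, 5, 7, 4, 6, 3, 5, 5, 3, 4, 5, 3, 3, 5, 7, 4, 6, 3, 5, 2, 1, 1, 0], [1, 2, 3, 4, 0, 5, 7, 6, 9, 8]),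
    ([3, 5, 7, 4, 6, 3, 5, 3, 5, 7, 4, 6, 3, 5, 3, 5, 7, 4, 6, 3, 5, 5, 3, 4, 5, 3, 3, 5, 7, 4, 6, 3, 5, 5, 3, 4, 5, 3, 3, 5, 7, 4, 6, 3, 5, 2, 1, 1, 0], [1, 2, 3, 4, 0, 6, 5, 7, 9, 8]),
    ([3, 5, 7, 4, 6, 3, 5, 3, 5, 7, 4, 6, 3, 5, 3, 5, 7, 4, 6, 3, 5, 5, 3, 4, 5, 3, 3, 5, 7, 4, 6, 3, 5, 5, 3, 4, 5, 3, 5, 3, 4, 5, 3, 2, 1, 1, 0], [1, 2, 3, 4, 0, 6, 5, 8, 7, 9]),
    ([3, 5, 7, 4, 6, 3, 5, 5, 3, 4, 5, 3, 5, 3, 4, 5, 3, 3, 5, 7, 4, 6, 3, 5, 5, 3, 4, 5, 3, 3, 5, 7, 4, 6, 3, 5, 5, 3, 4, 5, 3, 2, 1, 1, 0], [1, 2, 3, 4, 0, 6, 5, 9, 8, 7]),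
    ([5, 3, 4, 5, 3, 3, 5, 7, 4, 6, 3, 5, 3, 5, 7, 4, 6, 3, 5, 3, 5, 7, 4, 6, 3, 5, 5, 3, 4, 5, 3, 3, 5, 7, 4, 6, 3, 5, 5, 3, 4, 5, 3, 2, 1, 1, 0], [1, 2, 3, 4, 0, 8, 7, 6, 5, 9]),
    ([3, 5, 7, 4, 6, 3, 5, 3, 5, 7, 4, 6, 3, 5, 3, 5, 7, 4, 6, 3, 5, 3, 5, 7, 4, 6, 3, 5, 5, 3, 4, 5, 3, 3, 5, 7, 4, 6, 3, 5, 5, 3, 4, 5, 3, 2, 1, 1, 0], [1, 2, 3, 4, 0, 9, 7, 6, 8, 5]),
    ([3, 5, 7, 4, 6, 3, 5, 3, 5, 7, 4, 6, 3, 5, 5, 3, 4, 5, 3, 5, 3, 4, 5, 3, 3, 5, 7, 4, 6, 3, 5, 5, 3, 4, 5, 3, 3, 5, 7, 4, 6, 3, 5, 5, 3, 4, 5, 3, 2, 1, 1, 0], [1, 2, 3, 4, 0, 7, 6, 5, 9, 8]),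
    ([5, 3, 4, 5, 3, 3, 5, 7, 4, 6, 3, 5, 3, 5, 7, 4, 6, 3, 5, 3, 5, 7, 4, 6, 3, 5, 5, 3, 4, 5, 3, 3, 5, 7, 4, 6, 3, 5, 5, 3, 4, 5, 3, 5, 3, 4, 5, 3, 2, 1, 1, 0], [1, 2, 3, 4, 0, 7, 6, 8, 5, 9]),
    ([3, 5, 7, 4, 6, 3, 5, 3, 5, 7, 4, 6, 3, 5, 3, 5, 7, 4, 6, 3, 5, 3, 5, 7, 4, 6, 3, 5, 5, 3, 4, 5, 3, 3, 5, 7, 4, 6, 3, 5, 5, 3, 4, 5, 3, 5, 3, 4, 5, 3, 2, 1, 1, 0], [1, 2, 3, 4, 0, 7, 6, 9, 8, 5])]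

def xT : List (List ℕ × List ℕ) :=
  xT_0 ++ xT_1 ++ xT_2 ++ xT_3 ++ xT_4 ++ xT_5 ++ xT_6

def xTexps_0 : List (List ℕ) :=
  [[],
    [0],
    [0, 0],
    [0, 0, 1],
    [0, 1, 0],
    [0, 1, 1],
    [1, 0, 0],
    [1, 0, 1],
    [1, 1, 0],
    [1, 1, 1, 1, 0],
    [1, 1, 1, 0, 1],
    [1, 1, 0, 0, 1],
    [1, 0, 0, 1, 1],
    [1, 0, 1, 1, 1],
    [0, 1, 1, 1, 1],
    [0, 1, 1, 1, 0],
    [1, 0, 1, 1, 1, 1],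
    [1, 0, 1, 1, 1, 0],
    [1, 1, 0, 1, 0, 1],
    [1, 1, 0, 1, 0, 0],
    [0, 0, 1, 0, 1, 0],
    [0, 1, 1, 1, 0, 1],
    [1, 1, 1, 1, 0, 1],
    [1, 1, 0, 0, 1, 0],
    [1, 1, 1, 0, 1, 0],
    [1, 0, 0, 1, 0, 1],
    [0, 1, 0, 1, 0, 0],
    [1, 1, 0, 0, 1, 0, 1],
    [1, 1, 1, 0, 1, 0, 1],
    [1, 1, 1, 0, 1, 0, 0],
    [1, 0, 0, 1, 0, 1, 0],
    [0, 1, 1, 1, 0, 1, 0],
    [1, 1, 1, 1, 0, 1, 0],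
    [1, 1, 0, 0, 1, 0, 1, 0],
    [0, 1, 1, 1, 0, 1, 0, 0],
    [1, 1, 1, 1, 0, 1, 0, 0],
    [1],
    [0, 0, 1, 0],
    [0, 0, 1, 1],
    [0, 1, 0, 0]]

def xTexps_1 : List (List ℕ) :=
  [[0, 1, 0, 1],
    [1, 1, 1],
    [1, 0, 0, 1],
    [1, 1, 0, 1],
    [1, 1, 0, 0],
    [1, 0, 1, 1],
    [1, 0, 1, 0],
    [1, 0, 1, 0, 1],
    [0, 1],
    [1, 0],
    [1, 1],
    [0, 0, 1, 0, 0],
    [0, 0, 1, 0, 1],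
    [0, 1, 1, 1],
    [1, 1, 0, 1, 0],
    [1, 1, 1, 1],
    [1, 1, 1, 0],
    [1, 0, 0, 1, 0],
    [0, 1, 0, 1, 0],
    [1, 0, 1, 0, 0],
    [2],
    [2, 0],
    [2, 0, 0],
    [2, 0, 0, 1],
    [2, 0, 1, 0],
    [2, 0, 1, 1],
    [2, 1, 0, 0],
    [2, 1, 0, 1],
    [2, 1, 1, 0],
    [2, 1, 1, 1, 1, 0],
    [2, 1, 1, 1, 0, 1],
    [2, 1, 1, 0, 0, 1],
    [2, 1, 0, 0, 1, 1],
    [2, 1, 0, 1, 1, 1],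
    [2, 0, 1, 1, 1, 1],
    [2, 0, 1, 1, 1, 0],
    [2, 1, 0, 1, 1, 1, 1],
    [2, 1, 0, 1, 1, 1, 0],
    [2, 1, 1, 0, 1, 0, 1],
    [2, 1, 1, 0, 1, 0, 0]]

def xTexps_2 : List (List ℕ) :=
  [[2, 0, 0, 1, 0, 1, 0],
    [2, 0, 1, 1, 1, 0, 1],
    [2, 1, 1, 1, 1, 0, 1],
    [2, 1, 1, 0, 0, 1, 0],
    [2, 1, 1, 1, 0, 1, 0],
    [2, 1, 0, 0, 1, 0, 1],
    [2, 0, 1, 0, 1, 0, 0],
    [2, 1, 1, 0, 0, 1, 0, 1],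
    [2, 1, 1, 1, 0, 1, 0, 1],
    [2, 1, 1, 1, 0, 1, 0, 0],
    [2, 1, 0, 0, 1, 0, 1, 0],
    [2, 0, 1, 1, 1, 0, 1, 0],
    [2, 1, 1, 1, 1, 0, 1, 0],
    [2, 1, 1, 0, 0, 1, 0, 1, 0],
    [2, 0, 1, 1, 1, 0, 1, 0, 0],
    [2, 1, 1, 1, 1, 0, 1, 0, 0],
    [3],
    [3, 0],
    [3, 0, 0],
    [3, 0, 0, 1],
    [3, 0, 1, 0],
    [3, 0, 1, 1],
    [3, 1, 0, 0],
    [3, 1, 0, 1],
    [3, 1, 1, 0],
    [3, 1, 1, 1, 1, 0],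
    [3, 1, 1, 1, 0, 1],
    [3, 1, 1, 0, 0, 1],
    [3, 1, 0, 0, 1, 1],
    [3, 1, 0, 1, 1, 1],
    [3, 0, 1, 1, 1, 1],
    [3, 0, 1, 1, 1, 0],
    [3, 1, 0, 1, 1, 1, 1],
    [3, 1, 0, 1, 1, 1, 0],
    [3, 1, 1, 0, 1, 0, 1],
    [3, 1, 1, 0, 1, 0, 0],
    [3, 0, 0, 1, 0, 1, 0],
    [3, 0, 1, 1, 1, 0, 1],
    [3, 1, 1, 1, 1, 0, 1],
    [3, 1, 1, 0, 0, 1, 0]]

def xTexps_3 : List (List ℕ) :=
  [[3, 1, 1, 1, 0, 1, 0],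
    [3, 1, 0, 0, 1, 0, 1],
    [3, 0, 1, 0, 1, 0, 0],
    [3, 1, 1, 0, 0, 1, 0, 1],
    [3, 1, 1, 1, 0, 1, 0, 1],
    [3, 1, 1, 1, 0, 1, 0, 0],
    [3, 1, 0, 0, 1, 0, 1, 0],
    [3, 0, 1, 1, 1, 0, 1, 0],
    [3, 1, 1, 1, 1, 0, 1, 0],
    [3, 1, 1, 0, 0, 1, 0, 1, 0],
    [3, 0, 1, 1, 1, 0, 1, 0, 0],
    [3, 1, 1, 1, 1, 0, 1, 0, 0],
    [2, 2],
    [2, 2, 3],
    [2, 3, 2],
    [2, 3, 3],
    [3, 2, 2],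
    [3, 2, 3],
    [3, 3, 2],
    [3, 3, 3, 3, 2],
    [3, 3, 3, 2, 3],
    [3, 3, 2, 2, 3],
    [3, 2, 2, 3, 3],
    [3, 2, 3, 3, 3],
    [2, 3, 3, 3, 3],
    [2, 3, 3, 3, 2],
    [3, 2, 3, 3, 3, 3],
    [3, 2, 3, 3, 3, 2],
    [3, 3, 2, 3, 2, 3],
    [3, 3, 2, 3, 2, 2],
    [2, 2, 3, 2, 3, 2],
    [2, 3, 3, 3, 2, 3],
    [3, 3, 3, 3, 2, 3],
    [3, 3, 2, 2, 3, 2],
    [3, 3, 3, 2, 3, 2],
    [3, 2, 2, 3, 2, 3],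
    [2, 3, 2, 3, 2, 2],
    [3, 3, 2, 2, 3, 2, 3],
    [3, 3, 3, 2, 3, 2, 3],
    [3, 3, 3, 2, 3, 2, 2]]

def xTexps_4 : List (List ℕ) :=
  [[3, 2, 2, 3, 2, 3, 2],
    [2, 3, 3, 3, 2, 3, 2],
    [3, 3, 3, 3, 2, 3, 2],
    [3, 3, 2, 2, 3, 2, 3, 2],
    [2, 3, 3, 3, 2, 3, 2, 2],
    [3, 3, 3, 3, 2, 3, 2, 2],
    [2, 2, 3, 2],
    [2, 2, 3, 3],
    [2, 3, 2, 2],
    [2, 3, 2, 3],
    [3, 3, 3],
    [3, 2, 2, 3],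
    [3, 3, 2, 3],
    [3, 3, 2, 2],
    [3, 2, 3, 3],
    [3, 2, 3, 2],
    [3, 2, 3, 2, 3],
    [2, 3],
    [3, 2],
    [3, 3],
    [2, 2, 3, 2, 2],
    [2, 2, 3, 2, 3],
    [2, 3, 3, 3],
    [3, 3, 2, 3, 2],
    [3, 3, 3, 3],
    [3, 3, 3, 2],
    [3, 2, 2, 3, 2],
    [2, 3, 2, 3, 2],
    [3, 2, 3, 2, 2],
    [2, 2, 0],
    [2, 2, 3, 0],
    [2, 3, 2, 0],
    [2, 3, 3, 0],
    [3, 2, 2, 0],
    [3, 2, 3, 0],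
    [3, 3, 2, 0],
    [3, 3, 3, 3, 2, 0],
    [3, 3, 3, 2, 3, 0],
    [3, 3, 2, 2, 3, 0],
    [3, 2, 2, 3, 3, 0]]

def xTexps_5 : List (List ℕ) :=
  [[3, 2, 3, 3, 3, 0],
    [2, 3, 3, 3, 3, 0],
    [2, 3, 3, 3, 2, 0],
    [3, 2, 3, 3, 3, 3, 0],
    [3, 2, 3, 3, 3, 2, 0],
    [3, 3, 2, 3, 2, 3, 0],
    [3, 3, 2, 3, 2, 2, 0],
    [2, 2, 3, 2, 3, 2, 0],
    [2, 3, 3, 3, 2, 3, 0],
    [3, 3, 3, 3, 2, 3, 0],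
    [3, 3, 2, 2, 3, 2, 0],
    [3, 3, 3, 2, 3, 2, 0],
    [3, 2, 2, 3, 2, 3, 0],
    [2, 3, 2, 3, 2, 2, 0],
    [3, 3, 2, 2, 3, 2, 3, 0],
    [3, 3, 3, 2, 3, 2, 3, 0],
    [3, 3, 3, 2, 3, 2, 2, 0],
    [3, 2, 2, 3, 2, 3, 2, 0],
    [2, 3, 3, 3, 2, 3, 2, 0],
    [3, 3, 3, 3, 2, 3, 2, 0],
    [3, 3, 2, 2, 3, 2, 3, 2, 0],
    [2, 3, 3, 3, 2, 3, 2, 2, 0],
    [3, 3, 3, 3, 2, 3, 2, 2, 0],
    [2, 1],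
    [2, 2, 1],
    [2, 2, 3, 1],
    [2, 3, 2, 1],
    [2, 3, 3, 1],
    [3, 2, 2, 1],
    [3, 2, 3, 1],
    [3, 3, 2, 1],
    [3, 3, 3, 3, 2, 1],
    [3, 3, 3, 2, 3, 1],
    [3, 3, 2, 2, 3, 1],
    [3, 2, 2, 3, 3, 1],
    [3, 2, 3, 3, 3, 1],
    [2, 3, 3, 3, 3, 1],
    [2, 3, 3, 3, 2, 1],
    [3, 2, 3, 3, 3, 3, 1],
    [3, 2, 3, 3, 3, 2, 1]]

def xTexps_6 : List (List ℕ) :=
  [[3, 3, 2, 3, 2, 3, 1],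
    [3, 3, 2, 3, 2, 2, 1],
    [2, 2, 3, 2, 3, 2, 1],
    [2, 3, 3, 3, 2, 3, 1],
    [3, 3, 3, 3, 2, 3, 1],
    [3, 3, 2, 2, 3, 2, 1],
    [3, 3, 3, 2, 3, 2, 1],
    [3, 2, 2, 3, 2, 3, 1],
    [2, 3, 2, 3, 2, 2, 1],
    [3, 3, 2, 2, 3, 2, 3, 1],
    [3, 3, 3, 2, 3, 2, 3, 1],
    [3, 3, 3, 2, 3, 2, 2, 1],
    [3, 2, 2, 3, 2, 3, 2, 1],
    [2, 3, 3, 3, 2, 3, 2, 1],
    [3, 3, 3, 3, 2, 3, 2, 1],
    [3, 3, 2, 2, 3, 2, 3, 2, 1],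
    [2, 3, 3, 3, 2, 3, 2, 2, 1],
    [3, 3, 3, 3, 2, 3, 2, 2, 1]]

def xTexps : List (List ℕ) :=
  xTexps_0 ++ xTexps_1 ++ xTexps_2 ++ xTexps_3 ++ xTexps_4 ++ xTexps_5 ++ xTexps_6

def xS_0 : List (List ℕ × List ℕ) :=
  [([], [0, 1, 2, 3, 4, 5, 6, 7, 8, 9])]

def xS : List (List ℕ × List ℕ) :=
  xS_0

def xSexps_0 : List (List ℕ) :=
  [[]]

def xSexps : List (List ℕ) :=
  xSexps_0

def xCtx : Ctx := ⟨10, gi, xT, xT, xS, [1]⟩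

def x_idem1Dest_0 : List (ℕ × ℕ) :=
  [(2, 0),
    (0, 0),
    (36, 0),
    (37, 0),
    (38, 0),
    (39, 0),
    (40, 0),
    (41, 0),
    (42, 0),
    (21, 0),
    (10, 0),
    (18, 0),
    (25, 0),
    (43, 0),
    (44, 0),
    (29, 0),
    (30, 0),
    (22, 0),
    (45, 0),
    (46, 0),
    (11, 0),
    (12, 0),
    (24, 0),
    (31, 0),
    (32, 0),
    (47, 0),
    (28, 0),
    (33, 0),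
    (34, 0),
    (35, 0),
    (23, 0),
    (13, 0),
    (27, 0),
    (16, 0),
    (17, 0),
    (0, 0),
    (1, 0),
    (48, 0),
    (49, 0),
    (50, 0),
    (51, 0),
    (52, 0),
    (53, 0),
    (54, 0),
    (11, 0),
    (21, 0),
    (22, 0),
    (32, 0),
    (55, 0),
    (56, 0),
    (34, 0),
    (35, 0),
    (12, 0),
    (57, 0),
    (58, 0),
    (10, 0),
    (18, 0),
    (31, 0),
    (23, 0),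
    (13, 0),
    (59, 0),
    (33, 0),
    (27, 0),
    (16, 0),
    (17, 0),
    (24, 0),
    (25, 0),
    (28, 0),
    (29, 0),
    (30, 0),
    (37, 0),
    (51, 0),
    (9, 0),
    (20, 0),
    (19, 0),
    (15, 0),
    (14, 0),
    (44, 0),
    (0, 0),
    (18, 0),
    (41, 0),
    (39, 0),
    (48, 0),
    (34, 0),
    (35, 0),
    (5, 0),
    (4, 0),
    (27, 0),
    (16, 0),
    (17, 0),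
    (46, 0),
    (36, 0),
    (56, 0),
    (25, 0),
    (33, 0),
    (58, 0),
    (10, 0),
    (29, 0),
    (30, 0),
    (28, 0),
    (59, 0),
    (49, 0),
    (24, 0),
    (7, 0),
    (6, 0),
    (39, 0),
    (48, 0),
    (5, 0),
    (19, 0),
    (18, 0),
    (26, 0),
    (59, 0),
    (14, 0),
    (10, 0),
    (20, 0),
    (12, 0),
    (33, 0),
    (28, 0),
    (21, 0),
    (38, 0)]

def x_idem1Dest_1 : List (ℕ × ℕ) :=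
  [(17, 0),
    (27, 0),
    (3, 0),
    (0, 0),
    (9, 0),
    (8, 0),
    (6, 0),
    (13, 0),
    (47, 0),
    (37, 0),
    (22, 0),
    (16, 0),
    (23, 0),
    (52, 0),
    (51, 0),
    (44, 0),
    (36, 0),
    (11, 0),
    (50, 0),
    (49, 0),
    (41, 0),
    (56, 0),
    (10, 0),
    (9, 0),
    (0, 0),
    (38, 0),
    (21, 0),
    (42, 0),
    (4, 0),
    (3, 0),
    (25, 0),
    (43, 0),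
    (54, 0),
    (50, 0),
    (49, 0),
    (18, 0),
    (19, 0),
    (16, 0),
    (17, 0),
    (27, 0),
    (7, 0),
    (40, 0),
    (30, 0),
    (37, 0),
    (11, 0),
    (35, 0),
    (20, 0),
    (52, 0),
    (51, 0),
    (23, 0),
    (46, 0),
    (58, 0),
    (47, 0),
    (59, 0),
    (26, 0),
    (36, 0),
    (49, 0),
    (7, 0),
    (8, 0),
    (41, 0),
    (14, 0),
    (25, 0),
    (13, 0),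
    (24, 0),
    (53, 0),
    (58, 0),
    (48, 0),
    (4, 0),
    (0, 0),
    (9, 0),
    (40, 0),
    (39, 0),
    (51, 0),
    (23, 0),
    (52, 0),
    (22, 0),
    (28, 0),
    (26, 0),
    (15, 0),
    (3, 0),
    (19, 0),
    (31, 0),
    (21, 0),
    (38, 0),
    (37, 0),
    (32, 0),
    (27, 0),
    (34, 0),
    (35, 0),
    (33, 0),
    (46, 0),
    (59, 0),
    (24, 0),
    (52, 0),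
    (23, 0),
    (9, 0),
    (0, 0),
    (17, 0),
    (6, 0),
    (51, 0),
    (56, 0),
    (44, 0),
    (50, 0),
    (35, 0),
    (33, 0),
    (41, 0),
    (8, 0),
    (31, 0),
    (40, 0),
    (39, 0),
    (30, 0),
    (42, 0),
    (5, 0),
    (3, 0),
    (34, 0),
    (54, 0),
    (53, 0),
    (38, 0),
    (37, 0),
    (21, 0)]

def x_idem1Dest_2 : List (ℕ × ℕ) :=
  [(18, 0),
    (57, 0),
    (15, 0),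
    (25, 0),
    (14, 0),
    (44, 0),
    (50, 0),
    (41, 0),
    (23, 0),
    (51, 0),
    (19, 0),
    (18, 0),
    (0, 0),
    (53, 0),
    (52, 0),
    (48, 0),
    (34, 0),
    (21, 0),
    (22, 0),
    (45, 0),
    (39, 0),
    (31, 0),
    (7, 0),
    (6, 0),
    (24, 0),
    (13, 0),
    (14, 0),
    (4, 0),
    (20, 0),
    (46, 0),
    (28, 0),
    (40, 0),
    (26, 0),
    (47, 0),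
    (59, 0),
    (17, 0),
    (42, 0),
    (58, 0),
    (12, 0),
    (57, 0),
    (45, 0),
    (55, 0),
    (0, 0),
    (17, 0),
    (16, 0),
    (35, 0),
    (34, 0),
    (50, 0),
    (3, 0),
    (27, 0),
    (43, 0),
    (47, 0),
    (52, 0),
    (7, 0),
    (6, 0),
    (19, 0),
    (20, 0),
    (10, 0),
    (5, 0),
    (4, 0),
    (42, 0),
    (38, 0),
    (54, 0),
    (33, 0),
    (24, 0),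
    (40, 0),
    (18, 0),
    (30, 0),
    (28, 0),
    (29, 0),
    (57, 0),
    (53, 0),
    (25, 0),
    (14, 0),
    (15, 0),
    (24, 0),
    (29, 0),
    (4, 0),
    (27, 0),
    (17, 0),
    (49, 0),
    (50, 0),
    (57, 0),
    (5, 0),
    (16, 0),
    (1, 0),
    (45, 0),
    (55, 0),
    (59, 0),
    (26, 0),
    (0, 0),
    (9, 0),
    (20, 0),
    (18, 0),
    (19, 0),
    (31, 0),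
    (53, 0),
    (2, 0),
    (11, 0),
    (47, 0),
    (32, 0),
    (3, 0),
    (51, 0),
    (23, 0),
    (52, 0),
    (34, 0),
    (15, 0),
    (37, 0),
    (21, 0),
    (38, 0),
    (23, 0),
    (16, 0),
    (49, 0),
    (33, 0),
    (35, 0),
    (37, 0),
    (38, 0),
    (45, 0),
    (50, 0),
    (34, 0)]

def x_idem1Dest_3 : List (ℕ × ℕ) :=
  [(0, 0),
    (19, 0),
    (43, 0),
    (47, 0),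
    (59, 0),
    (2, 0),
    (54, 0),
    (58, 0),
    (12, 0),
    (57, 0),
    (24, 0),
    (41, 0),
    (1, 0),
    (21, 0),
    (26, 0),
    (25, 0),
    (48, 0),
    (39, 0),
    (31, 0),
    (40, 0),
    (29, 0),
    (56, 0),
    (4, 0),
    (10, 0),
    (5, 0),
    (13, 0),
    (17, 0),
    (58, 0),
    (11, 0),
    (49, 0),
    (41, 0),
    (53, 0),
    (24, 0),
    (57, 0),
    (50, 0),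
    (4, 0),
    (0, 0),
    (1, 0),
    (45, 0),
    (46, 0),
    (48, 0),
    (2, 0),
    (35, 0),
    (33, 0),
    (34, 0),
    (47, 0),
    (25, 0),
    (39, 0),
    (8, 0),
    (22, 0),
    (37, 0),
    (54, 0),
    (43, 0),
    (44, 0),
    (32, 0),
    (52, 0),
    (30, 0),
    (19, 0),
    (20, 0),
    (18, 0),
    (17, 0),
    (12, 0),
    (56, 0),
    (26, 0),
    (59, 0),
    (23, 0),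
    (51, 0),
    (6, 0),
    (55, 0),
    (47, 0),
    (50, 0),
    (35, 0),
    (22, 0),
    (28, 0),
    (29, 0),
    (44, 0),
    (32, 0),
    (25, 0),
    (14, 0),
    (15, 0),
    (4, 0),
    (0, 0),
    (8, 0),
    (52, 0),
    (30, 0),
    (21, 0),
    (43, 0),
    (19, 0),
    (20, 0),
    (18, 0),
    (39, 0),
    (1, 0),
    (54, 0),
    (48, 0),
    (2, 0),
    (42, 0),
    (57, 0),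
    (25, 0),
    (13, 0),
    (56, 0),
    (0, 0),
    (3, 0),
    (4, 0),
    (15, 0),
    (55, 0),
    (54, 0),
    (50, 0),
    (8, 0),
    (6, 0),
    (24, 0),
    (43, 0),
    (44, 0),
    (59, 0),
    (26, 0),
    (47, 0),
    (28, 0),
    (21, 0),
    (19, 0),
    (9, 0),
    (7, 0)]

def x_idem1Dest_4 : List (ℕ × ℕ) :=
  [(23, 0),
    (32, 0),
    (22, 0),
    (45, 0),
    (46, 0),
    (27, 0),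
    (31, 0),
    (35, 0),
    (33, 0),
    (34, 0),
    (38, 0),
    (53, 0),
    (14, 0),
    (44, 0),
    (43, 0),
    (34, 0),
    (33, 0),
    (48, 0),
    (25, 0),
    (32, 0),
    (40, 0),
    (52, 0),
    (20, 0),
    (3, 0),
    (0, 0),
    (26, 0),
    (47, 0),
    (55, 0),
    (56, 0),
    (13, 0),
    (36, 0),
    (29, 0),
    (58, 0),
    (35, 0),
    (9, 0),
    (16, 0),
    (59, 0),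
    (46, 0),
    (22, 0),
    (45, 0),
    (49, 0),
    (10, 0),
    (7, 0),
    (6, 0),
    (24, 0),
    (11, 0),
    (23, 0),
    (27, 0),
    (3, 0),
    (9, 0),
    (36, 0),
    (42, 0),
    (46, 0),
    (17, 0),
    (0, 0),
    (24, 0),
    (41, 0),
    (56, 0),
    (44, 0),
    (32, 0),
    (10, 0),
    (5, 0),
    (19, 0),
    (20, 0),
    (18, 0),
    (34, 0),
    (58, 0),
    (29, 0),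
    (1, 0),
    (43, 0),
    (15, 0),
    (4, 0),
    (48, 0),
    (2, 0),
    (54, 0),
    (21, 0),
    (26, 0),
    (39, 0),
    (31, 0),
    (40, 0),
    (12, 0),
    (13, 0),
    (16, 0),
    (5, 0),
    (10, 0),
    (40, 0),
    (31, 0),
    (7, 0),
    (27, 0),
    (4, 0),
    (47, 0),
    (25, 0),
    (30, 0),
    (42, 0),
    (36, 0),
    (20, 0),
    (18, 0),
    (0, 0),
    (9, 0),
    (3, 0),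
    (50, 0),
    (35, 0),
    (52, 0),
    (39, 0),
    (1, 0),
    (38, 0),
    (19, 0),
    (54, 0),
    (48, 0),
    (2, 0),
    (8, 0),
    (22, 0),
    (43, 0),
    (44, 0),
    (32, 0),
    (25, 0),
    (30, 0),
    (20, 0),
    (10, 0),
    (4, 0)]

def x_idem1Dest_5 : List (ℕ × ℕ) :=
  [(53, 0),
    (8, 0),
    (31, 0),
    (19, 0),
    (5, 0),
    (37, 0),
    (1, 0),
    (2, 0),
    (57, 0),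
    (58, 0),
    (3, 0),
    (0, 0),
    (17, 0),
    (27, 0),
    (16, 0),
    (59, 0),
    (32, 0),
    (51, 0),
    (41, 0),
    (12, 0),
    (49, 0),
    (9, 0),
    (55, 0),
    (56, 0),
    (13, 0),
    (7, 0),
    (35, 0),
    (45, 0),
    (46, 0),
    (22, 0),
    (43, 0),
    (54, 0),
    (18, 0),
    (0, 0),
    (3, 0),
    (22, 0),
    (46, 0),
    (21, 0),
    (20, 0),
    (9, 0),
    (33, 0),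
    (11, 0),
    (23, 0),
    (8, 0),
    (53, 0),
    (27, 0),
    (16, 0),
    (5, 0),
    (4, 0),
    (10, 0),
    (14, 0),
    (26, 0),
    (28, 0),
    (45, 0),
    (41, 0),
    (6, 0),
    (17, 0),
    (13, 0),
    (55, 0),
    (56, 0),
    (42, 0),
    (40, 0),
    (12, 0),
    (57, 0),
    (58, 0),
    (47, 0),
    (52, 0),
    (19, 0),
    (16, 0),
    (27, 0),
    (58, 0),
    (57, 0),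
    (34, 0),
    (18, 0),
    (17, 0),
    (39, 0),
    (24, 0),
    (29, 0),
    (46, 0),
    (22, 0),
    (4, 0),
    (10, 0),
    (9, 0),
    (3, 0),
    (0, 0),
    (44, 0),
    (15, 0),
    (48, 0),
    (12, 0),
    (45, 0),
    (36, 0),
    (5, 0),
    (56, 0),
    (13, 0),
    (55, 0),
    (50, 0),
    (38, 0),
    (41, 0),
    (8, 0),
    (53, 0),
    (31, 0),
    (34, 0),
    (37, 0),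
    (28, 0),
    (30, 0),
    (4, 0),
    (5, 0),
    (19, 0),
    (38, 0),
    (29, 0),
    (2, 0),
    (57, 0),
    (14, 0),
    (26, 0),
    (47, 0),
    (1, 0),
    (42, 0),
    (46, 0),
    (22, 0),
    (45, 0)]

def x_idem1Dest_6 : List (ℕ × ℕ) :=
  [(23, 0),
    (8, 0),
    (0, 0),
    (10, 0),
    (59, 0),
    (13, 0),
    (36, 0),
    (6, 0),
    (24, 0),
    (7, 0),
    (16, 0),
    (44, 0),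
    (49, 0),
    (11, 0),
    (50, 0),
    (32, 0),
    (35, 0),
    (46, 0),
    (21, 0),
    (37, 0),
    (8, 0),
    (41, 0),
    (23, 0),
    (45, 0),
    (38, 0),
    (49, 0),
    (2, 0),
    (0, 0),
    (19, 0),
    (20, 0),
    (36, 0),
    (1, 0),
    (30, 0),
    (28, 0),
    (29, 0),
    (26, 0),
    (13, 0),
    (6, 0),
    (53, 0),
    (18, 0),
    (4, 0),
    (42, 0),
    (14, 0),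
    (15, 0),
    (25, 0),
    (40, 0),
    (17, 0),
    (57, 0),
    (58, 0),
    (12, 0),
    (16, 0),
    (11, 0),
    (51, 0),
    (6, 0),
    (7, 0),
    (28, 0),
    (30, 0),
    (22, 0),
    (52, 0),
    (24, 0),
    (34, 0),
    (58, 0),
    (26, 0),
    (13, 0),
    (55, 0),
    (31, 0),
    (40, 0),
    (41, 0),
    (8, 0),
    (53, 0),
    (0, 0),
    (19, 0),
    (21, 0),
    (29, 0),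
    (56, 0),
    (14, 0),
    (39, 0),
    (4, 0),
    (10, 0),
    (5, 0),
    (1, 0),
    (43, 0),
    (48, 0),
    (2, 0),
    (54, 0),
    (29, 0),
    (10, 0),
    (6, 0),
    (39, 0),
    (40, 0),
    (33, 0),
    (35, 0),
    (12, 0),
    (7, 0),
    (31, 0),
    (16, 0),
    (20, 0),
    (47, 0),
    (25, 0),
    (14, 0),
    (23, 0),
    (52, 0),
    (53, 0),
    (41, 0),
    (8, 0),
    (1, 0),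
    (45, 0),
    (11, 0),
    (34, 0),
    (15, 0),
    (43, 0),
    (51, 0),
    (37, 0),
    (21, 0),
    (38, 0),
    (2, 0),
    (55, 0),
    (3, 0),
    (0, 0),
    (9, 0)]

def x_idem1Dest_7 : List (ℕ × ℕ) :=
  [(30, 0),
    (18, 0),
    (15, 0),
    (47, 0),
    (26, 0),
    (24, 0),
    (6, 0),
    (39, 0),
    (14, 0),
    (59, 0),
    (5, 0),
    (17, 0),
    (12, 0),
    (33, 0),
    (34, 0),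
    (56, 0),
    (13, 0),
    (32, 0),
    (43, 0),
    (44, 0),
    (37, 0),
    (1, 0),
    (41, 0),
    (7, 0),
    (35, 0),
    (11, 0),
    (55, 0),
    (45, 0),
    (46, 0),
    (22, 0),
    (51, 0),
    (2, 0),
    (9, 0),
    (3, 0),
    (0, 0),
    (40, 0),
    (58, 0),
    (59, 0),
    (14, 0),
    (25, 0),
    (21, 0),
    (37, 0),
    (28, 0),
    (47, 0),
    (15, 0),
    (35, 0),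
    (54, 0),
    (19, 0),
    (4, 0),
    (10, 0),
    (32, 0),
    (43, 0),
    (56, 0),
    (13, 0),
    (55, 0),
    (6, 0),
    (23, 0),
    (22, 0),
    (38, 0),
    (5, 0),
    (0, 0),
    (44, 0),
    (8, 0),
    (53, 0),
    (41, 0),
    (36, 0),
    (16, 0),
    (50, 0),
    (49, 0),
    (11, 0),
    (33, 0),
    (28, 0),
    (17, 0),
    (18, 0),
    (20, 0),
    (32, 0),
    (44, 0),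
    (59, 0),
    (16, 0),
    (19, 0),
    (45, 0),
    (37, 0),
    (51, 0),
    (31, 0),
    (40, 0),
    (9, 0),
    (3, 0),
    (4, 0),
    (10, 0),
    (5, 0),
    (57, 0),
    (49, 0),
    (55, 0),
    (43, 0),
    (39, 0),
    (53, 0),
    (0, 0),
    (2, 0),
    (54, 0),
    (48, 0),
    (14, 0),
    (6, 0),
    (1, 0),
    (42, 0),
    (36, 0),
    (27, 0),
    (33, 0),
    (30, 0),
    (22, 0),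
    (46, 0),
    (13, 0),
    (56, 0),
    (26, 0),
    (29, 0),
    (45, 0),
    (57, 0),
    (49, 0),
    (6, 0),
    (23, 0),
    (52, 0)]

def x_idem1Dest_8 : List (ℕ × ℕ) :=
  [(42, 0),
    (36, 0),
    (37, 0),
    (21, 0),
    (38, 0),
    (19, 0),
    (4, 0),
    (14, 0),
    (55, 0),
    (51, 0),
    (8, 0),
    (1, 0),
    (0, 0),
    (9, 0),
    (3, 0),
    (43, 0),
    (39, 0),
    (2, 0),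
    (54, 0),
    (48, 0),
    (10, 0),
    (24, 0),
    (28, 0),
    (36, 0),
    (42, 0),
    (48, 0),
    (54, 0),
    (58, 0),
    (30, 0),
    (1, 0),
    (31, 0),
    (53, 0),
    (15, 0),
    (56, 0),
    (13, 0),
    (21, 0),
    (38, 0),
    (45, 0),
    (46, 0),
    (22, 0),
    (16, 0),
    (20, 0),
    (34, 0),
    (2, 0),
    (55, 0),
    (44, 0),
    (37, 0),
    (3, 0),
    (0, 0),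
    (9, 0),
    (11, 0),
    (47, 0),
    (51, 0),
    (23, 0),
    (52, 0),
    (18, 0),
    (25, 0),
    (29, 0),
    (38, 0),
    (21, 0),
    (52, 0),
    (23, 0),
    (40, 0),
    (28, 0),
    (37, 0),
    (59, 0),
    (32, 0),
    (35, 0),
    (54, 0),
    (48, 0),
    (46, 0),
    (22, 0),
    (1, 0),
    (42, 0),
    (36, 0),
    (5, 0),
    (17, 0),
    (7, 0),
    (51, 0),
    (2, 0),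
    (50, 0),
    (45, 0),
    (9, 0),
    (3, 0),
    (0, 0),
    (41, 0),
    (12, 0),
    (55, 0),
    (56, 0),
    (13, 0),
    (34, 0),
    (21, 0),
    (39, 0),
    (51, 0),
    (52, 0),
    (27, 0),
    (17, 0),
    (18, 0),
    (40, 0),
    (23, 0),
    (29, 0),
    (46, 0),
    (59, 0),
    (32, 0),
    (43, 0),
    (24, 0),
    (7, 0),
    (8, 0),
    (53, 0),
    (41, 0),
    (2, 0),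
    (57, 0),
    (10, 0),
    (16, 0),
    (44, 0),
    (55, 0),
    (6, 0),
    (49, 0),
    (11, 0),
    (50, 0)]

def x_idem1Dest_9 : List (ℕ × ℕ) :=
  [(0, 0),
    (14, 0),
    (36, 0),
    (1, 0),
    (42, 0),
    (35, 0),
    (22, 0),
    (44, 0),
    (59, 0),
    (47, 0),
    (31, 0),
    (39, 0),
    (51, 0),
    (43, 0),
    (26, 0),
    (38, 0),
    (30, 0),
    (18, 0),
    (27, 0),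
    (16, 0),
    (15, 0),
    (25, 0),
    (13, 0),
    (55, 0),
    (56, 0),
    (49, 0),
    (2, 0),
    (53, 0),
    (40, 0),
    (17, 0),
    (10, 0),
    (14, 0),
    (57, 0),
    (58, 0),
    (12, 0),
    (6, 0),
    (0, 0),
    (42, 0),
    (36, 0),
    (1, 0),
    (28, 0),
    (27, 0),
    (35, 0),
    (12, 0),
    (58, 0),
    (25, 0),
    (15, 0),
    (47, 0),
    (34, 0),
    (57, 0),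
    (19, 0),
    (4, 0),
    (39, 0),
    (24, 0),
    (7, 0),
    (54, 0),
    (48, 0),
    (49, 0),
    (11, 0),
    (50, 0),
    (45, 0),
    (37, 0),
    (43, 0),
    (14, 0),
    (6, 0),
    (41, 0),
    (2, 0),
    (1, 0),
    (42, 0),
    (36, 0),
    (55, 0),
    (51, 0),
    (0, 0),
    (9, 0),
    (3, 0),
    (21, 0),
    (31, 0),
    (33, 0),
    (48, 0),
    (54, 0),
    (3, 0),
    (9, 0),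
    (20, 0),
    (35, 0),
    (2, 0),
    (23, 0),
    (8, 0),
    (44, 0),
    (15, 0),
    (25, 0),
    (11, 0),
    (50, 0),
    (57, 0),
    (58, 0),
    (12, 0),
    (29, 0),
    (46, 0),
    (16, 0),
    (0, 0),
    (14, 0),
    (56, 0),
    (49, 0),
    (36, 0),
    (1, 0),
    (42, 0),
    (10, 0),
    (59, 0),
    (6, 0),
    (24, 0),
    (7, 0),
    (22, 0),
    (32, 0),
    (34, 0),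
    (50, 0),
    (11, 0),
    (7, 0),
    (24, 0),
    (52, 0),
    (33, 0),
    (49, 0)]

def x_idem1Dest_10 : List (ℕ × ℕ) :=
  [(26, 0),
    (13, 0),
    (17, 0),
    (9, 0),
    (3, 0),
    (58, 0),
    (12, 0),
    (2, 0),
    (54, 0),
    (48, 0),
    (38, 0),
    (30, 0),
    (40, 0),
    (6, 0),
    (0, 0),
    (5, 0),
    (57, 0),
    (42, 0),
    (36, 0),
    (1, 0),
    (53, 0),
    (18, 0),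
    (14, 0),
    (15, 0),
    (25, 0),
    (1, 0),
    (2, 0),
    (3, 0),
    (4, 0),
    (5, 0),
    (6, 0),
    (7, 0),
    (8, 0),
    (9, 0),
    (10, 0),
    (11, 0),
    (12, 0),
    (13, 0),
    (14, 0),
    (15, 0),
    (16, 0),
    (17, 0),
    (18, 0),
    (19, 0),
    (20, 0),
    (21, 0),
    (22, 0),
    (23, 0),
    (24, 0),
    (25, 0),
    (26, 0),
    (27, 0),
    (28, 0),
    (29, 0),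
    (30, 0),
    (31, 0),
    (32, 0),
    (33, 0),
    (34, 0),
    (35, 0)]

def x_idem1Dest : List (ℕ × ℕ) :=
  x_idem1Dest_0 ++ x_idem1Dest_1 ++ x_idem1Dest_2 ++ x_idem1Dest_3 ++ x_idem1Dest_4 ++ x_idem1Dest_5 ++ x_idem1Dest_6 ++ x_idem1Dest_7 ++ x_idem1Dest_8 ++ x_idem1Dest_9 ++ x_idem1Dest_10

def x_com1_0Dest_0 : List (ℕ × ℕ) :=
  [(2, 0),
    (0, 0),
    (36, 0),
    (37, 0),
    (38, 0),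
    (39, 0),
    (40, 0),
    (41, 0),
    (42, 0),
    (21, 0),
    (10, 0),
    (18, 0),
    (25, 0),
    (43, 0),
    (44, 0),
    (29, 0),
    (30, 0),
    (22, 0),
    (45, 0),
    (46, 0),
    (11, 0),
    (12, 0),
    (24, 0),
    (31, 0),
    (32, 0),
    (47, 0),
    (28, 0),
    (33, 0),
    (34, 0),
    (35, 0),
    (23, 0),
    (13, 0),
    (27, 0),
    (16, 0),
    (17, 0),
    (2, 0),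
    (0, 0),
    (37, 0),
    (39, 0),
    (41, 0),
    (36, 0),
    (46, 0),
    (44, 0),
    (45, 0),
    (24, 0),
    (23, 0),
    (13, 0),
    (17, 0),
    (42, 0),
    (38, 0),
    (11, 0),
    (12, 0),
    (25, 0),
    (43, 0),
    (47, 0),
    (31, 0),
    (32, 0),
    (16, 0),
    (29, 0),
    (30, 0),
    (40, 0),
    (33, 0),
    (27, 0),
    (10, 0),
    (18, 0),
    (34, 0),
    (35, 0),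
    (28, 0),
    (21, 0),
    (22, 0)]

def x_com1_0Dest : List (ℕ × ℕ) :=
  x_com1_0Dest_0

def x_com1_1Dest_0 : List (ℕ × ℕ) :=
  [(49, 0),
    (6, 0),
    (42, 0),
    (46, 0),
    (45, 0),
    (44, 0),
    (43, 0),
    (56, 0),
    (1, 0),
    (22, 0),
    (53, 0),
    (51, 0),
    (3, 0),
    (16, 0),
    (17, 0),
    (38, 0),
    (37, 0),
    (28, 0),
    (29, 0),
    (30, 0),
    (58, 0),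
    (48, 0),
    (15, 0),
    (32, 0),
    (27, 0),
    (20, 0),
    (21, 0),
    (34, 0),
    (35, 0),
    (33, 0),
    (26, 0),
    (4, 0),
    (31, 0),
    (40, 0),
    (39, 0),
    (48, 0),
    (3, 0),
    (38, 0),
    (40, 0),
    (53, 0),
    (42, 0),
    (45, 0),
    (43, 0),
    (22, 0),
    (6, 0),
    (51, 0),
    (56, 0),
    (16, 0),
    (1, 0),
    (21, 0),
    (49, 0),
    (58, 0),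
    (15, 0),
    (32, 0),
    (26, 0),
    (39, 0),
    (44, 0),
    (27, 0),
    (28, 0),
    (29, 0),
    (31, 0),
    (35, 0),
    (17, 0),
    (4, 0),
    (20, 0),
    (33, 0),
    (34, 0),
    (30, 0),
    (37, 0),
    (46, 0)]

def x_com1_1Dest : List (ℕ × ℕ) :=
  x_com1_1Dest_0

def x_com1_2Dest_0 : List (ℕ × ℕ) :=
  [(61, 0),
    (62, 0),
    (63, 0),
    (64, 0),
    (65, 0),
    (66, 0),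
    (67, 0),
    (68, 0),
    (69, 0),
    (70, 0),
    (71, 0),
    (72, 0),
    (73, 0),
    (74, 0),
    (75, 0),
    (76, 0),
    (77, 0),
    (78, 0),
    (79, 0),
    (80, 0),
    (81, 0),
    (82, 0),
    (83, 0),
    (84, 0),
    (85, 0),
    (86, 0),
    (87, 0),
    (88, 0),
    (89, 0),
    (90, 0),
    (91, 0),
    (92, 0),
    (93, 0),
    (94, 0),
    (95, 0),
    (61, 0),
    (62, 0),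
    (63, 0),
    (64, 0),
    (65, 0),
    (66, 0),
    (67, 0),
    (68, 0),
    (69, 0),
    (70, 0),
    (71, 0),
    (72, 0),
    (73, 0),
    (74, 0),
    (75, 0),
    (76, 0),
    (77, 0),
    (78, 0),
    (79, 0),
    (80, 0),
    (81, 0),
    (82, 0),
    (83, 0),
    (84, 0),
    (85, 0),
    (86, 0),
    (87, 0),
    (88, 0),
    (89, 0),
    (90, 0),
    (91, 0),
    (92, 0),
    (93, 0),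
    (94, 0),
    (95, 0)]

def x_com1_2Dest : List (ℕ × ℕ) :=
  x_com1_2Dest_0

def x_com1_3Dest_0 : List (ℕ × ℕ) :=
  [(97, 0),
    (98, 0),
    (99, 0),
    (100, 0),
    (101, 0),
    (102, 0),
    (103, 0),
    (104, 0),
    (105, 0),
    (106, 0),
    (107, 0),
    (108, 0),
    (109, 0),
    (110, 0),
    (111, 0),
    (112, 0),
    (113, 0),
    (114, 0),
    (115, 0),
    (116, 0),
    (117, 0),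
    (118, 0),
    (119, 0),
    (120, 0),
    (121, 0),
    (122, 0),
    (123, 0),
    (124, 0),
    (125, 0),
    (126, 0),
    (127, 0),
    (128, 0),
    (129, 0),
    (130, 0),
    (131, 0),
    (97, 0),
    (98, 0),
    (99, 0),
    (100, 0),
    (101, 0),
    (102, 0),
    (103, 0),
    (104, 0),
    (105, 0),
    (106, 0),
    (107, 0),
    (108, 0),
    (109, 0),
    (110, 0),
    (111, 0),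
    (112, 0),
    (113, 0),
    (114, 0),
    (115, 0),
    (116, 0),
    (117, 0),
    (118, 0),
    (119, 0),
    (120, 0),
    (121, 0),
    (122, 0),
    (123, 0),
    (124, 0),
    (125, 0),
    (126, 0),
    (127, 0),
    (128, 0),
    (129, 0),
    (130, 0),
    (131, 0)]

def x_com1_3Dest : List (ℕ × ℕ) :=
  x_com1_3Dest_0

def x_idem2Dest_0 : List (ℕ × ℕ) :=
  [(132, 0),
    (0, 0),
    (96, 0),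
    (166, 0),
    (167, 0),
    (168, 0),
    (169, 0),
    (170, 0),
    (171, 0),
    (151, 0),
    (140, 0),
    (148, 0),
    (155, 0),
    (172, 0),
    (173, 0),
    (159, 0),
    (160, 0),
    (152, 0),
    (174, 0),
    (175, 0),
    (141, 0),
    (142, 0),
    (154, 0),
    (161, 0),
    (162, 0),
    (176, 0),
    (158, 0),
    (163, 0),
    (164, 0),
    (165, 0),
    (153, 0),
    (143, 0),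
    (157, 0),
    (146, 0),
    (147, 0),
    (0, 0),
    (60, 0),
    (177, 0),
    (178, 0),
    (179, 0),
    (180, 0),
    (181, 0),
    (182, 0),
    (183, 0),
    (141, 0),
    (151, 0),
    (152, 0),
    (162, 0),
    (184, 0),
    (185, 0),
    (164, 0),
    (165, 0),
    (142, 0),
    (186, 0),
    (187, 0),
    (140, 0),
    (148, 0),
    (161, 0),
    (153, 0),
    (143, 0),
    (188, 0),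
    (163, 0),
    (157, 0),
    (146, 0),
    (147, 0),
    (154, 0),
    (155, 0),
    (158, 0),
    (159, 0),
    (160, 0),
    (166, 0),
    (180, 0),
    (139, 0),
    (150, 0),
    (149, 0),
    (145, 0),
    (144, 0),
    (173, 0),
    (0, 0),
    (148, 0),
    (170, 0),
    (168, 0),
    (177, 0),
    (164, 0),
    (165, 0),
    (135, 0),
    (134, 0),
    (157, 0),
    (146, 0),
    (147, 0),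
    (175, 0),
    (96, 0),
    (185, 0),
    (155, 0),
    (163, 0),
    (187, 0),
    (140, 0),
    (159, 0),
    (160, 0),
    (158, 0),
    (188, 0),
    (178, 0),
    (154, 0),
    (137, 0),
    (136, 0),
    (168, 0),
    (177, 0),
    (135, 0),
    (149, 0),
    (148, 0),
    (156, 0),
    (188, 0),
    (144, 0),
    (140, 0),
    (150, 0),
    (142, 0),
    (163, 0),
    (158, 0),
    (151, 0),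
    (167, 0)]

def x_idem2Dest_1 : List (ℕ × ℕ) :=
  [(147, 0),
    (157, 0),
    (133, 0),
    (0, 0),
    (139, 0),
    (138, 0),
    (136, 0),
    (143, 0),
    (176, 0),
    (166, 0),
    (152, 0),
    (146, 0),
    (153, 0),
    (181, 0),
    (180, 0),
    (173, 0),
    (96, 0),
    (141, 0),
    (179, 0),
    (178, 0),
    (170, 0),
    (185, 0),
    (140, 0),
    (139, 0),
    (0, 0),
    (167, 0),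
    (151, 0),
    (171, 0),
    (134, 0),
    (133, 0),
    (155, 0),
    (172, 0),
    (183, 0),
    (179, 0),
    (178, 0),
    (148, 0),
    (149, 0),
    (146, 0),
    (147, 0),
    (157, 0),
    (137, 0),
    (169, 0),
    (160, 0),
    (166, 0),
    (141, 0),
    (165, 0),
    (150, 0),
    (181, 0),
    (180, 0),
    (153, 0),
    (175, 0),
    (187, 0),
    (176, 0),
    (188, 0),
    (156, 0),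
    (96, 0),
    (178, 0),
    (137, 0),
    (138, 0),
    (170, 0),
    (144, 0),
    (155, 0),
    (143, 0),
    (154, 0),
    (182, 0),
    (187, 0),
    (177, 0),
    (134, 0),
    (0, 0),
    (139, 0),
    (169, 0),
    (168, 0),
    (180, 0),
    (153, 0),
    (181, 0),
    (152, 0),
    (158, 0),
    (156, 0),
    (145, 0),
    (133, 0),
    (149, 0),
    (161, 0),
    (151, 0),
    (167, 0),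
    (166, 0),
    (162, 0),
    (157, 0),
    (164, 0),
    (165, 0),
    (163, 0),
    (175, 0),
    (188, 0),
    (154, 0),
    (181, 0),
    (153, 0),
    (139, 0),
    (0, 0),
    (147, 0),
    (136, 0),
    (180, 0),
    (185, 0),
    (173, 0),
    (179, 0),
    (165, 0),
    (163, 0),
    (170, 0),
    (138, 0),
    (161, 0),
    (169, 0),
    (168, 0),
    (160, 0),
    (171, 0),
    (135, 0),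
    (133, 0),
    (164, 0),
    (183, 0),
    (182, 0),
    (167, 0),
    (166, 0),
    (151, 0)]

def x_idem2Dest_2 : List (ℕ × ℕ) :=
  [(148, 0),
    (186, 0),
    (145, 0),
    (155, 0),
    (144, 0),
    (173, 0),
    (179, 0),
    (170, 0),
    (153, 0),
    (180, 0),
    (149, 0),
    (148, 0),
    (0, 0),
    (182, 0),
    (181, 0),
    (177, 0),
    (164, 0),
    (151, 0),
    (152, 0),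
    (174, 0),
    (168, 0),
    (161, 0),
    (137, 0),
    (136, 0),
    (154, 0),
    (143, 0),
    (144, 0),
    (134, 0),
    (150, 0),
    (175, 0),
    (158, 0),
    (169, 0),
    (156, 0),
    (176, 0),
    (188, 0),
    (147, 0),
    (171, 0),
    (187, 0),
    (142, 0),
    (186, 0),
    (174, 0),
    (184, 0),
    (0, 0),
    (147, 0),
    (146, 0),
    (165, 0),
    (164, 0),
    (179, 0),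
    (133, 0),
    (157, 0),
    (172, 0),
    (176, 0),
    (181, 0),
    (137, 0),
    (136, 0),
    (149, 0),
    (150, 0),
    (140, 0),
    (135, 0),
    (134, 0),
    (171, 0),
    (167, 0),
    (183, 0),
    (163, 0),
    (154, 0),
    (169, 0),
    (148, 0),
    (160, 0),
    (158, 0),
    (159, 0),
    (186, 0),
    (182, 0),
    (155, 0),
    (144, 0),
    (145, 0),
    (154, 0),
    (159, 0),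
    (134, 0),
    (157, 0),
    (147, 0),
    (178, 0),
    (179, 0),
    (186, 0),
    (135, 0),
    (146, 0),
    (60, 0),
    (174, 0),
    (184, 0),
    (188, 0),
    (156, 0),
    (0, 0),
    (139, 0),
    (150, 0),
    (148, 0),
    (149, 0),
    (161, 0),
    (182, 0),
    (132, 0),
    (141, 0),
    (176, 0),
    (162, 0),
    (133, 0),
    (180, 0),
    (153, 0),
    (181, 0),
    (164, 0),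
    (145, 0),
    (166, 0),
    (151, 0),
    (167, 0),
    (153, 0),
    (146, 0),
    (178, 0),
    (163, 0),
    (165, 0),
    (166, 0),
    (167, 0),
    (174, 0),
    (179, 0),
    (164, 0)]

def x_idem2Dest_3 : List (ℕ × ℕ) :=
  [(0, 0),
    (149, 0),
    (172, 0),
    (176, 0),
    (188, 0),
    (132, 0),
    (183, 0),
    (187, 0),
    (142, 0),
    (186, 0),
    (154, 0),
    (170, 0),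
    (60, 0),
    (151, 0),
    (156, 0),
    (155, 0),
    (177, 0),
    (168, 0),
    (161, 0),
    (169, 0),
    (159, 0),
    (185, 0),
    (134, 0),
    (140, 0),
    (135, 0),
    (143, 0),
    (147, 0),
    (187, 0),
    (141, 0),
    (178, 0),
    (170, 0),
    (182, 0),
    (154, 0),
    (186, 0),
    (179, 0),
    (134, 0),
    (0, 0),
    (60, 0),
    (174, 0),
    (175, 0),
    (177, 0),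
    (132, 0),
    (165, 0),
    (163, 0),
    (164, 0),
    (176, 0),
    (155, 0),
    (168, 0),
    (138, 0),
    (152, 0),
    (166, 0),
    (183, 0),
    (172, 0),
    (173, 0),
    (162, 0),
    (181, 0),
    (160, 0),
    (149, 0),
    (150, 0),
    (148, 0),
    (147, 0),
    (142, 0),
    (185, 0),
    (156, 0),
    (188, 0),
    (153, 0),
    (180, 0),
    (136, 0),
    (184, 0),
    (176, 0),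
    (179, 0),
    (165, 0),
    (152, 0),
    (158, 0),
    (159, 0),
    (173, 0),
    (162, 0),
    (155, 0),
    (144, 0),
    (145, 0),
    (134, 0),
    (0, 0),
    (138, 0),
    (181, 0),
    (160, 0),
    (151, 0),
    (172, 0),
    (149, 0),
    (150, 0),
    (148, 0),
    (168, 0),
    (60, 0),
    (183, 0),
    (177, 0),
    (132, 0),
    (171, 0),
    (186, 0),
    (155, 0),
    (143, 0),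
    (185, 0),
    (0, 0),
    (133, 0),
    (134, 0),
    (145, 0),
    (184, 0),
    (183, 0),
    (179, 0),
    (138, 0),
    (136, 0),
    (154, 0),
    (172, 0),
    (173, 0),
    (188, 0),
    (156, 0),
    (176, 0),
    (158, 0),
    (151, 0),
    (149, 0),
    (139, 0),
    (137, 0)]

def x_idem2Dest_4 : List (ℕ × ℕ) :=
  [(153, 0),
    (162, 0),
    (152, 0),
    (174, 0),
    (175, 0),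
    (157, 0),
    (161, 0),
    (165, 0),
    (163, 0),
    (164, 0),
    (167, 0),
    (182, 0),
    (144, 0),
    (173, 0),
    (172, 0),
    (164, 0),
    (163, 0),
    (177, 0),
    (155, 0),
    (162, 0),
    (169, 0),
    (181, 0),
    (150, 0),
    (133, 0),
    (0, 0),
    (156, 0),
    (176, 0),
    (184, 0),
    (185, 0),
    (143, 0),
    (96, 0),
    (159, 0),
    (187, 0),
    (165, 0),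
    (139, 0),
    (146, 0),
    (188, 0),
    (175, 0),
    (152, 0),
    (174, 0),
    (178, 0),
    (140, 0),
    (137, 0),
    (136, 0),
    (154, 0),
    (141, 0),
    (153, 0),
    (157, 0),
    (133, 0),
    (139, 0),
    (96, 0),
    (171, 0),
    (175, 0),
    (147, 0),
    (0, 0),
    (154, 0),
    (170, 0),
    (185, 0),
    (173, 0),
    (162, 0),
    (140, 0),
    (135, 0),
    (149, 0),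
    (150, 0),
    (148, 0),
    (164, 0),
    (187, 0),
    (159, 0),
    (60, 0),
    (172, 0),
    (145, 0),
    (134, 0),
    (177, 0),
    (132, 0),
    (183, 0),
    (151, 0),
    (156, 0),
    (168, 0),
    (161, 0),
    (169, 0),
    (142, 0),
    (143, 0),
    (146, 0),
    (135, 0),
    (140, 0),
    (169, 0),
    (161, 0),
    (137, 0),
    (157, 0),
    (134, 0),
    (176, 0),
    (155, 0),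
    (160, 0),
    (171, 0),
    (96, 0),
    (150, 0),
    (148, 0),
    (0, 0),
    (139, 0),
    (133, 0),
    (179, 0),
    (165, 0),
    (181, 0),
    (168, 0),
    (60, 0),
    (167, 0),
    (149, 0),
    (183, 0),
    (177, 0),
    (132, 0),
    (138, 0),
    (152, 0),
    (172, 0),
    (173, 0),
    (162, 0),
    (155, 0),
    (160, 0),
    (150, 0),
    (140, 0),
    (134, 0)]

def x_idem2Dest_5 : List (ℕ × ℕ) :=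
  [(182, 0),
    (138, 0),
    (161, 0),
    (149, 0),
    (135, 0),
    (166, 0),
    (60, 0),
    (132, 0),
    (186, 0),
    (187, 0),
    (133, 0),
    (0, 0),
    (147, 0),
    (157, 0),
    (146, 0),
    (188, 0),
    (162, 0),
    (180, 0),
    (170, 0),
    (142, 0),
    (178, 0),
    (139, 0),
    (184, 0),
    (185, 0),
    (143, 0),
    (137, 0),
    (165, 0),
    (174, 0),
    (175, 0),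
    (152, 0),
    (172, 0),
    (183, 0),
    (148, 0),
    (0, 0),
    (133, 0),
    (152, 0),
    (175, 0),
    (151, 0),
    (150, 0),
    (139, 0),
    (163, 0),
    (141, 0),
    (153, 0),
    (138, 0),
    (182, 0),
    (157, 0),
    (146, 0),
    (135, 0),
    (134, 0),
    (140, 0),
    (144, 0),
    (156, 0),
    (158, 0),
    (174, 0),
    (170, 0),
    (136, 0),
    (147, 0),
    (143, 0),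
    (184, 0),
    (185, 0),
    (171, 0),
    (169, 0),
    (142, 0),
    (186, 0),
    (187, 0),
    (176, 0),
    (181, 0),
    (149, 0),
    (146, 0),
    (157, 0),
    (187, 0),
    (186, 0),
    (164, 0),
    (148, 0),
    (147, 0),
    (168, 0),
    (154, 0),
    (159, 0),
    (175, 0),
    (152, 0),
    (134, 0),
    (140, 0),
    (139, 0),
    (133, 0),
    (0, 0),
    (173, 0),
    (145, 0),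
    (177, 0),
    (142, 0),
    (174, 0),
    (96, 0),
    (135, 0),
    (185, 0),
    (143, 0),
    (184, 0),
    (179, 0),
    (167, 0),
    (170, 0),
    (138, 0),
    (182, 0),
    (161, 0),
    (164, 0),
    (166, 0),
    (158, 0),
    (160, 0),
    (134, 0),
    (135, 0),
    (149, 0),
    (167, 0),
    (159, 0),
    (132, 0),
    (186, 0),
    (144, 0),
    (156, 0),
    (176, 0),
    (60, 0),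
    (171, 0),
    (175, 0),
    (152, 0),
    (174, 0)]

def x_idem2Dest_6 : List (ℕ × ℕ) :=
  [(153, 0),
    (138, 0),
    (0, 0),
    (140, 0),
    (188, 0),
    (143, 0),
    (96, 0),
    (136, 0),
    (154, 0),
    (137, 0),
    (146, 0),
    (173, 0),
    (178, 0),
    (141, 0),
    (179, 0),
    (162, 0),
    (165, 0),
    (175, 0),
    (151, 0),
    (166, 0),
    (138, 0),
    (170, 0),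
    (153, 0),
    (174, 0),
    (167, 0),
    (178, 0),
    (132, 0),
    (0, 0),
    (149, 0),
    (150, 0),
    (96, 0),
    (60, 0),
    (160, 0),
    (158, 0),
    (159, 0),
    (156, 0),
    (143, 0),
    (136, 0),
    (182, 0),
    (148, 0),
    (134, 0),
    (171, 0),
    (144, 0),
    (145, 0),
    (155, 0),
    (169, 0),
    (147, 0),
    (186, 0),
    (187, 0),
    (142, 0),
    (146, 0),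
    (141, 0),
    (180, 0),
    (136, 0),
    (137, 0),
    (158, 0),
    (160, 0),
    (152, 0),
    (181, 0),
    (154, 0),
    (164, 0),
    (187, 0),
    (156, 0),
    (143, 0),
    (184, 0),
    (161, 0),
    (169, 0),
    (170, 0),
    (138, 0),
    (182, 0),
    (0, 0),
    (149, 0),
    (151, 0),
    (159, 0),
    (185, 0),
    (144, 0),
    (168, 0),
    (134, 0),
    (140, 0),
    (135, 0),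
    (60, 0),
    (172, 0),
    (177, 0),
    (132, 0),
    (183, 0),
    (159, 0),
    (140, 0),
    (136, 0),
    (168, 0),
    (169, 0),
    (163, 0),
    (165, 0),
    (142, 0),
    (137, 0),
    (161, 0),
    (146, 0),
    (150, 0),
    (176, 0),
    (155, 0),
    (144, 0),
    (153, 0),
    (181, 0),
    (182, 0),
    (170, 0),
    (138, 0),
    (60, 0),
    (174, 0),
    (141, 0),
    (164, 0),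
    (145, 0),
    (172, 0),
    (180, 0),
    (166, 0),
    (151, 0),
    (167, 0),
    (132, 0),
    (184, 0),
    (133, 0),
    (0, 0),
    (139, 0)]

def x_idem2Dest_7 : List (ℕ × ℕ) :=
  [(160, 0),
    (148, 0),
    (145, 0),
    (176, 0),
    (156, 0),
    (154, 0),
    (136, 0),
    (168, 0),
    (144, 0),
    (188, 0),
    (135, 0),
    (147, 0),
    (142, 0),
    (163, 0),
    (164, 0),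
    (185, 0),
    (143, 0),
    (162, 0),
    (172, 0),
    (173, 0),
    (166, 0),
    (60, 0),
    (170, 0),
    (137, 0),
    (165, 0),
    (141, 0),
    (184, 0),
    (174, 0),
    (175, 0),
    (152, 0),
    (180, 0),
    (132, 0),
    (139, 0),
    (133, 0),
    (0, 0),
    (169, 0),
    (187, 0),
    (188, 0),
    (144, 0),
    (155, 0),
    (151, 0),
    (166, 0),
    (158, 0),
    (176, 0),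
    (145, 0),
    (165, 0),
    (183, 0),
    (149, 0),
    (134, 0),
    (140, 0),
    (162, 0),
    (172, 0),
    (185, 0),
    (143, 0),
    (184, 0),
    (136, 0),
    (153, 0),
    (152, 0),
    (167, 0),
    (135, 0),
    (0, 0),
    (173, 0),
    (138, 0),
    (182, 0),
    (170, 0),
    (96, 0),
    (146, 0),
    (179, 0),
    (178, 0),
    (141, 0),
    (163, 0),
    (158, 0),
    (147, 0),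
    (148, 0),
    (150, 0),
    (162, 0),
    (173, 0),
    (188, 0),
    (146, 0),
    (149, 0),
    (174, 0),
    (166, 0),
    (180, 0),
    (161, 0),
    (169, 0),
    (139, 0),
    (133, 0),
    (134, 0),
    (140, 0),
    (135, 0),
    (186, 0),
    (178, 0),
    (184, 0),
    (172, 0),
    (168, 0),
    (182, 0),
    (0, 0),
    (132, 0),
    (183, 0),
    (177, 0),
    (144, 0),
    (136, 0),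
    (60, 0),
    (171, 0),
    (96, 0),
    (157, 0),
    (163, 0),
    (160, 0),
    (152, 0),
    (175, 0),
    (143, 0),
    (185, 0),
    (156, 0),
    (159, 0),
    (174, 0),
    (186, 0),
    (178, 0),
    (136, 0),
    (153, 0),
    (181, 0)]

def x_idem2Dest_8 : List (ℕ × ℕ) :=
  [(171, 0),
    (96, 0),
    (166, 0),
    (151, 0),
    (167, 0),
    (149, 0),
    (134, 0),
    (144, 0),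
    (184, 0),
    (180, 0),
    (138, 0),
    (60, 0),
    (0, 0),
    (139, 0),
    (133, 0),
    (172, 0),
    (168, 0),
    (132, 0),
    (183, 0),
    (177, 0),
    (140, 0),
    (154, 0),
    (158, 0),
    (96, 0),
    (171, 0),
    (177, 0),
    (183, 0),
    (187, 0),
    (160, 0),
    (60, 0),
    (161, 0),
    (182, 0),
    (145, 0),
    (185, 0),
    (143, 0),
    (151, 0),
    (167, 0),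
    (174, 0),
    (175, 0),
    (152, 0),
    (146, 0),
    (150, 0),
    (164, 0),
    (132, 0),
    (184, 0),
    (173, 0),
    (166, 0),
    (133, 0),
    (0, 0),
    (139, 0),
    (141, 0),
    (176, 0),
    (180, 0),
    (153, 0),
    (181, 0),
    (148, 0),
    (155, 0),
    (159, 0),
    (167, 0),
    (151, 0),
    (181, 0),
    (153, 0),
    (169, 0),
    (158, 0),
    (166, 0),
    (188, 0),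
    (162, 0),
    (165, 0),
    (183, 0),
    (177, 0),
    (175, 0),
    (152, 0),
    (60, 0),
    (171, 0),
    (96, 0),
    (135, 0),
    (147, 0),
    (137, 0),
    (180, 0),
    (132, 0),
    (179, 0),
    (174, 0),
    (139, 0),
    (133, 0),
    (0, 0),
    (170, 0),
    (142, 0),
    (184, 0),
    (185, 0),
    (143, 0),
    (164, 0),
    (151, 0),
    (168, 0),
    (180, 0),
    (181, 0),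
    (157, 0),
    (147, 0),
    (148, 0),
    (169, 0),
    (153, 0),
    (159, 0),
    (175, 0),
    (188, 0),
    (162, 0),
    (172, 0),
    (154, 0),
    (137, 0),
    (138, 0),
    (182, 0),
    (170, 0),
    (132, 0),
    (186, 0),
    (140, 0),
    (146, 0),
    (173, 0),
    (184, 0),
    (136, 0),
    (178, 0),
    (141, 0),
    (179, 0)]

def x_idem2Dest_9 : List (ℕ × ℕ) :=
  [(0, 0),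
    (144, 0),
    (96, 0),
    (60, 0),
    (171, 0),
    (165, 0),
    (152, 0),
    (173, 0),
    (188, 0),
    (176, 0),
    (161, 0),
    (168, 0),
    (180, 0),
    (172, 0),
    (156, 0),
    (167, 0),
    (160, 0),
    (148, 0),
    (157, 0),
    (146, 0),
    (145, 0),
    (155, 0),
    (143, 0),
    (184, 0),
    (185, 0),
    (178, 0),
    (132, 0),
    (182, 0),
    (169, 0),
    (147, 0),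
    (140, 0),
    (144, 0),
    (186, 0),
    (187, 0),
    (142, 0),
    (136, 0),
    (0, 0),
    (171, 0),
    (96, 0),
    (60, 0),
    (158, 0),
    (157, 0),
    (165, 0),
    (142, 0),
    (187, 0),
    (155, 0),
    (145, 0),
    (176, 0),
    (164, 0),
    (186, 0),
    (149, 0),
    (134, 0),
    (168, 0),
    (154, 0),
    (137, 0),
    (183, 0),
    (177, 0),
    (178, 0),
    (141, 0),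
    (179, 0),
    (174, 0),
    (166, 0),
    (172, 0),
    (144, 0),
    (136, 0),
    (170, 0),
    (132, 0),
    (60, 0),
    (171, 0),
    (96, 0),
    (184, 0),
    (180, 0),
    (0, 0),
    (139, 0),
    (133, 0),
    (151, 0),
    (161, 0),
    (163, 0),
    (177, 0),
    (183, 0),
    (133, 0),
    (139, 0),
    (150, 0),
    (165, 0),
    (132, 0),
    (153, 0),
    (138, 0),
    (173, 0),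
    (145, 0),
    (155, 0),
    (141, 0),
    (179, 0),
    (186, 0),
    (187, 0),
    (142, 0),
    (159, 0),
    (175, 0),
    (146, 0),
    (0, 0),
    (144, 0),
    (185, 0),
    (178, 0),
    (96, 0),
    (60, 0),
    (171, 0),
    (140, 0),
    (188, 0),
    (136, 0),
    (154, 0),
    (137, 0),
    (152, 0),
    (162, 0),
    (164, 0),
    (179, 0),
    (141, 0),
    (137, 0),
    (154, 0),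
    (181, 0),
    (163, 0),
    (178, 0)]

def x_idem2Dest_10 : List (ℕ × ℕ) :=
  [(156, 0),
    (143, 0),
    (147, 0),
    (139, 0),
    (133, 0),
    (187, 0),
    (142, 0),
    (132, 0),
    (183, 0),
    (177, 0),
    (167, 0),
    (160, 0),
    (169, 0),
    (136, 0),
    (0, 0),
    (135, 0),
    (186, 0),
    (171, 0),
    (96, 0),
    (60, 0),
    (182, 0),
    (148, 0),
    (144, 0),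
    (145, 0),
    (155, 0),
    (60, 0),
    (132, 0),
    (133, 0),
    (134, 0),
    (135, 0),
    (136, 0),
    (137, 0),
    (138, 0),
    (139, 0),
    (140, 0),
    (141, 0),
    (142, 0),
    (143, 0),
    (144, 0),
    (145, 0),
    (146, 0),
    (147, 0),
    (148, 0),
    (149, 0),
    (150, 0),
    (151, 0),
    (152, 0),
    (153, 0),
    (154, 0),
    (155, 0),
    (156, 0),
    (157, 0),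
    (158, 0),
    (159, 0),
    (160, 0),
    (161, 0),
    (162, 0),
    (163, 0),
    (164, 0),
    (165, 0)]

def x_idem2Dest : List (ℕ × ℕ) :=
  x_idem2Dest_0 ++ x_idem2Dest_1 ++ x_idem2Dest_2 ++ x_idem2Dest_3 ++ x_idem2Dest_4 ++ x_idem2Dest_5 ++ x_idem2Dest_6 ++ x_idem2Dest_7 ++ x_idem2Dest_8 ++ x_idem2Dest_9 ++ x_idem2Dest_10

def x_com2_0Dest_0 : List (ℕ × ℕ) :=
  [(132, 0),
    (0, 0),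
    (96, 0),
    (166, 0),
    (167, 0),
    (168, 0),
    (169, 0),
    (170, 0),
    (171, 0),
    (151, 0),
    (140, 0),
    (148, 0),
    (155, 0),
    (172, 0),
    (173, 0),
    (159, 0),
    (160, 0),
    (152, 0),
    (174, 0),
    (175, 0),
    (141, 0),
    (142, 0),
    (154, 0),
    (161, 0),
    (162, 0),
    (176, 0),
    (158, 0),
    (163, 0),
    (164, 0),
    (165, 0),
    (153, 0),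
    (143, 0),
    (157, 0),
    (146, 0),
    (147, 0),
    (132, 0),
    (0, 0),
    (166, 0),
    (168, 0),
    (170, 0),
    (96, 0),
    (175, 0),
    (173, 0),
    (174, 0),
    (154, 0),
    (153, 0),
    (143, 0),
    (147, 0),
    (171, 0),
    (167, 0),
    (141, 0),
    (142, 0),
    (155, 0),
    (172, 0),
    (176, 0),
    (161, 0),
    (162, 0),
    (146, 0),
    (159, 0),
    (160, 0),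
    (169, 0),
    (163, 0),
    (157, 0),
    (140, 0),
    (148, 0),
    (164, 0),
    (165, 0),
    (158, 0),
    (151, 0),
    (152, 0)]

def x_com2_0Dest : List (ℕ × ℕ) :=
  x_com2_0Dest_0

def x_com2_1Dest_0 : List (ℕ × ℕ) :=
  [(178, 0),
    (136, 0),
    (171, 0),
    (175, 0),
    (174, 0),
    (173, 0),
    (172, 0),
    (185, 0),
    (60, 0),
    (152, 0),
    (182, 0),
    (180, 0),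
    (133, 0),
    (146, 0),
    (147, 0),
    (167, 0),
    (166, 0),
    (158, 0),
    (159, 0),
    (160, 0),
    (187, 0),
    (177, 0),
    (145, 0),
    (162, 0),
    (157, 0),
    (150, 0),
    (151, 0),
    (164, 0),
    (165, 0),
    (163, 0),
    (156, 0),
    (134, 0),
    (161, 0),
    (169, 0),
    (168, 0),
    (177, 0),
    (133, 0),
    (167, 0),
    (169, 0),
    (182, 0),
    (171, 0),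
    (174, 0),
    (172, 0),
    (152, 0),
    (136, 0),
    (180, 0),
    (185, 0),
    (146, 0),
    (60, 0),
    (151, 0),
    (178, 0),
    (187, 0),
    (145, 0),
    (162, 0),
    (156, 0),
    (168, 0),
    (173, 0),
    (157, 0),
    (158, 0),
    (159, 0),
    (161, 0),
    (165, 0),
    (147, 0),
    (134, 0),
    (150, 0),
    (163, 0),
    (164, 0),
    (160, 0),
    (166, 0),
    (175, 0)]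

def x_com2_1Dest : List (ℕ × ℕ) :=
  x_com2_1Dest_0

def x_com2_2Dest_0 : List (ℕ × ℕ) :=
  [(61, 0),
    (189, 0),
    (190, 0),
    (191, 0),
    (192, 0),
    (193, 0),
    (194, 0),
    (195, 0),
    (196, 0),
    (197, 0),
    (198, 0),
    (199, 0),
    (200, 0),
    (201, 0),
    (202, 0),
    (203, 0),
    (204, 0),
    (205, 0),
    (206, 0),
    (207, 0),
    (208, 0),
    (209, 0),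
    (210, 0),
    (211, 0),
    (212, 0),
    (213, 0),
    (214, 0),
    (215, 0),
    (216, 0),
    (217, 0),
    (218, 0),
    (219, 0),
    (220, 0),
    (221, 0),
    (222, 0),
    (61, 0),
    (189, 0),
    (190, 0),
    (191, 0),
    (192, 0),
    (193, 0),
    (194, 0),
    (195, 0),
    (196, 0),
    (197, 0),
    (198, 0),
    (199, 0),
    (200, 0),
    (201, 0),
    (202, 0),
    (203, 0),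
    (204, 0),
    (205, 0),
    (206, 0),
    (207, 0),
    (208, 0),
    (209, 0),
    (210, 0),
    (211, 0),
    (212, 0),
    (213, 0),
    (214, 0),
    (215, 0),
    (216, 0),
    (217, 0),
    (218, 0),
    (219, 0),
    (220, 0),
    (221, 0),
    (222, 0)]

def x_com2_2Dest : List (ℕ × ℕ) :=
  x_com2_2Dest_0

def x_com2_3Dest_0 : List (ℕ × ℕ) :=
  [(223, 0),
    (224, 0),
    (225, 0),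
    (226, 0),
    (227, 0),
    (228, 0),
    (229, 0),
    (230, 0),
    (231, 0),
    (232, 0),
    (233, 0),
    (234, 0),
    (235, 0),
    (236, 0),
    (237, 0),
    (238, 0),
    (239, 0),
    (240, 0),
    (241, 0),
    (242, 0),
    (243, 0),
    (244, 0),
    (245, 0),
    (246, 0),
    (247, 0),
    (248, 0),
    (249, 0),
    (250, 0),
    (251, 0),
    (252, 0),
    (253, 0),
    (254, 0),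
    (255, 0),
    (256, 0),
    (257, 0),
    (223, 0),
    (224, 0),
    (225, 0),
    (226, 0),
    (227, 0),
    (228, 0),
    (229, 0),
    (230, 0),
    (231, 0),
    (232, 0),
    (233, 0),
    (234, 0),
    (235, 0),
    (236, 0),
    (237, 0),
    (238, 0),
    (239, 0),
    (240, 0),
    (241, 0),
    (242, 0),
    (243, 0),
    (244, 0),
    (245, 0),
    (246, 0),
    (247, 0),
    (248, 0),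
    (249, 0),
    (250, 0),
    (251, 0),
    (252, 0),
    (253, 0),
    (254, 0),
    (255, 0),
    (256, 0),
    (257, 0)]

def x_com2_3Dest : List (ℕ × ℕ) :=
  x_com2_3Dest_0

def z_opE2_0 : List (ℕ × ℕ) :=
  [(2, 1),
    (2, 2),
    (2, 3),
    (2, 4),
    (3, 5),
    (2, 6),
    (3, 7),
    (3, 8),
    (2, 9),
    (2, 10),
    (3, 11),
    (3, 12),
    (2, 13),
    (2, 14),
    (3, 15),
    (2, 16),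
    (2, 17),
    (2, 18),
    (2, 19),
    (3, 20),
    (2, 21),
    (2, 22),
    (2, 23),
    (2, 24),
    (2, 25),
    (3, 26),
    (3, 27),
    (3, 28),
    (3, 29),
    (3, 30),
    (3, 31),
    (3, 32),
    (3, 33),
    (2, 34),
    (2, 35)]

def z_opE2 : List (ℕ × ℕ) :=
  z_opE2_0

def zT_0 : List (List ℕ × List ℕ) :=
  [([], [0, 1, 2, 3, 4, 5, 6, 7, 8, 9]),
    ([5, 3, 4, 5, 3], [0, 1, 2, 3, 4, 6, 7, 5, 8, 9]),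
    ([5, 3, 4, 5, 3, 5, 3, 4, 5, 3], [0, 1, 2, 3, 4, 7, 5, 6, 8, 9]),
    ([5, 3, 4, 5, 3, 5, 3, 4, 5, 3, 3, 5, 7, 4, 6, 3, 5], [0, 1, 2, 3, 4, 5, 6, 8, 9, 7]),
    ([5, 3, 4, 5, 3, 3, 5, 7, 4, 6, 3, 5, 5, 3, 4, 5, 3], [0, 1, 2, 3, 4, 5, 8, 7, 9, 6]),
    ([5, 3, 4, 5, 3, 3, 5, 7, 4, 6, 3, 5, 3, 5, 7, 4, 6, 3, 5], [0, 1, 2, 3, 4, 5, 8, 9, 6, 7]),
    ([3, 5, 7, 4, 6, 3, 5, 5, 3, 4, 5, 3, 5, 3, 4, 5, 3], [0, 1, 2, 3, 4, 8, 6, 7, 9, 5]),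
    ([3, 5, 7, 4, 6, 3, 5, 5, 3, 4, 5, 3, 3, 5, 7, 4, 6, 3, 5], [0, 1, 2, 3, 4, 8, 6, 9, 5, 7]),
    ([3, 5, 7, 4, 6, 3, 5, 3, 5, 7, 4, 6, 3, 5, 5, 3, 4, 5, 3], [0, 1, 2, 3, 4, 8, 9, 7, 5, 6]),
    ([3, 5, 7, 4, 6, 3, 5, 3, 5, 7, 4, 6, 3, 5, 3, 5, 7, 4, 6, 3, 5, 3, 5, 7, 4, 6, 3, 5, 5, 3, 4, 5, 3], [0, 1, 2, 3, 4, 5, 6, 9, 7, 8]),
    ([3, 5, 7, 4, 6, 3, 5, 3, 5, 7, 4, 6, 3, 5, 3, 5, 7, 4, 6, 3, 5, 5, 3, 4, 5, 3, 3, 5, 7, 4, 6, 3, 5], [0, 1, 2, 3, 4, 5, 8, 6, 7, 9]),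
    ([3, 5, 7, 4, 6, 3, 5, 3, 5, 7, 4, 6, 3, 5, 5, 3, 4, 5, 3, 5, 3, 4, 5, 3, 3, 5, 7, 4, 6, 3, 5], [0, 1, 2, 3, 4, 7, 8, 5, 6, 9]),
    ([3, 5, 7, 4, 6, 3, 5, 5, 3, 4, 5, 3, 5, 3, 4, 5, 3, 3, 5, 7, 4, 6, 3, 5, 3, 5, 7, 4, 6, 3, 5], [0, 1, 2, 3, 4, 7, 9, 5, 8, 6]),
    ([3, 5, 7, 4, 6, 3, 5, 5, 3, 4, 5, 3, 3, 5, 7, 4, 6, 3, 5, 3, 5, 7, 4, 6, 3, 5, 3, 5, 7, 4, 6, 3, 5], [0, 1, 2, 3, 4, 9, 5, 7, 8, 6]),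
    ([5, 3, 4, 5, 3, 3, 5, 7, 4, 6, 3, 5, 3, 5, 7, 4, 6, 3, 5, 3, 5, 7, 4, 6, 3, 5, 3, 5, 7, 4, 6, 3, 5], [0, 1, 2, 3, 4, 9, 6, 7, 5, 8]),
    ([5, 3, 4, 5, 3, 3, 5, 7, 4, 6, 3, 5, 3, 5, 7, 4, 6, 3, 5, 3, 5, 7, 4, 6, 3, 5, 5, 3, 4, 5, 3], [0, 1, 2, 3, 4, 9, 6, 8, 7, 5]),
    ([3, 5, 7, 4, 6, 3, 5, 5, 3, 4, 5, 3, 3, 5, 7, 4, 6, 3, 5, 3, 5, 7, 4, 6, 3, 5, 3, 5, 7, 4, 6, 3, 5, 3, 5, 7, 4, 6, 3, 5], [0, 1, 2, 3, 4, 5, 7, 8, 6, 9]),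
    ([3, 5, 7, 4, 6, 3, 5, 5, 3, 4, 5, 3, 3, 5, 7, 4, 6, 3, 5, 3, 5, 7, 4, 6, 3, 5, 3, 5, 7, 4, 6, 3, 5, 5, 3, 4, 5, 3], [0, 1, 2, 3, 4, 5, 7, 9, 8, 6]),
    ([3, 5, 7, 4, 6, 3, 5, 3, 5, 7, 4, 6, 3, 5, 5, 3, 4, 5, 3, 3, 5, 7, 4, 6, 3, 5, 5, 3, 4, 5, 3, 3, 5, 7, 4, 6, 3, 5], [0, 1, 2, 3, 4, 5, 9, 6, 8, 7]),
    ([3, 5, 7, 4, 6, 3, 5, 3, 5, 7, 4, 6, 3, 5, 5, 3, 4, 5, 3, 3, 5, 7, 4, 6, 3, 5, 5, 3, 4, 5, 3, 5, 3, 4, 5, 3], [0, 1, 2, 3, 4, 5, 9, 7, 6, 8]),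
    ([5, 3, 4, 5, 3, 5, 3, 4, 5, 3, 3, 5, 7, 4, 6, 3, 5, 5, 3, 4, 5, 3, 3, 5, 7, 4, 6, 3, 5, 5, 3, 4, 5, 3], [0, 1, 2, 3, 4, 5, 9, 8, 7, 6]),
    ([5, 3, 4, 5, 3, 3, 5, 7, 4, 6, 3, 5, 3, 5, 7, 4, 6, 3, 5, 3, 5, 7, 4, 6, 3, 5, 5, 3, 4, 5, 3, 3, 5, 7, 4, 6, 3, 5], [0, 1, 2, 3, 4, 6, 8, 7, 5, 9]),
    ([3, 5, 7, 4, 6, 3, 5, 3, 5, 7, 4, 6, 3, 5, 3, 5, 7, 4, 6, 3, 5, 3, 5, 7, 4, 6, 3, 5, 5, 3, 4, 5, 3, 3, 5, 7, 4, 6, 3, 5], [0, 1, 2, 3, 4, 6, 9, 7, 8, 5]),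
    ([3, 5, 7, 4, 6, 3, 5, 3, 5, 7, 4, 6, 3, 5, 5, 3, 4, 5, 3, 5, 3, 4, 5, 3, 3, 5, 7, 4, 6, 3, 5, 5, 3, 4, 5, 3], [0, 1, 2, 3, 4, 8, 5, 7, 6, 9]),
    ([3, 5, 7, 4, 6, 3, 5, 3, 5, 7, 4, 6, 3, 5, 3, 5, 7, 4, 6, 3, 5, 5, 3, 4, 5, 3, 3, 5, 7, 4, 6, 3, 5, 5, 3, 4, 5, 3], [0, 1, 2, 3, 4, 8, 6, 5, 7, 9]),
    ([3, 5, 7, 4, 6, 3, 5, 5, 3, 4, 5, 3, 5, 3, 4, 5, 3, 3, 5, 7, 4, 6, 3, 5, 5, 3, 4, 5, 3, 3, 5, 7, 4, 6, 3, 5], [0, 1, 2, 3, 4, 9, 6, 5, 8, 7]),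
    ([5, 3, 4, 5, 3, 3, 5, 7, 4, 6, 3, 5, 5, 3, 4, 5, 3, 3, 5, 7, 4, 6, 3, 5, 5, 3, 4, 5, 3, 5, 3, 4, 5, 3], [0, 1, 2, 3, 4, 9, 8, 7, 6, 5]),
    ([3, 5, 7, 4, 6, 3, 5, 3, 5, 7, 4, 6, 3, 5, 5, 3, 4, 5, 3, 5, 3, 4, 5, 3, 3, 5, 7, 4, 6, 3, 5, 5, 3, 4, 5, 3, 3, 5, 7, 4, 6, 3, 5], [0, 1, 2, 3, 4, 5, 7, 6, 9, 8]),
    ([3, 5, 7, 4, 6, 3, 5, 3, 5, 7, 4, 6, 3, 5, 3, 5, 7, 4, 6, 3, 5, 5, 3, 4, 5, 3, 3, 5, 7, 4, 6, 3, 5, 5, 3, 4, 5, 3, 3, 5, 7, 4, 6, 3, 5], [0, 1, 2, 3, 4, 6, 5, 7, 9, 8]),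
    ([3, 5, 7, 4, 6, 3, 5, 3, 5, 7, 4, 6, 3, 5, 3, 5, 7, 4, 6, 3, 5, 5, 3, 4, 5, 3, 3, 5, 7, 4, 6, 3, 5, 5, 3, 4, 5, 3, 5, 3, 4, 5, 3], [0, 1, 2, 3, 4, 6, 5, 8, 7, 9]),
    ([3, 5, 7, 4, 6, 3, 5, 5, 3, 4, 5, 3, 5, 3, 4, 5, 3, 3, 5, 7, 4, 6, 3, 5, 5, 3, 4, 5, 3, 3, 5, 7, 4, 6, 3, 5, 5, 3, 4, 5, 3], [0, 1, 2, 3, 4, 6, 5, 9, 8, 7]),
    ([5, 3, 4, 5, 3, 3, 5, 7, 4, 6, 3, 5, 3, 5, 7, 4, 6, 3, 5, 3, 5, 7, 4, 6, 3, 5, 5, 3, 4, 5, 3, 3, 5, 7, 4, 6, 3, 5, 5, 3, 4, 5, 3], [0, 1, 2, 3, 4, 8, 7, 6, 5, 9]),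
    ([3, 5, 7, 4, 6, 3, 5, 3, 5, 7, 4, 6, 3, 5, 3, 5, 7, 4, 6, 3, 5, 3, 5, 7, 4, 6, 3, 5, 5, 3, 4, 5, 3, 3, 5, 7, 4, 6, 3, 5, 5, 3, 4, 5, 3], [0, 1, 2, 3, 4, 9, 7, 6, 8, 5]),
    ([3, 5, 7, 4, 6, 3, 5, 3, 5, 7, 4, 6, 3, 5, 5, 3, 4, 5, 3, 5, 3, 4, 5, 3, 3, 5, 7, 4, 6, 3, 5, 5, 3, 4, 5, 3, 3, 5, 7, 4, 6, 3, 5, 5, 3, 4, 5, 3], [0, 1, 2, 3, 4, 7, 6, 5, 9, 8]),
    ([5, 3, 4, 5, 3, 3, 5, 7, 4, 6, 3, 5, 3, 5, 7, 4, 6, 3, 5, 3, 5, 7, 4, 6, 3, 5, 5, 3, 4, 5, 3, 3, 5, 7, 4, 6, 3, 5, 5, 3, 4, 5, 3, 5, 3, 4, 5, 3], [0, 1, 2, 3, 4, 7, 6, 8, 5, 9]),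
    ([3, 5, 7, 4, 6, 3, 5, 3, 5, 7, 4, 6, 3, 5, 3, 5, 7, 4, 6, 3, 5, 3, 5, 7, 4, 6, 3, 5, 5, 3, 4, 5, 3, 3, 5, 7, 4, 6, 3, 5, 5, 3, 4, 5, 3, 5, 3, 4, 5, 3], [0, 1, 2, 3, 4, 7, 6, 9, 8, 5]),
    ([3, 5, 7, 4, 6, 3, 5, 3, 5, 7, 4, 6, 3, 5, 3, 5, 7, 4, 6, 3, 5, 3, 5, 7, 4, 6, 3, 5], [0, 1, 2, 3, 4, 9, 5, 6, 7, 8])]

def zT : List (List ℕ × List ℕ) :=
  zT_0

def zTexps_0 : List (List ℕ) :=
  [[],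
    [0],
    [0, 0],
    [0, 0, 1],
    [0, 1, 0],
    [0, 1, 1],
    [1, 0, 0],
    [1, 0, 1],
    [1, 1, 0],
    [1, 1, 1, 1, 0],
    [1, 1, 1, 0, 1],
    [1, 1, 0, 0, 1],
    [1, 0, 0, 1, 1],
    [1, 0, 1, 1, 1],
    [0, 1, 1, 1, 1],
    [0, 1, 1, 1, 0],
    [1, 0, 1, 1, 1, 1],
    [1, 0, 1, 1, 1, 0],
    [1, 1, 0, 1, 0, 1],
    [1, 1, 0, 1, 0, 0],
    [0, 0, 1, 0, 1, 0],
    [0, 1, 1, 1, 0, 1],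
    [1, 1, 1, 1, 0, 1],
    [1, 1, 0, 0, 1, 0],
    [1, 1, 1, 0, 1, 0],
    [1, 0, 0, 1, 0, 1],
    [0, 1, 0, 1, 0, 0],
    [1, 1, 0, 0, 1, 0, 1],
    [1, 1, 1, 0, 1, 0, 1],
    [1, 1, 1, 0, 1, 0, 0],
    [1, 0, 0, 1, 0, 1, 0],
    [0, 1, 1, 1, 0, 1, 0],
    [1, 1, 1, 1, 0, 1, 0],
    [1, 1, 0, 0, 1, 0, 1, 0],
    [0, 1, 1, 1, 0, 1, 0, 0],
    [1, 1, 1, 1, 0, 1, 0, 0],
    [1, 1, 1, 1]]

def zTexps : List (List ℕ) :=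
  zTexps_0

def zS_0 : List (List ℕ × List ℕ) :=
  [([], [0, 1, 2, 3, 4, 5, 6, 7, 8, 9]),
    ([7, 5, 6, 7, 5], [0, 1, 2, 3, 4, 5, 6, 8, 9, 7]),
    ([6, 4, 5, 6, 4, 6, 4, 5, 6, 4, 7, 5, 6, 7, 5], [0, 1, 2, 3, 4, 5, 8, 7, 9, 6]),
    ([7, 5, 6, 7, 5, 6, 4, 5, 6, 4], [0, 1, 2, 3, 4, 5, 8, 9, 6, 7]),
    ([7, 5, 6, 7, 5, 7, 5, 6, 7, 5], [0, 1, 2, 3, 4, 5, 6, 9, 7, 8]),
    ([6, 4, 5, 6, 4, 6, 4, 5, 6, 4], [0, 1, 2, 3, 4, 5, 8, 6, 7, 9]),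
    ([7, 5, 6, 7, 5, 6, 4, 5, 6, 4, 6, 4, 5, 6, 4], [0, 1, 2, 3, 4, 5, 9, 6, 8, 7]),
    ([6, 4, 5, 6, 4], [0, 1, 2, 3, 4, 5, 7, 8, 6, 9]),
    ([6, 4, 5, 6, 4, 7, 5, 6, 7, 5, 7, 5, 6, 7, 5], [0, 1, 2, 3, 4, 5, 7, 9, 8, 6]),
    ([7, 5, 6, 7, 5, 7, 5, 6, 7, 5, 6, 4, 5, 6, 4], [0, 1, 2, 3, 4, 5, 9, 7, 6, 8]),
    ([6, 4, 5, 6, 4, 7, 5, 6, 7, 5, 7, 5, 6, 7, 5, 6, 4, 5, 6, 4], [0, 1, 2, 3, 4, 5, 9, 8, 7, 6]),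
    ([6, 4, 5, 6, 4, 7, 5, 6, 7, 5], [0, 1, 2, 3, 4, 5, 7, 6, 9, 8])]

def zS : List (List ℕ × List ℕ) :=
  zS_0

def zSexps_0 : List (List ℕ) :=
  [[],
    [1],
    [0, 0, 1],
    [1, 0],
    [1, 1],
    [0, 0],
    [1, 0, 0],
    [0],
    [0, 1, 1],
    [1, 1, 0],
    [0, 1, 1, 0],
    [0, 1]]

def zSexps : List (List ℕ) :=
  zSexps_0

def zCtx : Ctx := ⟨10, gi, zT, zT, zS, [1, 1, 1, 1, 1, 1, 1, 1, 1, 1, 1, 1]⟩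

def z_ezeroDest_0 : List (ℕ × ℕ) :=
  [(1, 0),
    (2, 0),
    (0, 1),
    (0, 2),
    (0, 3),
    (6, 0),
    (6, 1),
    (6, 2),
    (0, 4),
    (0, 5),
    (2, 5),
    (2, 6),
    (36, 1),
    (36, 7),
    (36, 8),
    (0, 7),
    (0, 8),
    (0, 6),
    (0, 9),
    (0, 10),
    (1, 5),
    (1, 6),
    (6, 9),
    (6, 4),
    (36, 11),
    (36, 10),
    (0, 11),
    (1, 11),
    (1, 7),
    (1, 8),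
    (6, 11),
    (36, 2),
    (2, 11),
    (2, 7),
    (2, 8)]

def z_ezeroDest : List (ℕ × ℕ) :=
  z_ezeroDest_0

def w6_opE1_0 : List (ℕ × ℕ) :=
  [(2, 70),
    (2, 275),
    (2, 323),
    (2, 354),
    (3, 349),
    (2, 100),
    (3, 173),
    (3, 242),
    (2, 255),
    (2, 330),
    (3, 61),
    (3, 200),
    (2, 62),
    (2, 211),
    (3, 325),
    (2, 225),
    (2, 187),
    (2, 238),
    (2, 210),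
    (3, 8),
    (2, 331),
    (2, 329),
    (2, 219),
    (2, 175),
    (2, 202),
    (3, 47),
    (3, 91),
    (3, 218),
    (3, 60),
    (3, 12),
    (3, 34),
    (3, 184),
    (3, 22),
    (2, 71),
    (2, 237)]

def w6_opE1 : List (ℕ × ℕ) :=
  w6_opE1_0

def w6_opNT_0 : List (ℕ × ℕ) :=
  [(1, 0),
    (1, 2),
    (1, 3),
    (1, 4),
    (1, 5),
    (1, 6),
    (1, 7),
    (1, 8),
    (1, 9),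
    (1, 10),
    (1, 11),
    (1, 12),
    (1, 13),
    (1, 1),
    (1, 14),
    (1, 15),
    (1, 16),
    (1, 17),
    (1, 18),
    (1, 19),
    (1, 20),
    (1, 21),
    (1, 22),
    (1, 23),
    (1, 24),
    (1, 25),
    (1, 26),
    (1, 27),
    (1, 28),
    (1, 29),
    (1, 30),
    (1, 31),
    (1, 32),
    (1, 33),
    (1, 34),
    (1, 35),
    (1, 36),
    (1, 37),
    (1, 38),
    (1, 39)]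

def w6_opNT_1 : List (ℕ × ℕ) :=
  [(1, 40),
    (1, 41),
    (1, 42),
    (1, 43),
    (1, 44),
    (1, 45),
    (1, 46),
    (1, 47),
    (1, 48),
    (1, 49),
    (1, 50),
    (1, 51),
    (1, 52),
    (1, 53),
    (1, 54),
    (1, 55),
    (1, 56),
    (1, 57),
    (1, 58),
    (1, 59)]

def w6_opNT : List (ℕ × ℕ) :=
  w6_opNT_0 ++ w6_opNT_1

def w6_opNV_0 : List (ℕ × ℕ) :=
  [(1, 0),
    (1, 60),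
    (1, 61),
    (1, 34)]

def w6_opNV : List (ℕ × ℕ) :=
  w6_opNV_0

def w6_g0 : List (ℕ × ℕ) := [(1, 1)]

def w6_g1 : List (ℕ × ℕ) := [(1, 59)]

def w6_g2 : List (ℕ × ℕ) := [(1, 60)]

def w6_g3 : List (ℕ × ℕ) := [(1, 61)]

def w6T_0 : List (List ℕ × List ℕ) :=
  [([], [0, 1, 2, 3, 4, 5, 6, 7, 8, 9]),
    ([2, 1, 1, 0], [1, 2, 3, 4, 0, 5, 6, 7, 8, 9]),
    ([1, 0, 3, 2, 1, 0], [0, 1, 4, 5, 2, 3, 6, 7, 8, 9]),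
    ([2, 3, 3, 2, 0], [0, 2, 1, 3, 5, 4, 6, 7, 8, 9]),
    ([1, 2, 3, 1, 0], [0, 2, 5, 4, 1, 3, 6, 7, 8, 9]),
    ([2, 3, 0, 2, 1], [0, 3, 4, 2, 5, 1, 6, 7, 8, 9]),
    ([0, 1, 3, 0, 0], [0, 3, 5, 1, 4, 2, 6, 7, 8, 9]),
    ([3, 0, 1, 3, 2], [0, 4, 1, 5, 3, 2, 6, 7, 8, 9]),
    ([0, 2, 1, 0, 0], [0, 4, 3, 2, 1, 5, 6, 7, 8, 9]),
    ([1, 3, 2, 1, 1], [0, 5, 2, 4, 3, 1, 6, 7, 8, 9]),
    ([0, 1, 2, 0, 3], [0, 5, 3, 1, 2, 4, 6, 7, 8, 9]),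
    ([1, 3, 3, 1], [1, 0, 2, 5, 4, 3, 6, 7, 8, 9]),
    ([0, 2, 2, 0], [1, 0, 4, 3, 2, 5, 6, 7, 8, 9]),
    ([2, 1, 3, 2, 1, 0], [1, 2, 0, 5, 3, 4, 6, 7, 8, 9]),
    ([3, 2, 2, 1], [1, 3, 2, 4, 5, 0, 6, 7, 8, 9]),
    ([1, 2, 0, 3, 2, 0], [1, 3, 5, 0, 2, 4, 6, 7, 8, 9]),
    ([0, 3, 3, 2], [1, 4, 0, 3, 5, 2, 6, 7, 8, 9]),
    ([2, 1, 0, 3, 1, 0], [1, 4, 5, 2, 0, 3, 6, 7, 8, 9]),
    ([1, 0, 0, 3], [1, 5, 3, 0, 4, 2, 6, 7, 8, 9]),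
    ([3, 1, 0, 2, 1, 0], [1, 5, 4, 2, 3, 0, 6, 7, 8, 9]),
    ([1, 3, 3, 2, 0, 1], [2, 0, 1, 4, 5, 3, 6, 7, 8, 9]),
    ([3, 2, 0, 3], [2, 0, 5, 3, 1, 4, 6, 7, 8, 9]),
    ([1, 1, 2, 0, 1], [2, 1, 0, 4, 3, 5, 6, 7, 8, 9]),
    ([2, 1, 3, 0, 1], [2, 1, 3, 5, 0, 4, 6, 7, 8, 9]),
    ([3, 0, 1], [2, 3, 1, 5, 4, 0, 6, 7, 8, 9]),
    ([1, 2, 0, 0], [2, 3, 4, 0, 1, 5, 6, 7, 8, 9]),
    ([1, 3, 0, 2], [2, 4, 3, 0, 5, 1, 6, 7, 8, 9]),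
    ([3, 1, 0, 2], [2, 4, 5, 1, 3, 0, 6, 7, 8, 9]),
    ([0, 3], [2, 5, 0, 3, 4, 1, 6, 7, 8, 9]),
    ([2, 1, 0, 3], [2, 5, 4, 1, 0, 3, 6, 7, 8, 9]),
    ([0, 3, 3, 2, 1, 0], [3, 0, 4, 1, 5, 2, 6, 7, 8, 9]),
    ([0, 3, 1, 0], [3, 0, 5, 2, 4, 1, 6, 7, 8, 9]),
    ([2, 2, 3, 1, 2], [3, 1, 2, 0, 5, 4, 6, 7, 8, 9]),
    ([3, 2, 0, 1, 2], [3, 1, 5, 4, 2, 0, 6, 7, 8, 9]),
    ([1, 0], [3, 2, 1, 0, 4, 5, 6, 7, 8, 9]),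
    ([3, 2, 1, 0], [3, 2, 4, 5, 1, 0, 6, 7, 8, 9]),
    ([0, 1, 2], [3, 4, 0, 1, 2, 5, 6, 7, 8, 9]),
    ([2, 3, 1, 1], [3, 4, 2, 5, 0, 1, 6, 7, 8, 9]),
    ([0, 2, 1, 3], [3, 5, 0, 2, 1, 4, 6, 7, 8, 9]),
    ([2, 0, 1, 3], [3, 5, 1, 4, 0, 2, 6, 7, 8, 9])]

def w6T_1 : List (List ℕ × List ℕ) :=
  [([1, 0, 2, 1], [4, 0, 1, 2, 3, 5, 6, 7, 8, 9]),
    ([0, 2, 3, 1, 1, 0], [4, 0, 3, 5, 1, 2, 6, 7, 8, 9]),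
    ([0, 3, 1, 2, 3], [4, 1, 0, 2, 5, 3, 6, 7, 8, 9]),
    ([0, 0, 3, 2, 0], [4, 1, 5, 3, 0, 2, 6, 7, 8, 9]),
    ([3, 1, 2, 0], [4, 2, 3, 1, 5, 0, 6, 7, 8, 9]),
    ([1, 3, 2, 0], [4, 2, 5, 0, 3, 1, 6, 7, 8, 9]),
    ([0, 3, 2, 1], [4, 3, 0, 5, 2, 1, 6, 7, 8, 9]),
    ([2, 1], [4, 3, 2, 1, 0, 5, 6, 7, 8, 9]),
    ([3, 0, 2, 2], [4, 5, 1, 3, 2, 0, 6, 7, 8, 9]),
    ([1, 2, 3], [4, 5, 2, 0, 1, 3, 6, 7, 8, 9]),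
    ([2, 1, 3, 2], [5, 0, 2, 1, 3, 4, 6, 7, 8, 9]),
    ([0, 3, 2, 1, 1, 0], [5, 0, 3, 4, 2, 1, 6, 7, 8, 9]),
    ([3, 0, 1, 1, 0], [5, 1, 3, 2, 4, 0, 6, 7, 8, 9]),
    ([1, 0, 2, 3, 0], [5, 1, 4, 0, 3, 2, 6, 7, 8, 9]),
    ([1, 1, 3, 0], [5, 2, 0, 1, 4, 3, 6, 7, 8, 9]),
    ([2, 3, 0], [5, 2, 4, 3, 0, 1, 6, 7, 8, 9]),
    ([0, 2, 3, 1], [5, 3, 0, 4, 1, 2, 6, 7, 8, 9]),
    ([2, 0, 3, 1], [5, 3, 1, 2, 0, 4, 6, 7, 8, 9]),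
    ([1, 0, 3, 2], [5, 4, 1, 0, 2, 3, 6, 7, 8, 9]),
    ([3, 2], [5, 4, 2, 3, 1, 0, 6, 7, 8, 9]),
    ([0, 1, 1, 0], [1, 0, 3, 2, 4, 5, 6, 7, 8, 9]),
    ([0, 1], [2, 3, 0, 1, 4, 5, 6, 7, 8, 9]),
    ([2, 2], [4, 0, 2, 3, 1, 5, 6, 7, 8, 9]),
    ([1, 2, 3, 1, 1, 0], [4, 2, 0, 5, 1, 3, 6, 7, 8, 9]),
    ([3, 2, 0, 0], [2, 5, 4, 3, 1, 0, 6, 7, 8, 9]),
    ([1, 2, 3, 0, 0], [2, 4, 5, 0, 1, 3, 6, 7, 8, 9]),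
    ([0, 2, 3, 1, 0], [3, 0, 5, 4, 1, 2, 6, 7, 8, 9]),
    ([0, 2, 3, 0, 1], [0, 3, 4, 5, 1, 2, 6, 7, 8, 9]),
    ([2, 2, 3, 1], [5, 3, 2, 0, 1, 4, 6, 7, 8, 9]),
    ([3, 2, 1, 1, 0], [5, 2, 3, 4, 1, 0, 6, 7, 8, 9]),
    ([0], [1, 2, 0, 3, 4, 5, 6, 7, 8, 9]),
    ([1, 0, 0], [2, 1, 3, 0, 4, 5, 6, 7, 8, 9]),
    ([1, 3], [3, 5, 2, 0, 4, 1, 6, 7, 8, 9]),
    ([3, 1, 0], [3, 2, 5, 1, 4, 0, 6, 7, 8, 9]),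
    ([0, 0, 3], [0, 5, 1, 3, 4, 2, 6, 7, 8, 9]),
    ([1, 0, 3, 1, 0], [0, 1, 5, 2, 4, 3, 6, 7, 8, 9]),
    ([0, 1, 3, 0], [5, 0, 3, 1, 4, 2, 6, 7, 8, 9]),
    ([0, 3, 1], [5, 3, 0, 2, 4, 1, 6, 7, 8, 9]),
    ([1, 0, 3, 2, 0, 0], [1, 5, 4, 0, 2, 3, 6, 7, 8, 9]),
    ([3, 0, 0, 2], [1, 4, 5, 3, 2, 0, 6, 7, 8, 9])]

def w6T_2 : List (List ℕ × List ℕ) :=
  [([0, 0, 2, 1], [4, 3, 1, 0, 2, 5, 6, 7, 8, 9]),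
    ([3, 0, 1, 2, 0], [4, 1, 3, 5, 2, 0, 6, 7, 8, 9]),
    ([0, 3, 2, 1, 0], [3, 0, 4, 5, 2, 1, 6, 7, 8, 9]),
    ([0, 3, 2, 0, 1], [0, 3, 5, 4, 2, 1, 6, 7, 8, 9]),
    ([2, 0, 3, 2], [5, 0, 1, 3, 2, 4, 6, 7, 8, 9]),
    ([0, 1, 2, 3, 1], [5, 1, 0, 4, 2, 3, 6, 7, 8, 9]),
    ([0, 1, 3, 2, 1, 1], [1, 5, 0, 4, 3, 2, 6, 7, 8, 9]),
    ([0, 2, 1, 3, 2, 0], [1, 0, 5, 2, 3, 4, 6, 7, 8, 9]),
    ([3, 1, 2, 2], [4, 5, 2, 1, 3, 0, 6, 7, 8, 9]),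
    ([2, 1, 0, 2], [2, 0, 4, 1, 3, 5, 6, 7, 8, 9]),
    ([3, 3, 1, 0, 2], [2, 4, 0, 5, 3, 1, 6, 7, 8, 9]),
    ([1, 2, 2, 1, 0], [0, 2, 1, 4, 3, 5, 6, 7, 8, 9]),
    ([2, 1, 3, 2, 1], [0, 1, 2, 5, 3, 4, 6, 7, 8, 9]),
    ([3, 0, 1, 1, 2], [5, 4, 1, 2, 3, 0, 6, 7, 8, 9]),
    ([2, 0, 0, 1], [1, 3, 4, 2, 0, 5, 6, 7, 8, 9]),
    ([2, 3, 0, 1, 3, 0], [1, 4, 3, 5, 0, 2, 6, 7, 8, 9]),
    ([2, 0, 1, 1, 3], [4, 5, 1, 2, 0, 3, 6, 7, 8, 9]),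
    ([2, 3, 1, 0, 0], [2, 5, 3, 4, 0, 1, 6, 7, 8, 9]),
    ([2, 1, 3, 0, 0], [2, 3, 5, 1, 0, 4, 6, 7, 8, 9]),
    ([2, 3, 3, 1, 0], [3, 2, 1, 5, 0, 4, 6, 7, 8, 9]),
    ([2, 1, 1], [3, 1, 2, 4, 0, 5, 6, 7, 8, 9]),
    ([1, 1, 3, 2], [5, 4, 2, 1, 0, 3, 6, 7, 8, 9]),
    ([2, 2, 3, 1, 2, 0], [1, 2, 3, 0, 5, 4, 6, 7, 8, 9]),
    ([0, 3, 1, 2, 0], [4, 0, 3, 2, 5, 1, 6, 7, 8, 9]),
    ([0, 3, 3, 2, 1], [4, 3, 0, 1, 5, 2, 6, 7, 8, 9]),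
    ([2, 2, 3, 0, 2], [2, 1, 0, 3, 5, 4, 6, 7, 8, 9]),
    ([0, 0, 3, 1, 2], [3, 4, 1, 0, 5, 2, 6, 7, 8, 9]),
    ([3, 0, 2, 1, 0], [3, 1, 4, 2, 5, 0, 6, 7, 8, 9]),
    ([3, 1, 2, 3, 0], [0, 2, 4, 1, 5, 3, 6, 7, 8, 9]),
    ([3, 3, 2], [0, 4, 2, 3, 5, 1, 6, 7, 8, 9]),
    ([3, 1, 0, 3], [2, 0, 5, 1, 4, 3, 6, 7, 8, 9]),
    ([1, 0, 3, 1], [5, 0, 1, 2, 4, 3, 6, 7, 8, 9]),
    ([0, 1, 2, 3, 1, 1], [1, 4, 0, 5, 2, 3, 6, 7, 8, 9]),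
    ([1, 2, 3, 1, 1], [0, 4, 2, 5, 1, 3, 6, 7, 8, 9]),
    ([1, 3, 3, 2], [1, 4, 2, 0, 5, 3, 6, 7, 8, 9]),
    ([1, 1, 3, 2, 1, 0], [1, 2, 4, 5, 0, 3, 6, 7, 8, 9]),
    ([1, 3, 3, 1, 0], [0, 2, 1, 5, 4, 3, 6, 7, 8, 9]),
    ([0, 1, 1, 3, 2, 0], [4, 0, 5, 2, 1, 3, 6, 7, 8, 9]),
    ([1, 2, 3, 1], [5, 0, 2, 4, 1, 3, 6, 7, 8, 9]),
    ([2, 1, 1, 3], [1, 5, 2, 4, 0, 3, 6, 7, 8, 9])]

def w6T_3 : List (List ℕ × List ℕ) :=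
  [([3, 1, 2, 3, 1, 0], [1, 2, 0, 4, 5, 3, 6, 7, 8, 9]),
    ([1, 1, 3, 0, 1], [2, 1, 0, 5, 4, 3, 6, 7, 8, 9]),
    ([1, 2, 3, 0, 1], [2, 0, 4, 5, 1, 3, 6, 7, 8, 9]),
    ([1, 0, 3, 2, 1], [4, 0, 1, 5, 2, 3, 6, 7, 8, 9]),
    ([1, 1, 3, 2, 1], [4, 1, 2, 5, 0, 3, 6, 7, 8, 9]),
    ([1, 1, 3], [0, 5, 2, 1, 4, 3, 6, 7, 8, 9]),
    ([3, 1, 2, 3], [4, 0, 2, 1, 5, 3, 6, 7, 8, 9]),
    ([1, 3, 3], [5, 1, 2, 0, 4, 3, 6, 7, 8, 9]),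
    ([1, 3, 3, 0], [1, 2, 5, 0, 4, 3, 6, 7, 8, 9]),
    ([0, 1, 2, 3, 1, 0], [1, 0, 5, 4, 2, 3, 6, 7, 8, 9]),
    ([3, 1, 2, 3, 1], [0, 1, 2, 4, 5, 3, 6, 7, 8, 9]),
    ([2, 1, 1, 3, 0, 1], [2, 4, 1, 5, 0, 3, 6, 7, 8, 9]),
    ([0, 1, 2, 3, 0], [5, 0, 4, 1, 2, 3, 6, 7, 8, 9]),
    ([1, 0, 3], [2, 5, 1, 0, 4, 3, 6, 7, 8, 9]),
    ([0, 1, 1, 3], [1, 5, 0, 2, 4, 3, 6, 7, 8, 9]),
    ([0, 3, 1, 2, 3, 0], [1, 0, 4, 2, 5, 3, 6, 7, 8, 9]),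
    ([0, 2, 2, 1], [1, 3, 0, 4, 2, 5, 6, 7, 8, 9]),
    ([0, 1, 3, 2, 1], [4, 1, 0, 5, 3, 2, 6, 7, 8, 9]),
    ([0, 3, 1, 2, 2], [4, 5, 0, 2, 3, 1, 6, 7, 8, 9]),
    ([0, 2, 3], [4, 5, 0, 3, 1, 2, 6, 7, 8, 9]),
    ([0, 2, 3, 1, 1], [3, 4, 0, 5, 1, 2, 6, 7, 8, 9]),
    ([0, 1, 3, 2], [5, 4, 0, 1, 3, 2, 6, 7, 8, 9]),
    ([1, 3, 2, 1, 1, 0], [5, 2, 0, 4, 3, 1, 6, 7, 8, 9]),
    ([3, 3, 2, 0, 1], [2, 3, 0, 4, 5, 1, 6, 7, 8, 9]),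
    ([2, 2, 3, 0, 2, 1], [1, 3, 0, 2, 5, 4, 6, 7, 8, 9]),
    ([0, 1, 3], [3, 5, 0, 1, 4, 2, 6, 7, 8, 9]),
    ([0, 3, 3], [5, 1, 0, 3, 4, 2, 6, 7, 8, 9]),
    ([0, 1, 1, 2], [1, 4, 0, 2, 3, 5, 6, 7, 8, 9]),
    ([1, 1, 2, 0, 3], [2, 5, 0, 1, 3, 4, 6, 7, 8, 9]),
    ([0, 2, 1, 3, 2], [5, 1, 0, 2, 3, 4, 6, 7, 8, 9]),
    ([0, 3, 2, 1, 1], [3, 5, 0, 4, 2, 1, 6, 7, 8, 9]),
    ([0, 2, 2, 3], [1, 5, 0, 3, 2, 4, 6, 7, 8, 9]),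
    ([2, 2, 1, 0, 3], [2, 5, 0, 4, 1, 3, 6, 7, 8, 9]),
    ([0, 3, 3, 1], [1, 3, 0, 5, 4, 2, 6, 7, 8, 9]),
    ([1, 1, 2, 0], [4, 2, 0, 1, 3, 5, 6, 7, 8, 9]),
    ([0, 1, 2, 3], [4, 5, 0, 1, 2, 3, 6, 7, 8, 9]),
    ([2, 2, 1, 0], [3, 2, 0, 4, 1, 5, 6, 7, 8, 9]),
    ([0, 2, 3, 1, 2], [3, 1, 0, 4, 5, 2, 6, 7, 8, 9]),
    ([1, 3, 0, 0, 2], [3, 4, 5, 0, 2, 1, 6, 7, 8, 9]),
    ([0, 0, 2, 1, 3], [3, 5, 1, 0, 2, 4, 6, 7, 8, 9])]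

def w6T_4 : List (List ℕ × List ℕ) :=
  [([0, 2, 2, 3, 1, 0], [3, 0, 5, 1, 2, 4, 6, 7, 8, 9]),
    ([3, 0, 1, 1], [3, 5, 1, 2, 4, 0, 6, 7, 8, 9]),
    ([0, 3, 2, 1, 3], [3, 1, 0, 5, 2, 4, 6, 7, 8, 9]),
    ([2, 3, 3, 2, 1, 0], [3, 2, 0, 1, 5, 4, 6, 7, 8, 9]),
    ([3, 2, 2, 1, 0], [3, 2, 1, 4, 5, 0, 6, 7, 8, 9]),
    ([2, 3, 0, 1, 1], [3, 5, 4, 2, 0, 1, 6, 7, 8, 9]),
    ([2, 0, 1, 2], [3, 0, 1, 4, 2, 5, 6, 7, 8, 9]),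
    ([3, 0, 0, 2, 1, 0], [3, 5, 4, 1, 2, 0, 6, 7, 8, 9]),
    ([3, 0, 1, 2], [3, 4, 1, 5, 2, 0, 6, 7, 8, 9]),
    ([3, 2, 1, 1], [3, 5, 2, 4, 1, 0, 6, 7, 8, 9]),
    ([3, 3, 1, 0], [3, 2, 0, 5, 4, 1, 6, 7, 8, 9]),
    ([2, 3, 1, 0], [3, 2, 5, 4, 0, 1, 6, 7, 8, 9]),
    ([2, 1, 3], [3, 5, 2, 1, 0, 4, 6, 7, 8, 9]),
    ([0, 0, 2, 1, 0], [3, 1, 4, 0, 2, 5, 6, 7, 8, 9]),
    ([1, 2, 0, 0, 3], [3, 5, 4, 0, 1, 2, 6, 7, 8, 9]),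
    ([0, 1, 1], [3, 1, 0, 2, 4, 5, 6, 7, 8, 9]),
    ([3, 3, 2, 1, 0], [3, 2, 4, 0, 5, 1, 6, 7, 8, 9]),
    ([0, 3, 1, 2], [3, 4, 0, 2, 5, 1, 6, 7, 8, 9]),
    ([2, 3, 1, 2], [3, 0, 2, 4, 5, 1, 6, 7, 8, 9]),
    ([3, 3, 2, 0], [4, 2, 0, 3, 5, 1, 6, 7, 8, 9]),
    ([1, 2, 3, 0], [5, 2, 4, 0, 1, 3, 6, 7, 8, 9]),
    ([3, 1, 1, 0], [1, 2, 3, 5, 4, 0, 6, 7, 8, 9]),
    ([3, 1, 2, 2, 0], [5, 2, 4, 1, 3, 0, 6, 7, 8, 9]),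
    ([1, 3, 3, 2, 0], [4, 2, 1, 0, 5, 3, 6, 7, 8, 9]),
    ([2, 0], [4, 2, 1, 3, 0, 5, 6, 7, 8, 9]),
    ([2, 3, 3, 0], [1, 2, 5, 3, 0, 4, 6, 7, 8, 9]),
    ([3, 1, 2, 2, 1, 0], [1, 2, 5, 4, 3, 0, 6, 7, 8, 9]),
    ([2, 2, 0], [0, 2, 4, 3, 1, 5, 6, 7, 8, 9]),
    ([1, 2, 2, 0], [1, 2, 4, 0, 3, 5, 6, 7, 8, 9]),
    ([2, 1, 0], [3, 2, 4, 1, 0, 5, 6, 7, 8, 9]),
    ([3, 2, 0], [4, 2, 5, 3, 1, 0, 6, 7, 8, 9]),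
    ([1, 3, 2, 1, 0], [0, 2, 4, 5, 3, 1, 6, 7, 8, 9]),
    ([2, 2, 3, 0], [5, 2, 0, 3, 1, 4, 6, 7, 8, 9]),
    ([2, 3, 1, 2, 0], [0, 2, 3, 4, 5, 1, 6, 7, 8, 9]),
    ([3, 3, 0], [0, 2, 5, 3, 4, 1, 6, 7, 8, 9]),
    ([3, 1, 1, 2, 0], [4, 2, 1, 5, 3, 0, 6, 7, 8, 9]),
    ([3, 0], [5, 2, 1, 3, 4, 0, 6, 7, 8, 9]),
    ([3, 2, 2, 0], [1, 2, 4, 3, 5, 0, 6, 7, 8, 9]),
    ([1, 1, 3, 0, 2], [2, 4, 0, 1, 5, 3, 6, 7, 8, 9]),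
    ([0, 3, 2], [5, 4, 0, 3, 2, 1, 6, 7, 8, 9])]

def w6T_5 : List (List ℕ × List ℕ) :=
  [([0, 2], [2, 4, 0, 3, 1, 5, 6, 7, 8, 9]),
    ([2, 2, 3, 0, 1], [2, 3, 0, 5, 1, 4, 6, 7, 8, 9]),
    ([0, 2, 2], [4, 1, 0, 3, 2, 5, 6, 7, 8, 9]),
    ([3, 1, 1, 2], [1, 4, 2, 5, 3, 0, 6, 7, 8, 9]),
    ([1, 2, 2, 3], [1, 5, 2, 0, 3, 4, 6, 7, 8, 9]),
    ([3], [1, 5, 2, 3, 4, 0, 6, 7, 8, 9]),
    ([3, 1, 1], [3, 1, 2, 5, 4, 0, 6, 7, 8, 9]),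
    ([3, 1, 2, 2, 1], [5, 1, 2, 4, 3, 0, 6, 7, 8, 9]),
    ([2, 3, 3, 2, 1], [0, 3, 2, 1, 5, 4, 6, 7, 8, 9]),
    ([3, 3, 2, 1], [4, 3, 2, 0, 5, 1, 6, 7, 8, 9]),
    ([1, 1, 2], [0, 4, 2, 1, 3, 5, 6, 7, 8, 9]),
    ([1, 2, 2], [4, 1, 2, 0, 3, 5, 6, 7, 8, 9]),
    ([1, 3, 2, 1], [4, 0, 2, 5, 3, 1, 6, 7, 8, 9]),
    ([1, 3, 2], [5, 4, 2, 0, 3, 1, 6, 7, 8, 9]),
    ([2, 3], [4, 5, 2, 3, 0, 1, 6, 7, 8, 9]),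
    ([3, 1], [5, 3, 2, 1, 4, 0, 6, 7, 8, 9]),
    ([3, 2, 1], [4, 3, 2, 5, 1, 0, 6, 7, 8, 9]),
    ([2, 2, 3], [0, 5, 2, 3, 1, 4, 6, 7, 8, 9]),
    ([1, 2, 2, 1], [1, 0, 2, 4, 3, 5, 6, 7, 8, 9]),
    ([1, 1], [3, 0, 2, 1, 4, 5, 6, 7, 8, 9]),
    ([3, 1, 2], [3, 4, 2, 1, 5, 0, 6, 7, 8, 9]),
    ([3, 2, 2], [4, 1, 2, 3, 5, 0, 6, 7, 8, 9]),
    ([3, 1, 2, 0, 0], [2, 3, 4, 1, 5, 0, 6, 7, 8, 9]),
    ([2, 0, 0, 3, 1, 0], [3, 4, 5, 1, 0, 2, 6, 7, 8, 9]),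
    ([2, 1, 0, 2, 3], [0, 5, 4, 1, 3, 2, 6, 7, 8, 9]),
    ([1, 1, 0], [0, 2, 3, 1, 4, 5, 6, 7, 8, 9]),
    ([3, 1, 0, 0, 2], [5, 4, 3, 1, 2, 0, 6, 7, 8, 9]),
    ([3, 1, 1, 2, 0, 1], [2, 5, 1, 4, 3, 0, 6, 7, 8, 9]),
    ([1, 2, 0, 1], [2, 0, 3, 4, 1, 5, 6, 7, 8, 9]),
    ([3, 0, 2, 3, 1], [0, 3, 1, 4, 5, 2, 6, 7, 8, 9]),
    ([2, 0, 1, 3, 0], [5, 1, 3, 4, 0, 2, 6, 7, 8, 9]),
    ([3, 0, 0, 1], [1, 3, 5, 2, 4, 0, 6, 7, 8, 9]),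
    ([3, 2, 0, 1, 1, 0], [4, 5, 3, 2, 1, 0, 6, 7, 8, 9]),
    ([2, 0, 3, 1, 2, 0], [0, 1, 3, 2, 5, 4, 6, 7, 8, 9]),
    ([0, 3, 1, 0, 2], [0, 4, 5, 2, 3, 1, 6, 7, 8, 9]),
    ([0, 1, 1, 3, 2], [5, 4, 0, 2, 1, 3, 6, 7, 8, 9]),
    ([0, 3, 2, 0], [4, 0, 5, 3, 2, 1, 6, 7, 8, 9]),
    ([2, 0, 0], [2, 1, 4, 3, 0, 5, 6, 7, 8, 9]),
    ([0, 0, 2], [0, 4, 1, 3, 2, 5, 6, 7, 8, 9]),
    ([0, 2, 3, 0], [5, 0, 4, 3, 1, 2, 6, 7, 8, 9])]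

def w6T_6 : List (List ℕ × List ℕ) :=
  [([1, 0, 0, 3, 2, 0], [4, 3, 5, 0, 1, 2, 6, 7, 8, 9]),
    ([1, 3, 2, 0, 3], [2, 1, 5, 0, 3, 4, 6, 7, 8, 9]),
    ([1, 2], [3, 4, 2, 0, 1, 5, 6, 7, 8, 9]),
    ([1, 3, 0, 2, 2, 0], [5, 3, 4, 0, 2, 1, 6, 7, 8, 9]),
    ([0, 3, 2, 1, 3, 0], [1, 0, 3, 5, 2, 4, 6, 7, 8, 9]),
    ([2, 3, 1, 1, 0], [4, 2, 3, 5, 0, 1, 6, 7, 8, 9]),
    ([3, 0, 1, 3], [3, 0, 1, 5, 4, 2, 6, 7, 8, 9]),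
    ([3, 3, 1], [0, 3, 2, 5, 4, 1, 6, 7, 8, 9]),
    ([1, 0, 2, 3, 1, 0], [0, 1, 5, 4, 3, 2, 6, 7, 8, 9]),
    ([1, 0, 2, 3, 0, 0], [1, 4, 5, 0, 3, 2, 6, 7, 8, 9]),
    ([1, 2, 2, 3, 0, 1], [2, 0, 1, 5, 3, 4, 6, 7, 8, 9]),
    ([3, 2, 1, 0, 2], [2, 1, 4, 5, 3, 0, 6, 7, 8, 9]),
    ([3, 1, 0, 2, 1], [4, 1, 5, 2, 3, 0, 6, 7, 8, 9]),
    ([0, 1, 3, 2, 0], [4, 0, 5, 1, 3, 2, 6, 7, 8, 9]),
    ([0, 1, 3, 2, 1, 0], [1, 0, 4, 5, 3, 2, 6, 7, 8, 9]),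
    ([1, 0, 2, 1, 0], [0, 1, 4, 2, 3, 5, 6, 7, 8, 9]),
    ([1, 0, 2, 3, 1], [5, 0, 1, 4, 3, 2, 6, 7, 8, 9]),
    ([1, 0, 2, 3], [4, 5, 1, 0, 3, 2, 6, 7, 8, 9]),
    ([1, 2, 0, 3], [2, 5, 3, 0, 1, 4, 6, 7, 8, 9]),
    ([2, 0, 0, 3], [1, 5, 4, 3, 0, 2, 6, 7, 8, 9]),
    ([2, 0, 3, 1, 0, 0], [1, 5, 3, 2, 0, 4, 6, 7, 8, 9]),
    ([2, 0, 3], [2, 5, 1, 3, 0, 4, 6, 7, 8, 9]),
    ([1, 0, 2, 1, 3], [0, 5, 1, 2, 3, 4, 6, 7, 8, 9]),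
    ([3, 2, 0, 1, 2, 0], [1, 5, 3, 4, 2, 0, 6, 7, 8, 9]),
    ([1, 3, 0, 2, 2], [4, 5, 3, 0, 2, 1, 6, 7, 8, 9]),
    ([1, 3, 2, 0, 0], [2, 5, 4, 0, 3, 1, 6, 7, 8, 9]),
    ([2, 3, 0, 2], [2, 0, 4, 3, 5, 1, 6, 7, 8, 9]),
    ([0, 2, 1, 3, 0], [5, 0, 3, 2, 1, 4, 6, 7, 8, 9]),
    ([3, 3], [5, 0, 2, 3, 4, 1, 6, 7, 8, 9]),
    ([1, 3, 2, 0, 1], [2, 0, 5, 4, 3, 1, 6, 7, 8, 9]),
    ([0, 2, 1, 0], [3, 0, 4, 2, 1, 5, 6, 7, 8, 9]),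
    ([1, 3, 0, 1], [2, 0, 3, 5, 4, 1, 6, 7, 8, 9]),
    ([2, 0, 3, 1, 2], [3, 0, 1, 2, 5, 4, 6, 7, 8, 9]),
    ([0, 3, 1, 2, 2, 0], [5, 0, 4, 2, 3, 1, 6, 7, 8, 9]),
    ([3, 2, 1, 3], [3, 0, 2, 5, 1, 4, 6, 7, 8, 9]),
    ([0, 0], [2, 0, 1, 3, 4, 5, 6, 7, 8, 9]),
    ([0, 1, 2, 0], [4, 0, 3, 1, 2, 5, 6, 7, 8, 9]),
    ([1, 2, 0, 1, 3], [0, 5, 3, 4, 1, 2, 6, 7, 8, 9]),
    ([3, 0, 2, 3], [4, 0, 1, 3, 5, 2, 6, 7, 8, 9]),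
    ([1, 0, 0, 3, 2], [5, 4, 3, 0, 1, 2, 6, 7, 8, 9])]

def w6T_7 : List (List ℕ × List ℕ) :=
  [([2, 0, 1, 3, 0, 0], [1, 3, 5, 4, 0, 2, 6, 7, 8, 9]),
    ([0, 3, 3, 0], [1, 0, 5, 3, 4, 2, 6, 7, 8, 9]),
    ([0, 0, 3, 1, 0], [3, 1, 5, 0, 4, 2, 6, 7, 8, 9]),
    ([2, 3, 0, 1, 3], [3, 1, 4, 5, 0, 2, 6, 7, 8, 9]),
    ([0, 2, 3, 0, 0], [0, 4, 5, 3, 1, 2, 6, 7, 8, 9]),
    ([0, 2, 3, 1, 2, 0], [1, 0, 3, 4, 5, 2, 6, 7, 8, 9]),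
    ([2, 3, 3, 1], [1, 3, 2, 5, 0, 4, 6, 7, 8, 9]),
    ([2, 3, 1], [5, 3, 2, 4, 0, 1, 6, 7, 8, 9]),
    ([2, 3, 3], [5, 1, 2, 3, 0, 4, 6, 7, 8, 9]),
    ([2, 3, 3, 2], [1, 0, 2, 3, 5, 4, 6, 7, 8, 9]),
    ([2, 1, 0, 3, 1], [5, 1, 4, 2, 0, 3, 6, 7, 8, 9]),
    ([2, 0, 0, 3, 1], [5, 3, 4, 1, 0, 2, 6, 7, 8, 9]),
    ([0, 2, 2, 3, 1], [5, 3, 0, 1, 2, 4, 6, 7, 8, 9]),
    ([3, 0, 2, 2, 0], [5, 1, 4, 3, 2, 0, 6, 7, 8, 9]),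
    ([1, 2, 0, 3, 2], [5, 1, 3, 0, 2, 4, 6, 7, 8, 9]),
    ([0, 0, 3, 1], [5, 3, 1, 0, 4, 2, 6, 7, 8, 9]),
    ([0, 0, 3, 2], [5, 4, 1, 3, 0, 2, 6, 7, 8, 9]),
    ([1, 3, 0], [5, 2, 3, 0, 4, 1, 6, 7, 8, 9]),
    ([2, 1, 3, 2, 0], [0, 2, 5, 1, 3, 4, 6, 7, 8, 9]),
    ([2, 0, 3, 1, 0], [3, 1, 5, 2, 0, 4, 6, 7, 8, 9]),
    ([3, 2, 0, 3, 1], [0, 3, 5, 2, 1, 4, 6, 7, 8, 9]),
    ([2, 2, 3, 1, 0], [3, 2, 5, 0, 1, 4, 6, 7, 8, 9]),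
    ([3, 2, 1, 3, 0], [0, 2, 3, 5, 1, 4, 6, 7, 8, 9]),
    ([2, 0, 3, 2, 1], [0, 3, 1, 5, 2, 4, 6, 7, 8, 9]),
    ([2, 0, 3, 2, 0], [0, 1, 5, 3, 2, 4, 6, 7, 8, 9]),
    ([1, 0, 2], [2, 4, 1, 0, 3, 5, 6, 7, 8, 9]),
    ([1, 3, 0, 2, 3], [4, 1, 3, 0, 5, 2, 6, 7, 8, 9]),
    ([1, 3, 0, 2, 3, 0], [1, 3, 4, 0, 5, 2, 6, 7, 8, 9]),
    ([2, 3, 3, 2, 0, 1], [2, 3, 1, 0, 5, 4, 6, 7, 8, 9]),
    ([1, 2, 2, 3, 0], [5, 2, 1, 0, 3, 4, 6, 7, 8, 9]),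
    ([1, 2, 3, 0, 2], [2, 1, 4, 0, 5, 3, 6, 7, 8, 9]),
    ([1, 0, 0, 2], [1, 4, 3, 0, 2, 5, 6, 7, 8, 9]),
    ([2, 1, 1, 3, 0], [5, 2, 1, 4, 0, 3, 6, 7, 8, 9]),
    ([3, 0, 2, 2, 1], [5, 3, 1, 4, 2, 0, 6, 7, 8, 9]),
    ([2, 0, 1, 2, 3], [0, 5, 1, 4, 2, 3, 6, 7, 8, 9]),
    ([1, 0, 3, 1, 2], [0, 4, 1, 2, 5, 3, 6, 7, 8, 9]),
    ([3, 0, 2], [2, 4, 1, 3, 5, 0, 6, 7, 8, 9]),
    ([2, 0, 1, 1], [3, 4, 1, 2, 0, 5, 6, 7, 8, 9]),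
    ([0, 3, 1, 0, 0], [0, 5, 3, 2, 4, 1, 6, 7, 8, 9]),
    ([3, 1, 0, 0], [2, 5, 3, 1, 4, 0, 6, 7, 8, 9])]

def w6T_8 : List (List ℕ × List ℕ) :=
  [([0, 3, 2, 0, 0], [0, 5, 4, 3, 2, 1, 6, 7, 8, 9]),
    ([0, 2, 1, 0, 3], [0, 5, 4, 2, 1, 3, 6, 7, 8, 9]),
    ([1, 0, 3, 2, 0], [4, 1, 5, 0, 2, 3, 6, 7, 8, 9]),
    ([2, 0, 1, 2, 0], [0, 1, 3, 4, 2, 5, 6, 7, 8, 9]),
    ([3, 0, 0], [2, 1, 5, 3, 4, 0, 6, 7, 8, 9]),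
    ([2, 0, 1, 1, 0], [4, 1, 3, 2, 0, 5, 6, 7, 8, 9]),
    ([3, 1, 2, 0, 1], [2, 1, 3, 4, 5, 0, 6, 7, 8, 9]),
    ([3, 0, 1, 3, 0], [0, 1, 3, 5, 4, 2, 6, 7, 8, 9]),
    ([3, 0, 2, 1, 0, 0], [1, 4, 3, 2, 5, 0, 6, 7, 8, 9]),
    ([2], [1, 4, 2, 3, 0, 5, 6, 7, 8, 9]),
    ([0, 0, 1], [0, 3, 1, 2, 4, 5, 6, 7, 8, 9]),
    ([1], [1, 3, 2, 0, 4, 5, 6, 7, 8, 9]),
    ([1, 3, 0, 0], [2, 3, 5, 0, 4, 1, 6, 7, 8, 9]),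
    ([2, 0, 1], [2, 3, 1, 4, 0, 5, 6, 7, 8, 9]),
    ([3, 0, 2, 1], [4, 3, 1, 2, 5, 0, 6, 7, 8, 9]),
    ([0, 0, 3, 2, 1], [4, 3, 1, 5, 0, 2, 6, 7, 8, 9]),
    ([3, 2, 0, 1], [2, 3, 5, 4, 1, 0, 6, 7, 8, 9]),
    ([3, 2, 1, 0, 0], [2, 4, 3, 5, 1, 0, 6, 7, 8, 9]),
    ([3, 2, 0, 0, 1], [5, 3, 4, 2, 1, 0, 6, 7, 8, 9]),
    ([3, 2, 0, 1, 1], [3, 4, 5, 2, 1, 0, 6, 7, 8, 9]),
    ([1, 3, 0, 1, 2], [0, 4, 3, 5, 2, 1, 6, 7, 8, 9]),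
    ([3, 0, 2, 3, 0], [0, 1, 4, 3, 5, 2, 6, 7, 8, 9]),
    ([3, 1, 0, 3, 2], [0, 4, 5, 1, 2, 3, 6, 7, 8, 9]),
    ([0, 1, 3, 0, 2], [0, 4, 3, 1, 5, 2, 6, 7, 8, 9]),
    ([1, 2, 0], [4, 2, 3, 0, 1, 5, 6, 7, 8, 9]),
    ([2, 1, 0, 0, 3], [4, 5, 3, 1, 0, 2, 6, 7, 8, 9]),
    ([1, 1, 3, 2, 0], [4, 2, 5, 1, 0, 3, 6, 7, 8, 9]),
    ([0, 2, 1], [4, 3, 0, 2, 1, 5, 6, 7, 8, 9]),
    ([2, 3, 0, 0, 1], [4, 3, 5, 2, 0, 1, 6, 7, 8, 9]),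
    ([0, 1, 2, 0, 0], [0, 3, 4, 1, 2, 5, 6, 7, 8, 9]),
    ([3, 0, 1, 2, 0, 0], [1, 3, 4, 5, 2, 0, 6, 7, 8, 9]),
    ([2, 3, 1, 0, 3], [2, 1, 5, 4, 0, 3, 6, 7, 8, 9]),
    ([2, 3, 0, 1], [2, 3, 4, 5, 0, 1, 6, 7, 8, 9]),
    ([2, 1, 3, 0], [5, 2, 3, 1, 0, 4, 6, 7, 8, 9]),
    ([2, 2, 1], [0, 3, 2, 4, 1, 5, 6, 7, 8, 9]),
    ([2, 1, 3, 0, 2], [2, 0, 3, 1, 5, 4, 6, 7, 8, 9]),
    ([3, 0, 0, 2, 1], [4, 3, 5, 1, 2, 0, 6, 7, 8, 9]),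
    ([2, 1, 0, 0], [2, 4, 3, 1, 0, 5, 6, 7, 8, 9]),
    ([2, 3, 0, 1, 1, 0], [5, 4, 3, 2, 0, 1, 6, 7, 8, 9]),
    ([2, 3, 0, 0], [2, 4, 5, 3, 0, 1, 6, 7, 8, 9])]

def w6T : List (List ℕ × List ℕ) :=
  w6T_0 ++ w6T_1 ++ w6T_2 ++ w6T_3 ++ w6T_4 ++ w6T_5 ++ w6T_6 ++ w6T_7 ++ w6T_8

def w6Texps_0 : List (List ℕ) :=
  [[],
    [2, 1, 1, 0],
    [1, 0, 3, 2, 1, 0],
    [2, 3, 3, 2, 0],
    [1, 2, 3, 1, 0],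
    [2, 3, 0, 2, 1],
    [0, 1, 3, 0, 0],
    [3, 0, 1, 3, 2],
    [0, 2, 1, 0, 0],
    [1, 3, 2, 1, 1],
    [0, 1, 2, 0, 3],
    [1, 3, 3, 1],
    [0, 2, 2, 0],
    [2, 1, 3, 2, 1, 0],
    [3, 2, 2, 1],
    [1, 2, 0, 3, 2, 0],
    [0, 3, 3, 2],
    [2, 1, 0, 3, 1, 0],
    [1, 0, 0, 3],
    [3, 1, 0, 2, 1, 0],
    [1, 3, 3, 2, 0, 1],
    [3, 2, 0, 3],
    [1, 1, 2, 0, 1],
    [2, 1, 3, 0, 1],
    [3, 0, 1],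
    [1, 2, 0, 0],
    [1, 3, 0, 2],
    [3, 1, 0, 2],
    [0, 3],
    [2, 1, 0, 3],
    [0, 3, 3, 2, 1, 0],
    [0, 3, 1, 0],
    [2, 2, 3, 1, 2],
    [3, 2, 0, 1, 2],
    [1, 0],
    [3, 2, 1, 0],
    [0, 1, 2],
    [2, 3, 1, 1],
    [0, 2, 1, 3],
    [2, 0, 1, 3]]

def w6Texps_1 : List (List ℕ) :=
  [[1, 0, 2, 1],
    [0, 2, 3, 1, 1, 0],
    [0, 3, 1, 2, 3],
    [0, 0, 3, 2, 0],
    [3, 1, 2, 0],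
    [1, 3, 2, 0],
    [0, 3, 2, 1],
    [2, 1],
    [3, 0, 2, 2],
    [1, 2, 3],
    [2, 1, 3, 2],
    [0, 3, 2, 1, 1, 0],
    [3, 0, 1, 1, 0],
    [1, 0, 2, 3, 0],
    [1, 1, 3, 0],
    [2, 3, 0],
    [0, 2, 3, 1],
    [2, 0, 3, 1],
    [1, 0, 3, 2],
    [3, 2],
    [0, 1, 1, 0],
    [0, 1],
    [2, 2],
    [1, 2, 3, 1, 1, 0],
    [3, 2, 0, 0],
    [1, 2, 3, 0, 0],
    [0, 2, 3, 1, 0],
    [0, 2, 3, 0, 1],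
    [2, 2, 3, 1],
    [3, 2, 1, 1, 0],
    [0],
    [1, 0, 0],
    [1, 3],
    [3, 1, 0],
    [0, 0, 3],
    [1, 0, 3, 1, 0],
    [0, 1, 3, 0],
    [0, 3, 1],
    [1, 0, 3, 2, 0, 0],
    [3, 0, 0, 2]]

def w6Texps_2 : List (List ℕ) :=
  [[0, 0, 2, 1],
    [3, 0, 1, 2, 0],
    [0, 3, 2, 1, 0],
    [0, 3, 2, 0, 1],
    [2, 0, 3, 2],
    [0, 1, 2, 3, 1],
    [0, 1, 3, 2, 1, 1],
    [0, 2, 1, 3, 2, 0],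
    [3, 1, 2, 2],
    [2, 1, 0, 2],
    [3, 3, 1, 0, 2],
    [1, 2, 2, 1, 0],
    [2, 1, 3, 2, 1],
    [3, 0, 1, 1, 2],
    [2, 0, 0, 1],
    [2, 3, 0, 1, 3, 0],
    [2, 0, 1, 1, 3],
    [2, 3, 1, 0, 0],
    [2, 1, 3, 0, 0],
    [2, 3, 3, 1, 0],
    [2, 1, 1],
    [1, 1, 3, 2],
    [2, 2, 3, 1, 2, 0],
    [0, 3, 1, 2, 0],
    [0, 3, 3, 2, 1],
    [2, 2, 3, 0, 2],
    [0, 0, 3, 1, 2],
    [3, 0, 2, 1, 0],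
    [3, 1, 2, 3, 0],
    [3, 3, 2],
    [3, 1, 0, 3],
    [1, 0, 3, 1],
    [0, 1, 2, 3, 1, 1],
    [1, 2, 3, 1, 1],
    [1, 3, 3, 2],
    [1, 1, 3, 2, 1, 0],
    [1, 3, 3, 1, 0],
    [0, 1, 1, 3, 2, 0],
    [1, 2, 3, 1],
    [2, 1, 1, 3]]

def w6Texps_3 : List (List ℕ) :=
  [[3, 1, 2, 3, 1, 0],
    [1, 1, 3, 0, 1],
    [1, 2, 3, 0, 1],
    [1, 0, 3, 2, 1],
    [1, 1, 3, 2, 1],
    [1, 1, 3],
    [3, 1, 2, 3],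
    [1, 3, 3],
    [1, 3, 3, 0],
    [0, 1, 2, 3, 1, 0],
    [3, 1, 2, 3, 1],
    [2, 1, 1, 3, 0, 1],
    [0, 1, 2, 3, 0],
    [1, 0, 3],
    [0, 1, 1, 3],
    [0, 3, 1, 2, 3, 0],
    [0, 2, 2, 1],
    [0, 1, 3, 2, 1],
    [0, 3, 1, 2, 2],
    [0, 2, 3],
    [0, 2, 3, 1, 1],
    [0, 1, 3, 2],
    [1, 3, 2, 1, 1, 0],
    [3, 3, 2, 0, 1],
    [2, 2, 3, 0, 2, 1],
    [0, 1, 3],
    [0, 3, 3],
    [0, 1, 1, 2],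
    [1, 1, 2, 0, 3],
    [0, 2, 1, 3, 2],
    [0, 3, 2, 1, 1],
    [0, 2, 2, 3],
    [2, 2, 1, 0, 3],
    [0, 3, 3, 1],
    [1, 1, 2, 0],
    [0, 1, 2, 3],
    [2, 2, 1, 0],
    [0, 2, 3, 1, 2],
    [1, 3, 0, 0, 2],
    [0, 0, 2, 1, 3]]

def w6Texps_4 : List (List ℕ) :=
  [[0, 2, 2, 3, 1, 0],
    [3, 0, 1, 1],
    [0, 3, 2, 1, 3],
    [2, 3, 3, 2, 1, 0],
    [3, 2, 2, 1, 0],
    [2, 3, 0, 1, 1],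
    [2, 0, 1, 2],
    [3, 0, 0, 2, 1, 0],
    [3, 0, 1, 2],
    [3, 2, 1, 1],
    [3, 3, 1, 0],
    [2, 3, 1, 0],
    [2, 1, 3],
    [0, 0, 2, 1, 0],
    [1, 2, 0, 0, 3],
    [0, 1, 1],
    [3, 3, 2, 1, 0],
    [0, 3, 1, 2],
    [2, 3, 1, 2],
    [3, 3, 2, 0],
    [1, 2, 3, 0],
    [3, 1, 1, 0],
    [3, 1, 2, 2, 0],
    [1, 3, 3, 2, 0],
    [2, 0],
    [2, 3, 3, 0],
    [3, 1, 2, 2, 1, 0],
    [2, 2, 0],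
    [1, 2, 2, 0],
    [2, 1, 0],
    [3, 2, 0],
    [1, 3, 2, 1, 0],
    [2, 2, 3, 0],
    [2, 3, 1, 2, 0],
    [3, 3, 0],
    [3, 1, 1, 2, 0],
    [3, 0],
    [3, 2, 2, 0],
    [1, 1, 3, 0, 2],
    [0, 3, 2]]

def w6Texps_5 : List (List ℕ) :=
  [[0, 2],
    [2, 2, 3, 0, 1],
    [0, 2, 2],
    [3, 1, 1, 2],
    [1, 2, 2, 3],
    [3],
    [3, 1, 1],
    [3, 1, 2, 2, 1],
    [2, 3, 3, 2, 1],
    [3, 3, 2, 1],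
    [1, 1, 2],
    [1, 2, 2],
    [1, 3, 2, 1],
    [1, 3, 2],
    [2, 3],
    [3, 1],
    [3, 2, 1],
    [2, 2, 3],
    [1, 2, 2, 1],
    [1, 1],
    [3, 1, 2],
    [3, 2, 2],
    [3, 1, 2, 0, 0],
    [2, 0, 0, 3, 1, 0],
    [2, 1, 0, 2, 3],
    [1, 1, 0],
    [3, 1, 0, 0, 2],
    [3, 1, 1, 2, 0, 1],
    [1, 2, 0, 1],
    [3, 0, 2, 3, 1],
    [2, 0, 1, 3, 0],
    [3, 0, 0, 1],
    [3, 2, 0, 1, 1, 0],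
    [2, 0, 3, 1, 2, 0],
    [0, 3, 1, 0, 2],
    [0, 1, 1, 3, 2],
    [0, 3, 2, 0],
    [2, 0, 0],
    [0, 0, 2],
    [0, 2, 3, 0]]

def w6Texps_6 : List (List ℕ) :=
  [[1, 0, 0, 3, 2, 0],
    [1, 3, 2, 0, 3],
    [1, 2],
    [1, 3, 0, 2, 2, 0],
    [0, 3, 2, 1, 3, 0],
    [2, 3, 1, 1, 0],
    [3, 0, 1, 3],
    [3, 3, 1],
    [1, 0, 2, 3, 1, 0],
    [1, 0, 2, 3, 0, 0],
    [1, 2, 2, 3, 0, 1],
    [3, 2, 1, 0, 2],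
    [3, 1, 0, 2, 1],
    [0, 1, 3, 2, 0],
    [0, 1, 3, 2, 1, 0],
    [1, 0, 2, 1, 0],
    [1, 0, 2, 3, 1],
    [1, 0, 2, 3],
    [1, 2, 0, 3],
    [2, 0, 0, 3],
    [2, 0, 3, 1, 0, 0],
    [2, 0, 3],
    [1, 0, 2, 1, 3],
    [3, 2, 0, 1, 2, 0],
    [1, 3, 0, 2, 2],
    [1, 3, 2, 0, 0],
    [2, 3, 0, 2],
    [0, 2, 1, 3, 0],
    [3, 3],
    [1, 3, 2, 0, 1],
    [0, 2, 1, 0],
    [1, 3, 0, 1],
    [2, 0, 3, 1, 2],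
    [0, 3, 1, 2, 2, 0],
    [3, 2, 1, 3],
    [0, 0],
    [0, 1, 2, 0],
    [1, 2, 0, 1, 3],
    [3, 0, 2, 3],
    [1, 0, 0, 3, 2]]

def w6Texps_7 : List (List ℕ) :=
  [[2, 0, 1, 3, 0, 0],
    [0, 3, 3, 0],
    [0, 0, 3, 1, 0],
    [2, 3, 0, 1, 3],
    [0, 2, 3, 0, 0],
    [0, 2, 3, 1, 2, 0],
    [2, 3, 3, 1],
    [2, 3, 1],
    [2, 3, 3],
    [2, 3, 3, 2],
    [2, 1, 0, 3, 1],
    [2, 0, 0, 3, 1],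
    [0, 2, 2, 3, 1],
    [3, 0, 2, 2, 0],
    [1, 2, 0, 3, 2],
    [0, 0, 3, 1],
    [0, 0, 3, 2],
    [1, 3, 0],
    [2, 1, 3, 2, 0],
    [2, 0, 3, 1, 0],
    [3, 2, 0, 3, 1],
    [2, 2, 3, 1, 0],
    [3, 2, 1, 3, 0],
    [2, 0, 3, 2, 1],
    [2, 0, 3, 2, 0],
    [1, 0, 2],
    [1, 3, 0, 2, 3],
    [1, 3, 0, 2, 3, 0],
    [2, 3, 3, 2, 0, 1],
    [1, 2, 2, 3, 0],
    [1, 2, 3, 0, 2],
    [1, 0, 0, 2],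
    [2, 1, 1, 3, 0],
    [3, 0, 2, 2, 1],
    [2, 0, 1, 2, 3],
    [1, 0, 3, 1, 2],
    [3, 0, 2],
    [2, 0, 1, 1],
    [0, 3, 1, 0, 0],
    [3, 1, 0, 0]]

def w6Texps_8 : List (List ℕ) :=
  [[0, 3, 2, 0, 0],
    [0, 2, 1, 0, 3],
    [1, 0, 3, 2, 0],
    [2, 0, 1, 2, 0],
    [3, 0, 0],
    [2, 0, 1, 1, 0],
    [3, 1, 2, 0, 1],
    [3, 0, 1, 3, 0],
    [3, 0, 2, 1, 0, 0],
    [2],
    [0, 0, 1],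
    [1],
    [1, 3, 0, 0],
    [2, 0, 1],
    [3, 0, 2, 1],
    [0, 0, 3, 2, 1],
    [3, 2, 0, 1],
    [3, 2, 1, 0, 0],
    [3, 2, 0, 0, 1],
    [3, 2, 0, 1, 1],
    [1, 3, 0, 1, 2],
    [3, 0, 2, 3, 0],
    [3, 1, 0, 3, 2],
    [0, 1, 3, 0, 2],
    [1, 2, 0],
    [2, 1, 0, 0, 3],
    [1, 1, 3, 2, 0],
    [0, 2, 1],
    [2, 3, 0, 0, 1],
    [0, 1, 2, 0, 0],
    [3, 0, 1, 2, 0, 0],
    [2, 3, 1, 0, 3],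
    [2, 3, 0, 1],
    [2, 1, 3, 0],
    [2, 2, 1],
    [2, 1, 3, 0, 2],
    [3, 0, 0, 2, 1],
    [2, 1, 0, 0],
    [2, 3, 0, 1, 1, 0],
    [2, 3, 0, 0]]

def w6Texps : List (List ℕ) :=
  w6Texps_0 ++ w6Texps_1 ++ w6Texps_2 ++ w6Texps_3 ++ w6Texps_4 ++ w6Texps_5 ++ w6Texps_6 ++ w6Texps_7 ++ w6Texps_8

def w6S_0 : List (List ℕ × List ℕ) :=
  [([], [0, 1, 2, 3, 4, 5, 6, 7, 8, 9])]

def w6S : List (List ℕ × List ℕ) :=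
  w6S_0

def w6Sexps_0 : List (List ℕ) :=
  [[]]

def w6Sexps : List (List ℕ) :=
  w6Sexps_0

def w6Ctx : Ctx := ⟨10, gi, w6T, w6T, w6S, [1]⟩

def w6_ntfix0Dest_0 : List (ℕ × ℕ) :=
  [(1, 0),
    (13, 0),
    (14, 0),
    (15, 0),
    (16, 0),
    (17, 0),
    (11, 0),
    (12, 0),
    (18, 0),
    (19, 0),
    (23, 0),
    (22, 0),
    (24, 0),
    (25, 0),
    (26, 0),
    (27, 0),
    (20, 0),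
    (21, 0),
    (29, 0),
    (28, 0),
    (32, 0),
    (33, 0),
    (34, 0),
    (35, 0),
    (37, 0),
    (36, 0),
    (30, 0),
    (31, 0),
    (39, 0),
    (38, 0),
    (42, 0),
    (43, 0),
    (44, 0),
    (45, 0),
    (47, 0),
    (46, 0),
    (40, 0),
    (41, 0),
    (48, 0),
    (49, 0),
    (0, 0),
    (2, 0),
    (3, 0),
    (4, 0),
    (5, 0),
    (6, 0),
    (7, 0),
    (8, 0),
    (9, 0),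
    (10, 0),
    (52, 0),
    (53, 0),
    (55, 0),
    (54, 0),
    (57, 0),
    (56, 0),
    (58, 0),
    (59, 0),
    (50, 0),
    (51, 0),
    (0, 0),
    (2, 0),
    (3, 0),
    (4, 0),
    (5, 0),
    (6, 0),
    (7, 0),
    (8, 0),
    (9, 0),
    (10, 0),
    (11, 0),
    (12, 0),
    (13, 0),
    (1, 0),
    (14, 0),
    (15, 0),
    (16, 0),
    (17, 0),
    (18, 0),
    (19, 0),
    (20, 0),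
    (21, 0),
    (22, 0),
    (23, 0),
    (24, 0),
    (25, 0),
    (26, 0),
    (27, 0),
    (28, 0),
    (29, 0),
    (30, 0),
    (31, 0),
    (32, 0),
    (33, 0),
    (34, 0),
    (35, 0),
    (36, 0),
    (37, 0),
    (38, 0),
    (39, 0),
    (40, 0),
    (41, 0),
    (42, 0),
    (43, 0),
    (44, 0),
    (45, 0),
    (46, 0),
    (47, 0),
    (48, 0),
    (49, 0),
    (50, 0),
    (51, 0),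
    (52, 0),
    (53, 0),
    (54, 0),
    (55, 0),
    (56, 0),
    (57, 0),
    (58, 0),
    (59, 0)]

def w6_ntfix0Dest : List (ℕ × ℕ) :=
  w6_ntfix0Dest_0

def w6_ntfix1Dest_0 : List (ℕ × ℕ) :=
  [(59, 0),
    (58, 0),
    (55, 0),
    (54, 0),
    (57, 0),
    (56, 0),
    (53, 0),
    (52, 0),
    (50, 0),
    (51, 0),
    (49, 0),
    (48, 0),
    (45, 0),
    (44, 0),
    (47, 0),
    (46, 0),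
    (43, 0),
    (42, 0),
    (41, 0),
    (40, 0),
    (29, 0),
    (28, 0),
    (27, 0),
    (26, 0),
    (25, 0),
    (24, 0),
    (23, 0),
    (22, 0),
    (21, 0),
    (20, 0),
    (39, 0),
    (38, 0),
    (37, 0),
    (36, 0),
    (35, 0),
    (34, 0),
    (33, 0),
    (32, 0),
    (31, 0),
    (30, 0),
    (19, 0),
    (18, 0),
    (17, 0),
    (16, 0),
    (1, 0),
    (13, 0),
    (15, 0),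
    (14, 0),
    (12, 0),
    (11, 0),
    (9, 0),
    (10, 0),
    (8, 0),
    (7, 0),
    (4, 0),
    (3, 0),
    (6, 0),
    (5, 0),
    (2, 0),
    (0, 0),
    (0, 0),
    (2, 0),
    (3, 0),
    (4, 0),
    (5, 0),
    (6, 0),
    (7, 0),
    (8, 0),
    (9, 0),
    (10, 0),
    (11, 0),
    (12, 0),
    (13, 0),
    (1, 0),
    (14, 0),
    (15, 0),
    (16, 0),
    (17, 0),
    (18, 0),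
    (19, 0),
    (20, 0),
    (21, 0),
    (22, 0),
    (23, 0),
    (24, 0),
    (25, 0),
    (26, 0),
    (27, 0),
    (28, 0),
    (29, 0),
    (30, 0),
    (31, 0),
    (32, 0),
    (33, 0),
    (34, 0),
    (35, 0),
    (36, 0),
    (37, 0),
    (38, 0),
    (39, 0),
    (40, 0),
    (41, 0),
    (42, 0),
    (43, 0),
    (44, 0),
    (45, 0),
    (46, 0),
    (47, 0),
    (48, 0),
    (49, 0),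
    (50, 0),
    (51, 0),
    (52, 0),
    (53, 0),
    (54, 0),
    (55, 0),
    (56, 0),
    (57, 0),
    (58, 0),
    (59, 0)]

def w6_ntfix1Dest : List (ℕ × ℕ) :=
  w6_ntfix1Dest_0

def w6_nvfix0Dest_0 : List (ℕ × ℕ) :=
  [(60, 0),
    (0, 0),
    (34, 0),
    (61, 0),
    (0, 0),
    (60, 0),
    (61, 0),
    (34, 0)]

def w6_nvfix0Dest : List (ℕ × ℕ) :=
  w6_nvfix0Dest_0

def w6_nvfix1Dest_0 : List (ℕ × ℕ) :=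
  [(61, 0),
    (34, 0),
    (0, 0),
    (60, 0),
    (0, 0),
    (60, 0),
    (61, 0),
    (34, 0)]

def w6_nvfix1Dest : List (ℕ × ℕ) :=
  w6_nvfix1Dest_0

def w6_kill7Dest_0 : List (ℕ × ℕ) :=
  [(0, 0)]

def w6_kill7Dest : List (ℕ × ℕ) :=
  w6_kill7Dest_0

def w6_kill7Steps_0 : List (Step) :=
  [⟨3, [2], 139, [(62, 0), (63, 0), (64, 0), (65, 0), (38, 0), (66, 0), (67, 0), (8, 0), (68, 0), (69, 0), (11, 0), (70, 0), (24, 0), (71, 0), (72, 0), (73, 0), (74, 0), (75, 0), (76, 0), (77, 0), (78, 0), (79, 0), (80, 0), (81, 0), (82, 0), (36, 0), (10, 0), (83, 0), (84, 0), (85, 0), (86, 0), (87, 0), (88, 0), (45, 0), (89, 0), (90, 0), (91, 0), (92, 0), (93, 0), (53, 0), (94, 0), (95, 0), (96, 0), (43, 0), (97, 0), (98, 0), (99, 0), (100, 0), (55, 0), (101, 0), (14, 0), (102, 0), (103, 0),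 (104, 0), (20, 0), (105, 0), (106, 0), (107, 0), (108, 0), (109, 0)]⟩,
    ⟨2, [1, 3, 3], 2, [(110, 0), (111, 0), (112, 0), (113, 0), (2, 0), (114, 0), (78, 0), (49, 0), (115, 0), (116, 0), (75, 0), (117, 0), (118, 0), (119, 0), (120, 0), (121, 0), (122, 0), (123, 0), (124, 0), (63, 0), (125, 0), (126, 0), (127, 0), (128, 0), (129, 0), (130, 0), (131, 0), (101, 0), (54, 0), (132, 0), (133, 0), (20, 0), (17, 0), (134, 0), (135, 0), (11, 0)]⟩,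
    ⟨2, [3, 1, 0], 86, [(136, 0), (120, 0), (137, 0), (138, 0), (90, 0), (139, 0), (140, 0), (38, 0), (141, 0), (142, 0), (143, 0), (144, 0), (134, 0), (145, 0), (146, 0), (22, 0), (147, 0), (13, 0), (148, 0), (149, 0), (150, 0), (151, 0), (152, 0), (56, 0), (153, 0), (28, 0), (154, 0), (155, 0), (85, 0), (112, 0), (156, 0), (70, 0), (104, 0), (157, 0), (16, 0), (86, 0)]⟩,
    ⟨2, [2, 3, 1, 0, 3], 47, [(156, 0), (157, 0), (158, 0), (159, 0), (160, 0), (72, 0), (31, 0), (161, 0), (82, 0), (162, 0), (163, 0), (164, 0), (39, 0), (165, 0), (37, 0), (36, 0), (166, 0), (33, 0), (167, 0), (168, 0), (38, 0), (169, 0), (145, 0), (170, 0), (171, 0), (172, 0), (173, 0), (174, 0), (140, 0), (66, 0), (175, 0), (100, 0), (176, 0), (177, 0), (178, 0), (150, 0)]⟩,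
    ⟨3, [3, 0, 2, 3], 8, [(179, 0), (3, 0), (35, 0), (115, 0), (180, 0), (181, 0), (69, 0), (1, 0), (182, 0), (108, 0), (183, 0), (184, 0), (185, 0), (186, 0), (73, 0), (176, 0), (55, 0), (187, 0), (188, 0), (189, 0), (120, 0), (70, 0), (102, 0), (44, 0), (190, 0), (128, 0), (191, 0), (13, 0), (163, 0), (192, 0), (193, 0), (194, 0), (195, 0), (164, 0), (196, 0), (197, 0)]⟩,
    ⟨3, [3], 27, [(70, 0), (146, 0), (150, 0), (143, 0), (46, 0), (152, 0), (155, 0), (198, 0), (138, 0), (77, 0), (153, 0), (16, 0), (105, 0), (148, 0), (38, 0), (170, 0), (179, 0), (199, 0), (90, 0), (177, 0), (61, 0), (200, 0), (121, 0), (134, 0), (151, 0), (201, 0), (142, 0), (22, 0), (175, 0), (202, 0), (54, 0), (192, 0), (86, 0), (145, 0), (139, 0), (28, 0)]⟩,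
    ⟨3, [0, 2, 3, 1, 0], 86, [(47, 0), (126, 0), (203, 0), (204, 0), (92, 0), (205, 0), (206, 0), (72, 0), (207, 0), (50, 0), (208, 0), (209, 0), (49, 0), (169, 0), (59, 0), (210, 0), (211, 0), (212, 0), (9, 0), (213, 0), (172, 0), (214, 0), (125, 0), (215, 0), (216, 0), (217, 0), (218, 0), (119, 0), (101, 0), (124, 0), (219, 0), (62, 0), (14, 0), (220, 0), (221, 0), (88, 0)]⟩,
    ⟨3, [2], 138, [(47, 0), (155, 0), (222, 0), (110, 0), (163, 0), (223, 0), (224, 0), (225, 0), (50, 0), (226, 0), (119, 0), (136, 0), (227, 0), (228, 0), (178, 0), (33, 0), (229, 0), (4, 0), (230, 0), (142, 0), (135, 0), (231, 0), (40, 0), (232, 0), (165, 0), (175, 0), (233, 0), (234, 0), (57, 0), (235, 0), (16, 0), (185, 0), (221, 0), (236, 0), (237, 0), (28, 0), (238, 0), (217, 0), (196, 0), (239, 0), (188,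 0), (18, 0), (183, 0), (240, 0), (26, 0), (241, 0), (159, 0), (242, 0), (243, 0), (127, 0), (203, 0), (244, 0), (245, 0), (137, 0), (131, 0), (201, 0), (246, 0), (35, 0), (2, 0), (247, 0)]⟩,
    ⟨2, [1, 3, 3, 1, 0], 94, [(212, 0), (195, 0), (86, 0), (22, 0), (147, 0), (248, 0), (249, 0), (241, 0), (141, 0), (154, 0), (40, 0), (250, 0), (251, 0), (53, 0), (224, 0), (138, 0), (90, 0), (13, 0), (149, 0), (148, 0), (211, 0), (92, 0), (252, 0), (253, 0), (254, 0), (255, 0), (142, 0), (207, 0), (88, 0), (203, 0), (45, 0), (191, 0), (256, 0), (257, 0), (7, 0), (137, 0)]⟩,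
    ⟨1, [1], 24, [(159, 0), (258, 0), (86, 0), (119, 0), (259, 0), (9, 0), (224, 0), (125, 0), (19, 0), (260, 0), (261, 0), (133, 0), (49, 0), (88, 0), (138, 0), (151, 0), (78, 0), (18, 0), (205, 0), (134, 0), (172, 0), (72, 0), (217, 0), (262, 0), (257, 0), (214, 0), (263, 0), (169, 0), (38, 0), (174, 0), (10, 0), (264, 0), (227, 0), (148, 0), (265, 0), (204, 0)]⟩,
    ⟨2, [3, 1, 0], 80, [(82, 0), (266, 0), (87, 0), (50, 0), (253, 0), (267, 0), (117, 0), (118, 0), (40, 0), (89, 0), (30, 0), (178, 0), (268, 0), (111, 0), (60, 0), (254, 0), (212, 0), (269, 0), (256, 0), (218, 0), (132, 0), (51, 0), (239, 0), (270, 0), (31, 0), (76, 0), (250, 0), (84, 0), (12, 0), (236, 0), (122, 0), (271, 0), (272, 0), (135, 0), (103, 0), (273, 0)]⟩,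
    ⟨3, [3, 0, 2, 1, 0, 0], 31, [(60, 0), (40, 0), (122, 0), (274, 0), (118, 0), (82, 0), (132, 0), (160, 0), (239, 0), (62, 0), (218, 0), (87, 0), (272, 0), (30, 0), (266, 0), (228, 0), (267, 0), (117, 0), (66, 0), (21, 0), (219, 0), (31, 0), (166, 0), (12, 0), (135, 0), (178, 0), (41, 0), (246, 0), (275, 0), (111, 0), (276, 0), (103, 0), (254, 0), (89, 0), (273, 0), (270, 0)]⟩,
    ⟨1, [0, 2, 3, 1, 0], 0, [(277, 0), (56, 0), (30, 0), (223, 0), (106, 0), (253, 0), (278, 0), (43, 0), (246, 0), (140, 0), (279, 0), (230, 0), (280, 0), (281, 0), (254, 0), (174, 0), (39, 0), (157, 0), (282, 0), (283, 0), (284, 0), (248, 0), (240, 0), (41, 0), (285, 0), (249, 0), (145, 0), (6, 0), (67, 0), (229, 0), (139, 0), (86, 0), (76, 0), (239, 0), (256, 0), (66, 0)]⟩,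
    ⟨3, [2, 1, 0, 0, 3], 65, [(219, 0), (126, 0), (68, 0), (204, 0), (286, 0), (213, 0), (287, 0), (9, 0), (288, 0), (289, 0), (11, 0), (125, 0), (88, 0), (207, 0), (59, 0), (274, 0), (172, 0), (208, 0), (92, 0), (217, 0), (218, 0), (210, 0), (212, 0), (268, 0), (215, 0), (203, 0), (32, 0), (211, 0), (62, 0), (47, 0), (178, 0), (220, 0), (127, 0), (118, 0), (101, 0), (50, 0)]⟩,
    ⟨3, [0], 15, [(196, 0), (268, 0), (230, 0), (85, 0), (290, 0), (56, 0), (291, 0), (292, 0), (53, 0), (127, 0), (111, 0), (84, 0), (199, 0), (141, 0), (279, 0), (52, 0), (293, 0), (288, 0), (149, 0), (294, 0), (54, 0), (192, 0), (77, 0), (295, 0), (296, 0), (235, 0), (207, 0), (142, 0), (297, 0), (55, 0), (215, 0), (59, 0), (256, 0), (76, 0), (239, 0), (146, 0)]⟩,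
    ⟨2, [0, 2, 2, 3, 1, 0], 2, [(294, 0), (162, 0), (3, 0), (185, 0), (289, 0), (298, 0), (208, 0), (98, 0), (217, 0), (151, 0), (244, 0), (23, 0), (299, 0), (300, 0), (262, 0), (84, 0), (288, 0), (105, 0), (21, 0), (261, 0), (15, 0), (241, 0), (160, 0), (10, 0), (233, 0), (87, 0), (192, 0), (301, 0), (159, 0), (32, 0), (292, 0), (149, 0), (302, 0), (303, 0), (92, 0), (304, 0)]⟩,
    ⟨3, [3, 2, 1, 1, 0], 73, [(58, 0), (305, 0), (306, 0), (32, 0), (102, 0), (282, 0), (18, 0), (72, 0), (307, 0), (308, 0), (309, 0), (213, 0), (242, 0), (174, 0), (240, 0), (183, 0), (114, 0), (26, 0), (176, 0), (209, 0), (159, 0), (158, 0), (34, 0), (295, 0), (279, 0), (301, 0), (310, 0), (173, 0), (80, 0), (311, 0), (133, 0), (65, 0), (53, 0), (257, 0), (249, 0), (106, 0)]⟩,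
    ⟨1, [0, 3, 2, 0, 1], 74, [(238, 0), (168, 0), (183, 0), (309, 0), (308, 0), (312, 0), (20, 0), (256, 0), (133, 0), (159, 0), (303, 0), (7, 0), (93, 0), (111, 0), (96, 0), (80, 0), (305, 0), (106, 0), (295, 0), (257, 0), (84, 0), (296, 0), (313, 0), (314, 0), (315, 0), (57, 0), (34, 0), (196, 0), (48, 0), (316, 0), (166, 0), (317, 0), (116, 0), (123, 0), (131, 0), (58, 0)]⟩,
    ⟨1, [0, 2, 1, 0], 37, [(97, 0), (28, 0), (204, 0), (19, 0), (262, 0), (78, 0), (159, 0), (167, 0), (257, 0), (138, 0), (318, 0), (319, 0), (64, 0), (174, 0), (49, 0), (9, 0), (227, 0), (148, 0), (224, 0), (88, 0), (165, 0), (29, 0), (320, 0), (264, 0), (258, 0), (321, 0), (86, 0), (259, 0), (214, 0), (261, 0), (150, 0), (152, 0), (18, 0), (72, 0), (133, 0), (265, 0)]⟩,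
    ⟨1, [2, 3, 0, 1], 31, [(251, 0), (206, 0), (294, 0), (322, 0), (304, 0), (306, 0), (233, 0), (42, 0), (323, 0), (33, 0), (324, 0), (121, 0), (124, 0), (325, 0), (230, 0), (293, 0), (2, 0), (162, 0), (202, 0), (85, 0), (252, 0), (137, 0), (221, 0), (326, 0), (23, 0), (43, 0), (173, 0), (211, 0), (207, 0), (92, 0), (107, 0), (283, 0), (71, 0), (52, 0), (327, 0), (81, 0)]⟩]

def w6_kill7Steps_1 : List (Step) :=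
  [⟨1, [2, 3, 0, 1], 46, [(185, 0), (280, 0), (134, 0), (147, 0), (60, 0), (112, 0), (11, 0), (203, 0), (135, 0), (94, 0), (1, 0), (186, 0), (249, 0), (114, 0), (78, 0), (260, 0), (87, 0), (231, 0), (328, 0), (19, 0), (329, 0), (79, 0), (95, 0), (115, 0), (128, 0), (311, 0), (144, 0), (16, 0), (259, 0), (281, 0), (286, 0), (15, 0), (120, 0), (119, 0), (129, 0), (17, 0)]⟩,
    ⟨3, [2, 2, 3, 1], 57, [(133, 0), (295, 0), (219, 0), (225, 0), (0, 0), (73, 0), (206, 0), (181, 0), (175, 0), (330, 0), (74, 0), (18, 0), (297, 0), (170, 0), (31, 0), (275, 0), (71, 0), (331, 0), (70, 0), (60, 0), (116, 0), (128, 0), (196, 0), (161, 0), (72, 0), (194, 0), (61, 0), (54, 0), (111, 0), (127, 0), (24, 0), (332, 0), (145, 0), (246, 0), (282, 0), (34, 0)]⟩,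
    ⟨2, [2, 3, 0, 1], 111, [(168, 0), (195, 0), (308, 0), (133, 0), (261, 0), (295, 0), (57, 0), (111, 0), (333, 0), (227, 0), (48, 0), (123, 0), (116, 0), (330, 0), (229, 0), (316, 0), (131, 0), (250, 0), (275, 0), (20, 0), (161, 0), (246, 0), (196, 0), (313, 0), (303, 0), (74, 0), (305, 0), (34, 0), (164, 0), (99, 0), (93, 0), (7, 0), (80, 0), (334, 0), (335, 0), (24, 0)]⟩,
    ⟨3, [0, 3, 2, 0, 1], 95, [(122, 0), (25, 0), (59, 0), (169, 0), (69, 0), (217, 0), (192, 0), (38, 0), (190, 0), (336, 0), (228, 0), (270, 0), (174, 0), (139, 0), (284, 0), (337, 0), (35, 0), (338, 0), (232, 0), (339, 0), (152, 0), (321, 0), (258, 0), (21, 0), (239, 0), (277, 0), (216, 0), (49, 0), (65, 0), (180, 0), (201, 0), (67, 0), (62, 0), (200, 0), (187, 0), (64, 0)]⟩,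
    ⟨1, [3, 1, 1, 0], 50, [(113, 0), (340, 0), (229, 0), (91, 0), (330, 0), (248, 0), (6, 0), (298, 0), (74, 0), (238, 0), (8, 0), (302, 0), (191, 0), (224, 0), (341, 0), (315, 0), (116, 0), (303, 0), (262, 0), (3, 0), (210, 0), (92, 0), (234, 0), (284, 0), (67, 0), (255, 0), (314, 0), (9, 0), (109, 0), (247, 0), (342, 0), (2, 0), (277, 0), (343, 0), (327, 0), (7, 0)]⟩,
    ⟨4, [2, 2, 3, 1], 134, [(96, 0), (335, 0), (62, 0), (344, 0), (211, 0), (190, 0), (221, 0), (44, 0), (202, 0), (80, 0), (257, 0), (345, 0), (245, 0), (179, 0), (236, 0), (40, 0), (325, 0), (47, 0), (154, 0), (276, 0), (183, 0), (346, 0), (195, 0), (48, 0), (214, 0), (45, 0), (347, 0), (63, 0), (123, 0), (124, 0), (334, 0), (348, 0), (139, 0), (278, 0), (43, 0), (184, 0)]⟩,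
    ⟨1, [0, 2, 2, 3, 1, 0], 19, [(349, 0), (132, 0), (107, 0), (165, 0), (176, 0), (19, 0), (197, 0), (259, 0), (35, 0), (82, 0), (243, 0), (291, 0), (29, 0), (64, 0), (251, 0), (173, 0), (189, 0), (30, 0), (174, 0), (283, 0), (320, 0), (224, 0), (78, 0), (350, 0), (222, 0), (265, 0), (270, 0), (321, 0), (2, 0), (108, 0), (12, 0), (89, 0), (338, 0), (293, 0), (182, 0), (167, 0)]⟩,
    ⟨1, [0, 0, 3, 1, 2], 125, [(38, 0), (138, 0), (75, 0), (17, 0), (290, 0), (231, 0), (52, 0), (328, 0), (111, 0), (96, 0), (165, 0), (177, 0), (147, 0), (60, 0), (330, 0), (321, 0), (235, 0), (42, 0), (135, 0), (315, 0), (260, 0), (144, 0), (19, 0), (161, 0), (175, 0), (94, 0), (117, 0), (87, 0), (262, 0), (149, 0), (232, 0), (347, 0), (31, 0), (318, 0), (77, 0), (134, 0)]⟩,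
    ⟨2, [0, 0, 3, 1, 2], 133, [(24, 0), (337, 0), (89, 0), (22, 0), (148, 0), (237, 0), (29, 0), (351, 0), (265, 0), (90, 0), (201, 0), (336, 0), (326, 0), (310, 0), (266, 0), (250, 0), (227, 0), (27, 0), (241, 0), (269, 0), (121, 0), (324, 0), (23, 0), (352, 0), (222, 0), (105, 0), (305, 0), (71, 0), (271, 0), (319, 0), (131, 0), (316, 0), (25, 0), (122, 0), (64, 0), (251, 0)]⟩,
    ⟨2, [1], 55, [(332, 0), (128, 0), (33, 0), (248, 0), (304, 0), (66, 0), (160, 0), (253, 0), (299, 0), (75, 0), (194, 0), (45, 0), (249, 0), (223, 0), (339, 0), (324, 0), (241, 0), (322, 0), (43, 0), (252, 0), (6, 0), (240, 0), (281, 0), (31, 0), (158, 0), (284, 0), (351, 0), (280, 0), (231, 0), (15, 0), (110, 0), (65, 0), (171, 0), (73, 0), (301, 0), (282, 0)]⟩,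
    ⟨1, [1, 2, 0, 1, 3], 98, [(185, 0), (102, 0), (170, 0), (142, 0), (156, 0), (191, 0), (35, 0), (182, 0), (63, 0), (120, 0), (1, 0), (353, 0), (309, 0), (195, 0), (116, 0), (70, 0), (192, 0), (163, 0), (154, 0), (54, 0), (186, 0), (298, 0), (188, 0), (115, 0), (99, 0), (91, 0), (179, 0), (45, 0), (128, 0), (301, 0), (197, 0), (3, 0), (245, 0), (181, 0), (302, 0), (13, 0)]⟩,
    ⟨1, [2, 3], 91, [(321, 0), (4, 0), (337, 0), (59, 0), (200, 0), (216, 0), (201, 0), (68, 0), (140, 0), (284, 0), (187, 0), (180, 0), (118, 0), (274, 0), (41, 0), (8, 0), (235, 0), (65, 0), (242, 0), (279, 0), (217, 0), (49, 0), (354, 0), (67, 0), (122, 0), (62, 0), (339, 0), (169, 0), (277, 0), (152, 0), (300, 0), (117, 0), (35, 0), (302, 0), (63, 0), (113, 0)]⟩,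
    ⟨3, [0, 3, 2, 0, 1], 68, [(149, 0), (233, 0), (283, 0), (43, 0), (124, 0), (282, 0), (206, 0), (324, 0), (100, 0), (325, 0), (42, 0), (105, 0), (304, 0), (33, 0), (173, 0), (290, 0), (288, 0), (23, 0), (351, 0), (237, 0), (252, 0), (241, 0), (75, 0), (175, 0), (162, 0), (322, 0), (230, 0), (248, 0), (255, 0), (92, 0), (52, 0), (294, 0), (157, 0), (107, 0), (32, 0), (299, 0)]⟩,
    ⟨2, [0, 2, 3, 1, 0], 4, [(69, 0), (156, 0), (108, 0), (346, 0), (183, 0), (298, 0), (3, 0), (185, 0), (116, 0), (63, 0), (344, 0), (1, 0), (171, 0), (194, 0), (191, 0), (180, 0), (312, 0), (120, 0), (128, 0), (115, 0), (190, 0), (186, 0), (301, 0), (302, 0), (193, 0), (45, 0), (54, 0), (73, 0), (35, 0), (164, 0), (192, 0), (142, 0), (225, 0), (187, 0), (91, 0), (4, 0)]⟩,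
    ⟨3, [0, 2, 2, 3, 1, 0], 25, [(159, 0), (303, 0), (289, 0), (288, 0), (105, 0), (50, 0), (355, 0), (353, 0), (21, 0), (304, 0), (162, 0), (99, 0), (57, 0), (267, 0), (87, 0), (151, 0), (261, 0), (3, 0), (192, 0), (185, 0), (294, 0), (309, 0), (292, 0), (160, 0), (272, 0), (149, 0), (217, 0), (68, 0), (15, 0), (308, 0), (10, 0), (262, 0), (274, 0), (244, 0), (250, 0), (84, 0)]⟩,
    ⟨3, [0, 3, 2, 0, 1], 28, [(342, 0), (36, 0), (44, 0), (182, 0), (222, 0), (353, 0), (355, 0), (50, 0), (319, 0), (167, 0), (349, 0), (210, 0), (141, 0), (76, 0), (345, 0), (356, 0), (27, 0), (220, 0), (215, 0), (88, 0), (132, 0), (101, 0), (292, 0), (10, 0), (343, 0), (291, 0), (73, 0), (54, 0), (155, 0), (198, 0), (160, 0), (223, 0), (225, 0), (276, 0), (357, 0), (226, 0)]⟩,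
    ⟨4, [0, 2, 1, 0], 64, [(306, 0), (157, 0), (109, 0), (266, 0), (316, 0), (5, 0), (315, 0), (135, 0), (3, 0), (105, 0), (326, 0), (285, 0), (30, 0), (108, 0), (208, 0), (221, 0), (278, 0), (16, 0), (197, 0), (289, 0), (310, 0), (307, 0), (107, 0), (233, 0), (343, 0), (222, 0), (179, 0), (176, 0), (32, 0), (106, 0), (42, 0), (104, 0), (193, 0), (130, 0), (229, 0), (341, 0)]⟩,
    ⟨1, [2, 3, 1, 0, 3], 55, [(230, 0), (97, 0), (102, 0), (344, 0), (44, 0), (311, 0), (328, 0), (8, 0), (181, 0), (245, 0), (345, 0), (277, 0), (228, 0), (60, 0), (244, 0), (353, 0), (69, 0), (193, 0), (225, 0), (302, 0), (325, 0), (323, 0), (357, 0), (95, 0), (285, 0), (276, 0), (297, 0), (71, 0), (23, 0), (326, 0), (358, 0), (51, 0), (18, 0), (260, 0), (263, 0), (1, 0)]⟩,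
    ⟨4, [1, 3, 3, 1, 0], 100, [(99, 0), (162, 0), (178, 0), (66, 0), (31, 0), (169, 0), (72, 0), (174, 0), (219, 0), (160, 0), (299, 0), (283, 0), (140, 0), (242, 0), (220, 0), (272, 0), (246, 0), (82, 0), (270, 0), (30, 0), (301, 0), (35, 0), (38, 0), (172, 0), (37, 0), (339, 0), (166, 0), (156, 0), (163, 0), (170, 0), (159, 0), (168, 0), (100, 0), (32, 0), (206, 0), (274, 0)]⟩,
    ⟨4, [2, 3], 15, [(259, 0), (185, 0), (311, 0), (114, 0), (112, 0), (331, 0), (136, 0), (14, 0), (147, 0), (17, 0), (115, 0), (197, 0), (289, 0), (218, 0), (60, 0), (95, 0), (16, 0), (79, 0), (203, 0), (328, 0), (119, 0), (205, 0), (286, 0), (94, 0), (12, 0), (11, 0), (249, 0), (204, 0), (260, 0), (151, 0), (280, 0), (281, 0), (188, 0), (1, 0), (70, 0), (329, 0)]⟩]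

def w6_kill7Steps_2 : List (Step) :=
  [⟨2, [0, 3, 1, 2, 3, 0], 66, [(104, 0), (307, 0), (330, 0), (333, 0), (24, 0), (354, 0), (247, 0), (287, 0), (303, 0), (308, 0), (222, 0), (291, 0), (280, 0), (83, 0), (300, 0), (334, 0), (335, 0), (295, 0), (313, 0), (57, 0), (143, 0), (56, 0), (14, 0), (208, 0), (6, 0), (336, 0), (80, 0), (136, 0), (144, 0), (153, 0), (209, 0), (240, 0), (349, 0), (5, 0), (67, 0), (229, 0)]⟩,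
    ⟨1, [0], 33, [(246, 0), (206, 0), (245, 0), (46, 0), (352, 0), (63, 0), (115, 0), (112, 0), (191, 0), (247, 0), (24, 0), (168, 0), (162, 0), (13, 0), (302, 0), (271, 0), (82, 0), (37, 0), (90, 0), (340, 0), (153, 0), (140, 0), (121, 0), (116, 0), (99, 0), (201, 0), (212, 0), (137, 0), (327, 0), (283, 0), (11, 0), (274, 0), (195, 0), (181, 0), (35, 0), (170, 0)]⟩,
    ⟨2, [2, 3, 0, 1], 119, [(32, 0), (306, 0), (351, 0), (237, 0), (22, 0), (290, 0), (85, 0), (293, 0), (121, 0), (71, 0), (211, 0), (221, 0), (341, 0), (2, 0), (75, 0), (241, 0), (105, 0), (326, 0), (251, 0), (324, 0), (173, 0), (107, 0), (53, 0), (127, 0), (130, 0), (255, 0), (23, 0), (283, 0), (282, 0), (157, 0), (294, 0), (233, 0), (124, 0), (322, 0), (42, 0), (310, 0)]⟩,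
    ⟨3, [2], 82, [(37, 0), (99, 0), (2, 0), (327, 0), (81, 0), (67, 0), (350, 0), (153, 0), (251, 0), (23, 0), (245, 0), (170, 0), (246, 0), (254, 0), (122, 0), (124, 0), (206, 0), (162, 0), (137, 0), (121, 0), (95, 0), (140, 0), (335, 0), (352, 0), (82, 0), (41, 0), (92, 0), (7, 0), (131, 0), (168, 0), (286, 0), (274, 0), (191, 0), (115, 0), (35, 0), (283, 0)]⟩,
    ⟨1, [0, 3, 2, 0, 1], 39, [(20, 0), (333, 0), (93, 0), (161, 0), (196, 0), (262, 0), (309, 0), (159, 0), (195, 0), (24, 0), (275, 0), (166, 0), (39, 0), (257, 0), (7, 0), (316, 0), (164, 0), (313, 0), (48, 0), (168, 0), (133, 0), (314, 0), (261, 0), (250, 0), (256, 0), (74, 0), (334, 0), (96, 0), (131, 0), (312, 0), (308, 0), (229, 0), (40, 0), (305, 0), (91, 0), (227, 0)]⟩,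
    ⟨3, [2, 2, 3, 1], 32, [(298, 0), (10, 0), (144, 0), (289, 0), (272, 0), (286, 0), (57, 0), (288, 0), (308, 0), (355, 0), (160, 0), (304, 0), (217, 0), (68, 0), (201, 0), (163, 0), (3, 0), (233, 0), (32, 0), (105, 0), (50, 0), (92, 0), (172, 0), (98, 0), (300, 0), (274, 0), (102, 0), (204, 0), (148, 0), (262, 0), (353, 0), (302, 0), (15, 0), (292, 0), (303, 0), (208, 0)]⟩,
    ⟨2, [2, 3], 109, [(192, 0), (200, 0), (49, 0), (240, 0), (216, 0), (174, 0), (169, 0), (66, 0), (232, 0), (347, 0), (201, 0), (21, 0), (284, 0), (277, 0), (321, 0), (63, 0), (190, 0), (62, 0), (41, 0), (117, 0), (56, 0), (239, 0), (140, 0), (38, 0), (217, 0), (67, 0), (344, 0), (279, 0), (235, 0), (59, 0), (156, 0), (187, 0), (258, 0), (152, 0), (64, 0), (139, 0)]⟩,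
    ⟨1, [3, 1, 1, 0], 0, [(24, 0), (206, 0), (186, 0), (263, 0), (19, 0), (69, 0), (182, 0), (226, 0), (197, 0), (205, 0), (161, 0), (168, 0), (81, 0), (44, 0), (190, 0), (231, 0), (350, 0), (203, 0), (328, 0), (79, 0), (319, 0), (337, 0), (52, 0), (196, 0), (195, 0), (232, 0), (14, 0), (326, 0), (324, 0), (251, 0), (215, 0), (216, 0), (164, 0), (73, 0), (35, 0), (181, 0)]⟩,
    ⟨3, [2, 2, 3, 1], 42, [(79, 0), (328, 0), (90, 0), (37, 0), (131, 0), (213, 0), (305, 0), (242, 0), (7, 0), (95, 0), (17, 0), (339, 0), (220, 0), (210, 0), (141, 0), (112, 0), (168, 0), (337, 0), (113, 0), (140, 0), (329, 0), (59, 0), (114, 0), (249, 0), (27, 0), (101, 0), (340, 0), (109, 0), (16, 0), (316, 0), (311, 0), (226, 0), (234, 0), (147, 0), (93, 0), (203, 0)]⟩,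
    ⟨2, [1, 0, 0, 2], 98, [(64, 0), (319, 0), (39, 0), (257, 0), (159, 0), (86, 0), (150, 0), (138, 0), (314, 0), (133, 0), (258, 0), (232, 0), (88, 0), (9, 0), (119, 0), (261, 0), (48, 0), (161, 0), (262, 0), (96, 0), (265, 0), (19, 0), (148, 0), (152, 0), (169, 0), (204, 0), (74, 0), (224, 0), (29, 0), (167, 0), (28, 0), (205, 0), (277, 0), (97, 0), (263, 0), (227, 0)]⟩,
    ⟨4, [2, 3], 85, [(36, 0), (145, 0), (208, 0), (298, 0), (50, 0), (108, 0), (126, 0), (346, 0), (355, 0), (148, 0), (141, 0), (223, 0), (73, 0), (44, 0), (222, 0), (292, 0), (160, 0), (172, 0), (353, 0), (98, 0), (154, 0), (189, 0), (54, 0), (198, 0), (220, 0), (182, 0), (10, 0), (225, 0), (61, 0), (219, 0), (155, 0), (167, 0), (343, 0), (104, 0), (30, 0), (163, 0)]⟩,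
    ⟨4, [0, 3, 2, 0, 1], 66, [(294, 0), (304, 0), (157, 0), (137, 0), (42, 0), (283, 0), (107, 0), (251, 0), (175, 0), (202, 0), (322, 0), (241, 0), (92, 0), (206, 0), (100, 0), (85, 0), (149, 0), (105, 0), (121, 0), (22, 0), (81, 0), (23, 0), (2, 0), (173, 0), (32, 0), (124, 0), (146, 0), (327, 0), (323, 0), (233, 0), (293, 0), (288, 0), (282, 0), (33, 0), (299, 0), (162, 0)]⟩,
    ⟨4, [0], 35, [(106, 0), (220, 0), (103, 0), (179, 0), (266, 0), (42, 0), (135, 0), (120, 0), (5, 0), (109, 0), (316, 0), (164, 0), (163, 0), (144, 0), (233, 0), (26, 0), (176, 0), (178, 0), (143, 0), (193, 0), (16, 0), (157, 0), (198, 0), (315, 0), (272, 0), (105, 0), (209, 0), (104, 0), (343, 0), (30, 0), (114, 0), (32, 0), (334, 0), (328, 0), (107, 0), (177, 0)]⟩,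
    ⟨2, [2], 97, [(229, 0), (5, 0), (355, 0), (126, 0), (198, 0), (289, 0), (105, 0), (221, 0), (163, 0), (108, 0), (315, 0), (334, 0), (209, 0), (32, 0), (102, 0), (343, 0), (104, 0), (222, 0), (220, 0), (44, 0), (130, 0), (14, 0), (109, 0), (3, 0), (308, 0), (114, 0), (30, 0), (178, 0), (193, 0), (143, 0), (341, 0), (307, 0), (272, 0), (233, 0), (144, 0), (208, 0)]⟩,
    ⟨2, [0, 3, 2, 0, 1], 59, [(256, 0), (229, 0), (317, 0), (96, 0), (184, 0), (161, 0), (34, 0), (133, 0), (99, 0), (335, 0), (278, 0), (20, 0), (314, 0), (159, 0), (168, 0), (296, 0), (312, 0), (333, 0), (261, 0), (131, 0), (257, 0), (227, 0), (74, 0), (246, 0), (166, 0), (48, 0), (57, 0), (262, 0), (7, 0), (91, 0), (295, 0), (313, 0), (272, 0), (106, 0), (164, 0), (39, 0)]⟩,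
    ⟨3, [2, 3], 79, [(81, 0), (52, 0), (157, 0), (22, 0), (248, 0), (105, 0), (341, 0), (237, 0), (130, 0), (207, 0), (252, 0), (325, 0), (71, 0), (310, 0), (32, 0), (33, 0), (323, 0), (230, 0), (351, 0), (100, 0), (251, 0), (23, 0), (324, 0), (221, 0), (306, 0), (241, 0), (85, 0), (121, 0), (206, 0), (327, 0), (293, 0), (294, 0), (42, 0), (107, 0), (233, 0), (326, 0)]⟩,
    ⟨3, [0, 3, 2, 0, 1], 100, [(280, 0), (86, 0), (60, 0), (135, 0), (12, 0), (328, 0), (311, 0), (114, 0), (244, 0), (254, 0), (259, 0), (119, 0), (120, 0), (102, 0), (181, 0), (281, 0), (129, 0), (218, 0), (289, 0), (11, 0), (307, 0), (14, 0), (16, 0), (95, 0), (1, 0), (197, 0), (87, 0), (144, 0), (153, 0), (136, 0), (249, 0), (186, 0), (260, 0), (18, 0), (263, 0), (285, 0)]⟩,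
    ⟨2, [0, 2, 2, 3, 1, 0], 105, [(43, 0), (306, 0), (154, 0), (195, 0), (40, 0), (63, 0), (347, 0), (216, 0), (138, 0), (257, 0), (278, 0), (221, 0), (81, 0), (46, 0), (155, 0), (253, 0), (252, 0), (211, 0), (212, 0), (88, 0), (335, 0), (124, 0), (41, 0), (139, 0), (202, 0), (123, 0), (45, 0), (245, 0), (345, 0), (325, 0), (240, 0), (322, 0), (179, 0), (104, 0), (42, 0), (137, 0)]⟩,
    ⟨3, [2], 56, [(23, 0), (95, 0), (46, 0), (170, 0), (82, 0), (63, 0), (123, 0), (116, 0), (212, 0), (37, 0), (283, 0), (327, 0), (181, 0), (195, 0), (216, 0), (352, 0), (271, 0), (340, 0), (191, 0), (247, 0), (99, 0), (302, 0), (115, 0), (124, 0), (81, 0), (35, 0), (90, 0), (13, 0), (286, 0), (244, 0), (131, 0), (337, 0), (137, 0), (335, 0), (41, 0), (245, 0)]⟩,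
    ⟨3, [2, 3, 0, 1], 19, [(99, 0), (335, 0), (133, 0), (305, 0), (275, 0), (58, 0), (111, 0), (93, 0), (20, 0), (333, 0), (184, 0), (195, 0), (7, 0), (315, 0), (314, 0), (261, 0), (250, 0), (24, 0), (316, 0), (227, 0), (317, 0), (168, 0), (296, 0), (312, 0), (116, 0), (238, 0), (308, 0), (106, 0), (39, 0), (246, 0), (57, 0), (303, 0), (183, 0), (96, 0), (123, 0), (131, 0)]⟩]

def w6_kill7Steps_3 : List (Step) :=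
  [⟨3, [2, 3, 0, 1], 41, [(327, 0), (2, 0), (211, 0), (32, 0), (221, 0), (241, 0), (252, 0), (299, 0), (207, 0), (130, 0), (341, 0), (283, 0), (162, 0), (149, 0), (22, 0), (0, 0), (206, 0), (124, 0), (288, 0), (100, 0), (233, 0), (23, 0), (304, 0), (248, 0), (137, 0), (105, 0), (127, 0), (294, 0), (323, 0), (81, 0), (75, 0), (121, 0), (53, 0), (255, 0), (251, 0), (92, 0)]⟩,
    ⟨3, [2, 3], 13, [(5, 0), (83, 0), (271, 0), (268, 0), (28, 0), (212, 0), (90, 0), (213, 0), (170, 0), (194, 0), (320, 0), (243, 0), (287, 0), (37, 0), (245, 0), (318, 0), (77, 0), (332, 0), (72, 0), (297, 0), (109, 0), (209, 0), (9, 0), (191, 0), (352, 0), (214, 0), (31, 0), (178, 0), (193, 0), (143, 0), (234, 0), (348, 0), (82, 0), (340, 0), (46, 0), (247, 0)]⟩,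
    ⟨3, [2, 3, 0, 1], 115, [(174, 0), (49, 0), (228, 0), (21, 0), (336, 0), (267, 0), (69, 0), (192, 0), (337, 0), (65, 0), (240, 0), (139, 0), (217, 0), (302, 0), (8, 0), (25, 0), (64, 0), (152, 0), (201, 0), (200, 0), (301, 0), (38, 0), (68, 0), (279, 0), (277, 0), (300, 0), (122, 0), (274, 0), (242, 0), (169, 0), (180, 0), (321, 0), (41, 0), (344, 0), (232, 0), (258, 0)]⟩,
    ⟨4, [0], 64, [(315, 0), (114, 0), (355, 0), (163, 0), (30, 0), (105, 0), (266, 0), (179, 0), (222, 0), (220, 0), (106, 0), (183, 0), (120, 0), (143, 0), (326, 0), (343, 0), (108, 0), (126, 0), (104, 0), (44, 0), (177, 0), (42, 0), (16, 0), (316, 0), (20, 0), (157, 0), (208, 0), (144, 0), (328, 0), (135, 0), (109, 0), (130, 0), (308, 0), (26, 0), (310, 0), (198, 0)]⟩,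
    ⟨4, [0], 16, [(295, 0), (215, 0), (358, 0), (199, 0), (55, 0), (235, 0), (290, 0), (85, 0), (273, 0), (268, 0), (196, 0), (313, 0), (292, 0), (149, 0), (267, 0), (297, 0), (243, 0), (287, 0), (142, 0), (51, 0), (146, 0), (56, 0), (54, 0), (111, 0), (57, 0), (192, 0), (213, 0), (141, 0), (76, 0), (291, 0), (127, 0), (68, 0), (93, 0), (52, 0), (338, 0), (77, 0)]⟩,
    ⟨3, [2, 3, 1, 0, 3], 13, [(113, 0), (315, 0), (132, 0), (129, 0), (85, 0), (110, 0), (54, 0), (128, 0), (155, 0), (314, 0), (130, 0), (114, 0), (17, 0), (346, 0), (29, 0), (2, 0), (112, 0), (58, 0), (322, 0), (78, 0), (4, 0), (65, 0), (75, 0), (125, 0), (101, 0), (351, 0), (123, 0), (117, 0), (321, 0), (235, 0), (116, 0), (131, 0), (126, 0), (108, 0), (198, 0), (342, 0)]⟩,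
    ⟨3, [0, 2, 2, 3, 1, 0], 20, [(304, 0), (294, 0), (163, 0), (99, 0), (272, 0), (13, 0), (144, 0), (286, 0), (38, 0), (159, 0), (84, 0), (288, 0), (23, 0), (201, 0), (148, 0), (160, 0), (299, 0), (32, 0), (274, 0), (172, 0), (303, 0), (92, 0), (244, 0), (151, 0), (105, 0), (250, 0), (301, 0), (302, 0), (10, 0), (233, 0), (15, 0), (241, 0), (192, 0), (292, 0), (149, 0), (162, 0)]⟩,
    ⟨4, [0, 2, 2, 3, 1, 0], 93, [(89, 0), (29, 0), (338, 0), (5, 0), (243, 0), (107, 0), (293, 0), (341, 0), (350, 0), (352, 0), (265, 0), (224, 0), (108, 0), (197, 0), (35, 0), (25, 0), (349, 0), (291, 0), (307, 0), (67, 0), (266, 0), (30, 0), (310, 0), (251, 0), (182, 0), (176, 0), (94, 0), (135, 0), (122, 0), (132, 0), (237, 0), (189, 0), (19, 0), (64, 0), (167, 0), (222, 0)]⟩,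
    ⟨2, [0, 2, 1, 0], 68, [(345, 0), (145, 0), (9, 0), (265, 0), (227, 0), (320, 0), (314, 0), (78, 0), (262, 0), (148, 0), (319, 0), (18, 0), (174, 0), (321, 0), (217, 0), (88, 0), (257, 0), (86, 0), (19, 0), (204, 0), (29, 0), (259, 0), (167, 0), (10, 0), (277, 0), (64, 0), (138, 0), (165, 0), (172, 0), (39, 0), (155, 0), (139, 0), (318, 0), (125, 0), (74, 0), (224, 0)]⟩,
    ⟨1, [0, 2, 2, 3, 1, 0], 11, [(355, 0), (148, 0), (57, 0), (300, 0), (68, 0), (299, 0), (288, 0), (304, 0), (286, 0), (201, 0), (258, 0), (10, 0), (298, 0), (185, 0), (99, 0), (308, 0), (208, 0), (292, 0), (15, 0), (303, 0), (21, 0), (160, 0), (241, 0), (23, 0), (353, 0), (301, 0), (144, 0), (87, 0), (250, 0), (50, 0), (105, 0), (163, 0), (260, 0), (261, 0), (172, 0), (98, 0)]⟩,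
    ⟨1, [0, 3, 2, 0, 1], 121, [(277, 0), (66, 0), (347, 0), (235, 0), (200, 0), (338, 0), (25, 0), (180, 0), (201, 0), (140, 0), (284, 0), (4, 0), (118, 0), (68, 0), (216, 0), (139, 0), (152, 0), (156, 0), (192, 0), (63, 0), (279, 0), (69, 0), (239, 0), (67, 0), (354, 0), (59, 0), (38, 0), (267, 0), (41, 0), (228, 0), (174, 0), (169, 0), (300, 0), (240, 0), (336, 0), (56, 0)]⟩,
    ⟨4, [0, 2, 2, 3, 1, 0], 112, [(83, 0), (51, 0), (157, 0), (39, 0), (164, 0), (86, 0), (120, 0), (119, 0), (156, 0), (166, 0), (313, 0), (287, 0), (97, 0), (152, 0), (22, 0), (33, 0), (171, 0), (178, 0), (169, 0), (100, 0), (314, 0), (9, 0), (263, 0), (136, 0), (143, 0), (227, 0), (66, 0), (277, 0), (323, 0), (193, 0), (129, 0), (269, 0), (56, 0), (85, 0), (142, 0), (150, 0)]⟩,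
    ⟨2, [3, 0, 1, 2, 0], 2, [(167, 0), (48, 0), (186, 0), (69, 0), (207, 0), (181, 0), (203, 0), (337, 0), (14, 0), (313, 0), (293, 0), (64, 0), (232, 0), (328, 0), (231, 0), (33, 0), (169, 0), (227, 0), (326, 0), (336, 0), (226, 0), (319, 0), (81, 0), (350, 0), (19, 0), (52, 0), (164, 0), (44, 0), (356, 0), (88, 0), (168, 0), (161, 0), (197, 0), (79, 0), (205, 0), (263, 0)]⟩,
    ⟨2, [0, 3, 1, 2, 3, 0], 9, [(20, 0), (198, 0), (127, 0), (290, 0), (75, 0), (180, 0), (128, 0), (115, 0), (322, 0), (42, 0), (315, 0), (131, 0), (29, 0), (78, 0), (49, 0), (130, 0), (351, 0), (121, 0), (2, 0), (124, 0), (135, 0), (122, 0), (108, 0), (183, 0), (133, 0), (321, 0), (85, 0), (132, 0), (126, 0), (110, 0), (120, 0), (152, 0), (58, 0), (114, 0), (65, 0), (310, 0)]⟩,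
    ⟨1, [2], 30, [(289, 0), (278, 0), (176, 0), (26, 0), (193, 0), (310, 0), (108, 0), (198, 0), (5, 0), (103, 0), (285, 0), (16, 0), (316, 0), (222, 0), (107, 0), (178, 0), (109, 0), (179, 0), (143, 0), (177, 0), (355, 0), (105, 0), (20, 0), (135, 0), (197, 0), (326, 0), (209, 0), (308, 0), (272, 0), (3, 0), (126, 0), (221, 0), (307, 0), (30, 0), (341, 0), (266, 0)]⟩,
    ⟨4, [3, 1, 0], 37, [(244, 0), (289, 0), (40, 0), (253, 0), (89, 0), (117, 0), (270, 0), (66, 0), (273, 0), (50, 0), (355, 0), (285, 0), (281, 0), (31, 0), (111, 0), (250, 0), (254, 0), (218, 0), (269, 0), (256, 0), (160, 0), (129, 0), (21, 0), (267, 0), (60, 0), (110, 0), (212, 0), (236, 0), (84, 0), (12, 0), (274, 0), (11, 0), (103, 0), (272, 0), (135, 0), (87, 0)]⟩,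
    ⟨2, [2, 1, 0, 0, 3], 26, [(104, 0), (141, 0), (18, 0), (282, 0), (327, 0), (174, 0), (277, 0), (66, 0), (74, 0), (146, 0), (137, 0), (253, 0), (223, 0), (39, 0), (259, 0), (153, 0), (6, 0), (76, 0), (246, 0), (281, 0), (157, 0), (30, 0), (140, 0), (139, 0), (345, 0), (283, 0), (295, 0), (106, 0), (16, 0), (343, 0), (56, 0), (291, 0), (257, 0), (86, 0), (224, 0), (145, 0)]⟩,
    ⟨4, [2, 2, 3, 1], 78, [(53, 0), (173, 0), (108, 0), (222, 0), (197, 0), (29, 0), (115, 0), (352, 0), (135, 0), (107, 0), (293, 0), (243, 0), (25, 0), (122, 0), (321, 0), (341, 0), (307, 0), (176, 0), (266, 0), (5, 0), (251, 0), (265, 0), (237, 0), (290, 0), (180, 0), (64, 0), (30, 0), (89, 0), (255, 0), (188, 0), (283, 0), (174, 0), (132, 0), (2, 0), (78, 0), (310, 0)]⟩,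
    ⟨3, [3, 2, 1, 1, 0], 84, [(49, 0), (344, 0), (249, 0), (15, 0), (241, 0), (307, 0), (53, 0), (243, 0), (282, 0), (301, 0), (258, 0), (264, 0), (80, 0), (295, 0), (106, 0), (65, 0), (322, 0), (45, 0), (332, 0), (158, 0), (68, 0), (209, 0), (25, 0), (174, 0), (257, 0), (308, 0), (128, 0), (331, 0), (242, 0), (211, 0), (180, 0), (183, 0), (18, 0), (279, 0), (306, 0), (240, 0)]⟩,
    ⟨1, [1, 0, 0, 2], 34, [(304, 0), (342, 0), (269, 0), (332, 0), (45, 0), (336, 0), (186, 0), (231, 0), (171, 0), (158, 0), (322, 0), (75, 0), (6, 0), (280, 0), (66, 0), (236, 0), (194, 0), (234, 0), (348, 0), (31, 0), (15, 0), (300, 0), (356, 0), (33, 0), (248, 0), (240, 0), (359, 0), (98, 0), (160, 0), (298, 0), (79, 0), (284, 0), (351, 0), (129, 0), (4, 0), (83, 0)]⟩]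

def w6_kill7Steps_4 : List (Step) :=
  [⟨1, [0, 2, 1, 0], 63, [(42, 0), (107, 0), (343, 0), (355, 0), (26, 0), (208, 0), (109, 0), (289, 0), (193, 0), (326, 0), (310, 0), (135, 0), (272, 0), (3, 0), (229, 0), (306, 0), (103, 0), (328, 0), (102, 0), (285, 0), (105, 0), (144, 0), (32, 0), (130, 0), (315, 0), (308, 0), (44, 0), (163, 0), (157, 0), (177, 0), (221, 0), (334, 0), (108, 0), (341, 0), (5, 0), (233, 0)]⟩,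
    ⟨2, [0], 24, [(261, 0), (217, 0), (263, 0), (86, 0), (19, 0), (150, 0), (167, 0), (145, 0), (78, 0), (204, 0), (262, 0), (74, 0), (139, 0), (155, 0), (264, 0), (260, 0), (259, 0), (205, 0), (134, 0), (18, 0), (148, 0), (28, 0), (38, 0), (159, 0), (48, 0), (138, 0), (119, 0), (152, 0), (258, 0), (64, 0), (172, 0), (214, 0), (314, 0), (10, 0), (320, 0), (151, 0)]⟩,
    ⟨2, [0, 2, 2, 3, 1, 0], 116, [(248, 0), (230, 0), (156, 0), (164, 0), (166, 0), (120, 0), (136, 0), (14, 0), (150, 0), (39, 0), (256, 0), (207, 0), (326, 0), (143, 0), (152, 0), (66, 0), (33, 0), (100, 0), (178, 0), (169, 0), (229, 0), (130, 0), (285, 0), (86, 0), (22, 0), (20, 0), (171, 0), (193, 0), (277, 0), (323, 0), (280, 0), (351, 0), (142, 0), (56, 0), (85, 0), (157, 0)]⟩,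
    ⟨3, [2, 3, 0, 1], 69, [(98, 0), (223, 0), (54, 0), (154, 0), (225, 0), (155, 0), (125, 0), (88, 0), (108, 0), (189, 0), (357, 0), (27, 0), (253, 0), (126, 0), (132, 0), (353, 0), (298, 0), (73, 0), (44, 0), (182, 0), (47, 0), (356, 0), (345, 0), (29, 0), (110, 0), (276, 0), (163, 0), (104, 0), (291, 0), (6, 0), (172, 0), (160, 0), (198, 0), (101, 0), (342, 0), (346, 0)]⟩,
    ⟨2, [0, 3, 1, 2, 3, 0], 59, [(325, 0), (60, 0), (302, 0), (337, 0), (258, 0), (340, 0), (10, 0), (226, 0), (277, 0), (228, 0), (71, 0), (52, 0), (328, 0), (343, 0), (193, 0), (344, 0), (232, 0), (267, 0), (279, 0), (69, 0), (357, 0), (358, 0), (311, 0), (323, 0), (233, 0), (26, 0), (41, 0), (95, 0), (1, 0), (260, 0), (276, 0), (103, 0), (327, 0), (225, 0), (318, 0), (8, 0)]⟩,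
    ⟨4, [1, 2, 0, 1, 3], 33, [(347, 0), (117, 0), (19, 0), (328, 0), (93, 0), (260, 0), (262, 0), (233, 0), (161, 0), (339, 0), (235, 0), (42, 0), (103, 0), (318, 0), (165, 0), (338, 0), (334, 0), (252, 0), (52, 0), (107, 0), (8, 0), (325, 0), (267, 0), (38, 0), (138, 0), (358, 0), (231, 0), (60, 0), (270, 0), (40, 0), (300, 0), (348, 0), (134, 0), (321, 0), (96, 0), (232, 0)]⟩,
    ⟨2, [0, 3, 1, 2, 3, 0], 67, [(80, 0), (136, 0), (208, 0), (222, 0), (98, 0), (5, 0), (300, 0), (338, 0), (6, 0), (61, 0), (333, 0), (313, 0), (350, 0), (67, 0), (247, 0), (47, 0), (356, 0), (292, 0), (291, 0), (215, 0), (25, 0), (243, 0), (94, 0), (330, 0), (303, 0), (352, 0), (104, 0), (307, 0), (331, 0), (15, 0), (347, 0), (46, 0), (229, 0), (354, 0), (83, 0), (349, 0)]⟩,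
    ⟨4, [2, 3, 1, 0, 3], 91, [(92, 0), (262, 0), (182, 0), (186, 0), (142, 0), (27, 0), (141, 0), (249, 0), (154, 0), (91, 0), (9, 0), (204, 0), (87, 0), (253, 0), (89, 0), (191, 0), (13, 0), (309, 0), (45, 0), (188, 0), (248, 0), (241, 0), (234, 0), (210, 0), (50, 0), (269, 0), (195, 0), (252, 0), (255, 0), (149, 0), (7, 0), (250, 0), (88, 0), (224, 0), (148, 0), (298, 0)]⟩,
    ⟨1, [2, 3, 0, 1], 106, [(12, 0), (218, 0), (328, 0), (231, 0), (17, 0), (181, 0), (95, 0), (153, 0), (260, 0), (87, 0), (129, 0), (136, 0), (331, 0), (18, 0), (102, 0), (135, 0), (94, 0), (147, 0), (134, 0), (144, 0), (281, 0), (70, 0), (11, 0), (244, 0), (311, 0), (128, 0), (19, 0), (205, 0), (289, 0), (329, 0), (254, 0), (188, 0), (263, 0), (285, 0), (1, 0), (60, 0)]⟩,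
    ⟨3, [2, 2, 3, 1], 62, [(122, 0), (239, 0), (173, 0), (255, 0), (349, 0), (107, 0), (167, 0), (19, 0), (189, 0), (187, 0), (67, 0), (254, 0), (273, 0), (165, 0), (176, 0), (25, 0), (89, 0), (12, 0), (94, 0), (188, 0), (321, 0), (135, 0), (338, 0), (35, 0), (82, 0), (5, 0), (237, 0), (290, 0), (180, 0), (132, 0), (64, 0), (266, 0), (283, 0), (174, 0), (30, 0), (270, 0)]⟩,
    ⟨3, [2], 137, [(184, 0), (123, 0), (316, 0), (133, 0), (272, 0), (39, 0), (7, 0), (330, 0), (309, 0), (313, 0), (115, 0), (12, 0), (251, 0), (25, 0), (176, 0), (167, 0), (341, 0), (321, 0), (291, 0), (273, 0), (114, 0), (205, 0), (211, 0), (216, 0), (37, 0), (219, 0), (208, 0), (9, 0), (288, 0), (118, 0), (285, 0), (260, 0), (44, 0), (264, 0), (357, 0), (271, 0), (323, 0), (302, 0), (52, 0), (279, 0), (147, 0),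 (153, 0), (42, 0), (139, 0), (143, 0), (148, 0), (162, 0), (156, 0), (199, 0), (54, 0), (186, 0), (15, 0), (348, 0), (253, 0), (351, 0), (21, 0), (282, 0), (339, 0), (342, 0), (194, 0)]⟩,
    ⟨1, [3], 15, [(74, 0), (194, 0), (323, 0), (130, 0), (2, 0), (354, 0), (349, 0), (208, 0), (255, 0), (75, 0), (116, 0), (3, 0), (109, 0), (210, 0), (8, 0), (327, 0), (341, 0), (304, 0), (92, 0), (233, 0), (125, 0), (217, 0), (247, 0), (330, 0), (238, 0), (113, 0), (248, 0), (9, 0), (318, 0), (320, 0), (6, 0), (284, 0), (91, 0), (225, 0), (187, 0), (0, 0)]⟩,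
    ⟨4, [2, 3], 54, [(29, 0), (346, 0), (226, 0), (220, 0), (36, 0), (215, 0), (292, 0), (208, 0), (141, 0), (223, 0), (189, 0), (108, 0), (126, 0), (50, 0), (76, 0), (357, 0), (198, 0), (342, 0), (210, 0), (343, 0), (172, 0), (125, 0), (47, 0), (291, 0), (132, 0), (219, 0), (27, 0), (88, 0), (345, 0), (155, 0), (98, 0), (110, 0), (182, 0), (353, 0), (54, 0), (101, 0)]⟩,
    ⟨1, [2, 3, 1, 0, 3], 56, [(55, 0), (237, 0), (16, 0), (139, 0), (278, 0), (151, 0), (289, 0), (217, 0), (281, 0), (43, 0), (184, 0), (187, 0), (64, 0), (205, 0), (79, 0), (296, 0), (239, 0), (341, 0), (74, 0), (284, 0), (214, 0), (320, 0), (261, 0), (185, 0), (197, 0), (48, 0), (146, 0), (28, 0), (359, 0), (266, 0), (288, 0), (293, 0), (70, 0), (329, 0), (12, 0), (259, 0)]⟩,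
    ⟨1, [0, 2, 1, 0], 38, [(328, 0), (144, 0), (126, 0), (108, 0), (183, 0), (30, 0), (278, 0), (341, 0), (20, 0), (120, 0), (102, 0), (233, 0), (5, 0), (266, 0), (178, 0), (114, 0), (315, 0), (42, 0), (310, 0), (130, 0), (197, 0), (107, 0), (307, 0), (285, 0), (103, 0), (176, 0), (198, 0), (222, 0), (14, 0), (334, 0), (16, 0), (177, 0), (355, 0), (289, 0), (272, 0), (135, 0)]⟩,
    ⟨3, [2, 3, 0, 1], 34, [(312, 0), (57, 0), (74, 0), (7, 0), (246, 0), (238, 0), (275, 0), (305, 0), (278, 0), (335, 0), (99, 0), (309, 0), (93, 0), (316, 0), (48, 0), (39, 0), (256, 0), (295, 0), (106, 0), (257, 0), (131, 0), (58, 0), (317, 0), (184, 0), (196, 0), (168, 0), (229, 0), (315, 0), (96, 0), (111, 0), (333, 0), (313, 0), (3, 0), (261, 0), (84, 0), (296, 0)]⟩,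
    ⟨4, [2], 62, [(98, 0), (280, 0), (236, 0), (31, 0), (158, 0), (117, 0), (322, 0), (75, 0), (45, 0), (171, 0), (223, 0), (6, 0), (231, 0), (252, 0), (190, 0), (359, 0), (332, 0), (83, 0), (234, 0), (194, 0), (299, 0), (300, 0), (17, 0), (346, 0), (356, 0), (339, 0), (269, 0), (87, 0), (185, 0), (15, 0), (351, 0), (336, 0), (253, 0), (43, 0), (240, 0), (348, 0)]⟩,
    ⟨2, [2, 3, 0, 1], 14, [(92, 0), (327, 0), (322, 0), (173, 0), (202, 0), (310, 0), (42, 0), (107, 0), (85, 0), (323, 0), (0, 0), (206, 0), (283, 0), (290, 0), (351, 0), (304, 0), (162, 0), (81, 0), (293, 0), (33, 0), (255, 0), (251, 0), (341, 0), (130, 0), (124, 0), (237, 0), (294, 0), (53, 0), (248, 0), (137, 0), (233, 0), (23, 0), (127, 0), (75, 0), (121, 0), (2, 0)]⟩,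
    ⟨3, [3, 0, 2, 2], 58, [(112, 0), (155, 0), (56, 0), (157, 0), (156, 0), (146, 0), (192, 0), (105, 0), (142, 0), (150, 0), (36, 0), (198, 0), (42, 0), (149, 0), (77, 0), (136, 0), (120, 0), (152, 0), (22, 0), (143, 0), (162, 0), (121, 0), (202, 0), (199, 0), (235, 0), (175, 0), (86, 0), (137, 0), (46, 0), (63, 0), (151, 0), (134, 0), (141, 0), (292, 0), (54, 0), (85, 0)]⟩,
    ⟨1, [1, 0, 0, 2], 101, [(296, 0), (291, 0), (85, 0), (294, 0), (127, 0), (51, 0), (118, 0), (267, 0), (207, 0), (53, 0), (295, 0), (57, 0), (353, 0), (69, 0), (142, 0), (146, 0), (288, 0), (290, 0), (52, 0), (149, 0), (279, 0), (358, 0), (76, 0), (256, 0), (312, 0), (297, 0), (293, 0), (226, 0), (141, 0), (101, 0), (239, 0), (55, 0), (313, 0), (56, 0), (287, 0), (230, 0)]⟩]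

def w6_kill7Steps_5 : List (Step) :=
  [⟨2, [2], 10, [(100, 0), (317, 0), (349, 0), (225, 0), (276, 0), (187, 0), (12, 0), (70, 0), (89, 0), (357, 0), (325, 0), (175, 0), (34, 0), (188, 0), (25, 0), (47, 0), (219, 0), (36, 0), (154, 0), (61, 0), (1, 0), (156, 0), (184, 0), (237, 0), (173, 0), (344, 0), (210, 0), (91, 0), (333, 0), (166, 0), (329, 0), (242, 0), (255, 0), (94, 0), (270, 0), (189, 0)]⟩,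
    ⟨1, [2, 3], 21, [(291, 0), (98, 0), (276, 0), (126, 0), (155, 0), (219, 0), (36, 0), (220, 0), (154, 0), (346, 0), (29, 0), (222, 0), (208, 0), (210, 0), (225, 0), (345, 0), (104, 0), (356, 0), (88, 0), (44, 0), (101, 0), (215, 0), (172, 0), (189, 0), (349, 0), (125, 0), (253, 0), (50, 0), (353, 0), (292, 0), (223, 0), (6, 0), (89, 0), (357, 0), (61, 0), (47, 0)]⟩,
    ⟨4, [3], 31, [(289, 0), (84, 0), (66, 0), (228, 0), (41, 0), (269, 0), (253, 0), (89, 0), (117, 0), (267, 0), (244, 0), (12, 0), (275, 0), (110, 0), (31, 0), (274, 0), (62, 0), (239, 0), (122, 0), (270, 0), (355, 0), (266, 0), (250, 0), (87, 0), (281, 0), (271, 0), (118, 0), (20, 0), (272, 0), (278, 0), (50, 0), (268, 0), (129, 0), (160, 0), (236, 0), (21, 0)]⟩,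
    ⟨3, [2, 3], 7, [(236, 0), (268, 0), (176, 0), (265, 0), (191, 0), (26, 0), (193, 0), (97, 0), (5, 0), (273, 0), (212, 0), (214, 0), (28, 0), (143, 0), (177, 0), (82, 0), (320, 0), (55, 0), (352, 0), (165, 0), (269, 0), (359, 0), (271, 0), (103, 0), (179, 0), (90, 0), (243, 0), (332, 0), (31, 0), (194, 0), (51, 0), (199, 0), (209, 0), (178, 0), (109, 0), (266, 0)]⟩,
    ⟨2, [0, 2, 1, 0], 27, [(339, 0), (300, 0), (110, 0), (346, 0), (128, 0), (253, 0), (281, 0), (43, 0), (129, 0), (4, 0), (301, 0), (299, 0), (348, 0), (236, 0), (269, 0), (65, 0), (17, 0), (75, 0), (322, 0), (351, 0), (190, 0), (252, 0), (240, 0), (66, 0), (31, 0), (45, 0), (342, 0), (356, 0), (336, 0), (231, 0), (284, 0), (234, 0), (160, 0), (21, 0), (87, 0), (117, 0)]⟩,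
    ⟨4, [0, 3, 2, 0, 1], 65, [(312, 0), (91, 0), (161, 0), (334, 0), (48, 0), (272, 0), (159, 0), (308, 0), (168, 0), (195, 0), (184, 0), (333, 0), (229, 0), (106, 0), (246, 0), (196, 0), (313, 0), (227, 0), (316, 0), (24, 0), (183, 0), (20, 0), (3, 0), (99, 0), (39, 0), (278, 0), (93, 0), (315, 0), (116, 0), (314, 0), (309, 0), (256, 0), (317, 0), (34, 0), (166, 0), (164, 0)]⟩,
    ⟨4, [3, 0, 2, 2], 117, [(54, 0), (120, 0), (137, 0), (139, 0), (202, 0), (140, 0), (162, 0), (38, 0), (46, 0), (179, 0), (70, 0), (134, 0), (152, 0), (201, 0), (90, 0), (154, 0), (155, 0), (42, 0), (347, 0), (138, 0), (192, 0), (235, 0), (156, 0), (170, 0), (121, 0), (200, 0), (104, 0), (56, 0), (142, 0), (85, 0), (163, 0), (198, 0), (153, 0), (13, 0), (112, 0), (63, 0)]⟩,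
    ⟨3, [3, 0, 2, 1, 0, 0], 82, [(26, 0), (308, 0), (53, 0), (127, 0), (211, 0), (180, 0), (188, 0), (128, 0), (173, 0), (32, 0), (209, 0), (332, 0), (133, 0), (78, 0), (174, 0), (306, 0), (71, 0), (241, 0), (322, 0), (282, 0), (114, 0), (65, 0), (183, 0), (176, 0), (265, 0), (49, 0), (294, 0), (58, 0), (106, 0), (305, 0), (102, 0), (258, 0), (243, 0), (307, 0), (25, 0), (310, 0)]⟩,
    ⟨4, [0, 3, 2, 0, 1], 75, [(315, 0), (317, 0), (195, 0), (196, 0), (24, 0), (309, 0), (250, 0), (84, 0), (227, 0), (161, 0), (330, 0), (238, 0), (296, 0), (256, 0), (257, 0), (334, 0), (316, 0), (168, 0), (313, 0), (48, 0), (111, 0), (58, 0), (57, 0), (262, 0), (7, 0), (295, 0), (164, 0), (312, 0), (96, 0), (131, 0), (272, 0), (106, 0), (91, 0), (40, 0), (305, 0), (93, 0)]⟩,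
    ⟨4, [2, 3], 118, [(256, 0), (250, 0), (184, 0), (96, 0), (183, 0), (317, 0), (34, 0), (161, 0), (80, 0), (123, 0), (20, 0), (227, 0), (262, 0), (330, 0), (238, 0), (278, 0), (257, 0), (195, 0), (334, 0), (48, 0), (111, 0), (93, 0), (272, 0), (166, 0), (91, 0), (315, 0), (335, 0), (57, 0), (84, 0), (309, 0), (246, 0), (7, 0), (333, 0), (275, 0), (305, 0), (40, 0)]⟩,
    ⟨3, [2, 2, 3, 1], 100, [(209, 0), (45, 0), (345, 0), (155, 0), (139, 0), (276, 0), (41, 0), (123, 0), (232, 0), (138, 0), (179, 0), (183, 0), (322, 0), (81, 0), (325, 0), (214, 0), (49, 0), (257, 0), (48, 0), (96, 0), (46, 0), (80, 0), (236, 0), (103, 0), (306, 0), (202, 0), (88, 0), (356, 0), (348, 0), (240, 0), (212, 0), (211, 0), (44, 0), (245, 0), (344, 0), (264, 0)]⟩,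
    ⟨3, [2, 1, 0, 0, 3], 10, [(95, 0), (259, 0), (248, 0), (229, 0), (256, 0), (6, 0), (253, 0), (104, 0), (66, 0), (39, 0), (296, 0), (16, 0), (307, 0), (240, 0), (282, 0), (230, 0), (285, 0), (86, 0), (56, 0), (157, 0), (335, 0), (153, 0), (291, 0), (223, 0), (249, 0), (295, 0), (277, 0), (67, 0), (283, 0), (254, 0), (345, 0), (18, 0), (284, 0), (43, 0), (281, 0), (280, 0)]⟩,
    ⟨2, [3, 0, 2, 3], 72, [(62, 0), (0, 0), (37, 0), (203, 0), (213, 0), (286, 0), (287, 0), (14, 0), (101, 0), (210, 0), (211, 0), (221, 0), (205, 0), (119, 0), (172, 0), (242, 0), (59, 0), (109, 0), (114, 0), (220, 0), (218, 0), (289, 0), (331, 0), (47, 0), (214, 0), (204, 0), (113, 0), (11, 0), (219, 0), (268, 0), (354, 0), (217, 0), (124, 0), (100, 0), (288, 0), (329, 0)]⟩,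
    ⟨1, [2, 2, 3, 1], 124, [(55, 0), (165, 0), (67, 0), (122, 0), (254, 0), (25, 0), (307, 0), (310, 0), (350, 0), (82, 0), (273, 0), (290, 0), (29, 0), (222, 0), (349, 0), (191, 0), (115, 0), (283, 0), (251, 0), (2, 0), (266, 0), (237, 0), (265, 0), (243, 0), (291, 0), (89, 0), (35, 0), (64, 0), (320, 0), (259, 0), (176, 0), (189, 0), (338, 0), (5, 0), (94, 0), (352, 0)]⟩,
    ⟨2, [1, 2, 0, 1, 3], 36, [(190, 0), (344, 0), (13, 0), (120, 0), (142, 0), (115, 0), (191, 0), (108, 0), (170, 0), (156, 0), (69, 0), (44, 0), (183, 0), (116, 0), (99, 0), (192, 0), (179, 0), (154, 0), (54, 0), (163, 0), (4, 0), (346, 0), (180, 0), (35, 0), (195, 0), (312, 0), (70, 0), (128, 0), (301, 0), (45, 0), (187, 0), (184, 0), (181, 0), (302, 0), (245, 0), (63, 0)]⟩,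
    ⟨2, [2, 2, 3, 1], 97, [(281, 0), (60, 0), (121, 0), (206, 0), (24, 0), (127, 0), (133, 0), (72, 0), (116, 0), (181, 0), (231, 0), (31, 0), (219, 0), (125, 0), (54, 0), (153, 0), (246, 0), (271, 0), (247, 0), (170, 0), (205, 0), (268, 0), (331, 0), (128, 0), (110, 0), (215, 0), (327, 0), (0, 0), (70, 0), (275, 0), (18, 0), (76, 0), (75, 0), (134, 0), (111, 0), (11, 0)]⟩,
    ⟨1, [3, 1, 0], 7, [(220, 0), (27, 0), (263, 0), (69, 0), (232, 0), (313, 0), (48, 0), (196, 0), (81, 0), (337, 0), (339, 0), (73, 0), (182, 0), (293, 0), (350, 0), (328, 0), (44, 0), (319, 0), (52, 0), (181, 0), (59, 0), (215, 0), (93, 0), (168, 0), (167, 0), (338, 0), (326, 0), (207, 0), (203, 0), (88, 0), (316, 0), (222, 0), (33, 0), (79, 0), (356, 0), (226, 0)]⟩,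
    ⟨2, [0, 2, 3, 1, 0], 101, [(271, 0), (28, 0), (25, 0), (336, 0), (333, 0), (65, 0), (305, 0), (27, 0), (308, 0), (143, 0), (97, 0), (319, 0), (324, 0), (241, 0), (310, 0), (352, 0), (24, 0), (61, 0), (98, 0), (222, 0), (269, 0), (110, 0), (359, 0), (26, 0), (71, 0), (351, 0), (201, 0), (21, 0), (266, 0), (275, 0), (90, 0), (121, 0), (258, 0), (265, 0), (133, 0), (332, 0)]⟩,
    ⟨1, [0, 0, 3, 1, 2], 68, [(181, 0), (35, 0), (154, 0), (91, 0), (298, 0), (184, 0), (346, 0), (312, 0), (45, 0), (191, 0), (302, 0), (69, 0), (164, 0), (183, 0), (179, 0), (13, 0), (186, 0), (182, 0), (309, 0), (142, 0), (116, 0), (196, 0), (99, 0), (245, 0), (44, 0), (3, 0), (188, 0), (34, 0), (170, 0), (73, 0), (115, 0), (197, 0), (344, 0), (63, 0), (190, 0), (195, 0)]⟩,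
    ⟨1, [2, 3, 0, 1], 64, [(62, 0), (228, 0), (339, 0), (338, 0), (235, 0), (35, 0), (140, 0), (67, 0), (38, 0), (267, 0), (118, 0), (354, 0), (25, 0), (174, 0), (301, 0), (117, 0), (347, 0), (8, 0), (321, 0), (300, 0), (239, 0), (187, 0), (122, 0), (274, 0), (242, 0), (180, 0), (232, 0), (64, 0), (21, 0), (200, 0), (41, 0), (344, 0), (169, 0), (66, 0), (156, 0), (270, 0)]⟩]

def w6_kill7Steps_6 : List (Step) :=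
  [⟨4, [2, 3], 105, [(14, 0), (350, 0), (281, 0), (60, 0), (18, 0), (87, 0), (249, 0), (147, 0), (128, 0), (181, 0), (263, 0), (136, 0), (94, 0), (17, 0), (185, 0), (205, 0), (331, 0), (153, 0), (134, 0), (70, 0), (328, 0), (144, 0), (19, 0), (186, 0), (280, 0), (260, 0), (11, 0), (135, 0), (197, 0), (307, 0), (203, 0), (286, 0), (129, 0), (79, 0), (15, 0), (231, 0)]⟩,
    ⟨3, [3, 0, 2, 3], 21, [(5, 0), (144, 0), (232, 0), (96, 0), (117, 0), (161, 0), (339, 0), (317, 0), (252, 0), (42, 0), (135, 0), (94, 0), (57, 0), (93, 0), (52, 0), (103, 0), (348, 0), (347, 0), (40, 0), (325, 0), (315, 0), (330, 0), (272, 0), (107, 0), (338, 0), (111, 0), (138, 0), (262, 0), (233, 0), (300, 0), (177, 0), (77, 0), (19, 0), (328, 0), (231, 0), (334, 0)]⟩,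
    ⟨1, [0, 2, 3, 1, 0], 28, [(339, 0), (8, 0), (42, 0), (290, 0), (135, 0), (149, 0), (144, 0), (57, 0), (134, 0), (321, 0), (270, 0), (317, 0), (358, 0), (77, 0), (138, 0), (117, 0), (17, 0), (315, 0), (111, 0), (96, 0), (338, 0), (93, 0), (267, 0), (38, 0), (177, 0), (273, 0), (75, 0), (52, 0), (232, 0), (328, 0), (300, 0), (234, 0), (175, 0), (347, 0), (147, 0), (235, 0)]⟩,
    ⟨4, [0, 2, 2, 3, 1, 0], 70, [(219, 0), (125, 0), (231, 0), (77, 0), (332, 0), (52, 0), (324, 0), (146, 0), (24, 0), (247, 0), (72, 0), (145, 0), (54, 0), (196, 0), (181, 0), (331, 0), (61, 0), (6, 0), (295, 0), (153, 0), (268, 0), (76, 0), (127, 0), (206, 0), (73, 0), (297, 0), (330, 0), (111, 0), (11, 0), (110, 0), (0, 0), (225, 0), (161, 0), (205, 0), (319, 0), (215, 0)]⟩,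
    ⟨2, [2, 2, 3, 1], 99, [(216, 0), (190, 0), (264, 0), (138, 0), (155, 0), (103, 0), (276, 0), (40, 0), (345, 0), (139, 0), (63, 0), (195, 0), (252, 0), (325, 0), (306, 0), (49, 0), (88, 0), (48, 0), (96, 0), (257, 0), (347, 0), (334, 0), (117, 0), (41, 0), (81, 0), (42, 0), (214, 0), (348, 0), (240, 0), (356, 0), (62, 0), (221, 0), (245, 0), (344, 0), (44, 0), (232, 0)]⟩,
    ⟨3, [2, 3, 0, 1], 45, [(203, 0), (181, 0), (15, 0), (78, 0), (151, 0), (307, 0), (144, 0), (135, 0), (136, 0), (263, 0), (205, 0), (11, 0), (115, 0), (94, 0), (280, 0), (79, 0), (112, 0), (244, 0), (12, 0), (129, 0), (19, 0), (254, 0), (197, 0), (14, 0), (286, 0), (259, 0), (311, 0), (188, 0), (186, 0), (13, 0), (328, 0), (95, 0), (331, 0), (231, 0), (153, 0), (350, 0)]⟩,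
    ⟨1, [0, 0, 3, 1, 2], 113, [(46, 0), (112, 0), (160, 0), (33, 0), (167, 0), (304, 0), (10, 0), (323, 0), (159, 0), (168, 0), (350, 0), (136, 0), (85, 0), (294, 0), (84, 0), (82, 0), (150, 0), (36, 0), (173, 0), (166, 0), (81, 0), (202, 0), (2, 0), (303, 0), (292, 0), (293, 0), (158, 0), (322, 0), (123, 0), (155, 0), (340, 0), (199, 0), (15, 0), (244, 0), (151, 0), (162, 0)]⟩,
    ⟨1, [1, 1, 3], 14, [(104, 0), (356, 0), (333, 0), (287, 0), (352, 0), (354, 0), (25, 0), (68, 0), (94, 0), (348, 0), (46, 0), (292, 0), (215, 0), (331, 0), (330, 0), (335, 0), (291, 0), (98, 0), (286, 0), (57, 0), (209, 0), (208, 0), (216, 0), (347, 0), (61, 0), (247, 0), (280, 0), (14, 0), (334, 0), (222, 0), (240, 0), (6, 0), (136, 0), (80, 0), (349, 0), (47, 0)]⟩,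
    ⟨2, [1, 3, 3, 1, 0], 15, [(170, 0), (206, 0), (66, 0), (166, 0), (270, 0), (39, 0), (174, 0), (159, 0), (30, 0), (219, 0), (175, 0), (162, 0), (168, 0), (106, 0), (223, 0), (31, 0), (82, 0), (274, 0), (272, 0), (160, 0), (34, 0), (99, 0), (161, 0), (145, 0), (140, 0), (317, 0), (178, 0), (164, 0), (73, 0), (35, 0), (72, 0), (37, 0), (157, 0), (282, 0), (283, 0), (246, 0)]⟩,
    ⟨4, [2, 3, 1, 0, 3], 82, [(43, 0), (214, 0), (3, 0), (187, 0), (197, 0), (238, 0), (316, 0), (200, 0), (196, 0), (55, 0), (259, 0), (139, 0), (62, 0), (275, 0), (84, 0), (185, 0), (190, 0), (179, 0), (70, 0), (192, 0), (237, 0), (202, 0), (329, 0), (296, 0), (278, 0), (12, 0), (194, 0), (0, 0), (288, 0), (221, 0), (359, 0), (236, 0), (74, 0), (261, 0), (48, 0), (184, 0)]⟩,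
    ⟨2, [3, 0, 2, 1, 0, 0], 27, [(144, 0), (42, 0), (90, 0), (170, 0), (142, 0), (140, 0), (141, 0), (145, 0), (199, 0), (179, 0), (120, 0), (134, 0), (175, 0), (36, 0), (200, 0), (143, 0), (77, 0), (138, 0), (150, 0), (28, 0), (163, 0), (38, 0), (157, 0), (16, 0), (147, 0), (156, 0), (46, 0), (162, 0), (105, 0), (149, 0), (104, 0), (347, 0), (112, 0), (198, 0), (235, 0), (177, 0)]⟩,
    ⟨2, [0, 2, 2, 3, 1, 0], 108, [(314, 0), (313, 0), (178, 0), (100, 0), (157, 0), (218, 0), (285, 0), (1, 0), (66, 0), (33, 0), (85, 0), (312, 0), (333, 0), (228, 0), (269, 0), (150, 0), (39, 0), (164, 0), (156, 0), (171, 0), (323, 0), (91, 0), (136, 0), (129, 0), (20, 0), (22, 0), (169, 0), (354, 0), (83, 0), (229, 0), (263, 0), (227, 0), (118, 0), (51, 0), (256, 0), (166, 0)]⟩,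
    ⟨4, [2, 1, 0, 0, 3], 104, [(359, 0), (97, 0), (251, 0), (222, 0), (89, 0), (24, 0), (250, 0), (308, 0), (122, 0), (29, 0), (357, 0), (26, 0), (143, 0), (201, 0), (121, 0), (237, 0), (266, 0), (265, 0), (25, 0), (310, 0), (98, 0), (332, 0), (333, 0), (131, 0), (90, 0), (61, 0), (64, 0), (336, 0), (351, 0), (269, 0), (261, 0), (28, 0), (337, 0), (23, 0), (271, 0), (352, 0)]⟩,
    ⟨1, [2], 55, [(359, 0), (185, 0), (322, 0), (282, 0), (33, 0), (240, 0), (356, 0), (6, 0), (252, 0), (299, 0), (171, 0), (194, 0), (281, 0), (253, 0), (117, 0), (351, 0), (324, 0), (304, 0), (248, 0), (75, 0), (223, 0), (284, 0), (280, 0), (348, 0), (236, 0), (66, 0), (241, 0), (249, 0), (17, 0), (79, 0), (98, 0), (21, 0), (45, 0), (346, 0), (190, 0), (43, 0)]⟩,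
    ⟨3, [2], 140, [(275, 0), (116, 0), (48, 0), (58, 0), (262, 0), (256, 0), (335, 0), (317, 0), (308, 0), (164, 0), (122, 0), (187, 0), (350, 0), (173, 0), (265, 0), (182, 0), (259, 0), (290, 0), (30, 0), (5, 0), (49, 0), (59, 0), (331, 0), (206, 0), (212, 0), (210, 0), (172, 0), (287, 0), (289, 0), (130, 0), (277, 0), (267, 0), (319, 0), (297, 0), (276, 0), (340, 0), (1, 0), (23, 0), (328, 0), (306, 0), (347, 0), (140, 0), (134, 0), (146, 0), (150, 0), (292, 0), (13, 0), (22, 0), (179, 0), (198, 0), (336, 0), (301, 0), (31, 0), (6, 0), (129, 0), (304, 0), (249, 0), (252, 0), (346, 0), (359, 0)]⟩,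
    ⟨1, [2, 3, 1, 0, 3], 61, [(59, 0), (316, 0), (12, 0), (236, 0), (202, 0), (281, 0), (70, 0), (194, 0), (151, 0), (48, 0), (221, 0), (109, 0), (359, 0), (185, 0), (259, 0), (293, 0), (199, 0), (238, 0), (304, 0), (320, 0), (190, 0), (284, 0), (324, 0), (205, 0), (329, 0), (43, 0), (84, 0), (21, 0), (64, 0), (200, 0), (196, 0), (296, 0), (289, 0), (197, 0), (16, 0), (79, 0)]⟩,
    ⟨4, [1, 0, 0, 2], 28, [(244, 0), (123, 0), (191, 0), (170, 0), (90, 0), (35, 0), (251, 0), (206, 0), (352, 0), (46, 0), (112, 0), (11, 0), (246, 0), (283, 0), (67, 0), (340, 0), (271, 0), (212, 0), (37, 0), (247, 0), (162, 0), (274, 0), (168, 0), (350, 0), (254, 0), (140, 0), (245, 0), (99, 0), (303, 0), (250, 0), (81, 0), (41, 0), (115, 0), (2, 0), (122, 0), (82, 0)]⟩,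
    ⟨2, [0], 136, [(70, 0), (115, 0), (289, 0), (129, 0), (307, 0), (231, 0), (203, 0), (311, 0), (86, 0), (260, 0), (121, 0), (237, 0), (250, 0), (228, 0), (143, 0), (98, 0), (316, 0), (65, 0), (319, 0), (265, 0), (130, 0), (304, 0), (91, 0), (302, 0), (247, 0), (349, 0), (343, 0), (234, 0), (74, 0), (321, 0), (107, 0), (282, 0), (163, 0), (171, 0), (219, 0), (82, 0), (317, 0), (140, 0), (159, 0), (169, 0), (211, 0), (81, 0), (183, 0), (190, 0), (103, 0), (253, 0), (335, 0), (347, 0), (214, 0), (155, 0), (149, 0), (230, 0), (297, 0), (182, 0), (111, 0), (239, 0), (313, 0), (68, 0), (101, 0), (199, 0)]⟩,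
    ⟨2, [3, 2, 1, 1, 0], 31, [(51, 0), (269, 0), (126, 0), (30, 0), (135, 0), (219, 0), (11, 0), (246, 0), (289, 0), (266, 0), (273, 0), (256, 0), (66, 0), (274, 0), (62, 0), (103, 0), (285, 0), (20, 0), (272, 0), (278, 0), (82, 0), (166, 0), (31, 0), (268, 0), (118, 0), (270, 0), (355, 0), (160, 0), (236, 0), (129, 0), (271, 0), (228, 0), (50, 0), (212, 0), (218, 0), (178, 0)]⟩,
    ⟨4, [0, 0, 3, 1, 2], 34, [(208, 0), (109, 0), (118, 0), (127, 0), (49, 0), (207, 0), (169, 0), (206, 0), (119, 0), (114, 0), (209, 0), (247, 0), (0, 0), (100, 0), (218, 0), (126, 0), (125, 0), (113, 0), (124, 0), (11, 0), (32, 0), (92, 0), (221, 0), (14, 0), (354, 0), (211, 0), (101, 0), (288, 0), (289, 0), (217, 0), (220, 0), (210, 0), (287, 0), (178, 0), (9, 0), (130, 0)]⟩]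

def w6_kill7Steps_7 : List (Step) :=
  [⟨2, [1, 1, 3], 57, [(89, 0), (224, 0), (207, 0), (186, 0), (203, 0), (142, 0), (213, 0), (45, 0), (93, 0), (19, 0), (254, 0), (253, 0), (298, 0), (309, 0), (149, 0), (251, 0), (27, 0), (88, 0), (195, 0), (252, 0), (188, 0), (154, 0), (191, 0), (273, 0), (50, 0), (13, 0), (227, 0), (91, 0), (255, 0), (210, 0), (265, 0), (148, 0), (256, 0), (53, 0), (141, 0), (182, 0)]⟩,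
    ⟨1, [0, 0, 3, 1, 2], 61, [(60, 0), (270, 0), (138, 0), (262, 0), (234, 0), (96, 0), (348, 0), (57, 0), (252, 0), (255, 0), (8, 0), (267, 0), (272, 0), (334, 0), (42, 0), (147, 0), (87, 0), (273, 0), (93, 0), (149, 0), (330, 0), (111, 0), (317, 0), (325, 0), (103, 0), (315, 0), (19, 0), (161, 0), (175, 0), (31, 0), (94, 0), (135, 0), (232, 0), (347, 0), (117, 0), (40, 0)]⟩,
    ⟨2, [0], 138, [(61, 0), (29, 0), (208, 0), (342, 0), (30, 0), (73, 0), (88, 0), (276, 0), (141, 0), (353, 0), (134, 0), (94, 0), (262, 0), (8, 0), (177, 0), (299, 0), (334, 0), (117, 0), (52, 0), (273, 0), (114, 0), (15, 0), (305, 0), (258, 0), (72, 0), (173, 0), (306, 0), (45, 0), (295, 0), (180, 0), (197, 0), (281, 0), (105, 0), (359, 0), (0, 0), (320, 0), (184, 0), (139, 0), (84, 0), (59, 0), (218, 0),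 (263, 0), (20, 0), (336, 0), (193, 0), (248, 0), (39, 0), (156, 0), (287, 0), (85, 0), (13, 0), (95, 0), (271, 0), (251, 0), (116, 0), (67, 0), (168, 0), (274, 0), (124, 0), (46, 0)]⟩,
    ⟨1, [0, 3, 2, 0, 1], 31, [(248, 0), (157, 0), (325, 0), (290, 0), (237, 0), (52, 0), (71, 0), (127, 0), (23, 0), (283, 0), (341, 0), (130, 0), (85, 0), (294, 0), (81, 0), (43, 0), (351, 0), (100, 0), (288, 0), (124, 0), (53, 0), (207, 0), (146, 0), (327, 0), (323, 0), (293, 0), (299, 0), (149, 0), (137, 0), (22, 0), (282, 0), (33, 0), (233, 0), (306, 0), (326, 0), (230, 0)]⟩,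
    ⟨4, [3, 0, 2, 1, 0, 0], 64, [(39, 0), (259, 0), (47, 0), (357, 0), (98, 0), (325, 0), (348, 0), (358, 0), (346, 0), (29, 0), (261, 0), (296, 0), (95, 0), (245, 0), (124, 0), (172, 0), (223, 0), (291, 0), (353, 0), (101, 0), (97, 0), (230, 0), (260, 0), (96, 0), (335, 0), (23, 0), (189, 0), (1, 0), (119, 0), (280, 0), (165, 0), (283, 0), (184, 0), (214, 0), (43, 0), (345, 0)]⟩,
    ⟨3, [1], 84, [(327, 0), (247, 0), (123, 0), (195, 0), (168, 0), (63, 0), (112, 0), (13, 0), (131, 0), (24, 0), (206, 0), (92, 0), (191, 0), (115, 0), (122, 0), (246, 0), (7, 0), (303, 0), (99, 0), (250, 0), (181, 0), (302, 0), (170, 0), (121, 0), (2, 0), (35, 0), (335, 0), (245, 0), (271, 0), (340, 0), (153, 0), (67, 0), (124, 0), (11, 0), (113, 0), (116, 0)]⟩,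
    ⟨1, [0, 2, 3, 1, 0], 42, [(102, 0), (13, 0), (55, 0), (194, 0), (196, 0), (171, 0), (312, 0), (4, 0), (184, 0), (70, 0), (181, 0), (302, 0), (298, 0), (346, 0), (189, 0), (197, 0), (3, 0), (192, 0), (190, 0), (187, 0), (128, 0), (301, 0), (186, 0), (1, 0), (353, 0), (73, 0), (179, 0), (45, 0), (188, 0), (309, 0), (120, 0), (163, 0), (245, 0), (115, 0), (99, 0), (185, 0)]⟩,
    ⟨1, [2], 21, [(335, 0), (352, 0), (244, 0), (11, 0), (112, 0), (274, 0), (162, 0), (206, 0), (13, 0), (115, 0), (131, 0), (24, 0), (247, 0), (92, 0), (302, 0), (95, 0), (153, 0), (350, 0), (203, 0), (181, 0), (124, 0), (216, 0), (37, 0), (99, 0), (303, 0), (113, 0), (254, 0), (212, 0), (245, 0), (46, 0), (283, 0), (67, 0), (250, 0), (23, 0), (201, 0), (286, 0)]⟩,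
    ⟨2, [0, 2, 3, 1, 0], 54, [(267, 0), (38, 0), (5, 0), (348, 0), (334, 0), (234, 0), (315, 0), (17, 0), (330, 0), (347, 0), (232, 0), (260, 0), (299, 0), (75, 0), (255, 0), (338, 0), (57, 0), (144, 0), (231, 0), (94, 0), (117, 0), (87, 0), (339, 0), (8, 0), (233, 0), (252, 0), (77, 0), (31, 0), (270, 0), (272, 0), (235, 0), (149, 0), (318, 0), (321, 0), (262, 0), (300, 0)]⟩,
    ⟨3, [0, 2, 3, 1, 0], 17, [(326, 0), (22, 0), (29, 0), (110, 0), (133, 0), (98, 0), (261, 0), (21, 0), (131, 0), (121, 0), (71, 0), (228, 0), (269, 0), (359, 0), (352, 0), (310, 0), (20, 0), (152, 0), (65, 0), (122, 0), (324, 0), (336, 0), (241, 0), (23, 0), (97, 0), (332, 0), (198, 0), (27, 0), (251, 0), (227, 0), (105, 0), (143, 0), (357, 0), (237, 0), (333, 0), (351, 0)]⟩,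
    ⟨4, [1, 3, 3], 59, [(258, 0), (294, 0), (285, 0), (193, 0), (343, 0), (1, 0), (95, 0), (245, 0), (328, 0), (233, 0), (10, 0), (264, 0), (297, 0), (181, 0), (60, 0), (355, 0), (26, 0), (306, 0), (44, 0), (103, 0), (302, 0), (344, 0), (353, 0), (260, 0), (18, 0), (225, 0), (326, 0), (69, 0), (267, 0), (279, 0), (23, 0), (71, 0), (263, 0), (244, 0), (311, 0), (102, 0)]⟩,
    ⟨1, [2, 3, 1, 0, 3], 22, [(218, 0), (256, 0), (265, 0), (241, 0), (148, 0), (45, 0), (138, 0), (252, 0), (90, 0), (250, 0), (50, 0), (207, 0), (248, 0), (234, 0), (191, 0), (89, 0), (22, 0), (227, 0), (27, 0), (251, 0), (87, 0), (186, 0), (253, 0), (212, 0), (9, 0), (298, 0), (305, 0), (249, 0), (254, 0), (86, 0), (40, 0), (91, 0), (213, 0), (273, 0), (142, 0), (269, 0)]⟩,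
    ⟨2, [0, 2, 2, 3, 1, 0], 135, [(252, 0), (325, 0), (63, 0), (183, 0), (123, 0), (179, 0), (46, 0), (209, 0), (155, 0), (96, 0), (40, 0), (211, 0), (306, 0), (104, 0), (139, 0), (117, 0), (322, 0), (124, 0), (126, 0), (49, 0), (334, 0), (221, 0), (103, 0), (138, 0), (137, 0), (278, 0), (346, 0), (44, 0), (232, 0), (81, 0), (348, 0), (43, 0), (154, 0), (347, 0), (202, 0), (42, 0)]⟩,
    ⟨1, [2, 3, 0, 1], 90, [(67, 0), (113, 0), (344, 0), (301, 0), (190, 0), (258, 0), (232, 0), (38, 0), (69, 0), (4, 0), (284, 0), (140, 0), (274, 0), (267, 0), (228, 0), (187, 0), (35, 0), (63, 0), (192, 0), (156, 0), (300, 0), (201, 0), (217, 0), (277, 0), (41, 0), (21, 0), (180, 0), (68, 0), (354, 0), (216, 0), (321, 0), (122, 0), (279, 0), (8, 0), (337, 0), (302, 0)]⟩,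
    ⟨3, [0, 2, 1, 0], 92, [(244, 0), (112, 0), (216, 0), (67, 0), (335, 0), (35, 0), (195, 0), (191, 0), (24, 0), (153, 0), (95, 0), (340, 0), (2, 0), (251, 0), (206, 0), (286, 0), (303, 0), (46, 0), (352, 0), (247, 0), (254, 0), (82, 0), (115, 0), (181, 0), (81, 0), (283, 0), (201, 0), (122, 0), (11, 0), (123, 0), (13, 0), (162, 0), (337, 0), (203, 0), (168, 0), (350, 0)]⟩,
    ⟨2, [3, 1, 1, 0], 1, [(206, 0), (181, 0), (227, 0), (313, 0), (93, 0), (336, 0), (27, 0), (356, 0), (316, 0), (196, 0), (52, 0), (81, 0), (350, 0), (222, 0), (64, 0), (161, 0), (168, 0), (195, 0), (334, 0), (48, 0), (215, 0), (216, 0), (231, 0), (324, 0), (251, 0), (338, 0), (164, 0), (14, 0), (205, 0), (203, 0), (73, 0), (35, 0), (326, 0), (319, 0), (337, 0), (24, 0)]⟩,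
    ⟨2, [1], 136, [(331, 0), (350, 0), (102, 0), (186, 0), (135, 0), (281, 0), (95, 0), (147, 0), (119, 0), (151, 0), (206, 0), (173, 0), (99, 0), (156, 0), (178, 0), (160, 0), (106, 0), (339, 0), (145, 0), (165, 0), (326, 0), (241, 0), (333, 0), (201, 0), (271, 0), (89, 0), (198, 0), (359, 0), (133, 0), (64, 0), (341, 0), (75, 0), (208, 0), (83, 0), (225, 0), (191, 0), (238, 0), (113, 0), (262, 0), (277, 0), (325, 0), (137, 0), (334, 0), (240, 0), (179, 0), (346, 0), (123, 0), (62, 0), (264, 0), (88, 0), (288, 0), (85, 0), (77, 0), (291, 0), (196, 0), (180, 0), (256, 0), (267, 0), (226, 0), (213, 0)]⟩,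
    ⟨2, [3, 1, 0], 6, [(206, 0), (324, 0), (328, 0), (226, 0), (44, 0), (93, 0), (334, 0), (313, 0), (232, 0), (319, 0), (73, 0), (33, 0), (293, 0), (338, 0), (19, 0), (181, 0), (81, 0), (326, 0), (69, 0), (263, 0), (215, 0), (207, 0), (196, 0), (161, 0), (107, 0), (182, 0), (337, 0), (59, 0), (205, 0), (221, 0), (24, 0), (251, 0), (339, 0), (231, 0), (252, 0), (52, 0)]⟩,
    ⟨2, [2, 2, 3, 1], 127, [(91, 0), (314, 0), (14, 0), (285, 0), (178, 0), (280, 0), (287, 0), (230, 0), (143, 0), (20, 0), (166, 0), (323, 0), (277, 0), (56, 0), (336, 0), (164, 0), (193, 0), (130, 0), (157, 0), (326, 0), (256, 0), (248, 0), (39, 0), (333, 0), (354, 0), (66, 0), (120, 0), (86, 0), (227, 0), (9, 0), (312, 0), (4, 0), (136, 0), (313, 0), (83, 0), (229, 0)]⟩,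
    ⟨2, [1, 3, 3], 102, [(33, 0), (164, 0), (38, 0), (172, 0), (165, 0), (274, 0), (270, 0), (219, 0), (174, 0), (39, 0), (171, 0), (73, 0), (220, 0), (242, 0), (140, 0), (150, 0), (167, 0), (161, 0), (72, 0), (145, 0), (100, 0), (206, 0), (178, 0), (66, 0), (339, 0), (37, 0), (159, 0), (32, 0), (157, 0), (107, 0), (166, 0), (168, 0), (301, 0), (156, 0), (35, 0), (169, 0)]⟩]

def w6_kill7Steps_8 : List (Step) :=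
  [⟨2, [1, 2, 0, 1, 3], 40, [(147, 0), (17, 0), (107, 0), (52, 0), (161, 0), (233, 0), (272, 0), (267, 0), (334, 0), (231, 0), (134, 0), (235, 0), (358, 0), (103, 0), (5, 0), (19, 0), (93, 0), (339, 0), (232, 0), (338, 0), (60, 0), (8, 0), (260, 0), (144, 0), (177, 0), (318, 0), (252, 0), (325, 0), (94, 0), (317, 0), (87, 0), (234, 0), (42, 0), (135, 0), (315, 0), (328, 0)]⟩,
    ⟨3, [0], 1, [(0, 0), (70, 0), (333, 0), (166, 0), (317, 0), (228, 0), (357, 0), (276, 0), (305, 0), (34, 0), (175, 0), (202, 0), (12, 0), (89, 0), (25, 0), (330, 0), (238, 0), (184, 0), (40, 0), (80, 0), (219, 0), (62, 0), (60, 0), (71, 0), (237, 0), (270, 0), (91, 0), (218, 0), (331, 0), (329, 0), (225, 0), (187, 0), (22, 0), (61, 0), (200, 0), (275, 0)]⟩,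
    ⟨2, [2, 2, 3, 1], 77, [(290, 0), (283, 0), (187, 0), (25, 0), (188, 0), (64, 0), (197, 0), (222, 0), (12, 0), (173, 0), (53, 0), (291, 0), (352, 0), (266, 0), (320, 0), (255, 0), (94, 0), (189, 0), (89, 0), (349, 0), (310, 0), (29, 0), (251, 0), (293, 0), (55, 0), (265, 0), (270, 0), (122, 0), (2, 0), (115, 0), (107, 0), (165, 0), (239, 0), (341, 0), (259, 0), (237, 0)]⟩,
    ⟨1, [3], 109, [(55, 0), (237, 0), (119, 0), (280, 0), (286, 0), (39, 0), (172, 0), (223, 0), (260, 0), (94, 0), (352, 0), (359, 0), (43, 0), (345, 0), (96, 0), (115, 0), (185, 0), (329, 0), (95, 0), (17, 0), (291, 0), (296, 0), (283, 0), (165, 0), (214, 0), (335, 0), (1, 0), (230, 0), (290, 0), (288, 0), (189, 0), (184, 0), (97, 0), (29, 0), (261, 0), (259, 0)]⟩,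
    ⟨1, [1, 3, 3, 1, 0], 52, [(13, 0), (92, 0), (269, 0), (256, 0), (273, 0), (227, 0), (265, 0), (257, 0), (89, 0), (50, 0), (149, 0), (137, 0), (7, 0), (305, 0), (27, 0), (87, 0), (254, 0), (212, 0), (40, 0), (253, 0), (309, 0), (195, 0), (262, 0), (148, 0), (90, 0), (93, 0), (218, 0), (91, 0), (298, 0), (191, 0), (204, 0), (203, 0), (22, 0), (241, 0), (251, 0), (250, 0)]⟩,
    ⟨2, [0, 2, 1, 0], 54, [(41, 0), (140, 0), (247, 0), (352, 0), (24, 0), (191, 0), (116, 0), (115, 0), (303, 0), (201, 0), (337, 0), (95, 0), (283, 0), (2, 0), (92, 0), (216, 0), (335, 0), (153, 0), (350, 0), (286, 0), (122, 0), (254, 0), (35, 0), (302, 0), (327, 0), (251, 0), (46, 0), (82, 0), (274, 0), (246, 0), (63, 0), (137, 0), (340, 0), (113, 0), (7, 0), (67, 0)]⟩,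
    ⟨3, [0, 3, 2, 0, 1], 36, [(81, 0), (322, 0), (105, 0), (22, 0), (157, 0), (237, 0), (341, 0), (255, 0), (146, 0), (85, 0), (33, 0), (252, 0), (211, 0), (0, 0), (288, 0), (162, 0), (137, 0), (42, 0), (175, 0), (149, 0), (323, 0), (325, 0), (173, 0), (293, 0), (221, 0), (100, 0), (121, 0), (71, 0), (294, 0), (306, 0), (2, 0), (124, 0), (324, 0), (304, 0), (43, 0), (202, 0)]⟩,
    ⟨1, [0, 2, 1, 0], 31, [(165, 0), (318, 0), (148, 0), (88, 0), (204, 0), (155, 0), (151, 0), (48, 0), (86, 0), (9, 0), (72, 0), (161, 0), (232, 0), (139, 0), (152, 0), (265, 0), (19, 0), (262, 0), (257, 0), (227, 0), (214, 0), (96, 0), (264, 0), (150, 0), (38, 0), (49, 0), (224, 0), (345, 0), (97, 0), (260, 0), (320, 0), (321, 0), (145, 0), (28, 0), (134, 0), (138, 0)]⟩,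
    ⟨3, [2, 3], 114, [(58, 0), (133, 0), (334, 0), (195, 0), (40, 0), (164, 0), (272, 0), (99, 0), (278, 0), (257, 0), (305, 0), (131, 0), (116, 0), (3, 0), (229, 0), (80, 0), (123, 0), (96, 0), (184, 0), (335, 0), (309, 0), (312, 0), (34, 0), (106, 0), (315, 0), (91, 0), (48, 0), (196, 0), (295, 0), (111, 0), (159, 0), (314, 0), (316, 0), (308, 0), (20, 0), (183, 0)]⟩,
    ⟨4, [3, 0, 2, 1, 0, 0], 43, [(5, 0), (233, 0), (7, 0), (116, 0), (91, 0), (113, 0), (210, 0), (125, 0), (238, 0), (3, 0), (193, 0), (318, 0), (75, 0), (342, 0), (284, 0), (229, 0), (330, 0), (262, 0), (314, 0), (74, 0), (108, 0), (321, 0), (130, 0), (109, 0), (234, 0), (4, 0), (303, 0), (2, 0), (341, 0), (255, 0), (208, 0), (300, 0), (340, 0), (343, 0), (8, 0), (315, 0)]⟩,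
    ⟨3, [2, 2, 3, 1], 126, [(247, 0), (194, 0), (18, 0), (134, 0), (145, 0), (60, 0), (76, 0), (111, 0), (319, 0), (28, 0), (170, 0), (116, 0), (75, 0), (52, 0), (71, 0), (72, 0), (125, 0), (74, 0), (161, 0), (133, 0), (77, 0), (330, 0), (31, 0), (271, 0), (327, 0), (175, 0), (205, 0), (231, 0), (332, 0), (6, 0), (268, 0), (0, 0), (181, 0), (297, 0), (225, 0), (318, 0)]⟩,
    ⟨3, [2, 3], 53, [(265, 0), (45, 0), (358, 0), (37, 0), (177, 0), (287, 0), (77, 0), (247, 0), (199, 0), (158, 0), (176, 0), (191, 0), (212, 0), (268, 0), (51, 0), (26, 0), (90, 0), (234, 0), (109, 0), (340, 0), (72, 0), (9, 0), (209, 0), (243, 0), (273, 0), (178, 0), (359, 0), (214, 0), (264, 0), (138, 0), (332, 0), (269, 0), (55, 0), (297, 0), (142, 0), (213, 0)]⟩,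
    ⟨2, [3, 1, 1, 0], 136, [(181, 0), (188, 0), (286, 0), (136, 0), (259, 0), (134, 0), (114, 0), (79, 0), (285, 0), (87, 0), (71, 0), (251, 0), (308, 0), (336, 0), (97, 0), (148, 0), (131, 0), (200, 0), (110, 0), (266, 0), (100, 0), (162, 0), (164, 0), (301, 0), (72, 0), (167, 0), (223, 0), (177, 0), (246, 0), (270, 0), (290, 0), (146, 0), (353, 0), (142, 0), (215, 0), (243, 0), (93, 0), (279, 0), (84, 0), (118, 0), (221, 0), (322, 0), (184, 0), (63, 0), (348, 0), (104, 0), (257, 0), (232, 0), (212, 0), (276, 0), (233, 0), (248, 0), (194, 0), (108, 0), (330, 0), (67, 0), (314, 0), (217, 0), (210, 0), (340, 0)]⟩,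
    ⟨3, [3, 0, 2, 1, 0, 0], 3, [(161, 0), (19, 0), (216, 0), (337, 0), (336, 0), (81, 0), (356, 0), (226, 0), (190, 0), (64, 0), (227, 0), (93, 0), (328, 0), (44, 0), (221, 0), (169, 0), (339, 0), (338, 0), (69, 0), (59, 0), (319, 0), (52, 0), (263, 0), (48, 0), (334, 0), (326, 0), (35, 0), (181, 0), (205, 0), (231, 0), (167, 0), (107, 0), (195, 0), (88, 0), (252, 0), (232, 0)]⟩,
    ⟨1, [0], 54, [(116, 0), (11, 0), (23, 0), (162, 0), (283, 0), (201, 0), (352, 0), (46, 0), (251, 0), (206, 0), (246, 0), (123, 0), (112, 0), (90, 0), (337, 0), (327, 0), (2, 0), (124, 0), (137, 0), (81, 0), (170, 0), (63, 0), (153, 0), (24, 0), (131, 0), (140, 0), (92, 0), (13, 0), (181, 0), (115, 0), (247, 0), (113, 0), (250, 0), (271, 0), (122, 0), (121, 0)]⟩,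
    ⟨1, [0, 3, 2, 0, 1], 5, [(83, 0), (150, 0), (103, 0), (273, 0), (266, 0), (358, 0), (26, 0), (213, 0), (271, 0), (82, 0), (320, 0), (9, 0), (142, 0), (297, 0), (245, 0), (236, 0), (269, 0), (178, 0), (268, 0), (212, 0), (243, 0), (287, 0), (199, 0), (340, 0), (193, 0), (55, 0), (31, 0), (77, 0), (46, 0), (143, 0), (158, 0), (171, 0), (318, 0), (264, 0), (97, 0), (51, 0)]⟩,
    ⟨4, [0, 3, 2, 0, 1], 120, [(330, 0), (161, 0), (123, 0), (84, 0), (250, 0), (58, 0), (131, 0), (296, 0), (20, 0), (272, 0), (262, 0), (74, 0), (196, 0), (312, 0), (183, 0), (40, 0), (275, 0), (246, 0), (256, 0), (278, 0), (57, 0), (295, 0), (93, 0), (315, 0), (116, 0), (309, 0), (166, 0), (313, 0), (334, 0), (24, 0), (317, 0), (34, 0), (314, 0), (96, 0), (133, 0), (111, 0)]⟩,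
    ⟨4, [3, 0, 1, 2, 0], 30, [(245, 0), (115, 0), (57, 0), (299, 0), (98, 0), (317, 0), (333, 0), (100, 0), (261, 0), (185, 0), (346, 0), (124, 0), (283, 0), (39, 0), (296, 0), (353, 0), (23, 0), (286, 0), (172, 0), (288, 0), (171, 0), (37, 0), (189, 0), (184, 0), (335, 0), (223, 0), (260, 0), (165, 0), (55, 0), (352, 0), (1, 0), (95, 0), (96, 0), (312, 0), (131, 0), (99, 0)]⟩,
    ⟨1, [0, 2, 1, 0], 84, [(201, 0), (122, 0), (181, 0), (95, 0), (327, 0), (203, 0), (206, 0), (37, 0), (81, 0), (41, 0), (67, 0), (352, 0), (131, 0), (168, 0), (195, 0), (302, 0), (23, 0), (271, 0), (340, 0), (245, 0), (140, 0), (90, 0), (113, 0), (216, 0), (24, 0), (7, 0), (244, 0), (112, 0), (63, 0), (121, 0), (274, 0), (250, 0), (350, 0), (35, 0), (251, 0), (337, 0)]⟩,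
    ⟨2, [2, 2, 3, 1], 132, [(195, 0), (48, 0), (209, 0), (103, 0), (126, 0), (348, 0), (47, 0), (325, 0), (104, 0), (278, 0), (123, 0), (81, 0), (232, 0), (347, 0), (240, 0), (183, 0), (44, 0), (221, 0), (42, 0), (306, 0), (40, 0), (252, 0), (96, 0), (335, 0), (216, 0), (117, 0), (179, 0), (138, 0), (257, 0), (88, 0), (184, 0), (190, 0), (46, 0), (80, 0), (356, 0), (334, 0)]⟩]

def w6_kill7Steps_9 : List (Step) :=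
  [⟨4, [0, 2, 1, 0], 49, [(353, 0), (54, 0), (207, 0), (53, 0), (256, 0), (293, 0), (313, 0), (243, 0), (93, 0), (141, 0), (76, 0), (297, 0), (180, 0), (338, 0), (59, 0), (50, 0), (309, 0), (142, 0), (273, 0), (213, 0), (291, 0), (55, 0), (132, 0), (226, 0), (69, 0), (239, 0), (149, 0), (290, 0), (101, 0), (312, 0), (292, 0), (192, 0), (52, 0), (215, 0), (196, 0), (182, 0)]⟩,
    ⟨1, [2, 1, 0, 0, 3], 81, [(154, 0), (54, 0), (102, 0), (301, 0), (302, 0), (176, 0), (193, 0), (171, 0), (3, 0), (192, 0), (63, 0), (346, 0), (73, 0), (164, 0), (197, 0), (13, 0), (298, 0), (353, 0), (99, 0), (185, 0), (156, 0), (189, 0), (170, 0), (179, 0), (44, 0), (35, 0), (309, 0), (34, 0), (70, 0), (225, 0), (142, 0), (182, 0), (183, 0), (120, 0), (108, 0), (163, 0)]⟩,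
    ⟨2, [0, 2, 3, 1, 0], 107, [(318, 0), (77, 0), (270, 0), (339, 0), (317, 0), (117, 0), (40, 0), (252, 0), (272, 0), (177, 0), (358, 0), (52, 0), (231, 0), (87, 0), (135, 0), (165, 0), (161, 0), (175, 0), (299, 0), (107, 0), (234, 0), (75, 0), (348, 0), (103, 0), (60, 0), (17, 0), (38, 0), (300, 0), (5, 0), (330, 0), (138, 0), (134, 0), (267, 0), (273, 0), (111, 0), (31, 0)]⟩,
    ⟨2, [1, 3, 3, 1, 0], 27, [(327, 0), (271, 0), (69, 0), (263, 0), (232, 0), (1, 0), (344, 0), (311, 0), (44, 0), (319, 0), (318, 0), (340, 0), (244, 0), (102, 0), (353, 0), (52, 0), (81, 0), (337, 0), (328, 0), (226, 0), (18, 0), (95, 0), (60, 0), (225, 0), (302, 0), (260, 0), (326, 0), (285, 0), (76, 0), (41, 0), (71, 0), (23, 0), (193, 0), (297, 0), (245, 0), (181, 0)]⟩,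
    ⟨2, [2, 1, 0, 0, 3], 11, [(224, 0), (6, 0), (106, 0), (279, 0), (140, 0), (306, 0), (157, 0), (230, 0), (16, 0), (284, 0), (67, 0), (291, 0), (76, 0), (285, 0), (278, 0), (7, 0), (141, 0), (223, 0), (95, 0), (296, 0), (277, 0), (345, 0), (327, 0), (341, 0), (30, 0), (41, 0), (249, 0), (18, 0), (74, 0), (145, 0), (248, 0), (253, 0), (307, 0), (229, 0), (104, 0), (343, 0)]⟩,
    ⟨2, [1, 1, 3], 73, [(341, 0), (293, 0), (329, 0), (359, 0), (214, 0), (200, 0), (62, 0), (21, 0), (184, 0), (55, 0), (320, 0), (304, 0), (324, 0), (275, 0), (70, 0), (259, 0), (43, 0), (288, 0), (261, 0), (185, 0), (266, 0), (105, 0), (64, 0), (187, 0), (0, 0), (28, 0), (296, 0), (316, 0), (197, 0), (221, 0), (239, 0), (146, 0), (238, 0), (12, 0), (202, 0), (237, 0)]⟩,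
    ⟨3, [2, 2, 3, 1], 83, [(83, 0), (193, 0), (86, 0), (119, 0), (39, 0), (218, 0), (256, 0), (118, 0), (227, 0), (97, 0), (171, 0), (4, 0), (130, 0), (207, 0), (22, 0), (150, 0), (314, 0), (277, 0), (169, 0), (152, 0), (287, 0), (354, 0), (178, 0), (269, 0), (248, 0), (100, 0), (263, 0), (14, 0), (143, 0), (229, 0), (51, 0), (323, 0), (186, 0), (142, 0), (91, 0), (9, 0)]⟩,
    ⟨3, [3, 1, 1, 0], 8, [(11, 0), (271, 0), (256, 0), (166, 0), (40, 0), (66, 0), (253, 0), (160, 0), (278, 0), (275, 0), (60, 0), (244, 0), (82, 0), (30, 0), (239, 0), (111, 0), (123, 0), (250, 0), (272, 0), (84, 0), (219, 0), (274, 0), (31, 0), (281, 0), (254, 0), (270, 0), (20, 0), (178, 0), (268, 0), (212, 0), (110, 0), (122, 0), (285, 0), (76, 0), (41, 0), (246, 0)]⟩,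
    ⟨4, [0, 2, 1, 0], 48, [(192, 0), (180, 0), (52, 0), (230, 0), (76, 0), (207, 0), (215, 0), (287, 0), (226, 0), (279, 0), (239, 0), (55, 0), (312, 0), (313, 0), (93, 0), (267, 0), (353, 0), (297, 0), (51, 0), (358, 0), (56, 0), (142, 0), (118, 0), (59, 0), (196, 0), (256, 0), (294, 0), (85, 0), (235, 0), (54, 0), (68, 0), (309, 0), (293, 0), (338, 0), (182, 0), (69, 0)]⟩,
    ⟨2, [2], 29, [(218, 0), (40, 0), (189, 0), (357, 0), (225, 0), (237, 0), (187, 0), (200, 0), (349, 0), (276, 0), (60, 0), (147, 0), (305, 0), (25, 0), (173, 0), (219, 0), (210, 0), (154, 0), (61, 0), (36, 0), (228, 0), (22, 0), (275, 0), (12, 0), (188, 0), (71, 0), (47, 0), (333, 0), (166, 0), (91, 0), (62, 0), (211, 0), (94, 0), (270, 0), (255, 0), (89, 0)]⟩,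
    ⟨3, [3, 2, 1, 1, 0], 4, [(66, 0), (118, 0), (89, 0), (276, 0), (40, 0), (355, 0), (250, 0), (244, 0), (275, 0), (62, 0), (117, 0), (129, 0), (51, 0), (271, 0), (266, 0), (270, 0), (166, 0), (218, 0), (60, 0), (12, 0), (41, 0), (285, 0), (267, 0), (21, 0), (269, 0), (103, 0), (219, 0), (76, 0), (239, 0), (256, 0), (274, 0), (178, 0), (110, 0), (122, 0), (20, 0), (228, 0)]⟩,
    ⟨2, [0, 0, 3, 1, 2], 19, [(209, 0), (114, 0), (274, 0), (206, 0), (169, 0), (92, 0), (217, 0), (0, 0), (172, 0), (220, 0), (14, 0), (331, 0), (127, 0), (288, 0), (50, 0), (178, 0), (72, 0), (242, 0), (100, 0), (219, 0), (221, 0), (211, 0), (130, 0), (208, 0), (68, 0), (207, 0), (37, 0), (124, 0), (126, 0), (49, 0), (109, 0), (213, 0), (286, 0), (289, 0), (204, 0), (32, 0)]⟩,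
    ⟨3, [2, 3, 0, 1], 129, [(239, 0), (118, 0), (8, 0), (300, 0), (339, 0), (302, 0), (337, 0), (201, 0), (232, 0), (117, 0), (66, 0), (56, 0), (68, 0), (258, 0), (344, 0), (270, 0), (338, 0), (235, 0), (38, 0), (347, 0), (21, 0), (192, 0), (274, 0), (41, 0), (279, 0), (301, 0), (321, 0), (217, 0), (62, 0), (59, 0), (122, 0), (180, 0), (277, 0), (228, 0), (69, 0), (267, 0)]⟩,
    ⟨1, [0, 0, 3, 1, 2], 8, [(176, 0), (183, 0), (302, 0), (181, 0), (69, 0), (13, 0), (192, 0), (70, 0), (353, 0), (44, 0), (164, 0), (34, 0), (128, 0), (185, 0), (298, 0), (193, 0), (297, 0), (344, 0), (1, 0), (225, 0), (197, 0), (188, 0), (120, 0), (163, 0), (301, 0), (186, 0), (245, 0), (115, 0), (108, 0), (180, 0), (179, 0), (45, 0), (99, 0), (3, 0), (309, 0), (102, 0)]⟩,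
    ⟨4, [3, 0, 1, 2, 0], 6, [(48, 0), (263, 0), (182, 0), (35, 0), (251, 0), (73, 0), (27, 0), (339, 0), (222, 0), (350, 0), (81, 0), (232, 0), (169, 0), (220, 0), (215, 0), (293, 0), (64, 0), (19, 0), (107, 0), (338, 0), (168, 0), (161, 0), (33, 0), (356, 0), (88, 0), (206, 0), (197, 0), (164, 0), (313, 0), (227, 0), (79, 0), (205, 0), (44, 0), (226, 0), (319, 0), (167, 0)]⟩,
    ⟨2, [2, 1, 0, 0, 3], 49, [(310, 0), (241, 0), (275, 0), (271, 0), (28, 0), (228, 0), (200, 0), (337, 0), (61, 0), (332, 0), (265, 0), (251, 0), (23, 0), (357, 0), (333, 0), (133, 0), (121, 0), (324, 0), (319, 0), (24, 0), (26, 0), (326, 0), (258, 0), (25, 0), (237, 0), (97, 0), (110, 0), (355, 0), (308, 0), (105, 0), (65, 0), (351, 0), (89, 0), (305, 0), (22, 0), (71, 0)]⟩,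
    ⟨2, [0, 2, 2, 3, 1, 0], 50, [(154, 0), (346, 0), (232, 0), (103, 0), (264, 0), (334, 0), (48, 0), (278, 0), (81, 0), (245, 0), (45, 0), (253, 0), (126, 0), (221, 0), (216, 0), (344, 0), (276, 0), (345, 0), (306, 0), (41, 0), (179, 0), (104, 0), (183, 0), (195, 0), (88, 0), (209, 0), (325, 0), (42, 0), (63, 0), (155, 0), (184, 0), (47, 0), (252, 0), (190, 0), (356, 0), (44, 0)]⟩,
    ⟨1, [2, 1, 0, 0, 3], 15, [(29, 0), (98, 0), (305, 0), (26, 0), (90, 0), (71, 0), (22, 0), (326, 0), (200, 0), (359, 0), (352, 0), (222, 0), (355, 0), (228, 0), (275, 0), (131, 0), (198, 0), (27, 0), (337, 0), (316, 0), (97, 0), (319, 0), (23, 0), (237, 0), (89, 0), (271, 0), (65, 0), (258, 0), (261, 0), (148, 0), (351, 0), (110, 0), (25, 0), (333, 0), (61, 0), (357, 0)]⟩,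
    ⟨4, [0, 2, 2, 3, 1, 0], 8, [(36, 0), (342, 0), (328, 0), (358, 0), (26, 0), (93, 0), (316, 0), (296, 0), (337, 0), (340, 0), (158, 0), (223, 0), (101, 0), (59, 0), (203, 0), (311, 0), (357, 0), (343, 0), (279, 0), (95, 0), (199, 0), (141, 0), (58, 0), (168, 0), (220, 0), (213, 0), (8, 0), (235, 0), (112, 0), (198, 0), (238, 0), (210, 0), (339, 0), (79, 0), (27, 0), (226, 0)]⟩,
    ⟨4, [2, 2, 3, 1], 123, [(312, 0), (39, 0), (354, 0), (228, 0), (218, 0), (336, 0), (14, 0), (326, 0), (136, 0), (166, 0), (256, 0), (230, 0), (97, 0), (143, 0), (83, 0), (91, 0), (1, 0), (100, 0), (22, 0), (323, 0), (20, 0), (351, 0), (227, 0), (313, 0), (287, 0), (269, 0), (156, 0), (152, 0), (314, 0), (119, 0), (164, 0), (171, 0), (56, 0), (229, 0), (280, 0), (333, 0)]⟩]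

def w6_kill7Steps_10 : List (Step) :=
  [⟨1, [3, 0, 2, 3], 27, [(221, 0), (109, 0), (274, 0), (286, 0), (68, 0), (11, 0), (118, 0), (119, 0), (50, 0), (208, 0), (209, 0), (214, 0), (329, 0), (218, 0), (219, 0), (32, 0), (288, 0), (217, 0), (204, 0), (172, 0), (14, 0), (205, 0), (114, 0), (126, 0), (62, 0), (331, 0), (92, 0), (203, 0), (220, 0), (59, 0), (130, 0), (0, 0), (212, 0), (178, 0), (268, 0), (289, 0)]⟩,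
    ⟨4, [0, 2, 2, 3, 1, 0], 34, [(350, 0), (12, 0), (310, 0), (29, 0), (108, 0), (265, 0), (176, 0), (165, 0), (180, 0), (132, 0), (349, 0), (94, 0), (259, 0), (174, 0), (53, 0), (2, 0), (115, 0), (135, 0), (321, 0), (290, 0), (167, 0), (19, 0), (320, 0), (243, 0), (307, 0), (224, 0), (122, 0), (64, 0), (293, 0), (197, 0), (82, 0), (254, 0), (25, 0), (173, 0), (188, 0), (78, 0)]⟩,
    ⟨1, [3, 0, 2, 1, 0, 0], 54, [(106, 0), (307, 0), (211, 0), (71, 0), (241, 0), (344, 0), (45, 0), (297, 0), (322, 0), (310, 0), (308, 0), (295, 0), (18, 0), (264, 0), (49, 0), (32, 0), (282, 0), (53, 0), (294, 0), (127, 0), (26, 0), (279, 0), (102, 0), (183, 0), (257, 0), (258, 0), (173, 0), (311, 0), (114, 0), (249, 0), (176, 0), (174, 0), (80, 0), (209, 0), (240, 0), (306, 0)]⟩,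
    ⟨2, [3], 137, [(196, 0), (58, 0), (261, 0), (20, 0), (317, 0), (246, 0), (257, 0), (334, 0), (91, 0), (303, 0), (128, 0), (79, 0), (241, 0), (336, 0), (171, 0), (160, 0), (43, 0), (117, 0), (6, 0), (234, 0), (119, 0), (289, 0), (207, 0), (68, 0), (72, 0), (220, 0), (47, 0), (212, 0), (0, 0), (113, 0), (95, 0), (60, 0), (353, 0), (51, 0), (319, 0), (26, 0), (81, 0), (344, 0), (233, 0), (277, 0), (19, 0), (307, 0), (290, 0), (239, 0), (352, 0), (89, 0), (173, 0), (35, 0), (320, 0), (108, 0), (13, 0), (136, 0), (77, 0), (141, 0), (121, 0), (200, 0), (157, 0), (38, 0), (155, 0), (179, 0)]⟩,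
    ⟨4, [], 62, [(332, 0), (6, 0), (79, 0), (339, 0), (33, 0), (17, 0), (129, 0), (117, 0), (186, 0), (73, 0), (282, 0), (240, 0), (300, 0), (87, 0), (185, 0), (324, 0), (336, 0), (356, 0), (252, 0), (190, 0), (31, 0), (348, 0), (75, 0), (128, 0), (15, 0), (299, 0), (27, 0), (234, 0), (194, 0), (83, 0), (110, 0), (98, 0), (249, 0), (281, 0), (280, 0), (231, 0)]⟩,
    ⟨1, [3, 0, 2, 1, 0, 0], 14, [(111, 0), (273, 0), (274, 0), (41, 0), (66, 0), (244, 0), (160, 0), (276, 0), (21, 0), (239, 0), (256, 0), (40, 0), (103, 0), (355, 0), (289, 0), (118, 0), (117, 0), (270, 0), (228, 0), (62, 0), (76, 0), (60, 0), (51, 0), (84, 0), (272, 0), (285, 0), (122, 0), (271, 0), (268, 0), (31, 0), (132, 0), (135, 0), (250, 0), (50, 0), (87, 0), (267, 0)]⟩,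
    ⟨4, [3, 0, 2, 1, 0, 0], 44, [(229, 0), (341, 0), (210, 0), (225, 0), (298, 0), (8, 0), (234, 0), (318, 0), (342, 0), (108, 0), (3, 0), (74, 0), (327, 0), (340, 0), (113, 0), (208, 0), (6, 0), (224, 0), (10, 0), (125, 0), (193, 0), (277, 0), (233, 0), (315, 0), (7, 0), (302, 0), (349, 0), (323, 0), (130, 0), (248, 0), (5, 0), (67, 0), (238, 0), (109, 0), (284, 0), (343, 0)]⟩,
    ⟨1, [0, 2, 1, 0], 33, [(337, 0), (201, 0), (11, 0), (115, 0), (116, 0), (254, 0), (246, 0), (283, 0), (123, 0), (63, 0), (302, 0), (23, 0), (352, 0), (82, 0), (212, 0), (113, 0), (131, 0), (121, 0), (2, 0), (124, 0), (35, 0), (251, 0), (67, 0), (41, 0), (271, 0), (191, 0), (112, 0), (350, 0), (216, 0), (24, 0), (140, 0), (90, 0), (244, 0), (274, 0), (250, 0), (122, 0)]⟩,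
    ⟨2, [2, 3, 0, 1], 60, [(49, 0), (258, 0), (66, 0), (239, 0), (56, 0), (270, 0), (156, 0), (187, 0), (140, 0), (279, 0), (68, 0), (217, 0), (64, 0), (35, 0), (339, 0), (240, 0), (139, 0), (277, 0), (67, 0), (284, 0), (180, 0), (321, 0), (25, 0), (242, 0), (169, 0), (338, 0), (41, 0), (122, 0), (65, 0), (152, 0), (344, 0), (232, 0), (274, 0), (301, 0), (38, 0), (174, 0)]⟩,
    ⟨2, [2, 2, 3, 1], 76, [(146, 0), (175, 0), (116, 0), (24, 0), (181, 0), (133, 0), (128, 0), (332, 0), (11, 0), (206, 0), (52, 0), (77, 0), (61, 0), (110, 0), (125, 0), (327, 0), (153, 0), (170, 0), (271, 0), (247, 0), (324, 0), (28, 0), (71, 0), (127, 0), (54, 0), (319, 0), (246, 0), (275, 0), (0, 0), (70, 0), (282, 0), (145, 0), (111, 0), (75, 0), (134, 0), (121, 0)]⟩,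
    ⟨4, [2, 3, 0, 1], 22, [(274, 0), (41, 0), (65, 0), (25, 0), (200, 0), (180, 0), (235, 0), (338, 0), (152, 0), (228, 0), (62, 0), (216, 0), (67, 0), (321, 0), (4, 0), (21, 0), (201, 0), (337, 0), (64, 0), (336, 0), (270, 0), (35, 0), (239, 0), (118, 0), (113, 0), (187, 0), (258, 0), (174, 0), (66, 0), (140, 0), (267, 0), (302, 0), (49, 0), (117, 0), (63, 0), (122, 0)]⟩,
    ⟨2, [3, 1, 1, 0], 140, [(168, 0), (80, 0), (250, 0), (91, 0), (278, 0), (315, 0), (133, 0), (196, 0), (39, 0), (57, 0), (242, 0), (216, 0), (204, 0), (207, 0), (178, 0), (208, 0), (11, 0), (0, 0), (101, 0), (214, 0), (228, 0), (302, 0), (263, 0), (294, 0), (26, 0), (44, 0), (76, 0), (318, 0), (95, 0), (325, 0), (117, 0), (284, 0), (160, 0), (83, 0), (27, 0), (45, 0), (231, 0), (282, 0), (185, 0), (351, 0), (64,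 0), (180, 0), (12, 0), (2, 0), (273, 0), (224, 0), (307, 0), (107, 0), (352, 0), (189, 0), (38, 0), (56, 0), (199, 0), (155, 0), (147, 0), (137, 0), (120, 0), (105, 0), (61, 0), (170, 0)]⟩,
    ⟨3, [3, 0, 2, 1, 0, 0], 87, [(258, 0), (133, 0), (243, 0), (213, 0), (209, 0), (53, 0), (307, 0), (249, 0), (176, 0), (72, 0), (49, 0), (65, 0), (305, 0), (188, 0), (173, 0), (264, 0), (26, 0), (332, 0), (45, 0), (158, 0), (204, 0), (241, 0), (257, 0), (174, 0), (25, 0), (211, 0), (297, 0), (309, 0), (159, 0), (308, 0), (18, 0), (71, 0), (180, 0), (78, 0), (310, 0), (265, 0)]⟩,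
    ⟨1, [2, 2, 3, 1], 130, [(7, 0), (238, 0), (114, 0), (328, 0), (220, 0), (17, 0), (101, 0), (358, 0), (198, 0), (316, 0), (168, 0), (340, 0), (8, 0), (235, 0), (65, 0), (106, 0), (343, 0), (109, 0), (177, 0), (26, 0), (93, 0), (234, 0), (317, 0), (131, 0), (113, 0), (339, 0), (16, 0), (147, 0), (305, 0), (210, 0), (296, 0), (284, 0), (112, 0), (58, 0), (342, 0), (315, 0)]⟩,
    ⟨2, [3, 1, 1, 0], 30, [(95, 0), (131, 0), (287, 0), (171, 0), (348, 0), (100, 0), (47, 0), (189, 0), (214, 0), (359, 0), (17, 0), (115, 0), (99, 0), (172, 0), (288, 0), (358, 0), (245, 0), (352, 0), (165, 0), (55, 0), (223, 0), (283, 0), (317, 0), (329, 0), (286, 0), (299, 0), (97, 0), (39, 0), (296, 0), (335, 0), (357, 0), (23, 0), (119, 0), (101, 0), (124, 0), (37, 0)]⟩,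
    ⟨3, [2, 3, 0, 1], 97, [(217, 0), (277, 0), (117, 0), (270, 0), (347, 0), (122, 0), (63, 0), (35, 0), (235, 0), (8, 0), (354, 0), (169, 0), (174, 0), (180, 0), (65, 0), (300, 0), (38, 0), (232, 0), (338, 0), (339, 0), (187, 0), (64, 0), (67, 0), (113, 0), (49, 0), (25, 0), (267, 0), (239, 0), (284, 0), (139, 0), (302, 0), (258, 0), (118, 0), (4, 0), (152, 0), (321, 0)]⟩,
    ⟨2, [3], 11, [(48, 0), (190, 0), (326, 0), (207, 0), (251, 0), (14, 0), (222, 0), (215, 0), (107, 0), (252, 0), (195, 0), (196, 0), (59, 0), (220, 0), (328, 0), (81, 0), (293, 0), (324, 0), (206, 0), (52, 0), (88, 0), (205, 0), (216, 0), (334, 0), (316, 0), (203, 0), (33, 0), (169, 0), (232, 0), (64, 0), (356, 0), (79, 0), (164, 0), (44, 0), (197, 0), (221, 0)]⟩,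
    ⟨2, [3], 136, [(205, 0), (78, 0), (185, 0), (120, 0), (94, 0), (153, 0), (249, 0), (328, 0), (218, 0), (244, 0), (127, 0), (293, 0), (309, 0), (69, 0), (287, 0), (292, 0), (296, 0), (235, 0), (76, 0), (273, 0), (351, 0), (105, 0), (227, 0), (258, 0), (332, 0), (222, 0), (357, 0), (90, 0), (275, 0), (122, 0), (283, 0), (175, 0), (172, 0), (150, 0), (73, 0), (176, 0), (168, 0), (242, 0), (272, 0), (66, 0), (252, 0), (306, 0), (96, 0), (139, 0), (245, 0), (154, 0), (80, 0), (216, 0), (236, 0), (126, 0), (92, 0), (323, 0), (318, 0), (224, 0), (116, 0), (187, 0), (229, 0), (300, 0), (342, 0), (109, 0)]⟩,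
    ⟨2, [3, 0, 2, 1, 0, 0], 90, [(358, 0), (57, 0), (283, 0), (124, 0), (100, 0), (115, 0), (189, 0), (346, 0), (237, 0), (288, 0), (287, 0), (348, 0), (96, 0), (29, 0), (259, 0), (230, 0), (325, 0), (299, 0), (351, 0), (43, 0), (101, 0), (17, 0), (312, 0), (55, 0), (165, 0), (119, 0), (23, 0), (131, 0), (296, 0), (317, 0), (353, 0), (260, 0), (352, 0), (291, 0), (94, 0), (290, 0)]⟩,
    ⟨3, [0], 44, [(111, 0), (127, 0), (353, 0), (292, 0), (291, 0), (192, 0), (55, 0), (199, 0), (182, 0), (215, 0), (295, 0), (58, 0), (85, 0), (142, 0), (69, 0), (76, 0), (132, 0), (101, 0), (141, 0), (226, 0), (77, 0), (235, 0), (146, 0), (196, 0), (312, 0), (56, 0), (50, 0), (149, 0), (52, 0), (290, 0), (268, 0), (118, 0), (309, 0), (297, 0), (180, 0), (54, 0)]⟩]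

def w6_kill7Steps_11 : List (Step) :=
  [⟨1, [0, 3, 2, 0, 1], 122, [(321, 0), (270, 0), (216, 0), (59, 0), (337, 0), (68, 0), (201, 0), (192, 0), (336, 0), (339, 0), (8, 0), (187, 0), (239, 0), (56, 0), (240, 0), (232, 0), (64, 0), (35, 0), (69, 0), (190, 0), (235, 0), (180, 0), (267, 0), (300, 0), (67, 0), (279, 0), (169, 0), (118, 0), (117, 0), (122, 0), (38, 0), (174, 0), (354, 0), (347, 0), (25, 0), (338, 0)]⟩,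
    ⟨2, [1, 3, 3, 1, 0], 51, [(177, 0), (220, 0), (282, 0), (34, 0), (173, 0), (246, 0), (283, 0), (99, 0), (174, 0), (242, 0), (36, 0), (163, 0), (164, 0), (39, 0), (66, 0), (158, 0), (176, 0), (32, 0), (159, 0), (301, 0), (317, 0), (272, 0), (168, 0), (140, 0), (157, 0), (166, 0), (72, 0), (161, 0), (339, 0), (107, 0), (37, 0), (178, 0), (145, 0), (223, 0), (30, 0), (106, 0)]⟩,
    ⟨2, [2], 28, [(286, 0), (335, 0), (82, 0), (271, 0), (340, 0), (122, 0), (2, 0), (121, 0), (191, 0), (245, 0), (95, 0), (153, 0), (24, 0), (251, 0), (35, 0), (37, 0), (247, 0), (46, 0), (90, 0), (170, 0), (23, 0), (201, 0), (131, 0), (115, 0), (350, 0), (337, 0), (212, 0), (250, 0), (99, 0), (303, 0), (124, 0), (216, 0), (254, 0), (283, 0), (67, 0), (352, 0)]⟩,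
    ⟨4, [2, 2, 3, 1], 7, [(294, 0), (32, 0), (298, 0), (98, 0), (185, 0), (148, 0), (13, 0), (201, 0), (87, 0), (299, 0), (288, 0), (68, 0), (308, 0), (250, 0), (262, 0), (304, 0), (15, 0), (301, 0), (21, 0), (300, 0), (23, 0), (258, 0), (105, 0), (149, 0), (309, 0), (261, 0), (160, 0), (355, 0), (233, 0), (102, 0), (162, 0), (159, 0), (50, 0), (92, 0), (204, 0), (241, 0)]⟩,
    ⟨3, [3, 1, 0], 8, [(219, 0), (110, 0), (285, 0), (51, 0), (103, 0), (256, 0), (278, 0), (84, 0), (41, 0), (271, 0), (31, 0), (160, 0), (132, 0), (239, 0), (254, 0), (60, 0), (276, 0), (355, 0), (267, 0), (244, 0), (268, 0), (50, 0), (111, 0), (246, 0), (30, 0), (273, 0), (228, 0), (118, 0), (11, 0), (126, 0), (275, 0), (89, 0), (66, 0), (281, 0), (253, 0), (76, 0)]⟩,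
    ⟨1, [3, 0, 2, 3], 1, [(16, 0), (278, 0), (67, 0), (283, 0), (174, 0), (327, 0), (277, 0), (230, 0), (224, 0), (30, 0), (106, 0), (296, 0), (43, 0), (248, 0), (6, 0), (307, 0), (259, 0), (239, 0), (53, 0), (291, 0), (157, 0), (146, 0), (306, 0), (343, 0), (284, 0), (282, 0), (254, 0), (137, 0), (104, 0), (139, 0), (285, 0), (281, 0), (7, 0), (229, 0), (74, 0), (341, 0)]⟩,
    ⟨1, [0, 0, 3, 1, 2], 38, [(294, 0), (243, 0), (112, 0), (123, 0), (129, 0), (168, 0), (79, 0), (48, 0), (342, 0), (132, 0), (51, 0), (264, 0), (80, 0), (238, 0), (36, 0), (85, 0), (322, 0), (78, 0), (314, 0), (155, 0), (84, 0), (159, 0), (313, 0), (226, 0), (311, 0), (166, 0), (2, 0), (303, 0), (292, 0), (15, 0), (293, 0), (173, 0), (340, 0), (199, 0), (158, 0), (58, 0)]⟩,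
    ⟨2, [2, 1, 0, 0, 3], 78, [(126, 0), (50, 0), (331, 0), (72, 0), (247, 0), (242, 0), (354, 0), (169, 0), (0, 0), (268, 0), (212, 0), (88, 0), (172, 0), (100, 0), (329, 0), (11, 0), (125, 0), (215, 0), (206, 0), (205, 0), (178, 0), (220, 0), (274, 0), (62, 0), (47, 0), (37, 0), (127, 0), (32, 0), (289, 0), (208, 0), (118, 0), (101, 0), (211, 0), (218, 0), (210, 0), (219, 0)]⟩,
    ⟨2, [2, 1, 0, 0, 3], 36, [(185, 0), (1, 0), (191, 0), (108, 0), (182, 0), (116, 0), (195, 0), (183, 0), (35, 0), (189, 0), (353, 0), (102, 0), (120, 0), (63, 0), (170, 0), (55, 0), (197, 0), (188, 0), (180, 0), (176, 0), (346, 0), (128, 0), (312, 0), (99, 0), (13, 0), (54, 0), (187, 0), (4, 0), (171, 0), (186, 0), (184, 0), (70, 0), (302, 0), (245, 0), (181, 0), (115, 0)]⟩,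
    ⟨3, [3, 0, 2, 2], 29, [(195, 0), (182, 0), (33, 0), (263, 0), (326, 0), (79, 0), (324, 0), (205, 0), (336, 0), (69, 0), (44, 0), (88, 0), (19, 0), (231, 0), (339, 0), (164, 0), (227, 0), (207, 0), (14, 0), (169, 0), (181, 0), (203, 0), (197, 0), (190, 0), (252, 0), (328, 0), (313, 0), (350, 0), (35, 0), (251, 0), (196, 0), (93, 0), (356, 0), (73, 0), (27, 0), (186, 0)]⟩,
    ⟨4, [0, 2, 1, 0], 12, [(94, 0), (60, 0), (154, 0), (210, 0), (211, 0), (36, 0), (202, 0), (238, 0), (22, 0), (218, 0), (331, 0), (330, 0), (8, 0), (200, 0), (156, 0), (188, 0), (255, 0), (40, 0), (305, 0), (91, 0), (329, 0), (317, 0), (311, 0), (136, 0), (347, 0), (242, 0), (89, 0), (357, 0), (1, 0), (325, 0), (12, 0), (270, 0), (61, 0), (70, 0), (175, 0), (147, 0)]⟩,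
    ⟨2, [1, 2, 0, 1, 3], 16, [(200, 0), (65, 0), (251, 0), (326, 0), (227, 0), (23, 0), (250, 0), (355, 0), (24, 0), (336, 0), (152, 0), (198, 0), (26, 0), (271, 0), (352, 0), (64, 0), (316, 0), (27, 0), (319, 0), (222, 0), (228, 0), (357, 0), (258, 0), (201, 0), (90, 0), (97, 0), (324, 0), (71, 0), (25, 0), (305, 0), (21, 0), (359, 0), (121, 0), (122, 0), (131, 0), (337, 0)]⟩,
    ⟨1, [0, 2, 2, 3, 1, 0], 61, [(230, 0), (157, 0), (91, 0), (186, 0), (218, 0), (4, 0), (354, 0), (336, 0), (9, 0), (86, 0), (285, 0), (326, 0), (33, 0), (83, 0), (314, 0), (256, 0), (207, 0), (22, 0), (269, 0), (227, 0), (280, 0), (351, 0), (66, 0), (277, 0), (323, 0), (129, 0), (142, 0), (171, 0), (39, 0), (100, 0), (56, 0), (85, 0), (193, 0), (229, 0), (130, 0), (248, 0)]⟩,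
    ⟨2, [1], 139, [(242, 0), (35, 0), (258, 0), (336, 0), (321, 0), (284, 0), (41, 0), (347, 0), (118, 0), (192, 0), (203, 0), (188, 0), (250, 0), (22, 0), (9, 0), (298, 0), (257, 0), (252, 0), (141, 0), (273, 0), (263, 0), (15, 0), (166, 0), (162, 0), (340, 0), (349, 0), (155, 0), (236, 0), (58, 0), (293, 0), (259, 0), (17, 0), (172, 0), (171, 0), (357, 0), (352, 0), (184, 0), (124, 0), (57, 0), (230, 0), (60, 0), (153, 0), (161, 0), (282, 0), (28, 0), (110, 0), (116, 0), (0, 0), (297, 0), (215, 0), (289, 0), (120, 0), (177, 0), (30, 0), (316, 0), (310, 0), (229, 0), (233, 0), (44, 0), (209, 0)]⟩,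
    ⟨4, [3, 1, 1, 0], 94, [(124, 0), (245, 0), (39, 0), (333, 0), (317, 0), (280, 0), (223, 0), (98, 0), (296, 0), (184, 0), (325, 0), (23, 0), (352, 0), (291, 0), (259, 0), (96, 0), (131, 0), (99, 0), (57, 0), (261, 0), (47, 0), (286, 0), (348, 0), (43, 0), (283, 0), (94, 0), (312, 0), (287, 0), (214, 0), (37, 0), (346, 0), (115, 0), (230, 0), (345, 0), (95, 0), (335, 0)]⟩,
    ⟨2, [0, 2, 3, 1, 0], 35, [(81, 0), (202, 0), (78, 0), (129, 0), (314, 0), (15, 0), (159, 0), (160, 0), (58, 0), (85, 0), (323, 0), (276, 0), (236, 0), (158, 0), (243, 0), (2, 0), (123, 0), (155, 0), (342, 0), (132, 0), (33, 0), (356, 0), (304, 0), (294, 0), (264, 0), (83, 0), (112, 0), (79, 0), (293, 0), (48, 0), (162, 0), (46, 0), (311, 0), (173, 0), (80, 0), (322, 0)]⟩,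
    ⟨4, [3, 0, 1, 2, 0], 17, [(191, 0), (116, 0), (300, 0), (233, 0), (208, 0), (8, 0), (354, 0), (323, 0), (217, 0), (3, 0), (108, 0), (2, 0), (327, 0), (277, 0), (284, 0), (298, 0), (92, 0), (303, 0), (10, 0), (304, 0), (193, 0), (340, 0), (225, 0), (187, 0), (67, 0), (343, 0), (262, 0), (318, 0), (194, 0), (247, 0), (91, 0), (7, 0), (321, 0), (4, 0), (113, 0), (302, 0)]⟩,
    ⟨2, [1, 3, 3, 1, 0], 33, [(146, 0), (268, 0), (190, 0), (48, 0), (64, 0), (184, 0), (187, 0), (238, 0), (197, 0), (205, 0), (28, 0), (199, 0), (84, 0), (3, 0), (185, 0), (324, 0), (293, 0), (59, 0), (316, 0), (79, 0), (74, 0), (296, 0), (275, 0), (70, 0), (192, 0), (261, 0), (221, 0), (278, 0), (281, 0), (239, 0), (0, 0), (288, 0), (179, 0), (194, 0), (55, 0), (196, 0)]⟩,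
    ⟨2, [0], 3, [(238, 0), (329, 0), (228, 0), (156, 0), (270, 0), (22, 0), (89, 0), (154, 0), (25, 0), (242, 0), (317, 0), (184, 0), (70, 0), (61, 0), (71, 0), (8, 0), (187, 0), (62, 0), (347, 0), (344, 0), (36, 0), (202, 0), (147, 0), (305, 0), (275, 0), (175, 0), (354, 0), (136, 0), (311, 0), (12, 0), (210, 0), (0, 0), (333, 0), (357, 0), (237, 0), (200, 0)]⟩,
    ⟨3, [2, 3], 103, [(151, 0), (70, 0), (114, 0), (249, 0), (203, 0), (307, 0), (14, 0), (280, 0), (328, 0), (147, 0), (13, 0), (185, 0), (281, 0), (285, 0), (135, 0), (112, 0), (79, 0), (329, 0), (95, 0), (17, 0), (86, 0), (259, 0), (153, 0), (144, 0), (289, 0), (254, 0), (311, 0), (18, 0), (134, 0), (205, 0), (136, 0), (12, 0), (102, 0), (120, 0), (197, 0), (16, 0)]⟩]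

def w6_kill7Steps_12 : List (Step) :=
  [⟨3, [2], 23, [(214, 0), (261, 0), (78, 0), (18, 0), (263, 0), (174, 0), (167, 0), (145, 0), (19, 0), (260, 0), (97, 0), (28, 0), (74, 0), (224, 0), (321, 0), (119, 0), (205, 0), (151, 0), (86, 0), (134, 0), (345, 0), (139, 0), (39, 0), (165, 0), (320, 0), (277, 0), (204, 0), (257, 0), (96, 0), (48, 0), (172, 0), (217, 0), (265, 0), (29, 0), (64, 0), (259, 0)]⟩,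
    ⟨4, [3, 1, 1, 0], 100, [(302, 0), (303, 0), (130, 0), (248, 0), (75, 0), (9, 0), (125, 0), (224, 0), (0, 0), (304, 0), (300, 0), (67, 0), (7, 0), (210, 0), (109, 0), (233, 0), (327, 0), (2, 0), (255, 0), (341, 0), (298, 0), (191, 0), (262, 0), (217, 0), (113, 0), (234, 0), (323, 0), (91, 0), (3, 0), (116, 0), (10, 0), (340, 0), (354, 0), (208, 0), (247, 0), (92, 0)]⟩,
    ⟨1, [0, 2, 1, 0], 35, [(326, 0), (105, 0), (114, 0), (135, 0), (315, 0), (307, 0), (106, 0), (30, 0), (183, 0), (42, 0), (233, 0), (355, 0), (266, 0), (176, 0), (209, 0), (130, 0), (20, 0), (198, 0), (108, 0), (126, 0), (107, 0), (222, 0), (341, 0), (306, 0), (26, 0), (5, 0), (120, 0), (197, 0), (221, 0), (316, 0), (157, 0), (143, 0), (102, 0), (32, 0), (308, 0), (310, 0)]⟩,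
    ⟨1, [2, 3, 0, 1], 92, [(208, 0), (343, 0), (346, 0), (189, 0), (154, 0), (29, 0), (155, 0), (167, 0), (54, 0), (225, 0), (210, 0), (220, 0), (30, 0), (132, 0), (110, 0), (298, 0), (163, 0), (44, 0), (182, 0), (73, 0), (349, 0), (222, 0), (224, 0), (125, 0), (126, 0), (89, 0), (353, 0), (291, 0), (6, 0), (104, 0), (10, 0), (355, 0), (101, 0), (342, 0), (198, 0), (108, 0)]⟩,
    ⟨3, [2, 3], 86, [(106, 0), (159, 0), (330, 0), (116, 0), (111, 0), (91, 0), (40, 0), (195, 0), (275, 0), (133, 0), (58, 0), (168, 0), (99, 0), (184, 0), (333, 0), (295, 0), (246, 0), (161, 0), (196, 0), (24, 0), (183, 0), (164, 0), (309, 0), (305, 0), (317, 0), (312, 0), (74, 0), (3, 0), (308, 0), (272, 0), (257, 0), (39, 0), (238, 0), (80, 0), (166, 0), (34, 0)]⟩,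
    ⟨4, [1, 2, 0, 1, 3], 17, [(22, 0), (351, 0), (222, 0), (319, 0), (24, 0), (355, 0), (308, 0), (258, 0), (316, 0), (324, 0), (121, 0), (152, 0), (97, 0), (26, 0), (266, 0), (251, 0), (227, 0), (336, 0), (337, 0), (64, 0), (71, 0), (228, 0), (23, 0), (105, 0), (143, 0), (271, 0), (27, 0), (357, 0), (237, 0), (333, 0), (241, 0), (269, 0), (198, 0), (310, 0), (20, 0), (326, 0)]⟩,
    ⟨1, [1, 3, 3, 1, 0], 18, [(122, 0), (115, 0), (314, 0), (130, 0), (315, 0), (85, 0), (58, 0), (127, 0), (342, 0), (108, 0), (135, 0), (11, 0), (124, 0), (322, 0), (155, 0), (321, 0), (113, 0), (116, 0), (75, 0), (125, 0), (310, 0), (121, 0), (290, 0), (132, 0), (123, 0), (42, 0), (4, 0), (351, 0), (29, 0), (131, 0), (180, 0), (63, 0), (129, 0), (78, 0), (112, 0), (2, 0)]⟩,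
    ⟨4, [1, 0, 0, 2], 43, [(243, 0), (294, 0), (93, 0), (111, 0), (256, 0), (235, 0), (141, 0), (54, 0), (296, 0), (84, 0), (51, 0), (297, 0), (127, 0), (101, 0), (59, 0), (313, 0), (295, 0), (309, 0), (312, 0), (196, 0), (132, 0), (180, 0), (85, 0), (199, 0), (213, 0), (118, 0), (57, 0), (290, 0), (293, 0), (53, 0), (292, 0), (68, 0), (358, 0), (226, 0), (279, 0), (58, 0)]⟩,
    ⟨4, [2, 2, 3, 1], 110, [(35, 0), (64, 0), (243, 0), (273, 0), (132, 0), (5, 0), (349, 0), (255, 0), (291, 0), (239, 0), (122, 0), (251, 0), (19, 0), (94, 0), (307, 0), (180, 0), (182, 0), (293, 0), (290, 0), (53, 0), (270, 0), (107, 0), (321, 0), (67, 0), (350, 0), (135, 0), (55, 0), (165, 0), (174, 0), (167, 0), (187, 0), (197, 0), (352, 0), (25, 0), (222, 0), (338, 0)]⟩,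
    ⟨2, [2, 3], 2, [(352, 0), (348, 0), (51, 0), (178, 0), (150, 0), (268, 0), (199, 0), (109, 0), (142, 0), (171, 0), (165, 0), (5, 0), (209, 0), (213, 0), (297, 0), (97, 0), (143, 0), (83, 0), (9, 0), (193, 0), (37, 0), (247, 0), (214, 0), (55, 0), (243, 0), (72, 0), (269, 0), (212, 0), (245, 0), (46, 0), (359, 0), (332, 0), (273, 0), (358, 0), (77, 0), (287, 0)]⟩,
    ⟨2, [2, 2, 3, 1], 6, [(267, 0), (274, 0), (304, 0), (241, 0), (15, 0), (105, 0), (151, 0), (148, 0), (185, 0), (301, 0), (68, 0), (50, 0), (250, 0), (261, 0), (3, 0), (300, 0), (87, 0), (160, 0), (98, 0), (298, 0), (258, 0), (355, 0), (201, 0), (192, 0), (84, 0), (308, 0), (299, 0), (23, 0), (302, 0), (244, 0), (38, 0), (272, 0), (288, 0), (217, 0), (289, 0), (21, 0)]⟩,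
    ⟨2, [3, 2, 1, 1, 0], 71, [(192, 0), (201, 0), (138, 0), (150, 0), (86, 0), (177, 0), (147, 0), (36, 0), (134, 0), (152, 0), (56, 0), (292, 0), (162, 0), (175, 0), (42, 0), (139, 0), (151, 0), (148, 0), (145, 0), (155, 0), (156, 0), (163, 0), (140, 0), (235, 0), (149, 0), (157, 0), (28, 0), (170, 0), (63, 0), (13, 0), (200, 0), (105, 0), (77, 0), (347, 0), (144, 0), (38, 0)]⟩,
    ⟨4, [], 136, [(0, 0), (2, 0), (3, 0), (4, 0), (5, 0), (6, 0), (7, 0), (8, 0), (9, 0), (10, 0), (11, 0), (12, 0), (13, 0), (1, 0), (14, 0), (15, 0), (16, 0), (17, 0), (18, 0), (19, 0), (20, 0), (21, 0), (22, 0), (23, 0), (24, 0), (25, 0), (26, 0), (27, 0), (28, 0), (29, 0), (30, 0), (31, 0), (32, 0), (33, 0), (34, 0), (35, 0), (36, 0), (37, 0), (38, 0), (39, 0), (40, 0), (41, 0), (42, 0), (43, 0), (44, 0),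 (45, 0), (46, 0), (47, 0), (48, 0), (49, 0), (50, 0), (51, 0), (52, 0), (53, 0), (54, 0), (55, 0), (56, 0), (57, 0), (58, 0), (59, 0)]⟩,
    ⟨3, [0, 3, 1, 2, 3, 0], 56, [(221, 0), (289, 0), (194, 0), (359, 0), (28, 0), (284, 0), (74, 0), (296, 0), (320, 0), (266, 0), (105, 0), (288, 0), (329, 0), (238, 0), (187, 0), (179, 0), (214, 0), (268, 0), (199, 0), (55, 0), (316, 0), (59, 0), (16, 0), (341, 0), (0, 0), (200, 0), (236, 0), (79, 0), (197, 0), (205, 0), (278, 0), (62, 0), (304, 0), (3, 0), (217, 0), (109, 0)]⟩,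
    ⟨1, [0, 2, 1, 0], 56, [(216, 0), (274, 0), (116, 0), (131, 0), (121, 0), (7, 0), (327, 0), (95, 0), (2, 0), (122, 0), (201, 0), (286, 0), (37, 0), (340, 0), (191, 0), (63, 0), (124, 0), (11, 0), (112, 0), (115, 0), (337, 0), (203, 0), (140, 0), (67, 0), (247, 0), (90, 0), (123, 0), (168, 0), (35, 0), (206, 0), (41, 0), (212, 0), (303, 0), (302, 0), (92, 0), (113, 0)]⟩,
    ⟨3, [2, 3, 1, 0, 3], 0, [(119, 0), (312, 0), (310, 0), (65, 0), (198, 0), (322, 0), (42, 0), (117, 0), (121, 0), (131, 0), (101, 0), (118, 0), (4, 0), (75, 0), (2, 0), (29, 0), (152, 0), (20, 0), (110, 0), (122, 0), (17, 0), (129, 0), (346, 0), (124, 0), (130, 0), (342, 0), (133, 0), (128, 0), (115, 0), (120, 0), (96, 0), (314, 0), (127, 0), (290, 0), (85, 0), (351, 0)]⟩,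
    ⟨3, [2, 3, 1, 0, 3], 21, [(329, 0), (296, 0), (266, 0), (21, 0), (105, 0), (236, 0), (179, 0), (190, 0), (28, 0), (261, 0), (288, 0), (59, 0), (284, 0), (194, 0), (320, 0), (237, 0), (200, 0), (316, 0), (324, 0), (64, 0), (185, 0), (79, 0), (43, 0), (214, 0), (109, 0), (304, 0), (275, 0), (281, 0), (259, 0), (16, 0), (184, 0), (238, 0), (268, 0), (55, 0), (199, 0), (359, 0)]⟩,
    ⟨4, [0, 2, 2, 3, 1, 0], 55, [(132, 0), (167, 0), (5, 0), (94, 0), (307, 0), (255, 0), (341, 0), (237, 0), (67, 0), (350, 0), (78, 0), (29, 0), (189, 0), (187, 0), (191, 0), (243, 0), (291, 0), (222, 0), (25, 0), (352, 0), (12, 0), (89, 0), (173, 0), (2, 0), (108, 0), (188, 0), (338, 0), (270, 0), (82, 0), (30, 0), (293, 0), (182, 0), (321, 0), (320, 0), (224, 0), (349, 0)]⟩,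
    ⟨1, [3, 1, 1, 0], 96, [(49, 0), (264, 0), (106, 0), (305, 0), (34, 0), (249, 0), (282, 0), (241, 0), (295, 0), (80, 0), (344, 0), (258, 0), (265, 0), (53, 0), (307, 0), (183, 0), (133, 0), (159, 0), (309, 0), (308, 0), (211, 0), (204, 0), (45, 0), (240, 0), (174, 0), (188, 0), (58, 0), (213, 0), (209, 0), (72, 0), (322, 0), (78, 0), (279, 0), (306, 0), (18, 0), (257, 0)]⟩,
    ⟨2, [2, 2, 3, 1], 131, [(188, 0), (78, 0), (222, 0), (30, 0), (266, 0), (291, 0), (352, 0), (283, 0), (5, 0), (135, 0), (12, 0), (173, 0), (174, 0), (67, 0), (338, 0), (197, 0), (176, 0), (310, 0), (341, 0), (107, 0), (254, 0), (53, 0), (259, 0), (94, 0), (25, 0), (239, 0), (108, 0), (224, 0), (19, 0), (265, 0), (115, 0), (180, 0), (349, 0), (350, 0), (243, 0), (307, 0)]⟩]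

def w6_kill7Steps_13 : List (Step) :=
  [⟨4, [2, 3, 0, 1], 128, [(180, 0), (68, 0), (277, 0), (284, 0), (66, 0), (8, 0), (228, 0), (200, 0), (41, 0), (240, 0), (301, 0), (192, 0), (59, 0), (337, 0), (232, 0), (174, 0), (239, 0), (56, 0), (140, 0), (139, 0), (65, 0), (235, 0), (242, 0), (344, 0), (69, 0), (339, 0), (67, 0), (113, 0), (49, 0), (118, 0), (25, 0), (338, 0), (302, 0), (258, 0), (267, 0), (279, 0)]⟩,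
    ⟨1, [0, 2, 2, 3, 1, 0], 88, [(16, 0), (249, 0), (357, 0), (337, 0), (8, 0), (131, 0), (317, 0), (168, 0), (358, 0), (279, 0), (284, 0), (79, 0), (203, 0), (37, 0), (101, 0), (343, 0), (328, 0), (311, 0), (340, 0), (226, 0), (140, 0), (112, 0), (7, 0), (296, 0), (329, 0), (113, 0), (26, 0), (90, 0), (141, 0), (147, 0), (106, 0), (114, 0), (359, 0), (223, 0), (17, 0), (95, 0)]⟩,
    ⟨2, [1], 89, [(314, 0), (277, 0), (138, 0), (214, 0), (165, 0), (88, 0), (19, 0), (205, 0), (265, 0), (97, 0), (39, 0), (74, 0), (217, 0), (204, 0), (148, 0), (150, 0), (320, 0), (318, 0), (72, 0), (28, 0), (119, 0), (125, 0), (169, 0), (227, 0), (262, 0), (172, 0), (264, 0), (49, 0), (152, 0), (321, 0), (263, 0), (10, 0), (257, 0), (86, 0), (224, 0), (9, 0)]⟩,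
    ⟨2, [1, 1, 3], 28, [(0, 0), (146, 0), (79, 0), (316, 0), (48, 0), (359, 0), (236, 0), (266, 0), (190, 0), (196, 0), (74, 0), (341, 0), (105, 0), (21, 0), (185, 0), (205, 0), (221, 0), (293, 0), (64, 0), (197, 0), (275, 0), (237, 0), (28, 0), (194, 0), (304, 0), (261, 0), (59, 0), (200, 0), (70, 0), (202, 0), (268, 0), (288, 0), (284, 0), (281, 0), (43, 0), (324, 0)]⟩,
    ⟨2, [1, 3, 3], 83, [(304, 0), (3, 0), (139, 0), (214, 0), (259, 0), (62, 0), (239, 0), (268, 0), (64, 0), (261, 0), (185, 0), (194, 0), (109, 0), (59, 0), (200, 0), (151, 0), (320, 0), (74, 0), (205, 0), (28, 0), (288, 0), (0, 0), (289, 0), (21, 0), (284, 0), (329, 0), (48, 0), (221, 0), (105, 0), (341, 0), (84, 0), (238, 0), (190, 0), (192, 0), (187, 0), (217, 0)]⟩,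
    ⟨3, [1, 0, 0, 2], 50, [(180, 0), (297, 0), (57, 0), (93, 0), (313, 0), (149, 0), (292, 0), (141, 0), (84, 0), (196, 0), (69, 0), (279, 0), (213, 0), (50, 0), (288, 0), (312, 0), (58, 0), (295, 0), (256, 0), (296, 0), (182, 0), (53, 0), (142, 0), (192, 0), (68, 0), (207, 0), (111, 0), (273, 0), (55, 0), (243, 0), (54, 0), (127, 0), (267, 0), (353, 0), (294, 0), (309, 0)]⟩,
    ⟨4, [2, 3, 0, 1], 101, [(14, 0), (328, 0), (185, 0), (115, 0), (13, 0), (259, 0), (151, 0), (78, 0), (70, 0), (181, 0), (203, 0), (114, 0), (135, 0), (12, 0), (281, 0), (186, 0), (120, 0), (102, 0), (188, 0), (128, 0), (350, 0), (307, 0), (19, 0), (205, 0), (289, 0), (254, 0), (1, 0), (94, 0), (231, 0), (144, 0), (263, 0), (285, 0), (329, 0), (79, 0), (16, 0), (197, 0)]⟩,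
    ⟨3, [1, 3, 3, 1, 0], 60, [(86, 0), (9, 0), (27, 0), (93, 0), (182, 0), (305, 0), (89, 0), (40, 0), (251, 0), (207, 0), (142, 0), (138, 0), (262, 0), (250, 0), (241, 0), (186, 0), (19, 0), (88, 0), (195, 0), (252, 0), (256, 0), (257, 0), (91, 0), (22, 0), (148, 0), (309, 0), (203, 0), (7, 0), (248, 0), (224, 0), (218, 0), (204, 0), (90, 0), (269, 0), (265, 0), (227, 0)]⟩,
    ⟨1, [2, 3], 97, [(67, 0), (300, 0), (228, 0), (118, 0), (152, 0), (62, 0), (200, 0), (59, 0), (156, 0), (4, 0), (321, 0), (338, 0), (68, 0), (242, 0), (344, 0), (277, 0), (56, 0), (336, 0), (169, 0), (69, 0), (113, 0), (216, 0), (217, 0), (187, 0), (25, 0), (49, 0), (66, 0), (274, 0), (302, 0), (201, 0), (284, 0), (240, 0), (270, 0), (8, 0), (347, 0), (354, 0)]⟩,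
    ⟨1, [0, 3, 2, 0, 1], 14, [(22, 0), (326, 0), (290, 0), (299, 0), (288, 0), (75, 0), (127, 0), (282, 0), (124, 0), (23, 0), (105, 0), (157, 0), (33, 0), (322, 0), (2, 0), (237, 0), (100, 0), (230, 0), (43, 0), (283, 0), (241, 0), (248, 0), (324, 0), (121, 0), (85, 0), (304, 0), (325, 0), (252, 0), (251, 0), (207, 0), (71, 0), (323, 0), (42, 0), (310, 0), (130, 0), (351, 0)]⟩,
    ⟨1, [2, 3, 0, 1], 42, [(0, 0), (323, 0), (252, 0), (107, 0), (42, 0), (251, 0), (137, 0), (283, 0), (149, 0), (233, 0), (130, 0), (100, 0), (173, 0), (53, 0), (241, 0), (75, 0), (175, 0), (325, 0), (290, 0), (299, 0), (341, 0), (237, 0), (2, 0), (92, 0), (211, 0), (310, 0), (52, 0), (293, 0), (304, 0), (202, 0), (327, 0), (71, 0), (207, 0), (248, 0), (22, 0), (255, 0)]⟩,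
    ⟨1, [3, 0, 2, 3], 42, [(180, 0), (54, 0), (1, 0), (91, 0), (186, 0), (184, 0), (185, 0), (3, 0), (171, 0), (142, 0), (182, 0), (108, 0), (116, 0), (99, 0), (245, 0), (69, 0), (4, 0), (120, 0), (164, 0), (193, 0), (309, 0), (183, 0), (196, 0), (55, 0), (115, 0), (195, 0), (156, 0), (34, 0), (297, 0), (128, 0), (192, 0), (63, 0), (189, 0), (353, 0), (346, 0), (312, 0)]⟩]

def w6_kill7Steps : List (Step) :=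
  w6_kill7Steps_0 ++ w6_kill7Steps_1 ++ w6_kill7Steps_2 ++ w6_kill7Steps_3 ++ w6_kill7Steps_4 ++ w6_kill7Steps_5 ++ w6_kill7Steps_6 ++ w6_kill7Steps_7 ++ w6_kill7Steps_8 ++ w6_kill7Steps_9 ++ w6_kill7Steps_10 ++ w6_kill7Steps_11 ++ w6_kill7Steps_12 ++ w6_kill7Steps_13

def w6_kill7Used : List ℕ := [0, 1, 2, 3, 4, 5, 6, 7, 8, 9, 10, 13, 14, 15, 16, 17, 19, 20, 22, 23, 24, 26, 29, 30, 32, 33, 34, 35, 37, 38, 39, 41, 43, 44, 46, 48, 49, 50, 53, 55, 57, 58, 59, 60, 61, 62, 63, 64, 65, 66, 67, 68, 69, 70, 71, 74, 76, 78, 79, 80, 83, 84, 86, 88, 89, 92, 93, 95, 96, 100, 102, 103, 104, 106, 107, 108, 109, 111, 112, 113, 115, 116, 118, 120, 124, 125, 126, 129, 131, 134, 136, 137, 138, 140, 142, 143, 145, 148, 149, 153, 154, 155, 156, 158, 159, 165, 168, 172, 174, 176, 177, 178, 181, 182, 187,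 188, 189, 203, 204, 208, 217, 218, 221, 224, 225, 233, 239, 247, 251, 256, 262, 274, 297, 300, 302, 304, 360, 361, 362, 363, 367]

def w6_kill7Ks : List ℕ := [0, 70, 331, 329, 205, 275, 61, 200, 28, 219, 34, 62, 184, 47, 214, 268, 215, 59, 187, 194, 330, 247, 109, 74, 217, 71, 237, 324, 24, 305, 316, 261, 100, 206, 73, 220, 145, 172, 221, 190, 216, 139, 49, 146, 127, 288, 297, 55, 77, 287, 199, 213, 289, 218, 11, 281, 181, 197, 128, 185, 14, 286, 231, 16, 114, 79, 134, 204, 119, 271, 266, 110, 21, 352, 332, 336, 26, 27, 359, 258, 29, 64, 246, 274, 170, 35, 171, 168, 38, 169, 278, 126, 212, 236, 179, 44, 46, 209, 155, 111, 84, 50, 118, 239, 54, 57, 58, 92, 327, 341, 75, 304, 116, 193, 4, 229, 303, 342, 234, 9, 269, 105, 326, 251, 241, 337, 272, 283, 164, 106, 165, 43, 290, 312, 182,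 313, 0, 70, 331, 329, 200]

def w6_kill9Dest_0 : List (ℕ × ℕ) :=
  [(0, 0)]

def w6_kill9Dest : List (ℕ × ℕ) :=
  w6_kill9Dest_0

def w6_kill9Steps_0 : List (Step) :=
  [⟨1, [2, 1, 3, 2], 11, [(100, 0), (164, 0), (66, 0), (150, 0)]⟩,
    ⟨1, [0, 1, 2], 12, [(63, 0), (99, 0), (181, 0), (191, 0)]⟩,
    ⟨1, [2, 0], 2, [(261, 0), (345, 0), (165, 0), (119, 0)]⟩,
    ⟨2, [1, 2, 3, 1], 11, [(329, 0), (197, 0), (281, 0), (151, 0)]⟩,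
    ⟨2, [2, 0, 3], 12, [(256, 0), (228, 0), (178, 0), (129, 0)]⟩,
    ⟨1, [0, 0, 3], 12, [(93, 0), (8, 0), (177, 0), (17, 0)]⟩,
    ⟨1, [3, 3, 2], 9, [(208, 0), (44, 0), (198, 0), (30, 0)]⟩,
    ⟨1, [0, 1, 2, 3], 1, [(54, 0), (183, 0), (115, 0), (4, 0)]⟩,
    ⟨4, [2, 0, 3], 7, [(237, 0), (291, 0), (115, 0), (165, 0)]⟩,
    ⟨4, [1, 2, 3, 1], 13, [(323, 0), (52, 0), (306, 0), (23, 0)]⟩,
    ⟨4, [2, 0, 1, 3], 13, [(118, 0), (219, 0), (212, 0), (289, 0)]⟩,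
    ⟨2, [2, 1, 0, 2, 3], 7, [(210, 0), (207, 0), (212, 0), (204, 0)]⟩,
    ⟨4, [3, 3], 1, [(109, 0), (358, 0), (158, 0), (90, 0)]⟩,
    ⟨2, [0, 3, 3, 2], 5, [(105, 0), (26, 0), (20, 0), (222, 0)]⟩,
    ⟨3, [2, 3], 13, [(84, 0), (40, 0), (246, 0), (20, 0)]⟩,
    ⟨1, [3, 0, 2], 13, [(139, 0), (148, 0), (150, 0), (134, 0)]⟩,
    ⟨3, [0, 3], 9, [(61, 0), (76, 0), (125, 0), (73, 0)]⟩,
    ⟨2, [2, 3, 0], 12, [(89, 0), (76, 0), (160, 0), (126, 0)]⟩,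
    ⟨1, [3, 0, 2, 2], 4, [(275, 0), (355, 0), (122, 0), (269, 0)]⟩,
    ⟨4, [2, 2, 3], 14, [(333, 0), (164, 0), (314, 0), (256, 0)]⟩]

def w6_kill9Steps_1 : List (Step) :=
  [⟨1, [2, 3], 10, [(3, 0), (330, 0), (7, 0), (314, 0)]⟩,
    ⟨3, [1, 2, 2, 3], 2, [(213, 0), (147, 0), (7, 0), (27, 0)]⟩,
    ⟨3, [3, 0], 5, [(74, 0), (225, 0), (75, 0), (247, 0)]⟩,
    ⟨3, [0], 6, [(12, 0), (25, 0), (255, 0), (189, 0)]⟩,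
    ⟨4, [], 8, [(354, 0), (1, 0), (22, 0), (166, 0)]⟩,
    ⟨2, [3, 2, 0], 13, [(105, 0), (137, 0), (175, 0), (85, 0)]⟩,
    ⟨4, [3, 1, 0, 3, 2], 10, [(319, 0), (23, 0), (228, 0), (26, 0)]⟩,
    ⟨3, [1, 1, 2], 7, [(298, 0), (252, 0), (269, 0), (249, 0)]⟩,
    ⟨1, [3, 1, 0, 3, 2], 1, [(346, 0), (116, 0), (120, 0), (180, 0)]⟩,
    ⟨4, [3, 1, 2, 3], 6, [(346, 0), (75, 0), (65, 0), (129, 0)]⟩,
    ⟨4, [3, 1, 2, 3, 1], 12, [(205, 0), (320, 0), (139, 0), (261, 0)]⟩,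
    ⟨2, [0], 7, [(281, 0), (332, 0), (75, 0), (73, 0)]⟩,
    ⟨4, [0, 3, 2, 0], 8, [(348, 0), (318, 0), (273, 0), (177, 0)]⟩,
    ⟨3, [0, 2, 2], 5, [(199, 0), (294, 0), (132, 0), (313, 0)]⟩,
    ⟨3, [3, 1, 1, 2], 9, [(204, 0), (45, 0), (305, 0), (53, 0)]⟩,
    ⟨2, [2, 3, 3, 2], 10, [(55, 0), (338, 0), (53, 0), (132, 0)]⟩,
    ⟨2, [3, 0], 7, [(146, 0), (61, 0), (134, 0), (170, 0)]⟩,
    ⟨3, [0, 0, 3], 13, [(59, 0), (210, 0), (37, 0), (114, 0)]⟩,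
    ⟨3, [2, 3], 12, [(50, 0), (276, 0), (30, 0), (110, 0)]⟩,
    ⟨1, [2, 1, 1, 3], 3, [(130, 0), (321, 0), (116, 0), (342, 0)]⟩]

def w6_kill9Steps_2 : List (Step) :=
  [⟨2, [0], 1, [(200, 0), (311, 0), (317, 0), (210, 0)]⟩,
    ⟨4, [1, 2, 3, 0], 3, [(78, 0), (120, 0), (17, 0), (11, 0)]⟩,
    ⟨2, [2, 0, 3, 2], 10, [(237, 0), (222, 0), (265, 0), (122, 0)]⟩,
    ⟨3, [0, 1, 2], 14, [(92, 0), (11, 0), (37, 0), (216, 0)]⟩,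
    ⟨1, [3, 1, 2, 3, 1], 9, [(109, 0), (197, 0), (105, 0), (278, 0)]⟩,
    ⟨4, [0, 1, 2, 3], 3, [(198, 0), (133, 0), (122, 0), (351, 0)]⟩,
    ⟨3, [3, 2, 0], 8, [(356, 0), (319, 0), (182, 0), (220, 0)]⟩,
    ⟨3, [2, 0], 4, [(74, 0), (10, 0), (321, 0), (9, 0)]⟩,
    ⟨1, [2, 0, 3, 2], 3, [(261, 0), (355, 0), (241, 0), (201, 0)]⟩,
    ⟨3, [1, 3, 0, 2], 2, [(306, 0), (105, 0), (130, 0), (107, 0)]⟩,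
    ⟨4, [3, 1], 2, [(219, 0), (111, 0), (281, 0), (271, 0)]⟩,
    ⟨2, [3, 0, 2, 3], 6, [(43, 0), (6, 0), (249, 0), (66, 0)]⟩,
    ⟨3, [2, 1, 0, 2, 3], 5, [(89, 0), (227, 0), (90, 0), (241, 0)]⟩,
    ⟨4, [0, 2, 3, 1], 0, [(56, 0), (174, 0), (284, 0), (41, 0)]⟩,
    ⟨2, [1, 3, 2], 9, [(50, 0), (154, 0), (27, 0), (224, 0)]⟩,
    ⟨2, [0, 2, 3, 0], 12, [(255, 0), (52, 0), (299, 0), (42, 0)]⟩,
    ⟨3, [2, 3], 8, [(209, 0), (297, 0), (265, 0), (158, 0)]⟩,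
    ⟨4, [1, 1, 2], 2, [(88, 0), (262, 0), (86, 0), (265, 0)]⟩,
    ⟨1, [3, 0, 1, 3, 2], 7, [(92, 0), (88, 0), (218, 0), (213, 0)]⟩,
    ⟨2, [1, 0, 3], 12, [(296, 0), (200, 0), (109, 0), (79, 0)]⟩]

def w6_kill9Steps_3 : List (Step) :=
  [⟨4, [2, 1, 3, 2], 3, [(172, 0), (272, 0), (301, 0), (162, 0)]⟩,
    ⟨1, [3, 1, 0, 3, 2], 8, [(75, 0), (96, 0), (235, 0), (135, 0)]⟩,
    ⟨2, [1, 2, 3, 0], 11, [(12, 0), (16, 0), (185, 0), (205, 0)]⟩,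
    ⟨3, [2, 0, 3, 2, 0], 1, [(185, 0), (302, 0), (163, 0), (309, 0)]⟩,
    ⟨4, [1, 0, 2], 6, [(71, 0), (276, 0), (1, 0), (8, 0)]⟩,
    ⟨1, [3, 1, 2, 3, 1], 11, [(59, 0), (55, 0), (146, 0), (84, 0)]⟩,
    ⟨3, [3, 1, 2, 3], 4, [(215, 0), (57, 0), (243, 0), (56, 0)]⟩,
    ⟨2, [2, 0, 3, 2], 4, [(316, 0), (357, 0), (65, 0), (90, 0)]⟩,
    ⟨3, [2, 1], 1, [(219, 0), (40, 0), (12, 0), (228, 0)]⟩,
    ⟨1, [1, 2], 1, [(211, 0), (175, 0), (323, 0), (237, 0)]⟩,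
    ⟨2, [2, 1, 3, 2], 1, [(208, 0), (57, 0), (15, 0), (201, 0)]⟩,
    ⟨3, [0, 2, 2], 3, [(200, 0), (71, 0), (89, 0), (333, 0)]⟩,
    ⟨3, [0, 3, 2, 1], 11, [(148, 0), (110, 0), (222, 0), (357, 0)]⟩,
    ⟨3, [0, 3, 3], 13, [(329, 0), (213, 0), (220, 0), (113, 0)]⟩,
    ⟨3, [0, 2, 2], 11, [(201, 0), (271, 0), (251, 0), (131, 0)]⟩,
    ⟨2, [1, 3, 3, 2], 8, [(11, 0), (63, 0), (131, 0), (2, 0)]⟩,
    ⟨2, [2, 3, 3, 2, 1], 6, [(298, 0), (299, 0), (21, 0), (15, 0)]⟩,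
    ⟨2, [0, 2, 3, 1], 5, [(152, 0), (25, 0), (21, 0), (337, 0)]⟩,
    ⟨3, [2, 3, 3, 2, 1], 1, [(172, 0), (262, 0), (151, 0), (258, 0)]⟩,
    ⟨2, [0, 3, 2, 0], 6, [(214, 0), (247, 0), (213, 0), (178, 0)]⟩]

def w6_kill9Steps_4 : List (Step) :=
  [⟨2, [1, 0, 3], 11, [(278, 0), (202, 0), (214, 0), (190, 0)]⟩,
    ⟨3, [1, 2, 3, 0], 9, [(239, 0), (200, 0), (190, 0), (217, 0)]⟩,
    ⟨2, [2, 0, 3], 13, [(239, 0), (89, 0), (82, 0), (135, 0)]⟩,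
    ⟨2, [2, 3, 3, 2], 1, [(217, 0), (260, 0), (159, 0), (148, 0)]⟩,
    ⟨4, [1, 3], 4, [(211, 0), (42, 0), (81, 0), (43, 0)]⟩,
    ⟨1, [2, 1, 0, 2, 3], 13, [(215, 0), (354, 0), (286, 0), (209, 0)]⟩,
    ⟨4, [1, 3], 9, [(219, 0), (54, 0), (319, 0), (6, 0)]⟩,
    ⟨4, [1, 2, 0, 3], 6, [(308, 0), (84, 0), (99, 0), (262, 0)]⟩,
    ⟨1, [2, 0, 3, 2, 0], 3, [(21, 0), (23, 0), (148, 0), (308, 0)]⟩,
    ⟨2, [3, 1, 0, 2], 1, [(356, 0), (24, 0), (14, 0), (338, 0)]⟩,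
    ⟨1, [2, 3, 0, 2], 7, [(316, 0), (229, 0), (183, 0), (272, 0)]⟩,
    ⟨4, [1, 2, 3, 0], 14, [(278, 0), (238, 0), (196, 0), (261, 0)]⟩,
    ⟨1, [3, 0, 2], 3, [(196, 0), (226, 0), (207, 0), (338, 0)]⟩,
    ⟨4, [0, 2, 2], 7, [(236, 0), (15, 0), (342, 0), (33, 0)]⟩,
    ⟨3, [3, 2, 1], 5, [(113, 0), (300, 0), (187, 0), (277, 0)]⟩,
    ⟨3, [3, 0, 1, 2], 9, [(159, 0), (322, 0), (311, 0), (243, 0)]⟩,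
    ⟨2, [0, 1, 2], 7, [(160, 0), (322, 0), (83, 0), (79, 0)]⟩,
    ⟨1, [0, 3, 3, 2], 1, [(139, 0), (18, 0), (39, 0), (224, 0)]⟩,
    ⟨4, [0, 0, 3, 2], 10, [(0, 0), (208, 0), (9, 0), (113, 0)]⟩,
    ⟨3, [3, 0, 2, 3, 0], 11, [(338, 0), (358, 0), (149, 0), (111, 0)]⟩]

def w6_kill9Steps_5 : List (Step) :=
  [⟨2, [2, 3, 1], 1, [(178, 0), (273, 0), (236, 0), (271, 0)]⟩,
    ⟨3, [3, 2, 0, 3], 9, [(336, 0), (277, 0), (118, 0), (156, 0)]⟩,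
    ⟨4, [2, 3, 0, 2], 9, [(222, 0), (343, 0), (126, 0), (163, 0)]⟩,
    ⟨2, [3, 1, 1, 2], 10, [(170, 0), (38, 0), (157, 0), (36, 0)]⟩,
    ⟨3, [3, 1], 13, [(36, 0), (235, 0), (16, 0), (90, 0)]⟩,
    ⟨4, [1, 2, 3, 1], 0, [(118, 0), (321, 0), (65, 0), (63, 0)]⟩,
    ⟨3, [0, 2, 2, 3], 12, [(142, 0), (1, 0), (164, 0), (4, 0)]⟩,
    ⟨2, [3, 1, 0, 2], 7, [(148, 0), (137, 0), (142, 0), (147, 0)]⟩,
    ⟨4, [3, 0, 0, 2], 8, [(231, 0), (232, 0), (93, 0), (107, 0)]⟩,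
    ⟨4, [1, 3, 3, 2], 14, [(21, 0), (194, 0), (79, 0), (43, 0)]⟩,
    ⟨1, [], 7, [(194, 0), (231, 0), (110, 0), (282, 0)]⟩,
    ⟨1, [2, 0, 3, 2], 7, [(293, 0), (349, 0), (78, 0), (82, 0)]⟩,
    ⟨3, [2, 3, 3, 2], 3, [(288, 0), (267, 0), (309, 0), (292, 0)]⟩,
    ⟨2, [0, 0, 3, 2], 7, [(288, 0), (47, 0), (119, 0), (37, 0)]⟩,
    ⟨1, [1, 2, 2, 3], 3, [(32, 0), (38, 0), (99, 0), (160, 0)]⟩,
    ⟨1, [], 11, [(216, 0), (245, 0), (137, 0), (123, 0)]⟩,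
    ⟨4, [2, 3, 3, 2, 1], 2, [(220, 0), (315, 0), (16, 0), (26, 0)]⟩,
    ⟨3, [3, 2], 12, [(211, 0), (294, 0), (282, 0), (310, 0)]⟩,
    ⟨1, [1, 1, 3], 12, [(59, 0), (238, 0), (16, 0), (359, 0)]⟩,
    ⟨3, [0, 2, 3], 14, [(330, 0), (272, 0), (96, 0), (93, 0)]⟩]

def w6_kill9Steps_6 : List (Step) :=
  [⟨2, [1, 3, 2, 0], 10, [(159, 0), (246, 0), (317, 0), (164, 0)]⟩,
    ⟨2, [2, 3, 0, 2], 5, [(197, 0), (285, 0), (114, 0), (144, 0)]⟩,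
    ⟨3, [0, 3, 3, 2], 0, [(16, 0), (306, 0), (229, 0), (30, 0)]⟩,
    ⟨4, [2, 3, 1], 0, [(287, 0), (165, 0), (359, 0), (245, 0)]⟩,
    ⟨4, [2, 0, 1, 2, 3], 4, [(333, 0), (222, 0), (201, 0), (332, 0)]⟩,
    ⟨2, [0, 3, 3], 14, [(5, 0), (270, 0), (290, 0), (19, 0)]⟩,
    ⟨3, [0, 2, 3, 1], 3, [(86, 0), (307, 0), (281, 0), (95, 0)]⟩,
    ⟨2, [3, 2, 0, 3], 4, [(79, 0), (95, 0), (114, 0), (147, 0)]⟩,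
    ⟨1, [3], 9, [(331, 0), (297, 0), (133, 0), (282, 0)]⟩,
    ⟨3, [0, 2], 1, [(202, 0), (71, 0), (100, 0), (255, 0)]⟩,
    ⟨4, [0, 3, 3, 2], 3, [(146, 0), (279, 0), (256, 0), (291, 0)]⟩,
    ⟨2, [1, 0, 2, 3], 8, [(278, 0), (146, 0), (259, 0), (284, 0)]⟩,
    ⟨3, [0, 3, 2, 1], 8, [(138, 0), (31, 0), (5, 0), (358, 0)]⟩,
    ⟨2, [1, 2, 2], 2, [(204, 0), (138, 0), (224, 0), (227, 0)]⟩,
    ⟨2, [0, 3, 3, 2], 14, [(300, 0), (31, 0), (17, 0), (252, 0)]⟩,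
    ⟨1, [3, 0, 2, 3, 0], 7, [(109, 0), (14, 0), (126, 0), (32, 0)]⟩,
    ⟨3, [2, 0, 1, 2, 3], 11, [(316, 0), (237, 0), (28, 0), (21, 0)]⟩,
    ⟨4, [1, 3, 0, 2], 10, [(295, 0), (84, 0), (312, 0), (93, 0)]⟩,
    ⟨4, [3, 0, 2, 3], 0, [(278, 0), (343, 0), (307, 0), (157, 0)]⟩,
    ⟨1, [3, 0, 2, 3], 2, [(3, 0), (44, 0), (176, 0), (120, 0)]⟩]

def w6_kill9Steps_7 : List (Step) :=
  [⟨4, [3, 0, 1, 3, 2], 4, [(99, 0), (73, 0), (156, 0), (176, 0)]⟩,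
    ⟨2, [2, 3, 3, 2], 8, [(286, 0), (302, 0), (250, 0), (162, 0)]⟩,
    ⟨2, [1, 3, 3, 2], 11, [(268, 0), (192, 0), (296, 0), (293, 0)]⟩,
    ⟨2, [3, 0, 2, 2], 3, [(316, 0), (319, 0), (251, 0), (336, 0)]⟩,
    ⟨2, [1, 2], 4, [(204, 0), (134, 0), (263, 0), (259, 0)]⟩,
    ⟨2, [3, 0, 2, 3, 0], 12, [(19, 0), (318, 0), (38, 0), (96, 0)]⟩,
    ⟨1, [0, 2, 2], 10, [(21, 0), (332, 0), (27, 0), (351, 0)]⟩,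
    ⟨2, [2, 0, 3, 2, 0], 14, [(287, 0), (169, 0), (130, 0), (218, 0)]⟩,
    ⟨4, [1, 1, 3, 2], 14, [(105, 0), (70, 0), (199, 0), (139, 0)]⟩,
    ⟨1, [0, 3, 2], 6, [(268, 0), (209, 0), (9, 0), (37, 0)]⟩,
    ⟨3, [3, 1, 2, 3, 1], 0, [(130, 0), (135, 0), (198, 0), (183, 0)]⟩,
    ⟨4, [1], 0, [(331, 0), (175, 0), (275, 0), (225, 0)]⟩,
    ⟨3, [1, 2, 0, 3], 8, [(355, 0), (292, 0), (172, 0), (298, 0)]⟩,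
    ⟨1, [2, 0, 1, 3], 9, [(317, 0), (290, 0), (260, 0), (348, 0)]⟩,
    ⟨4, [2, 3, 3, 2], 12, [(9, 0), (263, 0), (39, 0), (152, 0)]⟩,
    ⟨3, [2, 3, 3, 2, 0], 0, [(3, 0), (355, 0), (144, 0), (32, 0)]⟩,
    ⟨1, [1], 12, [(37, 0), (112, 0), (7, 0), (337, 0)]⟩,
    ⟨1, [3, 1, 2, 3], 0, [(126, 0), (315, 0), (310, 0), (120, 0)]⟩,
    ⟨4, [1, 2, 0, 3], 14, [(166, 0), (229, 0), (227, 0), (312, 0)]⟩,
    ⟨3, [1, 3], 7, [(34, 0), (111, 0), (24, 0), (74, 0)]⟩]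

def w6_kill9Steps_8 : List (Step) :=
  [⟨3, [2, 3, 3], 13, [(12, 0), (273, 0), (30, 0), (122, 0)]⟩,
    ⟨3, [2, 1, 3], 14, [(22, 0), (120, 0), (150, 0), (56, 0)]⟩,
    ⟨2, [2, 1], 4, [(125, 0), (262, 0), (320, 0), (277, 0)]⟩,
    ⟨2, [2, 1, 3, 2], 2, [(210, 0), (93, 0), (249, 0), (90, 0)]⟩,
    ⟨2, [0, 2], 4, [(151, 0), (18, 0), (119, 0), (19, 0)]⟩,
    ⟨4, [3, 1], 4, [(126, 0), (40, 0), (236, 0), (41, 0)]⟩,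
    ⟨2, [1, 1, 3], 8, [(130, 0), (312, 0), (152, 0), (129, 0)]⟩,
    ⟨3, [3, 0, 2, 2], 5, [(238, 0), (10, 0), (2, 0), (83, 0)]⟩,
    ⟨2, [1, 3, 0, 2], 1, [(264, 0), (28, 0), (9, 0), (165, 0)]⟩,
    ⟨1, [2, 3, 3, 2, 1], 4, [(101, 0), (93, 0), (199, 0), (279, 0)]⟩,
    ⟨4, [2, 3, 1], 9, [(101, 0), (189, 0), (98, 0), (345, 0)]⟩,
    ⟨2, [1, 3, 2, 0], 5, [(249, 0), (13, 0), (19, 0), (218, 0)]⟩,
    ⟨3, [2, 2, 3], 3, [(289, 0), (260, 0), (13, 0), (15, 0)]⟩,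
    ⟨3, [1, 2, 2], 3, [(242, 0), (175, 0), (189, 0), (166, 0)]⟩,
    ⟨2, [3, 2, 0, 3], 2, [(284, 0), (337, 0), (242, 0), (235, 0)]⟩,
    ⟨3, [3, 1, 2, 3, 1], 5, [(178, 0), (107, 0), (163, 0), (106, 0)]⟩,
    ⟨3, [0, 2, 3], 9, [(347, 0), (267, 0), (321, 0), (339, 0)]⟩,
    ⟨2, [3, 0, 2, 2], 8, [(334, 0), (52, 0), (19, 0), (339, 0)]⟩,
    ⟨2, [1, 3, 0, 2], 4, [(294, 0), (146, 0), (207, 0), (290, 0)]⟩,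
    ⟨1, [2, 3, 0, 2], 13, [(74, 0), (227, 0), (159, 0), (96, 0)]⟩]

def w6_kill9Steps_9 : List (Step) :=
  [⟨2, [2, 0, 0, 3], 4, [(187, 0), (193, 0), (116, 0), (298, 0)]⟩,
    ⟨4, [1, 2, 0, 3], 12, [(230, 0), (22, 0), (130, 0), (33, 0)]⟩,
    ⟨2, [2, 1, 1, 3], 1, [(118, 0), (135, 0), (123, 0), (110, 0)]⟩,
    ⟨4, [1, 1, 3, 2], 13, [(276, 0), (267, 0), (285, 0), (271, 0)]⟩,
    ⟨2, [0, 3, 2, 1], 1, [(170, 0), (45, 0), (55, 0), (193, 0)]⟩,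
    ⟨1, [0, 0, 2], 9, [(303, 0), (81, 0), (112, 0), (82, 0)]⟩,
    ⟨4, [1, 2, 2, 3], 1, [(68, 0), (144, 0), (303, 0), (98, 0)]⟩,
    ⟨1, [2, 3, 3], 8, [(68, 0), (102, 0), (241, 0), (159, 0)]⟩,
    ⟨1, [2, 0], 12, [(250, 0), (41, 0), (82, 0), (11, 0)]⟩,
    ⟨2, [2, 1, 3], 3, [(208, 0), (262, 0), (302, 0), (304, 0)]⟩,
    ⟨2, [1, 3, 0, 2], 5, [(102, 0), (16, 0), (14, 0), (135, 0)]⟩,
    ⟨1, [1, 2, 2, 3], 14, [(228, 0), (193, 0), (263, 0), (230, 0)]⟩,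
    ⟨2, [1, 3, 3, 2], 13, [(264, 0), (260, 0), (277, 0), (319, 0)]⟩,
    ⟨3, [0, 2], 5, [(192, 0), (279, 0), (118, 0), (338, 0)]⟩,
    ⟨2, [3, 0, 0, 2], 12, [(45, 0), (102, 0), (34, 0), (180, 0)]⟩,
    ⟨3, [3, 2, 0], 10, [(151, 0), (153, 0), (147, 0), (120, 0)]⟩,
    ⟨2, [2, 1, 0, 2, 3], 1, [(291, 0), (229, 0), (153, 0), (240, 0)]⟩,
    ⟨4, [3, 2, 1], 13, [(162, 0), (42, 0), (146, 0), (22, 0)]⟩,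
    ⟨1, [1, 3, 2, 0], 0, [(45, 0), (90, 0), (273, 0), (9, 0)]⟩,
    ⟨3, [0, 2, 3, 0], 2, [(187, 0), (69, 0), (301, 0), (63, 0)]⟩]

def w6_kill9Steps_10 : List (Step) :=
  [⟨4, [2, 1, 3, 2, 1], 5, [(212, 0), (252, 0), (154, 0), (257, 0)]⟩,
    ⟨1, [], 4, [(214, 0), (232, 0), (155, 0), (257, 0)]⟩,
    ⟨4, [2, 3, 0], 5, [(259, 0), (1, 0), (17, 0), (286, 0)]⟩,
    ⟨2, [0, 2, 2, 3], 3, [(105, 0), (258, 0), (250, 0), (98, 0)]⟩,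
    ⟨4, [1, 1, 3, 2], 12, [(62, 0), (84, 0), (281, 0), (266, 0)]⟩,
    ⟨1, [0, 2, 2], 6, [(62, 0), (331, 0), (210, 0), (100, 0)]⟩,
    ⟨4, [3, 1, 2, 2], 9, [(211, 0), (309, 0), (265, 0), (249, 0)]⟩,
    ⟨1, [2, 3, 3], 6, [(192, 0), (144, 0), (148, 0), (162, 0)]⟩,
    ⟨2, [0, 3, 2, 1], 7, [(123, 0), (159, 0), (238, 0), (313, 0)]⟩,
    ⟨4, [3, 1, 2, 3, 1], 4, [(287, 0), (338, 0), (292, 0), (295, 0)]⟩,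
    ⟨1, [0, 3, 3], 2, [(70, 0), (297, 0), (73, 0), (116, 0)]⟩,
    ⟨3, [0, 3, 3], 11, [(347, 0), (103, 0), (252, 0), (96, 0)]⟩,
    ⟨2, [3, 3], 3, [(214, 0), (103, 0), (45, 0), (46, 0)]⟩,
    ⟨3, [1, 1, 3], 4, [(47, 0), (334, 0), (46, 0), (240, 0)]⟩,
    ⟨2, [2, 1, 3, 2], 7, [(182, 0), (255, 0), (265, 0), (254, 0)]⟩,
    ⟨3, [2, 2], 11, [(286, 0), (181, 0), (254, 0), (112, 0)]⟩,
    ⟨2, [1, 1, 3], 7, [(225, 0), (52, 0), (271, 0), (18, 0)]⟩,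
    ⟨4, [2, 0, 3, 2], 0, [(84, 0), (10, 0), (15, 0), (162, 0)]⟩,
    ⟨3, [1, 2, 3, 1], 5, [(169, 0), (270, 0), (301, 0), (140, 0)]⟩,
    ⟨2, [0, 0, 3], 1, [(296, 0), (343, 0), (140, 0), (249, 0)]⟩]

def w6_kill9Steps_11 : List (Step) :=
  [⟨3, [0, 1, 3], 10, [(126, 0), (211, 0), (216, 0), (214, 0)]⟩,
    ⟨2, [3, 0], 12, [(305, 0), (279, 0), (158, 0), (114, 0)]⟩,
    ⟨4, [0, 3], 6, [(266, 0), (243, 0), (191, 0), (165, 0)]⟩,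
    ⟨4, [0, 1, 2], 2, [(155, 0), (159, 0), (263, 0), (320, 0)]⟩,
    ⟨2, [2, 1, 1, 3], 12, [(268, 0), (12, 0), (278, 0), (21, 0)]⟩,
    ⟨1, [0, 0, 3, 2], 11, [(330, 0), (233, 0), (234, 0), (321, 0)]⟩,
    ⟨4, [2, 0], 10, [(304, 0), (6, 0), (234, 0), (4, 0)]⟩,
    ⟨2, [2, 2, 3], 9, [(354, 0), (69, 0), (152, 0), (66, 0)]⟩,
    ⟨2, [2, 3, 3, 2], 2, [(109, 0), (328, 0), (106, 0), (198, 0)]⟩,
    ⟨3, [3, 3, 2], 5, [(289, 0), (328, 0), (120, 0), (307, 0)]⟩,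
    ⟨2, [0, 0, 2], 7, [(304, 0), (356, 0), (129, 0), (158, 0)]⟩,
    ⟨2, [3, 1, 0, 3, 2], 9, [(304, 0), (48, 0), (199, 0), (12, 0)]⟩,
    ⟨3, [2, 3, 3], 14, [(143, 0), (156, 0), (85, 0), (86, 0)]⟩,
    ⟨2, [3, 0, 2, 3], 5, [(316, 0), (355, 0), (310, 0), (143, 0)]⟩,
    ⟨4, [1, 2, 2], 1, [(331, 0), (347, 0), (349, 0), (333, 0)]⟩,
    ⟨1, [1, 2, 0, 3], 1, [(294, 0), (105, 0), (92, 0), (299, 0)]⟩,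
    ⟨1, [3, 2, 2], 12, [(204, 0), (264, 0), (174, 0), (133, 0)]⟩,
    ⟨4, [2, 3, 3, 2, 0], 4, [(296, 0), (226, 0), (235, 0), (213, 0)]⟩,
    ⟨3, [3, 0], 3, [(48, 0), (44, 0), (252, 0), (216, 0)]⟩,
    ⟨3, [3, 2, 0], 5, [(284, 0), (302, 0), (321, 0), (354, 0)]⟩]

def w6_kill9Steps_12 : List (Step) :=
  [⟨3, [1, 1, 2], 13, [(356, 0), (300, 0), (280, 0), (332, 0)]⟩,
    ⟨2, [2, 3, 3, 2, 0], 14, [(280, 0), (33, 0), (4, 0), (269, 0)]⟩,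
    ⟨4, [2, 1, 3], 12, [(118, 0), (166, 0), (285, 0), (269, 0)]⟩,
    ⟨4, [], 2, [(205, 0), (318, 0), (145, 0), (133, 0)]⟩,
    ⟨1, [3, 3], 9, [(215, 0), (225, 0), (110, 0), (145, 0)]⟩,
    ⟨4, [1], 13, [(158, 0), (17, 0), (284, 0), (27, 0)]⟩,
    ⟨2, [2, 0, 3, 2, 0], 8, [(300, 0), (260, 0), (149, 0), (272, 0)]⟩,
    ⟨1, [1, 1, 2], 14, [(23, 0), (181, 0), (340, 0), (41, 0)]⟩,
    ⟨4, [0, 1, 2, 3], 7, [(276, 0), (294, 0), (340, 0), (263, 0)]⟩,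
    ⟨2, [1, 3, 3], 14, [(266, 0), (187, 0), (293, 0), (259, 0)]⟩,
    ⟨2, [3, 0, 2], 11, [(295, 0), (294, 0), (213, 0), (180, 0)]⟩,
    ⟨4, [3, 0, 2, 2], 13, [(192, 0), (154, 0), (170, 0), (120, 0)]⟩,
    ⟨1, [3, 0, 2, 3], 7, [(221, 0), (208, 0), (114, 0), (178, 0)]⟩,
    ⟨4, [3, 3, 2], 2, [(221, 0), (233, 0), (157, 0), (310, 0)]⟩]

def w6_kill9Steps : List (Step) :=
  w6_kill9Steps_0 ++ w6_kill9Steps_1 ++ w6_kill9Steps_2 ++ w6_kill9Steps_3 ++ w6_kill9Steps_4 ++ w6_kill9Steps_5 ++ w6_kill9Steps_6 ++ w6_kill9Steps_7 ++ w6_kill9Steps_8 ++ w6_kill9Steps_9 ++ w6_kill9Steps_10 ++ w6_kill9Steps_11 ++ w6_kill9Steps_12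

def w6_kill9Used : List ℕ := [0, 3, 4, 13, 16, 17, 22, 23, 25, 26, 55, 57, 90, 92, 106]

def w6_kill9Ks : List ℕ := [0, 329, 205, 62, 214, 268, 187, 194, 354, 247, 190, 216, 203, 79, 352]

def v1_opE1_0 : List (ℕ × ℕ) :=
  [(2, 1),
    (2, 6),
    (2, 12),
    (2, 13),
    (3, 14),
    (2, 15),
    (3, 16),
    (3, 24),
    (2, 25),
    (2, 3),
    (3, 8),
    (3, 26),
    (2, 27),
    (2, 28),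
    (3, 29),
    (2, 2),
    (2, 30),
    (2, 31),
    (2, 32),
    (3, 33),
    (2, 5),
    (2, 34),
    (2, 9),
    (2, 10),
    (2, 35),
    (3, 36),
    (3, 37),
    (3, 38),
    (3, 4),
    (3, 39),
    (3, 11),
    (3, 40),
    (3, 41),
    (2, 7),
    (2, 42)]

def v1_opE1 : List (ℕ × ℕ) :=
  v1_opE1_0

def v1_opNA1_0 : List (ℕ × ℕ) :=
  [(1, 0),
    (1, 2),
    (1, 3),
    (1, 4),
    (1, 1),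
    (1, 5),
    (1, 6),
    (1, 7),
    (1, 8),
    (1, 9),
    (1, 10),
    (1, 11)]

def v1_opNA1 : List (ℕ × ℕ) :=
  v1_opNA1_0

def v1_g0 : List (ℕ × ℕ) := [(1, 1)]

def v1_g1 : List (ℕ × ℕ) := [(1, 2)]

def v1T_0 : List (List ℕ × List ℕ) :=
  [([], [0, 1, 2, 3, 4, 5, 6, 7, 8, 9]),
    ([0], [1, 2, 0, 3, 4, 5, 6, 7, 8, 9]),
    ([2, 1, 1, 0, 0, 2, 1, 1, 0, 2, 1, 1, 0, 2, 1, 1, 0, 2, 1, 1, 0], [0, 2, 3, 1, 4, 5, 6, 7, 8, 9]),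
    ([2, 1, 1, 0, 2, 1, 1, 0, 2, 1, 1, 0, 0, 2, 1, 1, 0], [0, 3, 1, 2, 4, 5, 6, 7, 8, 9]),
    ([2, 1, 1, 0, 2, 1, 1, 0, 2, 1, 1, 0, 0, 2, 1, 1, 0, 0, 0], [1, 0, 3, 2, 4, 5, 6, 7, 8, 9]),
    ([0, 2, 1, 1, 0, 2, 1, 1, 0, 2, 1, 1, 0, 0, 2, 1, 1, 0], [1, 3, 2, 0, 4, 5, 6, 7, 8, 9]),
    ([0, 0], [2, 0, 1, 3, 4, 5, 6, 7, 8, 9]),
    ([0, 2, 1, 1, 0, 2, 1, 1, 0, 2, 1, 1, 0, 0, 2, 1, 1, 0, 0, 0], [2, 1, 3, 0, 4, 5, 6, 7, 8, 9]),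
    ([2, 1, 1, 0, 2, 1, 1, 0, 0, 0, 2, 1, 1, 0], [2, 3, 0, 1, 4, 5, 6, 7, 8, 9]),
    ([2, 1, 1, 0, 2, 1, 1, 0, 0, 0, 2, 1, 1, 0, 0], [3, 0, 2, 1, 4, 5, 6, 7, 8, 9]),
    ([2, 1, 1, 0, 2, 1, 1, 0, 2, 1, 1, 0, 0, 2, 1, 1, 0, 0], [3, 1, 0, 2, 4, 5, 6, 7, 8, 9]),
    ([0, 2, 1, 1, 0, 2, 1, 1, 0, 2, 1, 1, 0, 0, 2, 1, 1, 0, 0], [3, 2, 1, 0, 4, 5, 6, 7, 8, 9]),
    ([0, 0, 2, 1, 1, 0], [0, 1, 3, 4, 2, 5, 6, 7, 8, 9]),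
    ([0, 2, 1, 1, 0, 0], [0, 3, 2, 4, 1, 5, 6, 7, 8, 9]),
    ([0, 2, 1, 1, 0, 2, 1, 1, 0], [0, 3, 4, 1, 2, 5, 6, 7, 8, 9]),
    ([2, 1, 1, 0, 0, 0], [3, 1, 2, 4, 0, 5, 6, 7, 8, 9]),
    ([2, 1, 1, 0, 0, 2, 1, 1, 0], [3, 1, 4, 0, 2, 5, 6, 7, 8, 9]),
    ([0, 2, 1, 1, 0], [2, 0, 3, 4, 1, 5, 6, 7, 8, 9]),
    ([2, 1, 1, 0, 2, 1, 1, 0, 0, 2, 1, 1, 0], [4, 2, 0, 1, 3, 5, 6, 7, 8, 9]),
    ([2, 1, 1, 0, 2, 1, 1, 0], [2, 3, 4, 0, 1, 5, 6, 7, 8, 9]),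
    ([2, 1, 1, 0, 0, 2, 1, 1, 0, 2, 1, 1, 0], [1, 4, 0, 2, 3, 5, 6, 7, 8, 9]),
    ([2, 1, 1, 0, 0], [2, 3, 1, 4, 0, 5, 6, 7, 8, 9]),
    ([2, 1, 1, 0, 0, 0, 2, 1, 1, 0], [1, 2, 4, 0, 3, 5, 6, 7, 8, 9]),
    ([2, 1, 1, 0], [1, 2, 3, 4, 0, 5, 6, 7, 8, 9]),
    ([2, 1, 1, 0, 2, 1, 1, 0, 0], [3, 4, 2, 0, 1, 5, 6, 7, 8, 9]),
    ([2, 1, 1, 0, 2, 1, 1, 0, 2, 1, 1, 0, 2, 1, 1, 0, 0], [0, 1, 4, 2, 3, 5, 6, 7, 8, 9]),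
    ([2, 1, 1, 0, 0, 0, 2, 1, 1, 0, 2, 1, 1, 0], [2, 4, 0, 3, 1, 5, 6, 7, 8, 9]),
    ([2, 1, 1, 0, 0, 2, 1, 1, 0, 2, 1, 1, 0, 2, 1, 1, 0], [4, 0, 2, 3, 1, 5, 6, 7, 8, 9]),
    ([0, 2, 1, 1, 0, 2, 1, 1, 0, 2, 1, 1, 0, 2, 1, 1, 0], [4, 1, 2, 0, 3, 5, 6, 7, 8, 9]),
    ([0, 2, 1, 1, 0, 2, 1, 1, 0, 2, 1, 1, 0, 0], [4, 1, 3, 2, 0, 5, 6, 7, 8, 9]),
    ([2, 1, 1, 0, 0, 2, 1, 1, 0, 2, 1, 1, 0, 2, 1, 1, 0, 0], [0, 2, 4, 3, 1, 5, 6, 7, 8, 9]),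
    ([2, 1, 1, 0, 2, 1, 1, 0, 0, 2, 1, 1, 0, 0, 2, 1, 1, 0], [0, 4, 1, 3, 2, 5, 6, 7, 8, 9]),
    ([2, 1, 1, 0, 2, 1, 1, 0, 0, 2, 1, 1, 0, 0, 0], [0, 4, 2, 1, 3, 5, 6, 7, 8, 9]),
    ([0, 0, 2, 1, 1, 0, 0, 2, 1, 1, 0, 0], [0, 4, 3, 2, 1, 5, 6, 7, 8, 9]),
    ([2, 1, 1, 0, 2, 1, 1, 0, 2, 1, 1, 0, 2, 1, 1, 0, 0, 2, 1, 1, 0], [1, 4, 2, 3, 0, 5, 6, 7, 8, 9]),
    ([2, 1, 1, 0, 0, 0, 2, 1, 1, 0, 0, 2, 1, 1, 0], [4, 1, 0, 3, 2, 5, 6, 7, 8, 9]),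
    ([0, 2, 1, 1, 0, 0, 2, 1, 1, 0, 0, 0], [4, 3, 2, 1, 0, 5, 6, 7, 8, 9]),
    ([2, 1, 1, 0, 2, 1, 1, 0, 0, 0, 2, 1, 1, 0, 0, 2, 1, 1, 0], [0, 2, 1, 4, 3, 5, 6, 7, 8, 9]),
    ([2, 1, 1, 0, 2, 1, 1, 0, 2, 1, 1, 0, 0, 2, 1, 1, 0, 0, 2, 1, 1, 0], [1, 0, 2, 4, 3, 5, 6, 7, 8, 9]),
    ([2, 1, 1, 0, 0, 0, 2, 1, 1, 0, 0, 2, 1, 1, 0, 0], [1, 0, 4, 3, 2, 5, 6, 7, 8, 9])]

def v1T_1 : List (List ℕ × List ℕ) :=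
  [([2, 1, 1, 0, 2, 1, 1, 0, 2, 1, 1, 0, 2, 1, 1, 0, 0, 2, 1, 1, 0, 0], [4, 2, 1, 3, 0, 5, 6, 7, 8, 9]),
    ([2, 1, 1, 0, 2, 1, 1, 0, 0, 0, 2, 1, 1, 0, 0, 2, 1, 1, 0, 0], [2, 1, 0, 4, 3, 5, 6, 7, 8, 9]),
    ([2, 1, 1, 0, 2, 1, 1, 0, 2, 1, 1, 0, 2, 1, 1, 0, 0, 2, 1, 1, 0, 0, 0], [2, 1, 4, 3, 0, 5, 6, 7, 8, 9])]

def v1T : List (List ℕ × List ℕ) :=
  v1T_0 ++ v1T_1

def v1Texps_0 : List (List ℕ) :=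
  [[],
    [0],
    [1, 0, 1, 1, 1, 1],
    [1, 1, 1, 0, 1],
    [1, 1, 1, 0, 1, 0, 0],
    [0, 1, 1, 1, 0, 1],
    [0, 0],
    [0, 1, 1, 1, 0, 1, 0, 0],
    [1, 1, 0, 0, 1],
    [1, 1, 0, 0, 1, 0],
    [1, 1, 1, 0, 1, 0],
    [0, 1, 1, 1, 0, 1, 0],
    [0, 0, 1],
    [0, 1, 0],
    [0, 1, 1],
    [1, 0, 0],
    [1, 0, 1],
    [0, 1],
    [1, 1, 0, 1],
    [1, 1],
    [1, 0, 1, 1],
    [1, 0],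
    [1, 0, 0, 1],
    [1],
    [1, 1, 0],
    [1, 1, 1, 1, 0],
    [1, 0, 0, 1, 1],
    [1, 0, 1, 1, 1],
    [0, 1, 1, 1, 1],
    [0, 1, 1, 1, 0],
    [1, 0, 1, 1, 1, 0],
    [1, 1, 0, 1, 0, 1],
    [1, 1, 0, 1, 0, 0],
    [0, 0, 1, 0, 1, 0],
    [1, 1, 1, 1, 0, 1],
    [1, 0, 0, 1, 0, 1],
    [0, 1, 0, 1, 0, 0],
    [1, 1, 0, 0, 1, 0, 1],
    [1, 1, 1, 0, 1, 0, 1],
    [1, 0, 0, 1, 0, 1, 0]]

def v1Texps_1 : List (List ℕ) :=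
  [[1, 1, 1, 1, 0, 1, 0],
    [1, 1, 0, 0, 1, 0, 1, 0],
    [1, 1, 1, 1, 0, 1, 0, 0]]

def v1Texps : List (List ℕ) :=
  v1Texps_0 ++ v1Texps_1

def v1S_0 : List (List ℕ × List ℕ) :=
  [([], [0, 1, 2, 3, 4, 5, 6, 7, 8, 9]),
    ([0, 1, 1, 0], [1, 0, 3, 2, 4, 5, 6, 7, 8, 9]),
    ([0, 1], [2, 3, 0, 1, 4, 5, 6, 7, 8, 9]),
    ([0, 1, 0, 1, 1, 0], [3, 2, 1, 0, 4, 5, 6, 7, 8, 9])]

def v1S : List (List ℕ × List ℕ) :=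
  v1S_0

def v1Sexps_0 : List (List ℕ) :=
  [[],
    [0],
    [1],
    [1, 0]]

def v1Sexps : List (List ℕ) :=
  v1Sexps_0

def v1Ctx : Ctx := ⟨10, gi, v1T, v1T, v1S, [1, 1, 1, 1]⟩

def v1_nafix0Dest_0 : List (ℕ × ℕ) :=
  [(1, 0),
    (0, 1),
    (6, 2),
    (1, 1),
    (6, 0),
    (0, 2),
    (0, 0),
    (6, 1),
    (1, 2),
    (6, 3),
    (0, 3),
    (1, 3),
    (0, 0),
    (6, 1),
    (1, 2),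
    (0, 1),
    (1, 0),
    (6, 2),
    (6, 0),
    (1, 1),
    (0, 2),
    (1, 3),
    (6, 3),
    (0, 3)]

def v1_nafix0Dest : List (ℕ × ℕ) :=
  v1_nafix0Dest_0

def v1_nafix1Dest_0 : List (ℕ × ℕ) :=
  [(6, 1),
    (1, 2),
    (0, 0),
    (6, 0),
    (0, 2),
    (1, 1),
    (1, 3),
    (0, 3),
    (6, 3),
    (0, 1),
    (1, 0),
    (6, 2),
    (0, 0),
    (6, 1),
    (1, 2),
    (0, 1),
    (1, 0),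
    (6, 2),
    (6, 0),
    (1, 1),
    (0, 2),
    (1, 3),
    (6, 3),
    (0, 3)]

def v1_nafix1Dest : List (ℕ × ℕ) :=
  v1_nafix1Dest_0

def v1_killDest_0 : List (ℕ × ℕ) :=
  [(0, 0)]

def v1_killDest : List (ℕ × ℕ) :=
  v1_killDest_0

def v1_killSteps_0 : List (Step) :=
  [⟨4, [], 1, [(1, 0), (6, 0), (12, 0), (13, 0), (14, 0), (15, 0), (16, 0), (17, 2), (18, 2), (1, 2), (0, 2), (13, 2), (19, 2), (20, 1), (21, 3), (6, 1), (17, 1), (16, 3), (22, 3), (19, 3), (6, 2), (21, 2), (1, 3), (6, 3), (14, 2), (23, 3), (20, 2), (18, 3), (0, 1), (12, 1), (0, 3), (15, 3), (22, 1), (1, 1), (23, 1)]⟩,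
    ⟨2, [], 0, [(0, 0), (6, 1), (1, 2), (0, 1), (1, 0), (6, 2), (6, 0), (1, 1), (0, 2), (1, 3), (6, 3), (0, 3)]⟩]

def v1_killSteps : List (Step) :=
  v1_killSteps_0

def v1_killUsed : List ℕ := [0, 15]

def v1_killKs : List ℕ := [0, 0]

def v2_opE2_0 : List (ℕ × ℕ) :=
  [(2, 12),
    (2, 13),
    (2, 2),
    (2, 7),
    (3, 8),
    (2, 14),
    (3, 15),
    (3, 16),
    (2, 3),
    (2, 6),
    (3, 24),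
    (3, 25),
    (2, 26),
    (2, 27),
    (3, 28),
    (2, 1),
    (2, 5),
    (2, 9),
    (2, 10),
    (3, 11),
    (2, 29),
    (2, 30),
    (2, 31),
    (2, 32),
    (2, 33),
    (3, 34),
    (3, 4),
    (3, 35),
    (3, 36),
    (3, 37),
    (3, 38),
    (3, 39),
    (3, 40),
    (2, 41),
    (2, 42)]

def v2_opE2 : List (ℕ × ℕ) :=
  v2_opE2_0

def v2_opNA2_0 : List (ℕ × ℕ) :=
  [(1, 0),
    (1, 2),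
    (1, 3),
    (1, 4),
    (1, 1),
    (1, 5),
    (1, 6),
    (1, 7),
    (1, 8),
    (1, 9),
    (1, 10),
    (1, 11)]

def v2_opNA2 : List (ℕ × ℕ) :=
  v2_opNA2_0

def v2_g0 : List (ℕ × ℕ) := [(1, 1)]

def v2_g1 : List (ℕ × ℕ) := [(1, 2)]

def v2T_0 : List (List ℕ × List ℕ) :=
  [([], [0, 1, 2, 3, 4, 5, 6, 7, 8, 9]),
    ([3, 5, 7, 4, 6, 3, 5, 5, 3, 4, 5, 3, 3, 5, 7, 4, 6, 3, 5, 3, 5, 7, 4, 6, 3, 5, 3, 5, 7, 4, 6, 3, 5, 3, 5, 7, 4, 6, 3, 5], [0, 1, 2, 3, 4, 5, 7, 8, 6, 9]),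
    ([5, 3, 4, 5, 3, 5, 3, 4, 5, 3, 3, 5, 7, 4, 6, 3, 5], [0, 1, 2, 3, 4, 5, 6, 8, 9, 7]),
    ([3, 5, 7, 4, 6, 3, 5, 3, 5, 7, 4, 6, 3, 5, 3, 5, 7, 4, 6, 3, 5, 3, 5, 7, 4, 6, 3, 5, 5, 3, 4, 5, 3], [0, 1, 2, 3, 4, 5, 6, 9, 7, 8]),
    ([3, 5, 7, 4, 6, 3, 5, 3, 5, 7, 4, 6, 3, 5, 5, 3, 4, 5, 3, 5, 3, 4, 5, 3, 3, 5, 7, 4, 6, 3, 5, 5, 3, 4, 5, 3, 3, 5, 7, 4, 6, 3, 5], [0, 1, 2, 3, 4, 5, 7, 6, 9, 8]),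
    ([3, 5, 7, 4, 6, 3, 5, 5, 3, 4, 5, 3, 3, 5, 7, 4, 6, 3, 5, 3, 5, 7, 4, 6, 3, 5, 3, 5, 7, 4, 6, 3, 5, 5, 3, 4, 5, 3], [0, 1, 2, 3, 4, 5, 7, 9, 8, 6]),
    ([3, 5, 7, 4, 6, 3, 5, 3, 5, 7, 4, 6, 3, 5, 3, 5, 7, 4, 6, 3, 5, 5, 3, 4, 5, 3, 3, 5, 7, 4, 6, 3, 5], [0, 1, 2, 3, 4, 5, 8, 6, 7, 9]),
    ([5, 3, 4, 5, 3, 3, 5, 7, 4, 6, 3, 5, 5, 3, 4, 5, 3], [0, 1, 2, 3, 4, 5, 8, 7, 9, 6]),
    ([5, 3, 4, 5, 3, 3, 5, 7, 4, 6, 3, 5, 3, 5, 7, 4, 6, 3, 5], [0, 1, 2, 3, 4, 5, 8, 9, 6, 7]),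
    ([3, 5, 7, 4, 6, 3, 5, 3, 5, 7, 4, 6, 3, 5, 5, 3, 4, 5, 3, 3, 5, 7, 4, 6, 3, 5, 5, 3, 4, 5, 3, 3, 5, 7, 4, 6, 3, 5], [0, 1, 2, 3, 4, 5, 9, 6, 8, 7]),
    ([3, 5, 7, 4, 6, 3, 5, 3, 5, 7, 4, 6, 3, 5, 5, 3, 4, 5, 3, 3, 5, 7, 4, 6, 3, 5, 5, 3, 4, 5, 3, 5, 3, 4, 5, 3], [0, 1, 2, 3, 4, 5, 9, 7, 6, 8]),
    ([5, 3, 4, 5, 3, 5, 3, 4, 5, 3, 3, 5, 7, 4, 6, 3, 5, 5, 3, 4, 5, 3, 3, 5, 7, 4, 6, 3, 5, 5, 3, 4, 5, 3], [0, 1, 2, 3, 4, 5, 9, 8, 7, 6]),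
    ([5, 3, 4, 5, 3], [0, 1, 2, 3, 4, 6, 7, 5, 8, 9]),
    ([5, 3, 4, 5, 3, 5, 3, 4, 5, 3], [0, 1, 2, 3, 4, 7, 5, 6, 8, 9]),
    ([3, 5, 7, 4, 6, 3, 5, 5, 3, 4, 5, 3, 5, 3, 4, 5, 3], [0, 1, 2, 3, 4, 8, 6, 7, 9, 5]),
    ([3, 5, 7, 4, 6, 3, 5, 5, 3, 4, 5, 3, 3, 5, 7, 4, 6, 3, 5], [0, 1, 2, 3, 4, 8, 6, 9, 5, 7]),
    ([3, 5, 7, 4, 6, 3, 5, 3, 5, 7, 4, 6, 3, 5, 5, 3, 4, 5, 3], [0, 1, 2, 3, 4, 8, 9, 7, 5, 6]),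
    ([5, 3, 4, 5, 3, 3, 5, 7, 4, 6, 3, 5], [0, 1, 2, 3, 4, 7, 5, 8, 9, 6]),
    ([3, 5, 7, 4, 6, 3, 5, 5, 3, 4, 5, 3], [0, 1, 2, 3, 4, 7, 8, 6, 9, 5]),
    ([3, 5, 7, 4, 6, 3, 5, 3, 5, 7, 4, 6, 3, 5, 5, 3, 4, 5, 3, 3, 5, 7, 4, 6, 3, 5], [0, 1, 2, 3, 4, 9, 7, 5, 6, 8]),
    ([3, 5, 7, 4, 6, 3, 5, 3, 5, 7, 4, 6, 3, 5, 3, 5, 7, 4, 6, 3, 5, 5, 3, 4, 5, 3], [0, 1, 2, 3, 4, 9, 5, 8, 6, 7]),
    ([3, 5, 7, 4, 6, 3, 5], [0, 1, 2, 3, 4, 6, 7, 8, 9, 5]),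
    ([3, 5, 7, 4, 6, 3, 5, 5, 3, 4, 5, 3, 5, 3, 4, 5, 3, 3, 5, 7, 4, 6, 3, 5], [0, 1, 2, 3, 4, 6, 7, 9, 5, 8]),
    ([3, 5, 7, 4, 6, 3, 5, 3, 5, 7, 4, 6, 3, 5, 3, 5, 7, 4, 6, 3, 5, 3, 5, 7, 4, 6, 3, 5], [0, 1, 2, 3, 4, 9, 5, 6, 7, 8]),
    ([3, 5, 7, 4, 6, 3, 5, 3, 5, 7, 4, 6, 3, 5, 5, 3, 4, 5, 3, 5, 3, 4, 5, 3, 3, 5, 7, 4, 6, 3, 5], [0, 1, 2, 3, 4, 7, 8, 5, 6, 9]),
    ([3, 5, 7, 4, 6, 3, 5, 5, 3, 4, 5, 3, 5, 3, 4, 5, 3, 3, 5, 7, 4, 6, 3, 5, 3, 5, 7, 4, 6, 3, 5], [0, 1, 2, 3, 4, 7, 9, 5, 8, 6]),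
    ([3, 5, 7, 4, 6, 3, 5, 5, 3, 4, 5, 3, 3, 5, 7, 4, 6, 3, 5, 3, 5, 7, 4, 6, 3, 5, 3, 5, 7, 4, 6, 3, 5], [0, 1, 2, 3, 4, 9, 5, 7, 8, 6]),
    ([5, 3, 4, 5, 3, 3, 5, 7, 4, 6, 3, 5, 3, 5, 7, 4, 6, 3, 5, 3, 5, 7, 4, 6, 3, 5, 3, 5, 7, 4, 6, 3, 5], [0, 1, 2, 3, 4, 9, 6, 7, 5, 8]),
    ([5, 3, 4, 5, 3, 3, 5, 7, 4, 6, 3, 5, 3, 5, 7, 4, 6, 3, 5, 3, 5, 7, 4, 6, 3, 5, 5, 3, 4, 5, 3], [0, 1, 2, 3, 4, 9, 6, 8, 7, 5]),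
    ([5, 3, 4, 5, 3, 3, 5, 7, 4, 6, 3, 5, 3, 5, 7, 4, 6, 3, 5, 3, 5, 7, 4, 6, 3, 5, 5, 3, 4, 5, 3, 3, 5, 7, 4, 6, 3, 5], [0, 1, 2, 3, 4, 6, 8, 7, 5, 9]),
    ([3, 5, 7, 4, 6, 3, 5, 3, 5, 7, 4, 6, 3, 5, 3, 5, 7, 4, 6, 3, 5, 3, 5, 7, 4, 6, 3, 5, 5, 3, 4, 5, 3, 3, 5, 7, 4, 6, 3, 5], [0, 1, 2, 3, 4, 6, 9, 7, 8, 5]),
    ([3, 5, 7, 4, 6, 3, 5, 3, 5, 7, 4, 6, 3, 5, 5, 3, 4, 5, 3, 5, 3, 4, 5, 3, 3, 5, 7, 4, 6, 3, 5, 5, 3, 4, 5, 3], [0, 1, 2, 3, 4, 8, 5, 7, 6, 9]),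
    ([3, 5, 7, 4, 6, 3, 5, 3, 5, 7, 4, 6, 3, 5, 3, 5, 7, 4, 6, 3, 5, 5, 3, 4, 5, 3, 3, 5, 7, 4, 6, 3, 5, 5, 3, 4, 5, 3], [0, 1, 2, 3, 4, 8, 6, 5, 7, 9]),
    ([3, 5, 7, 4, 6, 3, 5, 5, 3, 4, 5, 3, 5, 3, 4, 5, 3, 3, 5, 7, 4, 6, 3, 5, 5, 3, 4, 5, 3, 3, 5, 7, 4, 6, 3, 5], [0, 1, 2, 3, 4, 9, 6, 5, 8, 7]),
    ([5, 3, 4, 5, 3, 3, 5, 7, 4, 6, 3, 5, 5, 3, 4, 5, 3, 3, 5, 7, 4, 6, 3, 5, 5, 3, 4, 5, 3, 5, 3, 4, 5, 3], [0, 1, 2, 3, 4, 9, 8, 7, 6, 5]),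
    ([3, 5, 7, 4, 6, 3, 5, 3, 5, 7, 4, 6, 3, 5, 3, 5, 7, 4, 6, 3, 5, 5, 3, 4, 5, 3, 3, 5, 7, 4, 6, 3, 5, 5, 3, 4, 5, 3, 3, 5, 7, 4, 6, 3, 5], [0, 1, 2, 3, 4, 6, 5, 7, 9, 8]),
    ([3, 5, 7, 4, 6, 3, 5, 3, 5, 7, 4, 6, 3, 5, 3, 5, 7, 4, 6, 3, 5, 5, 3, 4, 5, 3, 3, 5, 7, 4, 6, 3, 5, 5, 3, 4, 5, 3, 5, 3, 4, 5, 3], [0, 1, 2, 3, 4, 6, 5, 8, 7, 9]),
    ([3, 5, 7, 4, 6, 3, 5, 5, 3, 4, 5, 3, 5, 3, 4, 5, 3, 3, 5, 7, 4, 6, 3, 5, 5, 3, 4, 5, 3, 3, 5, 7, 4, 6, 3, 5, 5, 3, 4, 5, 3], [0, 1, 2, 3, 4, 6, 5, 9, 8, 7]),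
    ([5, 3, 4, 5, 3, 3, 5, 7, 4, 6, 3, 5, 3, 5, 7, 4, 6, 3, 5, 3, 5, 7, 4, 6, 3, 5, 5, 3, 4, 5, 3, 3, 5, 7, 4, 6, 3, 5, 5, 3, 4, 5, 3], [0, 1, 2, 3, 4, 8, 7, 6, 5, 9]),
    ([3, 5, 7, 4, 6, 3, 5, 3, 5, 7, 4, 6, 3, 5, 3, 5, 7, 4, 6, 3, 5, 3, 5, 7, 4, 6, 3, 5, 5, 3, 4, 5, 3, 3, 5, 7, 4, 6, 3, 5, 5, 3, 4, 5, 3], [0, 1, 2, 3, 4, 9, 7, 6, 8, 5])]

def v2T_1 : List (List ℕ × List ℕ) :=
  [([3, 5, 7, 4, 6, 3, 5, 3, 5, 7, 4, 6, 3, 5, 5, 3, 4, 5, 3, 5, 3, 4, 5, 3, 3, 5, 7, 4, 6, 3, 5, 5, 3, 4, 5, 3, 3, 5, 7, 4, 6, 3, 5, 5, 3, 4, 5, 3], [0, 1, 2, 3, 4, 7, 6, 5, 9, 8]),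
    ([5, 3, 4, 5, 3, 3, 5, 7, 4, 6, 3, 5, 3, 5, 7, 4, 6, 3, 5, 3, 5, 7, 4, 6, 3, 5, 5, 3, 4, 5, 3, 3, 5, 7, 4, 6, 3, 5, 5, 3, 4, 5, 3, 5, 3, 4, 5, 3], [0, 1, 2, 3, 4, 7, 6, 8, 5, 9]),
    ([3, 5, 7, 4, 6, 3, 5, 3, 5, 7, 4, 6, 3, 5, 3, 5, 7, 4, 6, 3, 5, 3, 5, 7, 4, 6, 3, 5, 5, 3, 4, 5, 3, 3, 5, 7, 4, 6, 3, 5, 5, 3, 4, 5, 3, 5, 3, 4, 5, 3], [0, 1, 2, 3, 4, 7, 6, 9, 8, 5])]

def v2T : List (List ℕ × List ℕ) :=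
  v2T_0 ++ v2T_1

def v2Texps_0 : List (List ℕ) :=
  [[],
    [1, 0, 1, 1, 1, 1],
    [0, 0, 1],
    [1, 1, 1, 1, 0],
    [1, 1, 0, 0, 1, 0, 1],
    [1, 0, 1, 1, 1, 0],
    [1, 1, 1, 0, 1],
    [0, 1, 0],
    [0, 1, 1],
    [1, 1, 0, 1, 0, 1],
    [1, 1, 0, 1, 0, 0],
    [0, 0, 1, 0, 1, 0],
    [0],
    [0, 0],
    [1, 0, 0],
    [1, 0, 1],
    [1, 1, 0],
    [0, 1],
    [1, 0],
    [1, 1, 0, 1],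
    [1, 1, 1, 0],
    [1],
    [1, 0, 0, 1],
    [1, 1, 1, 1],
    [1, 1, 0, 0, 1],
    [1, 0, 0, 1, 1],
    [1, 0, 1, 1, 1],
    [0, 1, 1, 1, 1],
    [0, 1, 1, 1, 0],
    [0, 1, 1, 1, 0, 1],
    [1, 1, 1, 1, 0, 1],
    [1, 1, 0, 0, 1, 0],
    [1, 1, 1, 0, 1, 0],
    [1, 0, 0, 1, 0, 1],
    [0, 1, 0, 1, 0, 0],
    [1, 1, 1, 0, 1, 0, 1],
    [1, 1, 1, 0, 1, 0, 0],
    [1, 0, 0, 1, 0, 1, 0],
    [0, 1, 1, 1, 0, 1, 0],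
    [1, 1, 1, 1, 0, 1, 0]]

def v2Texps_1 : List (List ℕ) :=
  [[1, 1, 0, 0, 1, 0, 1, 0],
    [0, 1, 1, 1, 0, 1, 0, 0],
    [1, 1, 1, 1, 0, 1, 0, 0]]

def v2Texps : List (List ℕ) :=
  v2Texps_0 ++ v2Texps_1

def v2S_0 : List (List ℕ × List ℕ) :=
  [([], [0, 1, 2, 3, 4, 5, 6, 7, 8, 9]),
    ([6, 4, 7, 5, 6, 4], [0, 1, 2, 3, 4, 5, 7, 6, 9, 8]),
    ([5, 4, 7, 6, 5, 4, 6, 4, 7, 5, 6, 4], [0, 1, 2, 3, 4, 5, 9, 8, 7, 6]),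
    ([5, 4, 7, 6, 5, 4], [0, 1, 2, 3, 4, 5, 8, 9, 6, 7])]

def v2S : List (List ℕ × List ℕ) :=
  v2S_0

def v2Sexps_0 : List (List ℕ) :=
  [[],
    [0],
    [1, 0],
    [1]]

def v2Sexps : List (List ℕ) :=
  v2Sexps_0

def v2Ctx : Ctx := ⟨10, gi, v2T, v2T, v2S, [1, 1, 1, 1]⟩

def v2_nafix0Dest_0 : List (ℕ × ℕ) :=
  [(7, 1),
    (0, 1),
    (2, 2),
    (7, 0),
    (2, 1),
    (0, 3),
    (0, 0),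
    (2, 0),
    (7, 2),
    (2, 3),
    (0, 2),
    (7, 3),
    (0, 0),
    (2, 0),
    (7, 2),
    (0, 1),
    (7, 1),
    (2, 2),
    (2, 1),
    (7, 0),
    (0, 3),
    (7, 3),
    (2, 3),
    (0, 2)]

def v2_nafix0Dest : List (ℕ × ℕ) :=
  v2_nafix0Dest_0

def v2_nafix1Dest_0 : List (ℕ × ℕ) :=
  [(2, 0),
    (7, 2),
    (0, 0),
    (2, 1),
    (0, 3),
    (7, 0),
    (7, 3),
    (0, 2),
    (2, 3),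
    (0, 1),
    (7, 1),
    (2, 2),
    (0, 0),
    (2, 0),
    (7, 2),
    (0, 1),
    (7, 1),
    (2, 2),
    (2, 1),
    (7, 0),
    (0, 3),
    (7, 3),
    (2, 3),
    (0, 2)]

def v2_nafix1Dest : List (ℕ × ℕ) :=
  v2_nafix1Dest_0

def v2_killDest_0 : List (ℕ × ℕ) :=
  [(0, 0)]

def v2_killDest : List (ℕ × ℕ) :=
  v2_killDest_0

def v2_killSteps_0 : List (Step) :=
  [⟨4, [], 1, [(12, 0), (13, 0), (2, 0), (7, 0), (0, 3), (14, 0), (15, 0), (16, 0), (7, 2), (2, 1), (17, 1), (18, 3), (19, 1), (20, 3), (19, 3), (7, 1), (2, 2), (7, 3), (2, 3), (0, 2), (21, 1), (22, 1), (15, 3), (16, 2), (23, 1), (23, 2), (0, 1), (12, 1), (22, 3), (21, 2), (14, 1), (20, 2), (13, 1), (18, 1), (17, 2)]⟩,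
    ⟨2, [], 0, [(0, 0), (2, 0), (7, 2), (0, 1), (7, 1), (2, 2), (2, 1), (7, 0), (0, 3), (7, 3), (2, 3), (0, 2)]⟩]

def v2_killSteps : List (Step) :=
  v2_killSteps_0

def v2_killUsed : List ℕ := [0, 15]

def v2_killKs : List ℕ := [0, 0]

end Cfsg.Agent.AltSolvCent.Five
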