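/-
Fixed vectors, stabilisers and perfect subgroups given by words.
-/
import Cfsg.Agent.AltSolvCent.Cert

set_option autoImplicit false

namespace Cfsg.Agent.AltSolvCent

/-- Every vector fixed by a nonsolvable subgroup vanishes. -/
def NoFixed (Γ : Type*) [Group Γ] (V : Type*) [AddCommGroup V] [DistribMulAction Γ V] : Prop :=
  ∀ M : Subgroup Γ, ¬ Group.IsSolvable M → ∀ v : V, (∀ m ∈ M, m • v = v) → v = 0

/-- A perfect nontrivial subgroup is not solvable. -/
theorem not_solvable_of_le_commutator {Γ : Type*} [Group Γ] {M : Subgroup Γ} (h : M ≤ ⁅M, M⁆)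
    (h1 : M ≠ ⊥) : ¬ Group.IsSolvable M := by
  intro hs
  obtain ⟨k, hk⟩ := (Group.isSolvable_def M).1 hs
  have key : ∀ k, M ≤ (derivedSeries M k).map M.subtype := by
    intro k
    induction k with
    | zero => rw [derivedSeries_zero, ← MonoidHom.range_eq_map, M.range_subtype]
    | succ k ih =>
      rw [derivedSeries_succ, Subgroup.map_commutator]
      exact h.trans (Subgroup.commutator_mono ih ih)
  apply h1
  simpa [hk] using key k

namespace Ctx

/-- The word obtained by substituting generators. -/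
def flat (G : List (List ℕ)) (e : List ℕ) : List ℕ := e.flatMap fun k => G.getD k []

/-- Replace the operating element. -/
def shift (a : ℕ) (L : List (ℕ × ℕ × ℕ)) : List (ℕ × ℕ × ℕ) := L.map fun x => (x.1, a, x.2.2)

/-- Multiply the coefficients. -/
def scale (c : ℕ) (L : List (ℕ × ℕ × ℕ)) : List (ℕ × ℕ × ℕ) := L.map fun x => (c * x.1, x.2)

variable (C : Ctx)

/-- The stabiliser table consists of products of the given words. -/
def stabOK (G : List (List ℕ)) (exps : List (List ℕ)) : Bool :=
  C.stab.length == exps.length &&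
    ((List.zip C.stab exps).all fun a => a.1.1 == flat G a.2)

/-- The value of `L` is an eigenvector of the element `a` with eigenvalue `s`. -/
def invOK (p : ℕ) (L : List (ℕ × ℕ × ℕ)) (a s : ℕ) (dest : List (ℕ × ℕ)) : Bool :=
  C.check p [] [] (shift a L ++ scale (p - s) L) dest && Nat.ble s p &&
    (C.get C.elts 0).1 == [] && L.all fun x => x.2.1 == 0

/-- The value of `L` is fixed by all the given words. -/
def fixOK (p : ℕ) (L : List (ℕ × ℕ × ℕ)) (G : List (List ℕ))
    (rows : List (ℕ × List (ℕ × ℕ))) : Bool :=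
  (rows.map fun x => (C.get C.elts x.1).1) == G && rows.all fun x => C.invOK p L x.1 1 x.2

/-- The words generate a perfect nontrivial subgroup. -/
def perfOK (S : List (List ℕ) × List (List ℕ × List ℕ)) : Bool :=
  S.1.length == S.2.length && (S.1.any fun g => C.img g != C.idImg) &&
    (List.zip S.1 S.2).all fun a => C.img (a.1 ++ flat S.1 a.2.2 ++ flat S.1 a.2.1) ==
      C.img (flat S.1 a.2.1 ++ flat S.1 a.2.2)

open scoped commutatorElement

variable {C} {n : ℕ} {Γ : Subgroup (Equiv.Perm (Fin n))} {gs : List ↥Γ}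

theorem el_append (v w : List ℕ) : (el gs (v ++ w) : ↥Γ) = el gs v * el gs w := by
  induction v with
  | nil => simp [el]
  | cons k v ih => simp [el, ih, mul_assoc]

theorem el_flat_mem {H : Subgroup ↥Γ} {G : List (List ℕ)} (h : ∀ g ∈ G, el gs g ∈ H)
    (e : List ℕ) : el gs (flat G e) ∈ H := by
  induction e with
  | nil => exact H.one_mem
  | cons k e ih =>
    have : flat G (k :: e) = G.getD k [] ++ flat G e := by simp [flat]
    rw [this, el_append]
    refine H.mul_mem ?_ ih
    by_cases hk : k < G.length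
    · rw [List.getD_eq_getElem _ _ hk]; exact h _ (List.getElem_mem hk)
    · rw [List.getD_eq_default _ _ (not_lt.1 hk)]; exact H.one_mem

theorem not_solvable_of_perfOK (hg : C.GensOK gs) {S : List (List ℕ) × List (List ℕ × List ℕ)}
    (h : C.perfOK S = true) :
    ¬ Group.IsSolvable ↥(Subgroup.closure {γ : ↥Γ | ∃ g ∈ S.1, γ = el gs g}) := by
  simp only [perfOK, Bool.and_eq_true, beq_iff_eq, List.any_eq_true, bne_iff_ne,
    List.all_eq_true] at h
  obtain ⟨⟨hlen, g₀, hg₀, hne⟩, hall⟩ := h
  set M := Subgroup.closure {γ : ↥Γ | ∃ g ∈ S.1, γ = el gs g} with hM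
  have hmem : ∀ g ∈ S.1, el gs g ∈ M := fun g hg' => Subgroup.subset_closure ⟨g, hg', rfl⟩
  refine not_solvable_of_le_commutator ?_ ?_
  · rw [hM, Subgroup.closure_le]
    rintro _ ⟨g, hg', rfl⟩
    obtain ⟨i, hi, rfl⟩ := List.getElem_of_mem hg'
    have hi' : i < S.2.length := hlen ▸ hi
    have hz : (S.1[i], S.2[i]) ∈ List.zip S.1 S.2 :=
      List.mem_iff_getElem.2 ⟨i, by rw [List.length_zip]; omega, by simp⟩
    have e := eq_of_img hg (hall _ hz)
    simp only [el_append, mul_assoc] at e
    set x := el gs (flat S.1 (S.2[i]).1)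
    set y := el gs (flat S.1 (S.2[i]).2)
    have e' : el gs S.1[i] = ⁅x, y⁆ := by
      rw [commutatorElement_def]
      calc el gs S.1[i] = el gs S.1[i] * (y * x) * x⁻¹ * y⁻¹ := by group
        _ = x * y * x⁻¹ * y⁻¹ := by rw [e]
    rw [SetLike.mem_coe, ← hM, e']
    exact Subgroup.commutator_mem_commutator (el_flat_mem hmem _) (el_flat_mem hmem _)
  · intro hb
    apply hne
    have := hmem g₀ hg₀
    rw [hb, Subgroup.mem_bot] at this
    have e : C.img g₀ = C.img [] := by rw [img_eq hg, img_eq hg, this]; rfl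
    exact e

variable {V : Type*} [AddCommGroup V] [DistribMulAction ↥Γ V]

theorem smul_el_flat {G : List (List ℕ)} {w : V}
    (h : ∀ g ∈ G, (el gs g : ↥Γ) • w = w) (e : List ℕ) : (el gs (flat G e) : ↥Γ) • w = w :=
  MulAction.mem_stabilizer_iff.1 (el_flat_mem (H := MulAction.stabilizer _ w)
    (fun g hg => MulAction.mem_stabilizer_iff.2 (h g hg)) e)

theorem stab_sound {G : List (List ℕ)} {exps : List (List ℕ)} (h : C.stabOK G exps = true)
    (hs : C.scal = []) {w : V} (hw : ∀ g ∈ G, (el gs g : ↥Γ) • w = w) (u : ℕ) :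
    (el gs (C.get C.stab u).1 : ↥Γ) • w = (C.scal.getD u 1) • w := by
  simp only [stabOK, Bool.and_eq_true, beq_iff_eq, List.all_eq_true] at h
  obtain ⟨hlen, hall⟩ := h
  rw [hs]
  simp only [List.getD_nil, one_smul]
  unfold get
  by_cases hu : u < C.stab.length
  · rw [List.getD_eq_getElem _ _ hu]
    have hz : (C.stab[u], exps[u]'(hlen ▸ hu)) ∈ List.zip C.stab exps :=
      List.mem_iff_getElem.2 ⟨u, by rw [List.length_zip]; omega, by simp⟩
    rw [hall _ hz]
    exact smul_el_flat hw _
  · rw [List.getD_eq_default _ _ (not_lt.1 hu)]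
    simp [el]

theorem val_append (w : V) (L L' : List (ℕ × ℕ × ℕ)) :
    val C gs w (L ++ L') = val C gs w L + val C gs w L' := by
  simp [val]

theorem val_scale (c : ℕ) (w : V) (L : List (ℕ × ℕ × ℕ)) :
    val C gs w (scale c L) = c • val C gs w L := by
  induction L with
  | nil => simp [val, scale]
  | cons a L ih =>
    simp only [val, scale, List.map_cons, List.sum_cons, smul_add] at ih ⊢
    rw [ih, atom, atom, mul_nsmul']

theorem inv_sound (hg : C.GensOK gs) (hok : C.ok = true) {p : ℕ} (hp : ∀ v : V, p • v = 0) {w : V}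
    (hU : ∀ u, (el gs (C.get C.stab u).1 : ↥Γ) • w = (C.scal.getD u 1) • w)
    {L : List (ℕ × ℕ × ℕ)} {a s : ℕ} {dest : List (ℕ × ℕ)} (h : C.invOK p L a s dest = true) :
    (el gs (C.get C.elts a).1 : ↥Γ) • val C gs w L = s • val C gs w L := by
  simp only [invOK, Bool.and_eq_true, Nat.ble_eq, beq_iff_eq, List.all_eq_true] at h
  obtain ⟨⟨⟨hc, hs⟩, h0⟩, hL⟩ := h
  have e := sound hg hok hp hU (rels := []) (by simp) hc
  rw [val_append, val_scale] at e
  have e2 : val C gs w (shift a L) = (el gs (C.get C.elts a).1 : ↥Γ) • val C gs w L := by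
    clear e hc
    induction L with
    | nil => simp [val, shift]
    | cons b L ih =>
      have hb := hL b (List.mem_cons_self ..)
      have := ih fun x hx => hL x (List.mem_cons_of_mem _ hx)
      simp only [val, shift, List.map_cons, List.sum_cons, smul_add] at this ⊢
      rw [this, atom, atom]
      simp [hb, h0, el, smul_comm b.1]
  rw [e2] at e
  have e3 : (s + (p - s)) • val C gs w L = 0 := by rw [Nat.add_sub_cancel' hs]; exact hp _
  rw [add_smul] at e3
  exact add_right_cancel (e.trans e3.symm)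

theorem fix_sound (hg : C.GensOK gs) (hok : C.ok = true) {p : ℕ} (hp : ∀ v : V, p • v = 0) {w : V}
    (hU : ∀ u, (el gs (C.get C.stab u).1 : ↥Γ) • w = (C.scal.getD u 1) • w)
    {L : List (ℕ × ℕ × ℕ)} {G : List (List ℕ)} {rows : List (ℕ × List (ℕ × ℕ))}
    (h : C.fixOK p L G rows = true) : ∀ g ∈ G, (el gs g : ↥Γ) • val C gs w L = val C gs w L := by
  simp only [fixOK, Bool.and_eq_true, beq_iff_eq, List.all_eq_true] at h
  obtain ⟨rfl, hall⟩ := h
  intro g hg'
  obtain ⟨x, hx, rfl⟩ := List.mem_map.1 hg'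
  simpa using inv_sound hg hok hp hU (hall x hx)

theorem val_unit (w : V) (hr : (C.get C.reps 0).1 = []) (he : (C.get C.elts 0).1 = []) :
    val C gs w [(1, 0, 0)] = w := by
  simp [val, atom, hr, he, el]

/-- A vector fixed by a perfect nontrivial subgroup vanishes. -/
theorem zero_of_perf (hg : C.GensOK gs) (hN : NoFixed ↥Γ V)
    {S : List (List ℕ) × List (List ℕ × List ℕ)} (h : C.perfOK S = true) {v : V}
    (hv : ∀ g ∈ S.1, (el gs g : ↥Γ) • v = v) : v = 0 := by
  refine hN _ (not_solvable_of_perfOK hg h) v fun m hm => ?_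
  have : Subgroup.closure {γ : ↥Γ | ∃ g ∈ S.1, γ = el gs g} ≤ MulAction.stabilizer _ v := by
    rw [Subgroup.closure_le]
    rintro _ ⟨g, hg', rfl⟩
    exact MulAction.mem_stabilizer_iff.2 (hv g hg')
  exact MulAction.mem_stabilizer_iff.1 (this hm)

end Ctx

end Cfsg.Agent.AltSolvCent
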