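/-
Operators `∑ c • g` given by lists of words, and their occurrence in certificates.
-/
import Cfsg.Agent.AltSolvCent.Fixed

set_option autoImplicit false

namespace Cfsg.Agent.AltSolvCent.Ctx

/-- The list of terms of a product of two operators. -/
def pairT (L R : List (ℕ × ℕ)) : List (ℕ × ℕ × ℕ) :=
  L.flatMap fun a => R.map fun b => (a.1 * b.1, a.2, b.2)

variable (C : Ctx)

/-- A list of table positions represents the given operator. -/
def opOK (op : List (ℕ × List ℕ)) (loc : List (ℕ × ℕ)) : Bool :=
  op.length == loc.length && (List.zip op loc).all fun a =>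
    a.1.1 == a.2.1 && C.img a.1.2 == (C.get C.elts a.2.2).2

/-- All table entries are products of the given words. -/
def tblFlat (T : Table) (G exps : List (List ℕ)) : Bool :=
  T.length == exps.length && (List.zip T exps).all fun a => a.1.1 == flat G a.2

/-- The scalars of the stabiliser table come from those of the given words. -/
def scalOK (p : ℕ) (ch : List ℕ) (exps : List (List ℕ)) : Bool :=
  C.scal.length == exps.length && (List.zip C.scal exps).all fun a =>
    a.1 == a.2.foldr (fun k acc => ch.getD k 1 * acc % p) 1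

variable {C} {n : ℕ} {Γ : Subgroup (Equiv.Perm (Fin n))} {gs : List ↥Γ}
  {V : Type*} [AddCommGroup V] [DistribMulAction ↥Γ V]

variable (gs) in
/-- The operator of a list of weighted words. -/
def op (L : List (ℕ × List ℕ)) (v : V) : V :=
  (L.map fun a => a.1 • ((el gs a.2 : ↥Γ) • v)).sum

variable (C gs) in
/-- The operator of a list of weighted table positions. -/
def loc (L : List (ℕ × ℕ)) (v : V) : V :=
  (L.map fun a => a.1 • ((el gs (C.get C.elts a.2).1 : ↥Γ) • v)).sum

theorem op_add (L : List (ℕ × List ℕ)) (u v : V) : op gs L (u + v) = op gs L u + op gs L v := by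
  induction L with
  | nil => simp [op]
  | cons a L ih =>
    simp only [op, List.map_cons, List.sum_cons, smul_add] at ih ⊢
    rw [ih]; abel

theorem op_zero (L : List (ℕ × List ℕ)) : op gs L (0 : V) = 0 := by
  induction L with
  | nil => simp [op]
  | cons a L ih =>
    simp only [op, List.map_cons, List.sum_cons, smul_zero] at ih ⊢
    rw [ih, add_zero]

theorem op_nsmul (L : List (ℕ × List ℕ)) (c : ℕ) (v : V) : op gs L (c • v) = c • op gs L v := by
  induction c with
  | zero => simp [op_zero]
  | succ c ih => simp [succ_nsmul, op_add, ih]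

theorem op_one (v : V) : op gs [(1, [])] v = v := by simp [op, el]

theorem op_append (L L' : List (ℕ × List ℕ)) (v : V) :
    op gs (L ++ L') v = op gs L v + op gs L' v := by simp [op]

theorem loc_eq (hg : C.GensOK gs) (hok : C.ok = true) {L : List (ℕ × List ℕ)}
    {R : List (ℕ × ℕ)} (h : C.opOK L R = true) (v : V) : loc C gs R v = op gs L v := by
  simp only [ok, Bool.and_eq_true] at hok
  induction L generalizing R with
  | nil =>
    cases R with
    | nil => rfl
    | cons b R => simp [opOK] at h
  | cons a L ih =>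
    cases R with
    | nil => simp [opOK] at h
    | cons b R =>
      simp only [opOK, List.length_cons, List.zip_cons_cons, List.all_cons, Bool.and_eq_true,
        beq_iff_eq, Nat.add_right_cancel_iff] at h
      obtain ⟨hl, ⟨hc, hi⟩, hrest⟩ := h
      have h2 : C.opOK L R = true := by
        simp only [opOK, Bool.and_eq_true, beq_iff_eq]
        exact ⟨hl, hrest⟩
      have he : el gs a.2 = el gs (C.get C.elts b.2).1 := by
        rw [img_eq hg, tbl_get hg hok.1.1] at hi
        exact Subtype.ext (imgOf_injective hi)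
      simp only [loc, op, List.map_cons, List.sum_cons] at ih ⊢
      rw [ih h2, hc, he]

theorem val_pairT (he : C.elts = C.reps) (w : V) (L R : List (ℕ × ℕ)) :
    val C gs w (pairT L R) = loc C gs L (loc C gs R w) := by
  induction L with
  | nil => simp [val, pairT, loc]
  | cons a L ih =>
    have hsum : val C gs w (R.map fun b => (a.1 * b.1, a.2, b.2)) =
        a.1 • ((el gs (C.get C.elts a.2).1 : ↥Γ) • loc C gs R w) := by
      clear ih
      induction R with
      | nil => simp [val, loc]
      | cons b R ih =>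
        simp only [val, loc, List.map_cons, List.sum_cons, smul_add] at ih ⊢
        rw [ih, atom]
        simp only [he, smul_comm _ b.1, ← mul_nsmul', mul_comm]
    have : pairT (a :: L) R = (R.map fun b => (a.1 * b.1, a.2, b.2)) ++ pairT L R := by
      simp [pairT]
    rw [this, val_append, hsum, ih]
    simp [loc]

theorem smul_el_flat_scal {p : ℕ} (hp : ∀ v : V, p • v = 0) {G : List (List ℕ)} {ch : List ℕ}
    {w : V} (h : ∀ k, (el gs (G.getD k []) : ↥Γ) • w = ch.getD k 1 • w) :
    ∀ e : List ℕ, (el gs (flat G e) : ↥Γ) • w =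
      (e.foldr (fun k acc => ch.getD k 1 * acc % p) 1) • w
  | [] => by simp [flat, el]
  | k :: e => by
    have : flat G (k :: e) = G.getD k [] ++ flat G e := by simp [flat]
    rw [this, el_append, mul_smul, smul_el_flat_scal hp h e, smul_comm, h, ← mul_nsmul',
      List.foldr_cons, mul_comm]
    conv_lhs => rw [← Nat.mod_add_div (ch.getD k 1 * _) p, add_nsmul, mul_nsmul, hp, smul_zero,
      add_zero]

theorem scal_sound {p : ℕ} (hp : ∀ v : V, p • v = 0) {G exps : List (List ℕ)} {ch : List ℕ}
    (hT : tblFlat C.stab G exps = true) (hS : C.scalOK p ch exps = true) {w : V}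
    (h : ∀ k, (el gs (G.getD k []) : ↥Γ) • w = ch.getD k 1 • w) (u : ℕ) :
    (el gs (C.get C.stab u).1 : ↥Γ) • w = (C.scal.getD u 1) • w := by
  simp only [tblFlat, scalOK, Bool.and_eq_true, beq_iff_eq, List.all_eq_true] at hT hS
  obtain ⟨hlen, hall⟩ := hT
  obtain ⟨hlen', hall'⟩ := hS
  unfold get
  by_cases hu : u < C.stab.length
  · rw [List.getD_eq_getElem _ _ hu, List.getD_eq_getElem C.scal _ (by omega)]
    have hz : (C.stab[u], exps[u]'(hlen ▸ hu)) ∈ List.zip C.stab exps :=
      List.mem_iff_getElem.2 ⟨u, by rw [List.length_zip]; omega, by simp⟩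
    have hz' : (C.scal[u]'(by omega), exps[u]'(hlen ▸ hu)) ∈ List.zip C.scal exps :=
      List.mem_iff_getElem.2 ⟨u, by rw [List.length_zip]; omega, by simp⟩
    rw [hall _ hz, show C.scal[u]'(by omega) = _ from hall' _ hz']
    exact smul_el_flat_scal hp h _
  · rw [List.getD_eq_default _ _ (not_lt.1 hu), List.getD_eq_default _ _ (by omega)]
    simp [el]

theorem tblFlat_mem {T : Table} {G exps : List (List ℕ)} (h : tblFlat T G exps = true)
    {H : Subgroup ↥Γ} (hG : ∀ g ∈ G, el gs g ∈ H) (hC : C.elts = T) (k : ℕ) :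
    el gs (C.get C.elts k).1 ∈ H := by
  simp only [tblFlat, Bool.and_eq_true, beq_iff_eq, List.all_eq_true] at h
  obtain ⟨hlen, hall⟩ := h
  unfold get
  rw [hC]
  by_cases hk : k < T.length
  · rw [List.getD_eq_getElem _ _ hk]
    have hz : (T[k], exps[k]'(hlen ▸ hk)) ∈ List.zip T exps :=
      List.mem_iff_getElem.2 ⟨k, by rw [List.length_zip]; omega, by simp⟩
    rw [hall _ hz]
    exact el_flat_mem hG _
  · rw [List.getD_eq_default _ _ (not_lt.1 hk)]
    exact H.one_mem

/-- A certificate for an identity `A A' + s • B B' = 0`, modulo relations given as products. -/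
def eqCheck (C : Ctx) (p : ℕ) (rels : List (List (ℕ × ℕ) × List (ℕ × ℕ))) (S : List Step)
    (A A' : List (ℕ × ℕ)) (s : ℕ) (B B' : List (ℕ × ℕ)) (dest : List (ℕ × ℕ)) : Bool :=
  C.check p (rels.map fun a => pairT a.1 a.2) S (pairT A A' ++ scale s (pairT B B')) dest

theorem eq_sound (hg : C.GensOK gs) (hok : C.ok = true) (he : C.elts = C.reps) {p : ℕ}
    (hp : ∀ v : V, p • v = 0) {w : V}
    (hU : ∀ u, (el gs (C.get C.stab u).1 : ↥Γ) • w = (C.scal.getD u 1) • w)
    {rels : List (List (ℕ × ℕ) × List (ℕ × ℕ))}
    (hrels : ∀ a ∈ rels, loc C gs a.1 (loc C gs a.2 w) = 0)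
    {S : List Step} {A A' : List (ℕ × ℕ)} {s : ℕ} {B B' : List (ℕ × ℕ)} {dest : List (ℕ × ℕ)}
    (h : C.eqCheck p rels S A A' s B B' dest = true) :
    loc C gs A (loc C gs A' w) + s • loc C gs B (loc C gs B' w) = 0 := by
  have h0 : ∀ L ∈ rels.map (fun a => pairT a.1 a.2), val C gs w L = 0 := by
    intro L hL
    obtain ⟨a, ha, rfl⟩ := List.mem_map.1 hL
    rw [val_pairT he]
    exact hrels a ha
  unfold eqCheck at h
  have := sound hg hok hp hU h0 h
  rwa [val_append, val_scale, val_pairT he, val_pairT he] at this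

end Cfsg.Agent.AltSolvCent.Ctx
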