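/-
In characteristic five every nonzero module of the alternating group of degree ten has a nonzero
vector fixed by a nonsolvable subgroup.
-/
import Cfsg.Agent.AltSolvCent.Ops
import Cfsg.Agent.AltSolvCent.FiveData

set_option autoImplicit false
set_option maxRecDepth 100000

namespace Cfsg.Agent.AltSolvCent.Five

open Equiv Ctx

/-- The generating three-cycles. -/
def cyc (i : Fin 10) : Perm (Fin 10) := swap 0 i * swap 0 1

theorem cyc_mem (k : Fin 8) : cyc ⟨k.val + 2, by omega⟩ ∈ alternatingGroup (Fin 10) := by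
  rw [Perm.mem_alternatingGroup, cyc]
  revert k
  decide +kernel

/-- The generators. -/
def gs : List ↥(alternatingGroup (Fin 10)) := List.ofFn fun k : Fin 8 => ⟨_, cyc_mem k⟩

theorem gi_eq : ∀ k : Fin 8, gi.getD k.val (List.range 10) =
    List.ofFn fun i => (cyc ⟨k.val + 2, by omega⟩ i).val := by decide +kernel

theorem gensOK (elts reps stab : Table) (scal : List ℕ) :
    (⟨10, gi, elts, reps, stab, scal⟩ : Ctx).GensOK gs := by
  refine ⟨rfl, by simp [gs, gi], ?_⟩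
  intro k hk
  have hk' : k < 8 := by simpa [gs] using hk
  clear hk
  have h := gi_eq ⟨k, hk'⟩
  rw [List.getD_eq_getElem gs _ (by simpa [gs] using hk')]
  simp only [gs, List.getElem_ofFn, idImg]
  exact h

/-- A context for checking identities of words only. -/
def wCtx : Ctx := ⟨10, gi, [], [], [], []⟩

/-- The unit operator. -/
def uT : List (ℕ × ℕ) := [(1, 0)]

/-- The scalars of a context are as described, and the tables are products of the given words. -/
def base (C : Ctx) (T Texps : List (List ℕ)) (S Sexps : List (List ℕ)) (ch : List ℕ) : Bool :=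
  C.ok && tblFlat C.elts T Texps && tblFlat C.stab S Sexps && C.scalOK 5 ch Sexps &&
    (C.get C.elts 0).1 == []

/-- Every word of the operator commutes with the given word. -/
def opComm (L : List (ℕ × List ℕ)) (h : List ℕ) : Bool :=
  L.all fun a => wCtx.img (a.2 ++ h) == wCtx.img (h ++ a.2)

variable {V : Type*} [AddCommGroup V] [DistribMulAction ↥(alternatingGroup (Fin 10)) V]

/-- The operator on five-modules. -/
local notation "Op" => Ctx.op gs

theorem eq_of_add_four (hp : ∀ v : V, 5 • v = 0) {a b : V} (h : a + 4 • b = 0) : a = b :=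
  add_right_cancel (h.trans (show (0 : V) = b + 4 • b by
    rw [← succ_nsmul' b 4]; exact (hp b).symm))

theorem neg_of_add (hp : ∀ v : V, 5 • v = 0) {a b : V} (h : a + 1 • b = 0) : a = 4 • b :=
  add_right_cancel (h.trans (show (0 : V) = 4 • b + 1 • b by rw [← add_nsmul]; exact (hp b).symm))

theorem chars_ok {G : List (List ℕ)} {ch : List ℕ} {w : V} (hl : ch.length ≤ G.length)
    (h : ∀ k, k < G.length → el gs (G.getD k []) • w = ch.getD k 1 • w) (k : ℕ) :
    el gs (G.getD k []) • w = ch.getD k 1 • w := by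
  by_cases hk : k < G.length
  · exact h k hk
  · rw [List.getD_eq_default G _ (not_lt.1 hk), List.getD_eq_default ch _ (by omega)]
    simp [el]

/-- An identity from a certificate, in terms of operators. -/
theorem eqn {C : Ctx} (hg : C.GensOK gs) (he : C.elts = C.reps) {T Texps S Sexps : List (List ℕ)}
    {ch : List ℕ} (hb : base C T Texps S Sexps ch = true) (hp : ∀ v : V, 5 • v = 0) {w : V}
    (hw : ∀ k, el gs (S.getD k []) • w = ch.getD k 1 • w)
    {rels : List (List (ℕ × ℕ) × List (ℕ × ℕ))}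
    (hrels : ∀ a ∈ rels, loc C gs a.1 (loc C gs a.2 w) = 0)
    {St : List Step} {A A' B B' : List (ℕ × ℕ)} {s : ℕ} {dest : List (ℕ × ℕ)}
    (h : C.eqCheck 5 rels St A A' s B B' dest = true) :
    loc C gs A (loc C gs A' w) + s • loc C gs B (loc C gs B' w) = 0 := by
  simp only [base, Bool.and_eq_true] at hb
  exact eq_sound hg hb.1.1.1.1 he hp (scal_sound hp hb.1.1.2 hb.1.2 hw) hrels h

theorem base_ok {C : Ctx} {T Texps S Sexps : List (List ℕ)} {ch : List ℕ}
    (hb : base C T Texps S Sexps ch = true) : C.ok = true := by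
  simp only [base, Bool.and_eq_true] at hb
  exact hb.1.1.1.1

theorem loc_uT {C : Ctx} {T Texps S Sexps : List (List ℕ)} {ch : List ℕ}
    (hb : base C T Texps S Sexps ch = true) (v : V) : loc C gs uT v = v := by
  simp only [base, Bool.and_eq_true, beq_iff_eq] at hb
  simp [loc, uT, hb.2, el]

theorem loc_op {C : Ctx} (hg : C.GensOK gs) {T Texps S Sexps : List (List ℕ)} {ch : List ℕ}
    (hb : base C T Texps S Sexps ch = true) {L : List (ℕ × List ℕ)} {R : List (ℕ × ℕ)}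
    (h : C.opOK L R = true) (v : V) : loc C gs R v = Op L v := loc_eq hg (base_ok hb) h v

theorem loc_nil {C : Ctx} (v : V) : loc C gs [] v = 0 := by simp [loc]

theorem op_word (g : List ℕ) (v : V) : Op [(1, g)] v = el gs g • v := by simp [op]

theorem op_smul_comm {L : List (ℕ × List ℕ)} {h : List ℕ} (hc : opComm L h = true) (v : V) :
    el gs h • Op L v = Op L (el gs h • v) := by
  simp only [opComm, List.all_eq_true, beq_iff_eq] at hc
  induction L with
  | nil => simp [op]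
  | cons a L ih =>
    have := ih fun b hb => hc b (List.mem_cons_of_mem _ hb)
    have e := eq_of_img (gensOK [] [] [] []) (hc a (List.mem_cons_self ..))
    rw [el_append, el_append] at e
    simp only [op, List.map_cons, List.sum_cons, smul_add] at this ⊢
    rw [this, smul_comm, ← mul_smul, ← e, mul_smul]

theorem op_op_comm {L : List (ℕ × List ℕ)} : ∀ {K : List (ℕ × List ℕ)},
    (K.all fun b => opComm L b.2) = true → ∀ v : V, Op L (Op K v) = Op K (Op L v) := by
  intro K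
  induction K with
  | nil => intro _ v; simp [op]
  | cons b K ih =>
    intro h v
    simp only [List.all_cons, Bool.and_eq_true] at h
    have hb : ∀ u : V, Op (b :: K) u = b.1 • (el gs b.2 • u) + Op K u := fun u => by simp [op]
    rw [hb, hb, op_add, op_nsmul, ih h.2, op_smul_comm h.1]

/-! ### The checks -/

theorem perf_all : simpleSets.all wCtx.perfOK = true := by decide +kernel

theorem base_mm : base mmCtx gX mmTexps gU mmSexps [1, 1, 4, 4] = true := by decide +kernel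
theorem base_pp : base ppCtx gX ppTexps gU ppSexps [1, 1, 1, 1] = true := by decide +kernel
theorem base_p1 : base p1Ctx gS1 p1Texps gU1 p1Sexps [1, 1] = true := by decide +kernel
theorem base_m1 : base m1Ctx gS1 m1Texps gU1 m1Sexps [1, 4] = true := by decide +kernel
theorem base_p2 : base p2Ctx gS2 p2Texps gU2 p2Sexps [1, 1] = true := by decide +kernel
theorem base_m2 : base m2Ctx gS2 m2Texps gU2 m2Sexps [1, 4] = true := by decide +kernel
theorem base_x : base xCtx gX xTexps [] xSexps [] = true := by decide +kernel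
theorem base_z : base zCtx gS2 zTexps gA2 zSexps [1, 1] = true := by decide +kernel
theorem base_w6 : base w6Ctx gA6 w6Texps [] w6Sexps [] = true := by decide +kernel
theorem base_v1 : base v1Ctx gS1 v1Texps gV1 v1Sexps [1, 1] = true := by decide +kernel
theorem base_v2 : base v2Ctx gS2 v2Texps gV2 v2Sexps [1, 1] = true := by decide +kernel

/-- The `i`-th word of a list, as an operator. -/
def wordOp (G : List (List ℕ)) (i : ℕ) : List (ℕ × List ℕ) := [(1, G.getD i [])]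

/-- A certificate that `g ∘ L = s • L`. -/
def eigCheck (C : Ctx) (rels : List (List (ℕ × ℕ) × List (ℕ × ℕ))) (S : List Step) (g : List ℕ)
    (gl L : List (ℕ × ℕ)) (s : ℕ) (dest : List (ℕ × ℕ)) : Bool :=
  C.opOK [(1, g)] gl && C.eqCheck 5 rels S gl L s uT L dest

theorem eig {C : Ctx} (hg : C.GensOK gs) (he : C.elts = C.reps) {T Texps S Sexps : List (List ℕ)}
    {ch : List ℕ} (hb : base C T Texps S Sexps ch = true) (hp : ∀ v : V, 5 • v = 0) {w : V}
    (hw : ∀ k, el gs (S.getD k []) • w = ch.getD k 1 • w)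
    {rels : List (List (ℕ × ℕ) × List (ℕ × ℕ))}
    (hrels : ∀ a ∈ rels, loc C gs a.1 (loc C gs a.2 w) = 0)
    {St : List Step} {g : List ℕ} {gl L : List (ℕ × ℕ)} {O : List (ℕ × List ℕ)} {s : ℕ}
    {dest : List (ℕ × ℕ)} (hL : C.opOK O L = true)
    (h : eigCheck C rels St g gl L s dest = true) :
    el gs g • Op O w + s • Op O w = 0 := by
  simp only [eigCheck, Bool.and_eq_true] at h
  have := eqn hg he hb hp hw hrels h.2
  rwa [loc_uT hb, loc_op hg hb h.1, loc_op hg hb hL, op_word] at this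

theorem mm_ops : (mmCtx.opOK opT1 mm_opT1 && mmCtx.opOK opT2 mm_opT2 &&
    mmCtx.opOK opDelta mm_opDelta) = true := by decide +kernel

theorem mm_t1eig : (eigCheck mmCtx [] [] (gU.getD 0 []) mm_g0 mm_opT1 4 mm_t1eig0Dest &&
    eigCheck mmCtx [] [] (gU.getD 1 []) mm_g1 mm_opT1 4 mm_t1eig1Dest &&
    eigCheck mmCtx [] [] (gU.getD 2 []) mm_g2 mm_opT1 1 mm_t1eig2Dest &&
    eigCheck mmCtx [] [] (gU.getD 3 []) mm_g3 mm_opT1 1 mm_t1eig3Dest) = true := by decide +kernel

theorem mm_t2eig : (eigCheck mmCtx [] [] (gU.getD 0 []) mm_g0 mm_opT2 4 mm_t2eig0Dest &&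
    eigCheck mmCtx [] [] (gU.getD 1 []) mm_g1 mm_opT2 4 mm_t2eig1Dest &&
    eigCheck mmCtx [] [] (gU.getD 2 []) mm_g2 mm_opT2 1 mm_t2eig2Dest &&
    eigCheck mmCtx [] [] (gU.getD 3 []) mm_g3 mm_opT2 1 mm_t2eig3Dest) = true := by decide +kernel

theorem mm_sq : (mmCtx.eqCheck 5 [] [] mm_opT1 mm_opT1 1 [] [] mm_t11Dest &&
    mmCtx.eqCheck 5 [] [] mm_opT2 mm_opT2 1 [] [] mm_t22Dest &&
    mmCtx.eqCheck 5 [] [] mm_opT1 mm_opT2 4 mm_opT2 mm_opT1 mm_t12Dest) = true := by decide +kernel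

theorem mm_delta : (eigCheck mmCtx [] [] (gD.getD 0 []) mm_g4 mm_opDelta 4 mm_dfix0Dest &&
    eigCheck mmCtx [(uT, mm_opT1), (uT, mm_opT2)] mm_dfix1Steps (gD.getD 1 []) mm_g5 mm_opDelta 4
      mm_dfix1Dest &&
    mmCtx.eqCheck 5 [(uT, mm_opT1), (uT, mm_opT2), (uT, mm_opDelta)] mm_killSteps uT uT 1 [] []
      mm_killDest) = true := by decide +kernel

theorem pp_checks : (ppCtx.opOK opQ0 pp_opQ0 && ppCtx.opOK opQ1 pp_opQ1 &&
    ppCtx.opOK opQ2 pp_opQ2 &&
    eigCheck ppCtx [] [] (gS1.getD 0 []) pp_g6 pp_opQ0 4 pp_n1fix0Dest &&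
    eigCheck ppCtx [] [] (gS1.getD 1 []) pp_g7 pp_opQ0 4 pp_n1fix1Dest &&
    eigCheck ppCtx [] [] (gS2.getD 0 []) pp_g8 pp_opQ1 4 pp_n2fix0Dest &&
    eigCheck ppCtx [] [] (gS2.getD 1 []) pp_g9 pp_opQ1 4 pp_n2fix1Dest &&
    eigCheck ppCtx [] [] (gD.getD 0 []) pp_g4 pp_opQ2 4 pp_dfix0_0Dest &&
    eigCheck ppCtx [] [] (gD.getD 1 []) pp_g5 pp_opQ2 4 pp_dfix0_1Dest &&
    ppCtx.eqCheck 5 [(uT, pp_opQ0), (uT, pp_opQ1), (uT, pp_opQ2)] pp_killSteps uT uT 1 [] []
      pp_killDest) = true := by decide +kernel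

theorem p1_checks : (p1Ctx.opOK opP1 p1_opP1 && p1Ctx.opOK opE1 p1_opE1 &&
    eigCheck p1Ctx [] [] (gS1.getD 0 []) p1_g0 p1_opP1 4 p1_nfix0Dest &&
    eigCheck p1Ctx [] [] (gS1.getD 1 []) p1_g1 p1_opP1 4 p1_nfix1Dest &&
    p1Ctx.eqCheck 5 [(uT, p1_opP1)] p1_eoneSteps uT p1_opE1 4 uT uT p1_eoneDest &&
    m1Ctx.opOK opE1 m1_opE1 &&
    m1Ctx.eqCheck 5 [] [] uT m1_opE1 1 [] [] m1_ezeroDest) = true := by decide +kernel

theorem p2_checks : (p2Ctx.opOK opP2 p2_opP2 && p2Ctx.opOK opE2 p2_opE2 &&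
    eigCheck p2Ctx [] [] (gS2.getD 0 []) p2_g0 p2_opP2 4 p2_nfix0Dest &&
    eigCheck p2Ctx [] [] (gS2.getD 1 []) p2_g1 p2_opP2 4 p2_nfix1Dest &&
    p2Ctx.eqCheck 5 [(uT, p2_opP2)] p2_eoneSteps uT p2_opE2 4 uT uT p2_eoneDest &&
    m2Ctx.opOK opE2 m2_opE2 &&
    m2Ctx.eqCheck 5 [] [] uT m2_opE2 1 [] [] m2_ezeroDest) = true := by decide +kernel

theorem x_checks : (xCtx.opOK opE1 x_opE1 && xCtx.opOK opE2 x_opE2 &&
    xCtx.opOK (wordOp gS1 0) x_g0 && xCtx.opOK (wordOp gS1 1) x_g1 &&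
    xCtx.opOK (wordOp gS2 0) x_g2 && xCtx.opOK (wordOp gS2 1) x_g3 &&
    xCtx.eqCheck 5 [] [] x_opE1 x_opE1 4 uT x_opE1 x_idem1Dest &&
    xCtx.eqCheck 5 [] [] x_opE2 x_opE2 4 uT x_opE2 x_idem2Dest &&
    xCtx.eqCheck 5 [] [] x_g0 x_opE1 4 x_opE1 x_g0 x_com1_0Dest &&
    xCtx.eqCheck 5 [] [] x_g1 x_opE1 4 x_opE1 x_g1 x_com1_1Dest &&
    xCtx.eqCheck 5 [] [] x_g2 x_opE2 4 x_opE2 x_g2 x_com2_0Dest &&
    xCtx.eqCheck 5 [] [] x_g3 x_opE2 4 x_opE2 x_g3 x_com2_1Dest) = true := by decide +kernel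

theorem z_checks : (zCtx.opOK opE2 z_opE2 &&
    zCtx.eqCheck 5 [] [] uT z_opE2 1 [] [] z_ezeroDest) = true := by decide +kernel

/-- The operator `E₁ - 1`. -/
def opQ : List (ℕ × List ℕ) := opE1 ++ [(4, [])]

/-- The operator `E₁ - 1` in the table. -/
def w6Q : List (ℕ × ℕ) := w6_opE1 ++ [(4, 0)]

/-- The relations of the first certificate for degree six. -/
def rels7 : List (List (ℕ × ℕ) × List (ℕ × ℕ)) :=
  (List.zip w6_kill7Used w6_kill7Ks).map fun a =>
    (if a.1 < 360 then w6Q else w6_opNT, [(1, a.2)])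

/-- The relations of the second certificate for degree six. -/
def rels9 : List (List (ℕ × ℕ) × List (ℕ × ℕ)) :=
  w6_kill9Ks.map fun k => (w6_opNV, [(1, k)])

/-- The relations of the certificates for degree five. -/
def relsV (used ks : List ℕ) (A E : List (ℕ × ℕ)) : List (List (ℕ × ℕ) × List (ℕ × ℕ)) :=
  (List.zip used ks).map fun a => (if a.1 < 15 then A else E, [(1, a.2)])

theorem w6_checks : (w6Ctx.opOK opQ w6Q && w6Ctx.opOK opNT w6_opNT && w6Ctx.opOK opNV w6_opNV &&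
    eigCheck w6Ctx [] [] (gT6.getD 0 []) w6_g0 w6_opNT 4 w6_ntfix0Dest &&
    eigCheck w6Ctx [] [] (gT6.getD 1 []) w6_g1 w6_opNT 4 w6_ntfix1Dest &&
    eigCheck w6Ctx [] [] (gV1.getD 0 []) w6_g2 w6_opNV 4 w6_nvfix0Dest &&
    eigCheck w6Ctx [] [] (gV1.getD 1 []) w6_g3 w6_opNV 4 w6_nvfix1Dest) = true := by decide +kernel

theorem w6_kill7 : w6Ctx.eqCheck 5 rels7 w6_kill7Steps uT uT 1 [] [] w6_kill7Dest = true := by
  decide +kernel

theorem w6_kill9 : w6Ctx.eqCheck 5 rels9 w6_kill9Steps uT uT 1 [] [] w6_kill9Dest = true := by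
  decide +kernel

theorem v_checks : (v1Ctx.opOK opE1 v1_opE1 && v1Ctx.opOK opNA1 v1_opNA1 &&
    eigCheck v1Ctx [] [] (gA1.getD 0 []) v1_g0 v1_opNA1 4 v1_nafix0Dest &&
    eigCheck v1Ctx [] [] (gA1.getD 1 []) v1_g1 v1_opNA1 4 v1_nafix1Dest &&
    v1Ctx.eqCheck 5 (relsV v1_killUsed v1_killKs v1_opNA1 v1_opE1) v1_killSteps uT uT 1 [] []
      v1_killDest &&
    v2Ctx.opOK opE2 v2_opE2 && v2Ctx.opOK opNA2 v2_opNA2 &&
    eigCheck v2Ctx [] [] (gA2.getD 0 []) v2_g0 v2_opNA2 4 v2_nafix0Dest &&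
    eigCheck v2Ctx [] [] (gA2.getD 1 []) v2_g1 v2_opNA2 4 v2_nafix1Dest &&
    v2Ctx.eqCheck 5 (relsV v2_killUsed v2_killKs v2_opNA2 v2_opE2) v2_killSteps uT uT 1 [] []
      v2_killDest) = true := by decide +kernel

/-- Identities between words. -/
theorem word_checks :
    ((opE2.all fun b => opComm opE1 b.2) &&
    (gS2 ++ gU2 ++ gV2 ++ gA2).all (opComm opE1) && (gS1 ++ gU1 ++ gV1 ++ gA1).all (opComm opE2) &&
    ((gA6 ++ gT6).all fun g => (gA2 ++ gV2).all fun h => wCtx.img (g ++ h) == wCtx.img (h ++ g)) &&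
    wCtx.img (gU.getD 0 []) == wCtx.img (gS1.getD 1 []) &&
    wCtx.img (gU.getD 1 []) == wCtx.img (gS2.getD 1 []) &&
    wCtx.img (gU.getD 2 []) == wCtx.img (flat gS1 [0, 0, 1, 0, 1, 0]) &&
    wCtx.img (gU.getD 3 []) == wCtx.img (flat gS2 [0, 0, 1, 0, 1, 0]) &&
    gU1 == [gU.getD 0 [], gU.getD 2 []] && gU2 == [gU.getD 1 [], gU.getD 3 []] &&
    wCtx.img (flat gU [0, 0, 0, 0, 0]) == wCtx.idImg &&
    wCtx.img (flat gU [1, 1, 1, 1, 1]) == wCtx.idImg &&
    wCtx.img (flat gU [2, 2]) == wCtx.idImg && wCtx.img (flat gU [3, 3]) == wCtx.idImg &&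
    wCtx.img (flat gU [0, 1]) == wCtx.img (flat gU [1, 0]) &&
    wCtx.img (flat gU [0, 2]) == wCtx.img (flat gU [2, 0, 0, 0, 0]) &&
    wCtx.img (flat gU [1, 3]) == wCtx.img (flat gU [3, 1, 1, 1, 1]) &&
    wCtx.img (flat gU [0, 3]) == wCtx.img (flat gU [3, 0]) &&
    wCtx.img (flat gU [1, 2]) == wCtx.img (flat gU [2, 1]) &&
    wCtx.img (flat gU [2, 3]) == wCtx.img (flat gU [3, 2]) &&
    ((List.zip gA1 gA2).all fun a => wCtx.img (a.2 ++ sigma) == wCtx.img (sigma ++ a.1)) &&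
    ((List.zip gV1 gV2).all fun a => wCtx.img (a.2 ++ sigma) == wCtx.img (sigma ++ a.1)))
      = true := by decide +kernel

end Cfsg.Agent.AltSolvCent.Five
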