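/-
The module lemma in characteristic five, from the checked certificates.
-/
import Cfsg.Agent.AltSolvCent.Five

set_option autoImplicit false

namespace Cfsg.Agent.AltSolvCent.Five

open Equiv Ctx

variable {V : Type*} [AddCommGroup V] [DistribMulAction ↥(alternatingGroup (Fin 10)) V]
  (hp : ∀ v : V, 5 • v = 0) (hN : NoFixed ↥(alternatingGroup (Fin 10)) V)

local notation "Op" => Ctx.op gs

/-- The element of a word. -/
local notation "E" => Ctx.el gs

include hp

theorem fix_of (C : Ctx) (hg : C.GensOK gs) (he : C.elts = C.reps) {T Texps S Sexps : List (List ℕ)}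
    {ch : List ℕ} (hb : base C T Texps S Sexps ch = true) {w : V}
    (hw : ∀ k, E (S.getD k []) • w = ch.getD k 1 • w) {g : List ℕ} {gl L : List (ℕ × ℕ)}
    {O : List (ℕ × List ℕ)} {dest : List (ℕ × ℕ)} (hL : C.opOK O L = true)
    (h : eigCheck C [] [] g gl L 4 dest = true) : E g • Op O w = Op O w :=
  eq_of_add_four hp (eig hg he hb hp hw (by simp) hL h)

omit hp in
theorem word_eq {v w : List ℕ} (h : wCtx.img v = wCtx.img w) : E v = E w :=
  eq_of_img (gensOK [] [] [] []) h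

omit hp in
theorem word_one {v : List ℕ} (h : wCtx.img v = wCtx.idImg) (u : V) : E v • u = u := by
  rw [word_eq (v := v) (w := []) h]; simp [el]

theorem idem1 (v : V) : Op opE1 (Op opE1 v) = Op opE1 v := by
  have h := x_checks
  simp only [Bool.and_eq_true] at h
  obtain ⟨⟨⟨⟨⟨⟨⟨⟨⟨⟨⟨hE1, -⟩, -⟩, -⟩, -⟩, -⟩, h1⟩, -⟩, -⟩, -⟩, -⟩, -⟩ := h
  have hg : xCtx.GensOK gs := gensOK _ _ _ _
  have := eqn hg rfl base_x hp (w := v) (fun k => by simp [el]) (by simp) h1
  rw [loc_uT base_x, loc_op hg base_x hE1, loc_op hg base_x hE1] at this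
  exact eq_of_add_four hp this

theorem idem2 (v : V) : Op opE2 (Op opE2 v) = Op opE2 v := by
  have h := x_checks
  simp only [Bool.and_eq_true] at h
  obtain ⟨⟨⟨⟨⟨⟨⟨⟨⟨⟨⟨-, hE2⟩, -⟩, -⟩, -⟩, -⟩, -⟩, h1⟩, -⟩, -⟩, -⟩, -⟩ := h
  have hg : xCtx.GensOK gs := gensOK _ _ _ _
  have := eqn hg rfl base_x hp (w := v) (fun k => by simp [el]) (by simp) h1
  rw [loc_uT base_x, loc_op hg base_x hE2, loc_op hg base_x hE2] at this
  exact eq_of_add_four hp this

omit hp in
theorem comm12 (v : V) : Op opE1 (Op opE2 v) = Op opE2 (Op opE1 v) := by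
  have h := word_checks
  simp only [Bool.and_eq_true] at h
  exact op_op_comm h.1.1.1.1.1.1.1.1.1.1.1.1.1.1.1.1.1.1.1.1.1 v

/-- Translation by `g` permutes the terms of the operator. -/
def opFix (L : List (ℕ × List ℕ)) (g : List ℕ) : Bool :=
  (L.all fun a => a.1 == 1) &&
    (L.map fun a => wCtx.img (g ++ a.2)).isPerm (L.map fun a => wCtx.img a.2)

omit hp in
theorem opFix_checks :
    (gA1.all (opFix opNA1) && gA2.all (opFix opNA2)) = true := by decide +kernel

omit hp in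
theorem op_fixed {L : List (ℕ × List ℕ)} {g : List ℕ} (h : opFix L g = true) (v : V) :
    E g • Op L v = Op L v := by
  simp only [opFix, Bool.and_eq_true, List.all_eq_true, beq_iff_eq, List.isPerm_iff] at h
  obtain ⟨h1, h2⟩ := h
  have hg := gensOK [] [] [] []
  have e : ∀ (f : ℕ × List ℕ → List ℕ), L.map (fun a => wCtx.img (f a)) =
      (L.map fun a => E (f a)).map
        (fun γ : ↥(alternatingGroup (Fin 10)) => imgOf (γ : Perm (Fin 10))) := fun f => by
    rw [List.map_map]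
    exact List.map_congr_left fun a _ => img_eq hg _
  rw [e (fun a => g ++ a.2), e (fun a => a.2),
    List.map_perm_map_iff (fun x y hxy => Subtype.ext (imgOf_injective hxy))] at h2
  have hL : Op L v = ((L.map fun a => E a.2).map (· • v)).sum := by
    rw [op, List.map_map]
    congr 1
    exact List.map_congr_left fun a ha => by simp [h1 a ha]
  rw [hL, List.smul_sum]
  rw [show List.map (fun x => E g • x) ((L.map fun a => E a.2).map (· • v)) =
    ((L.map fun a => E (g ++ a.2)).map (· • v)) by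
      simp only [List.map_map]
      exact List.map_congr_left fun a _ => by simp [el_append, mul_smul]]
  exact (h2.map _).sum_eq

omit hp in
theorem opNV_comm_check : gV2.all (opComm opNV) = true := by decide +kernel

omit hp in
theorem opNV_comm : ∀ g ∈ gV2, opComm opNV g = true :=
  fun g hg => List.all_eq_true.1 opNV_comm_check g hg

/-- The subgroup of elements commuting with an operator on `V`. -/
def comSub (L : List (ℕ × List ℕ)) : Subgroup ↥(alternatingGroup (Fin 10)) where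
  carrier := {γ | ∀ v : V, γ • Op L v = Op L (γ • v)}
  one_mem' v := by simp
  mul_mem' {a b} ha hb v := by rw [mul_smul, hb v, ha (b • v), mul_smul]
  inv_mem' {a} ha v := by
    have := ha (a⁻¹ • v)
    rw [smul_inv_smul] at this
    rw [← this, inv_smul_smul]

omit hp in
theorem mem_comSub_of_opComm {L : List (ℕ × List ℕ)} {h : List ℕ} (hc : opComm L h = true) :
    E h ∈ comSub (V := V) L := fun v => op_smul_comm hc v

theorem gS1_mem : ∀ g ∈ gS1, E g ∈ comSub (V := V) opE1 := by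
  have h := x_checks
  simp only [Bool.and_eq_true] at h
  obtain ⟨⟨⟨⟨⟨⟨⟨⟨⟨⟨⟨hE, -⟩, g0⟩, g1⟩, -⟩, -⟩, -⟩, -⟩, c0⟩, c1⟩, -⟩, -⟩ := h
  have hg : xCtx.GensOK gs := gensOK _ _ _ _
  intro g hgm v
  have e0 := eqn hg rfl base_x hp (w := v) (fun k => by simp [el]) (by simp) c0
  have e1 := eqn hg rfl base_x hp (w := v) (fun k => by simp [el]) (by simp) c1
  simp only [loc_op hg base_x hE, loc_op hg base_x g0, loc_op hg base_x g1, wordOp, op_word]
    at e0 e1
  obtain ⟨i, hi, rfl⟩ := List.getElem_of_mem hgm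
  have : i = 0 ∨ i = 1 := by
    have : gS1.length = 2 := by decide
    omega
  rcases this with rfl | rfl
  · rw [List.getD_eq_getElem _ _ hi] at e0
    exact eq_of_add_four hp e0
  · rw [List.getD_eq_getElem _ _ hi] at e1
    exact eq_of_add_four hp e1

theorem gS2_mem : ∀ g ∈ gS2, E g ∈ comSub (V := V) opE2 := by
  have h := x_checks
  simp only [Bool.and_eq_true] at h
  obtain ⟨⟨⟨⟨⟨⟨⟨⟨⟨⟨⟨-, hE⟩, -⟩, -⟩, g0⟩, g1⟩, -⟩, -⟩, -⟩, -⟩, c0⟩, c1⟩ := h
  have hg : xCtx.GensOK gs := gensOK _ _ _ _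
  intro g hgm v
  have e0 := eqn hg rfl base_x hp (w := v) (fun k => by simp [el]) (by simp) c0
  have e1 := eqn hg rfl base_x hp (w := v) (fun k => by simp [el]) (by simp) c1
  simp only [loc_op hg base_x hE, loc_op hg base_x g0, loc_op hg base_x g1, wordOp, op_word]
    at e0 e1
  obtain ⟨i, hi, rfl⟩ := List.getElem_of_mem hgm
  have : i = 0 ∨ i = 1 := by
    have : gS2.length = 2 := by decide
    omega
  rcases this with rfl | rfl
  · rw [List.getD_eq_getElem _ _ hi] at e0
    exact eq_of_add_four hp e0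
  · rw [List.getD_eq_getElem _ _ hi] at e1
    exact eq_of_add_four hp e1

theorem u_mem (i : ℕ) (hi : i < 4) :
    E (gU.getD i []) ∈ comSub (V := V) opE1 ∧ E (gU.getD i []) ∈ comSub (V := V) opE2 := by
  have h := word_checks
  simp only [Bool.and_eq_true, beq_iff_eq, List.all_eq_true] at h
  obtain ⟨⟨⟨⟨⟨⟨⟨⟨⟨⟨⟨⟨⟨⟨⟨⟨⟨⟨⟨⟨⟨-, h1⟩, h2⟩, -⟩, ea⟩, eb⟩, et1⟩, et2⟩, u1⟩, u2⟩, -⟩, -⟩, -⟩, -⟩, -⟩,
    -⟩, -⟩, -⟩, -⟩, -⟩, -⟩, -⟩ := h
  have m1 : ∀ g ∈ gU1, E g ∈ comSub (V := V) opE2 := fun g hg =>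
    mem_comSub_of_opComm (h2 g (List.mem_append_left _ (List.mem_append_left _
      (List.mem_append_right _ hg))))
  have m2 : ∀ g ∈ gU2, E g ∈ comSub (V := V) opE1 := fun g hg =>
    mem_comSub_of_opComm (h1 g (List.mem_append_left _ (List.mem_append_left _
      (List.mem_append_right _ hg))))
  rw [u1] at m1
  rw [u2] at m2
  have ha1 : E (gU.getD 0 []) ∈ comSub (V := V) opE1 := by
    rw [word_eq ea]
    exact gS1_mem hp _ (by simp [gS1])
  have hb2 : E (gU.getD 1 []) ∈ comSub (V := V) opE2 := by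
    rw [word_eq eb]
    exact gS2_mem hp _ (by simp [gS2])
  have ht1 : E (gU.getD 2 []) ∈ comSub (V := V) opE1 := by
    rw [word_eq et1]; exact el_flat_mem (gS1_mem hp) _
  have ht2 : E (gU.getD 3 []) ∈ comSub (V := V) opE2 := by
    rw [word_eq et2]; exact el_flat_mem (gS2_mem hp) _
  interval_cases i
  · exact ⟨ha1, m1 _ (by simp)⟩
  · exact ⟨m2 _ (by simp), hb2⟩
  · exact ⟨ht1, m1 _ (by simp)⟩
  · exact ⟨m2 _ (by simp), ht2⟩

/-- A nonzero vector of an invariant subset fixed by an element of order five. -/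
theorem exists_fixed_five {P : V → Prop} (hadd : ∀ u v, P u → P v → P (u + v))
    (g : ↥(alternatingGroup (Fin 10))) (hP : ∀ u, P u → P (g • u)) {v : V} (hv : v ≠ 0) (hPv : P v)
    (h5 : g • g • g • g • g • v = v) : ∃ u : V, u ≠ 0 ∧ P u ∧ g • u = u := by
  have hP4 : ∀ u, P u → P (g • u + 4 • u) := fun u hu => hadd _ _ (hP u hu) (by
    simp only [succ_nsmul, one_nsmul, zero_nsmul, zero_add]
    exact hadd _ _ (hadd _ _ (hadd _ _ hu hu) hu) hu)
  set d : V → V := fun u => g • u + 4 • u with hd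
  have h0 : d (d (d (d (d v)))) = 0 := by
    have gn : ∀ (k : ℕ) (x : V), g • (k • x) = k • (g • x) := fun k x => smul_comm g k x
    have : d (d (d (d (d v)))) = g • g • g • g • g • v + 20 • (g • g • g • g • v) +
        160 • (g • g • g • v) + 640 • (g • g • v) + 1280 • (g • v) + 1024 • v := by
      simp only [hd, smul_add, gn, ← mul_nsmul']
      norm_num
      abel
    rw [this, h5]
    have h5' : ∀ (k : ℕ) (x : V), (5 * k) • x = 0 := fun k x => by
      rw [mul_comm, mul_nsmul', hp, smul_zero]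
    rw [show 20 = 5 * 4 from rfl, show 160 = 5 * 32 from rfl, show 640 = 5 * 128 from rfl,
      show 1280 = 5 * 256 from rfl, h5', h5', h5', h5', add_zero, add_zero, add_zero, add_zero,
      ← succ_nsmul', show 1024 + 1 = 5 * 205 from rfl, h5']
  have last : ∀ u, u ≠ 0 → P u → d u = 0 → g • u = u ∧ P u := fun u _ hu h => ⟨eq_of_add_four hp h, hu⟩
  by_cases h1 : d v = 0
  · exact ⟨v, hv, hPv, (last v hv hPv h1).1⟩
  by_cases h2 : d (d v) = 0
  · exact ⟨_, h1, hP4 _ hPv, eq_of_add_four hp h2⟩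
  by_cases h3 : d (d (d v)) = 0
  · exact ⟨_, h2, hP4 _ (hP4 _ hPv), eq_of_add_four hp h3⟩
  by_cases h4 : d (d (d (d v))) = 0
  · exact ⟨_, h3, hP4 _ (hP4 _ (hP4 _ hPv)), eq_of_add_four hp h4⟩
  exact ⟨_, h4, hP4 _ (hP4 _ (hP4 _ (hP4 _ hPv))), eq_of_add_four hp h0⟩

omit hp in
theorem flat_smul (G : List (List ℕ)) (k : ℕ) (e : List ℕ) (u : V) :
    E (flat G (k :: e)) • u = E (G.getD k []) • E (flat G e) • u := by
  rw [show flat G (k :: e) = G.getD k [] ++ flat G e by simp [flat], el_append, mul_smul]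

/-- A nonzero vector of an invariant subset, fixed by the five-cycles and an eigenvector of the
involutions. -/
theorem extract {P : V → Prop} (hadd : ∀ u v, P u → P v → P (u + v))
    (hP : ∀ i < 4, ∀ u, P u → P (E (gU.getD i []) • u)) {v : V} (hv : v ≠ 0) (hPv : P v) :
    ∃ u : V, u ≠ 0 ∧ P u ∧ E (gU.getD 0 []) • u = u ∧ E (gU.getD 1 []) • u = u ∧
      (E (gU.getD 2 []) • u = u ∨ E (gU.getD 2 []) • u = 4 • u) ∧
      (E (gU.getD 3 []) • u = u ∨ E (gU.getD 3 []) • u = 4 • u) := by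
  have h := word_checks
  simp only [Bool.and_eq_true, beq_iff_eq, List.all_eq_true] at h
  obtain ⟨⟨⟨⟨⟨⟨⟨⟨⟨⟨⟨⟨-, a5⟩, b5⟩, t12⟩, t22⟩, ab⟩, at1⟩, bt2⟩, at2⟩, bt1⟩, tt⟩, -⟩, -⟩ := h
  have hnil : ∀ u : V, E (flat gU []) • u = u := fun u => by simp [flat, el]
  have ab' : ∀ u : V, _ := fun u => congrArg (fun γ => γ • u) (word_eq ab)
  have at1' : ∀ u : V, _ := fun u => congrArg (fun γ => γ • u) (word_eq at1)
  have bt2' : ∀ u : V, _ := fun u => congrArg (fun γ => γ • u) (word_eq bt2)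
  have at2' : ∀ u : V, _ := fun u => congrArg (fun γ => γ • u) (word_eq at2)
  have bt1' : ∀ u : V, _ := fun u => congrArg (fun γ => γ • u) (word_eq bt1)
  have tt' : ∀ u : V, _ := fun u => congrArg (fun γ => γ • u) (word_eq tt)
  have a5' := fun u : V => word_one a5 u
  have b5' := fun u : V => word_one b5 u
  have t12' := fun u : V => word_one t12 u
  have t22' := fun u : V => word_one t22 u
  simp only [flat_smul, hnil] at ab' at1' bt2' at2' bt1' tt' a5' b5' t12' t22'
  set a := E (gU.getD 0 [])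
  set b := E (gU.getD 1 [])
  set t := E (gU.getD 2 [])
  set s := E (gU.getD 3 [])
  obtain ⟨u1, hu1, hP1, ha1⟩ := exists_fixed_five hp hadd a (hP 0 (by norm_num)) hv hPv (a5' v)
  obtain ⟨u2, hu2, ⟨hP2, ha2⟩, hb2⟩ := exists_fixed_five hp (P := fun u => P u ∧ a • u = u)
    (fun x y hx hy => ⟨hadd _ _ hx.1 hy.1, by rw [smul_add, hx.2, hy.2]⟩) b
    (fun x hx => ⟨hP 1 (by norm_num) x hx.1, by rw [ab', hx.2]⟩) hu1 ⟨hP1, ha1⟩ (b5' u1)
  obtain ⟨u3, hu3, ⟨hP3, ha3, hb3⟩, ht3⟩ : ∃ u : V, u ≠ 0 ∧ (P u ∧ a • u = u ∧ b • u = u) ∧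
      (t • u = u ∨ t • u = 4 • u) := by
    by_cases h0 : u2 + t • u2 = 0
    · refine ⟨u2, hu2, ⟨hP2, ha2, hb2⟩, Or.inr (neg_of_add hp ?_)⟩
      rw [one_nsmul, add_comm]; exact h0
    · refine ⟨_, h0, ⟨hadd _ _ hP2 (hP 2 (by norm_num) _ hP2), ?_, ?_⟩, Or.inl ?_⟩
      · rw [smul_add, ha2, at1', ha2, ha2, ha2, ha2]
      · rw [smul_add, hb2, bt1', hb2]
      · rw [smul_add, t12', add_comm]
  by_cases h0 : u3 + s • u3 = 0
  · refine ⟨u3, hu3, hP3, ha3, hb3, ht3, Or.inr (neg_of_add hp ?_)⟩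
    rw [one_nsmul, add_comm]; exact h0
  · refine ⟨_, h0, hadd _ _ hP3 (hP 3 (by norm_num) _ hP3), ?_, ?_, ?_, Or.inl ?_⟩
    · rw [smul_add, ha3, at2', ha3]
    · rw [smul_add, hb3, bt2', hb3, hb3, hb3, hb3]
    · rcases ht3 with h3 | h3
      · left; rw [smul_add, h3, tt', h3]
      · right
        rw [smul_add, h3, tt', h3, smul_comm s (4 : ℕ), smul_add]
    · rw [smul_add, t22', add_comm]

omit hp in
theorem hU_four {w : V} {c d : ℕ} (ha : E (gU.getD 0 []) • w = w) (hb : E (gU.getD 1 []) • w = w)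
    (h2 : E (gU.getD 2 []) • w = c • w) (h3 : E (gU.getD 3 []) • w = d • w) (k : ℕ) :
    E (gU.getD k []) • w = [1, 1, c, d].getD k 1 • w := by
  refine chars_ok (by simp [gU]) (fun k hk => ?_) k
  have : k < 4 := by simpa [gU] using hk
  interval_cases k
  · simpa using ha
  · simpa using hb
  · simpa using h2
  · simpa using h3

omit hp in
theorem hU_pair {G : List (List ℕ)} {w : V} {c d : ℕ} (hl : G.length = 2)
    (h0 : E (G.getD 0 []) • w = c • w) (h1 : E (G.getD 1 []) • w = d • w) (k : ℕ) :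
    E (G.getD k []) • w = [c, d].getD k 1 • w := by
  refine chars_ok (by simp [hl]) (fun k hk => ?_) k
  rw [hl] at hk
  interval_cases k
  · simpa using h0
  · simpa using h1

include hN

omit hp in
theorem zero_of_set {j : ℕ} (hj : j < simpleSets.length) {v : V}
    (hv : ∀ g ∈ (simpleSets[j]).1, E g • v = v) : v = 0 := by
  have h := perf_all
  rw [List.all_eq_true] at h
  exact zero_of_perf (C := wCtx) (gensOK [] [] [] []) hN (h _ (List.getElem_mem hj)) hv

omit hp in
theorem zero_of_pair {j : ℕ} (hj : j < simpleSets.length) (hl : (simpleSets[j]).1.length = 2)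
    {v : V} (h0 : E ((simpleSets[j]).1.getD 0 []) • v = v)
    (h1 : E ((simpleSets[j]).1.getD 1 []) • v = v) : v = 0 := by
  refine zero_of_set hN hj fun g hg => ?_
  obtain ⟨i, hi, rfl⟩ := List.getElem_of_mem hg
  rw [hl] at hi
  interval_cases i
  · rwa [List.getD_eq_getElem _ _ (by omega)] at h0
  · rwa [List.getD_eq_getElem _ _ (by omega)] at h1

theorem kill_mm (w : V) (hw : ∀ k, E (gU.getD k []) • w = [1, 1, 4, 4].getD k 1 • w) : w = 0 := by
  by_contra hne
  have hg : mmCtx.GensOK gs := gensOK _ _ _ _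
  have ho := mm_ops
  simp only [Bool.and_eq_true] at ho
  obtain ⟨⟨o1, o2⟩, o3⟩ := ho
  have hT1 := mm_t1eig
  have hT2 := mm_t2eig
  simp only [Bool.and_eq_true] at hT1 hT2
  obtain ⟨⟨⟨a1, b1⟩, c1⟩, d1⟩ := hT1
  obtain ⟨⟨⟨a2, b2⟩, c2⟩, d2⟩ := hT2
  have hsq := mm_sq
  simp only [Bool.and_eq_true] at hsq
  obtain ⟨⟨s1, s2⟩, s3⟩ := hsq
  -- replace `w` by a vector killed by both operators
  let Good : V → Prop := fun u => ∀ k, E (gU.getD k []) • u = [1, 1, 4, 4].getD k 1 • u
  have mv1 : ∀ u, Good u → Good (Op opT1 u) := fun u hu =>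
    hU_four (eq_of_add_four hp (eig hg rfl base_mm hp hu (by simp) o1 a1))
      (eq_of_add_four hp (eig hg rfl base_mm hp hu (by simp) o1 b1))
      (neg_of_add hp (eig hg rfl base_mm hp hu (by simp) o1 c1))
      (neg_of_add hp (eig hg rfl base_mm hp hu (by simp) o1 d1))
  have mv2 : ∀ u, Good u → Good (Op opT2 u) := fun u hu =>
    hU_four (eq_of_add_four hp (eig hg rfl base_mm hp hu (by simp) o2 a2))
      (eq_of_add_four hp (eig hg rfl base_mm hp hu (by simp) o2 b2))
      (neg_of_add hp (eig hg rfl base_mm hp hu (by simp) o2 c2))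
      (neg_of_add hp (eig hg rfl base_mm hp hu (by simp) o2 d2))
  have sq1 : ∀ u, Good u → Op opT1 (Op opT1 u) = 0 := fun u hu => by
    have := eqn hg rfl base_mm hp hu (by simp) s1
    rwa [loc_op hg base_mm o1, loc_op hg base_mm o1, loc_nil, smul_zero, add_zero] at this
  have sq2 : ∀ u, Good u → Op opT2 (Op opT2 u) = 0 := fun u hu => by
    have := eqn hg rfl base_mm hp hu (by simp) s2
    rwa [loc_op hg base_mm o2, loc_op hg base_mm o2, loc_nil, smul_zero, add_zero] at this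
  have cm : ∀ u, Good u → Op opT1 (Op opT2 u) = Op opT2 (Op opT1 u) := fun u hu => by
    have := eqn hg rfl base_mm hp hu (by simp) s3
    simp only [loc_op hg base_mm o1, loc_op hg base_mm o2] at this
    exact eq_of_add_four hp this
  obtain ⟨w1, hw1, hg1, hk1⟩ : ∃ u : V, u ≠ 0 ∧ Good u ∧ Op opT1 u = 0 := by
    by_cases h : Op opT1 w = 0
    · exact ⟨w, hne, hw, h⟩
    · exact ⟨_, h, mv1 w hw, sq1 w hw⟩
  obtain ⟨u, hu, hgu, hu1, hu2⟩ : ∃ u : V, u ≠ 0 ∧ Good u ∧ Op opT1 u = 0 ∧ Op opT2 u = 0 := by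
    by_cases h : Op opT2 w1 = 0
    · exact ⟨w1, hw1, hg1, hk1, h⟩
    · exact ⟨_, h, mv2 w1 hg1, by rw [cm w1 hg1, hk1, op_zero], sq2 w1 hg1⟩
  have hd := mm_delta
  simp only [Bool.and_eq_true] at hd
  obtain ⟨⟨d0, dd⟩, kill⟩ := hd
  have hrel : ∀ a ∈ [(uT, mm_opT1), (uT, mm_opT2)], loc mmCtx gs a.1 (loc mmCtx gs a.2 u) = 0 := by
    intro a ha
    simp only [List.mem_cons, List.not_mem_nil, or_false] at ha
    rcases ha with rfl | rfl
    · rw [loc_uT base_mm, loc_op hg base_mm o1, hu1]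
    · rw [loc_uT base_mm, loc_op hg base_mm o2, hu2]
  have hδ : Op opDelta u = 0 :=
    zero_of_pair hN (j := 3) (by decide) (by decide)
      (eq_of_add_four hp (eig hg rfl base_mm hp hgu (by simp) o3 d0))
      (eq_of_add_four hp (eig hg rfl base_mm hp hgu hrel o3 dd))
  apply hu
  have := eqn hg rfl base_mm hp hgu (rels := [(uT, mm_opT1), (uT, mm_opT2), (uT, mm_opDelta)]) (by
    intro a ha
    simp only [List.mem_cons, List.not_mem_nil, or_false] at ha
    rcases ha with rfl | rfl | rfl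
    · exact hrel _ (by simp)
    · exact hrel _ (by simp)
    · rw [loc_uT base_mm, loc_op hg base_mm o3, hδ]) kill
  rwa [loc_uT base_mm, loc_uT base_mm, loc_nil, smul_zero, add_zero] at this

theorem kill_pp (w : V) (hw : ∀ k, E (gU.getD k []) • w = [1, 1, 1, 1].getD k 1 • w) : w = 0 := by
  have hg : ppCtx.GensOK gs := gensOK _ _ _ _
  have h := pp_checks
  simp only [Bool.and_eq_true] at h
  obtain ⟨⟨⟨⟨⟨⟨⟨⟨⟨o0, o1⟩, o2⟩, a0⟩, b0⟩, a1⟩, b1⟩, a2⟩, b2⟩, kill⟩ := h
  have z0 : Op opQ0 w = 0 := zero_of_pair hN (j := 0) (by decide) (by decide)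
    (fix_of hp _ hg rfl base_pp hw o0 a0) (fix_of hp _ hg rfl base_pp hw o0 b0)
  have z1 : Op opQ1 w = 0 := zero_of_pair hN (j := 1) (by decide) (by decide)
    (fix_of hp _ hg rfl base_pp hw o1 a1) (fix_of hp _ hg rfl base_pp hw o1 b1)
  have z2 : Op opQ2 w = 0 := zero_of_pair hN (j := 3) (by decide) (by decide)
    (fix_of hp _ hg rfl base_pp hw o2 a2) (fix_of hp _ hg rfl base_pp hw o2 b2)
  have := eqn hg rfl base_pp hp hw (rels := [(uT, pp_opQ0), (uT, pp_opQ1), (uT, pp_opQ2)]) (by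
    intro a ha
    simp only [List.mem_cons, List.not_mem_nil, or_false] at ha
    rcases ha with rfl | rfl | rfl
    · rw [loc_uT base_pp, loc_op hg base_pp o0, z0]
    · rw [loc_uT base_pp, loc_op hg base_pp o1, z1]
    · rw [loc_uT base_pp, loc_op hg base_pp o2, z2]) kill
  rwa [loc_uT base_pp, loc_uT base_pp, loc_nil, smul_zero, add_zero] at this

theorem e1_one {w : V} (ha : E (gU.getD 0 []) • w = w) (ht : E (gU.getD 2 []) • w = w) :
    Op opE1 w = w := by
  have hg : p1Ctx.GensOK gs := gensOK _ _ _ _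
  have hw : ∀ k, E (gU1.getD k []) • w = [1, 1].getD k 1 • w :=
    hU_pair (by decide) (by simpa [gU1, gU] using ha) (by simpa [gU1, gU] using ht)
  have h := p1_checks
  simp only [Bool.and_eq_true] at h
  obtain ⟨⟨⟨⟨⟨⟨oP, oE⟩, a0⟩, a1⟩, k⟩, -⟩, -⟩ := h
  have z : Op opP1 w = 0 := zero_of_pair hN (j := 0) (by decide) (by decide)
    (fix_of hp _ hg rfl base_p1 hw oP a0) (fix_of hp _ hg rfl base_p1 hw oP a1)
  have := eqn hg rfl base_p1 hp hw (rels := [(uT, p1_opP1)]) (by
    intro a ha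
    simp only [List.mem_cons, List.not_mem_nil, or_false] at ha
    subst ha
    rw [loc_uT base_p1, loc_op hg base_p1 oP, z]) k
  simp only [loc_uT base_p1, loc_op hg base_p1 oE] at this
  exact eq_of_add_four hp this

theorem e2_one {w : V} (ha : E (gU.getD 1 []) • w = w) (ht : E (gU.getD 3 []) • w = w) :
    Op opE2 w = w := by
  have hg : p2Ctx.GensOK gs := gensOK _ _ _ _
  have hw : ∀ k, E (gU2.getD k []) • w = [1, 1].getD k 1 • w :=
    hU_pair (by decide) (by simpa [gU2, gU] using ha) (by simpa [gU2, gU] using ht)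
  have h := p2_checks
  simp only [Bool.and_eq_true] at h
  obtain ⟨⟨⟨⟨⟨⟨oP, oE⟩, a0⟩, a1⟩, k⟩, -⟩, -⟩ := h
  have z : Op opP2 w = 0 := zero_of_pair hN (j := 1) (by decide) (by decide)
    (fix_of hp _ hg rfl base_p2 hw oP a0) (fix_of hp _ hg rfl base_p2 hw oP a1)
  have := eqn hg rfl base_p2 hp hw (rels := [(uT, p2_opP2)]) (by
    intro a ha
    simp only [List.mem_cons, List.not_mem_nil, or_false] at ha
    subst ha
    rw [loc_uT base_p2, loc_op hg base_p2 oP, z]) k
  simp only [loc_uT base_p2, loc_op hg base_p2 oE] at this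
  exact eq_of_add_four hp this

omit hN in
theorem e1_zero {w : V} (ha : E (gU.getD 0 []) • w = w) (ht : E (gU.getD 2 []) • w = 4 • w) :
    Op opE1 w = 0 := by
  have hg : m1Ctx.GensOK gs := gensOK _ _ _ _
  have hw : ∀ k, E (gU1.getD k []) • w = [1, 4].getD k 1 • w :=
    hU_pair (by decide) (by simpa [gU1, gU] using ha) (by simpa [gU1, gU] using ht)
  have h := p1_checks
  simp only [Bool.and_eq_true] at h
  have := eqn hg rfl base_m1 hp hw (by simp) h.2
  rwa [loc_uT base_m1, loc_op hg base_m1 h.1.2, loc_nil, smul_zero, add_zero] at this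

omit hN in
theorem e2_zero {w : V} (ha : E (gU.getD 1 []) • w = w) (ht : E (gU.getD 3 []) • w = 4 • w) :
    Op opE2 w = 0 := by
  have hg : m2Ctx.GensOK gs := gensOK _ _ _ _
  have hw : ∀ k, E (gU2.getD k []) • w = [1, 4].getD k 1 • w :=
    hU_pair (by decide) (by simpa [gU2, gU] using ha) (by simpa [gU2, gU] using ht)
  have h := p2_checks
  simp only [Bool.and_eq_true] at h
  have := eqn hg rfl base_m2 hp hw (by simp) h.2
  rwa [loc_uT base_m2, loc_op hg base_m2 h.1.2, loc_nil, smul_zero, add_zero] at this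

/-- The subsets on which both operators act in the same way are trivial. -/
theorem mixed_zero {P : V → Prop} (hadd : ∀ u v, P u → P v → P (u + v))
    (hP : ∀ i < 4, ∀ u, P u → P (E (gU.getD i []) • u))
    (h : ∀ u, P u → Op opE1 u = u ∧ Op opE2 u = u ∨ Op opE1 u = 0 ∧ Op opE2 u = 0)
    (v : V) (hv : P v) : v = 0 := by
  by_contra hne
  obtain ⟨u, hu, hPu, ha, hb, ht, hs⟩ := extract hp hadd hP hne hv
  apply hu
  rcases ht with ht | ht <;> rcases hs with hs | hs
  · exact kill_pp hp hN u (hU_four ha hb (by simpa using ht) (by simpa using hs))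
  · rcases h u hPu with ⟨-, h2⟩ | ⟨h1, -⟩
    · rw [← h2, e2_zero hp hb hs]
    · rw [← e1_one hp hN ha ht, h1]
  · rcases h u hPu with ⟨h1, -⟩ | ⟨-, h2⟩
    · rw [← h1, e1_zero hp ha ht]
    · rw [← e2_one hp hN hb hs, h2]
  · exact kill_mm hp hN u (hU_four ha hb ht hs)

theorem e12_zero (v : V) : Op opE1 (Op opE2 v) = 0 := by
  refine mixed_zero hp hN (P := fun u => Op opE1 u = u ∧ Op opE2 u = u)
    (fun x y hx hy => ⟨by rw [op_add, hx.1, hy.1], by rw [op_add, hx.2, hy.2]⟩)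
    (fun i hi x hx => ⟨?_, ?_⟩) (fun x hx => Or.inl hx) _ ⟨idem1 hp _, ?_⟩
  · rw [← (u_mem hp i hi).1 x, hx.1]
  · rw [← (u_mem hp i hi).2 x, hx.2]
  · rw [comm12, idem2 hp]

/-- The two operators sum to the identity. -/
theorem e_sum (v : V) : Op opE1 v + Op opE2 v = v := by
  have h : v + 4 • Op opE1 v + 4 • Op opE2 v = 0 := by
    refine mixed_zero hp hN (P := fun u => Op opE1 u = 0 ∧ Op opE2 u = 0)
      (fun x y hx hy => ⟨by rw [op_add, hx.1, hy.1, add_zero],
        by rw [op_add, hx.2, hy.2, add_zero]⟩)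
      (fun i hi x hx => ⟨?_, ?_⟩) (fun x hx => Or.inr hx) _ ⟨?_, ?_⟩
    · rw [← (u_mem hp i hi).1 x, hx.1, smul_zero]
    · rw [← (u_mem hp i hi).2 x, hx.2, smul_zero]
    · rw [op_add, op_add, op_nsmul, op_nsmul, idem1 hp, e12_zero hp hN, smul_zero, add_zero,
        ← succ_nsmul']
      exact hp _
    · rw [op_add, op_add, op_nsmul, op_nsmul, idem2 hp, ← comm12, e12_zero hp hN, smul_zero,
        add_zero, ← succ_nsmul']
      exact hp _
  rw [add_assoc, ← smul_add] at h
  exact (eq_of_add_four hp h).symm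

/-- A vector fixed by the alternating group on the last four points is zero. -/
theorem fix_A2_zero (w : V) (hw : ∀ g ∈ gA2, E g • w = w) : w = 0 := by
  have hg : w6Ctx.GensOK gs := gensOK _ _ _ _
  have hgz : zCtx.GensOK gs := gensOK _ _ _ _
  have hz := z_checks
  simp only [Bool.and_eq_true] at hz
  have he : ∀ u : V, (∀ g ∈ gA2, E g • u = u) → Op opE1 u = u := by
    intro u hu
    have h2 : ∀ k, E (gA2.getD k []) • u = [1, 1].getD k 1 • u :=
      hU_pair (by decide) (by simpa [gA2] using hu _ (by simp [gA2]))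
        (by simpa [gA2] using hu _ (by simp [gA2]))
    have := eqn hgz rfl base_z hp h2 (by simp) hz.2
    rw [loc_uT base_z, loc_op hgz base_z hz.1, loc_nil, smul_zero, add_zero] at this
    simpa [this] using e_sum hp hN u
  have hc := word_checks
  simp only [Bool.and_eq_true, List.all_eq_true, beq_iff_eq] at hc
  have hcomm := hc.1.1.1.1.1.1.1.1.1.1.1.1.1.1.1.1.1.1.2
  have hT : ∀ k, ∀ g ∈ gA2, E g • E (w6Ctx.get w6Ctx.elts k).1 • w =
      E (w6Ctx.get w6Ctx.elts k).1 • w := by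
    intro k g hg'
    have hb := base_w6
    simp only [base, Bool.and_eq_true] at hb
    have hm := tblFlat_mem (C := w6Ctx) (gs := gs) hb.1.1.1.2
      (H := Subgroup.centralizer {E g}) (fun x hx => by
        rw [Subgroup.mem_centralizer_singleton_iff, ← el_append, ← el_append]
        exact word_eq (hcomm x (List.mem_append_left _ hx) g (List.mem_append_left _ hg'))) rfl k
    rw [Subgroup.mem_centralizer_singleton_iff] at hm
    rw [← mul_smul, ← hm, mul_smul, hw g hg']
  have h := w6_checks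
  simp only [Bool.and_eq_true] at h
  obtain ⟨⟨⟨⟨⟨⟨oQ, oNT⟩, -⟩, t0⟩, t1⟩, -⟩, -⟩ := h
  have hrel : ∀ a ∈ rels7, loc w6Ctx gs a.1 (loc w6Ctx gs a.2 w) = 0 := by
    intro a ha
    obtain ⟨⟨u, k⟩, -, rfl⟩ := List.mem_map.1 ha
    have hk : loc w6Ctx gs [(1, k)] w = E (w6Ctx.get w6Ctx.elts k).1 • w := by simp [loc]
    rw [hk]
    dsimp only
    split_ifs
    · rw [loc_op hg base_w6 oQ, opQ, op_append, he _ (hT k)]
      simp only [op, List.map_cons, List.map_nil, List.sum_cons, List.sum_nil, el, one_smul,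
        add_zero]
      rw [← succ_nsmul']
      exact hp _
    · rw [loc_op hg base_w6 oNT]
      exact zero_of_pair hN (j := 2) (by decide) (by decide)
        (fix_of hp _ hg rfl base_w6 (fun k => by simp [el]) oNT t0)
        (fix_of hp _ hg rfl base_w6 (fun k => by simp [el]) oNT t1)
  have := eqn hg rfl base_w6 hp (fun k => by simp [el]) hrel w6_kill7
  rwa [loc_uT base_w6, loc_uT base_w6, loc_nil, smul_zero, add_zero] at this

omit hp hN in
theorem fixed_pair {G : List (List ℕ)} {v : V} (hl : G.length = 2)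
    (h : ∀ g ∈ G, E g • v = v) (k : ℕ) : E (G.getD k []) • v = [1, 1].getD k 1 • v :=
  hU_pair hl
    (by rw [List.getD_eq_getElem _ _ (by omega), one_smul]; exact h _ (List.getElem_mem _))
    (by rw [List.getD_eq_getElem _ _ (by omega), one_smul]; exact h _ (List.getElem_mem _)) k

omit hp hN in
theorem fixed_list {G : List (List ℕ)} {v : V} (hl : G.length = 2)
    (h0 : E (G.getD 0 []) • v = v) (h1 : E (G.getD 1 []) • v = v) : ∀ g ∈ G, E g • v = v := by
  intro g hg
  obtain ⟨i, hi, rfl⟩ := List.getElem_of_mem hg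
  rw [hl] at hi
  interval_cases i
  · rwa [List.getD_eq_getElem _ _ (by omega)] at h0
  · rwa [List.getD_eq_getElem _ _ (by omega)] at h1

omit hp hN in
theorem conj_fixed {G G' : List (List ℕ)} (hl : G.length = G'.length)
    (h : ∀ a ∈ List.zip G G', wCtx.img (a.2 ++ sigma) = wCtx.img (sigma ++ a.1)) {v : V}
    (hv : ∀ g ∈ G, E g • v = v) : ∀ g ∈ G', E g • E sigma • v = E sigma • v := by
  intro g hg
  obtain ⟨i, hi, rfl⟩ := List.getElem_of_mem hg
  have hi' : i < G.length := hl ▸ hi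
  have hz : (G[i], G'[i]) ∈ List.zip G G' :=
    List.mem_iff_getElem.2 ⟨i, by rw [List.length_zip]; omega, by simp⟩
  rw [← mul_smul, ← el_append, word_eq (h _ hz), el_append, mul_smul, hv _ (List.getElem_mem hi')]

theorem fix_A1_zero (w : V) (hw : ∀ g ∈ gA1, E g • w = w) : w = 0 := by
  have hc := word_checks
  simp only [Bool.and_eq_true, List.all_eq_true, beq_iff_eq] at hc
  have := fix_A2_zero hp hN _ (conj_fixed (by decide) hc.1.2 hw)
  rwa [smul_eq_zero_iff_eq] at this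

/-- A vector fixed by both four-groups is zero. -/
theorem fix_both_zero (w : V) (h1 : ∀ g ∈ gV1, E g • w = w) (h2 : ∀ g ∈ gV2, E g • w = w) :
    w = 0 := by
  have hc := word_checks
  simp only [Bool.and_eq_true, List.all_eq_true, beq_iff_eq] at hc
  obtain ⟨⟨⟨⟨⟨⟨⟨⟨⟨⟨⟨⟨⟨⟨⟨⟨⟨⟨⟨⟨⟨-, k1⟩, k2⟩, -⟩, -⟩, -⟩, -⟩, -⟩, -⟩, -⟩, -⟩, -⟩, -⟩, -⟩, -⟩, -⟩, -⟩,
    -⟩, -⟩, -⟩, -⟩, -⟩ := hc
  have h := v_checks
  simp only [Bool.and_eq_true] at h
  obtain ⟨⟨⟨⟨⟨⟨⟨⟨⟨oE1, oA1⟩, a10⟩, a11⟩, k10⟩, oE2⟩, oA2⟩, a20⟩, a21⟩, k20⟩ := h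
  have hb1 := base_v1
  have hb2 := base_v2
  simp only [base, Bool.and_eq_true] at hb1 hb2
  have hg1 : v1Ctx.GensOK gs := gensOK _ _ _ _
  have hg2 : v2Ctx.GensOK gs := gensOK _ _ _ _
  have z1 : Op opE2 w = 0 := by
    set u := Op opE2 w with hu
    have hfix : ∀ k, E (gV1.getD k []) • u = [1, 1].getD k 1 • u :=
      fixed_pair (by decide) fun g hg => by
        rw [hu, op_smul_comm (k2 g (List.mem_append_left _ (List.mem_append_right _ hg))), h1 g hg]
    have hrel : ∀ a ∈ relsV v1_killUsed v1_killKs v1_opNA1 v1_opE1,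
        loc v1Ctx gs a.1 (loc v1Ctx gs a.2 u) = 0 := by
      intro a ha
      obtain ⟨⟨j, k⟩, -, rfl⟩ := List.mem_map.1 ha
      have hk : loc v1Ctx gs [(1, k)] u = E (v1Ctx.get v1Ctx.elts k).1 • u := by simp [loc]
      rw [hk]
      dsimp only
      split_ifs
      · rw [loc_op hg1 base_v1 oA1]
        have hf := opFix_checks
        simp only [Bool.and_eq_true, List.all_eq_true] at hf
        exact fix_A1_zero hp hN _ fun g hg => op_fixed (V := V) (hf.1 g hg) _
      · have hm := tblFlat_mem (C := v1Ctx) (gs := gs) hb1.1.1.1.2 (gS1_mem (V := V) hp) rfl k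
        rw [loc_op hg1 base_v1 oE1, ← hm u, hu, e12_zero hp hN, smul_zero]
    have := eqn hg1 rfl base_v1 hp hfix hrel k10
    rwa [loc_uT base_v1, loc_uT base_v1, loc_nil, smul_zero, add_zero] at this
  have z2 : Op opE1 w = 0 := by
    set u := Op opE1 w with hu
    have hfix : ∀ k, E (gV2.getD k []) • u = [1, 1].getD k 1 • u :=
      fixed_pair (by decide) fun g hg => by
        rw [hu, op_smul_comm (k1 g (List.mem_append_left _ (List.mem_append_right _ hg))), h2 g hg]
    have hrel : ∀ a ∈ relsV v2_killUsed v2_killKs v2_opNA2 v2_opE2,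
        loc v2Ctx gs a.1 (loc v2Ctx gs a.2 u) = 0 := by
      intro a ha
      obtain ⟨⟨j, k⟩, -, rfl⟩ := List.mem_map.1 ha
      have hk : loc v2Ctx gs [(1, k)] u = E (v2Ctx.get v2Ctx.elts k).1 • u := by simp [loc]
      rw [hk]
      dsimp only
      split_ifs
      · rw [loc_op hg2 base_v2 oA2]
        have hf := opFix_checks
        simp only [Bool.and_eq_true, List.all_eq_true] at hf
        exact fix_A2_zero hp hN _ fun g hg => op_fixed (V := V) (hf.2 g hg) _
      · have hm := tblFlat_mem (C := v2Ctx) (gs := gs) hb2.1.1.1.2 (gS2_mem (V := V) hp) rfl k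
        rw [loc_op hg2 base_v2 oE2, ← hm u, hu, ← comm12, e12_zero hp hN, smul_zero]
    have := eqn hg2 rfl base_v2 hp hfix hrel k20
    rwa [loc_uT base_v2, loc_uT base_v2, loc_nil, smul_zero, add_zero] at this
  simpa [z1, z2] using (e_sum hp hN w).symm

/-- A vector fixed by the four-group on the last four points is zero, once vectors fixed by both
four-groups are. -/
theorem fix_V2_zero (w : V) (hw : ∀ g ∈ gV2, E g • w = w) : w = 0 := by
  have hg : w6Ctx.GensOK gs := gensOK _ _ _ _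
  have h := w6_checks
  simp only [Bool.and_eq_true] at h
  obtain ⟨⟨⟨⟨⟨⟨-, -⟩, oNV⟩, -⟩, -⟩, f0⟩, f1⟩ := h
  have hb := base_w6
  simp only [base, Bool.and_eq_true] at hb
  have hc := word_checks
  simp only [Bool.and_eq_true, List.all_eq_true, beq_iff_eq] at hc
  have hcomm := hc.1.1.1.1.1.1.1.1.1.1.1.1.1.1.1.1.1.1.2
  have hT : ∀ k, ∀ g ∈ gV2, E g • E (w6Ctx.get w6Ctx.elts k).1 • w =
      E (w6Ctx.get w6Ctx.elts k).1 • w := by
    intro k g hg'
    have hm := tblFlat_mem (C := w6Ctx) (gs := gs) hb.1.1.1.2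
      (H := Subgroup.centralizer {E g}) (fun x hx => by
        rw [Subgroup.mem_centralizer_singleton_iff, ← el_append, ← el_append]
        exact word_eq (hcomm x (List.mem_append_left _ hx) g (List.mem_append_right _ hg'))) rfl k
    rw [Subgroup.mem_centralizer_singleton_iff] at hm
    rw [← mul_smul, ← hm, mul_smul, hw g hg']
  have := eqn hg rfl base_w6 hp (w := w) (fun k => by simp [el]) (rels := rels9) (by
    intro a ha
    obtain ⟨k, -, rfl⟩ := List.mem_map.1 ha
    have hk : loc w6Ctx gs [(1, k)] w = E (w6Ctx.get w6Ctx.elts k).1 • w := by simp [loc]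
    rw [hk, loc_op hg base_w6 oNV]
    refine fix_both_zero hp hN _ (fixed_list (by decide)
      (fix_of hp _ hg rfl base_w6 (fun k => by simp [el]) oNV f0)
      (fix_of hp _ hg rfl base_w6 (fun k => by simp [el]) oNV f1)) fun g hg' => ?_
    rw [op_smul_comm, hT k g hg']
    exact opNV_comm g hg') w6_kill9
  rwa [loc_uT base_w6, loc_uT base_w6, loc_nil, smul_zero, add_zero] at this

theorem fix_V1_zero (w : V) (hw : ∀ g ∈ gV1, E g • w = w) : w = 0 := by
  have hc := word_checks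
  simp only [Bool.and_eq_true, List.all_eq_true, beq_iff_eq] at hc
  have := fix_V2_zero hp hN _ (conj_fixed (by decide) hc.2 hw)
  rwa [smul_eq_zero_iff_eq] at this

/-- Every vector is zero. -/
theorem all_zero (w : V) : w = 0 := by
  have hg : w6Ctx.GensOK gs := gensOK _ _ _ _
  have h := w6_checks
  simp only [Bool.and_eq_true] at h
  obtain ⟨⟨⟨⟨⟨⟨-, -⟩, oNV⟩, -⟩, -⟩, f0⟩, f1⟩ := h
  have := eqn hg rfl base_w6 hp (w := w) (fun k => by simp [el]) (rels := rels9) (by
    intro a ha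
    obtain ⟨k, -, rfl⟩ := List.mem_map.1 ha
    have hk : loc w6Ctx gs [(1, k)] w = E (w6Ctx.get w6Ctx.elts k).1 • w := by simp [loc]
    rw [hk, loc_op hg base_w6 oNV]
    exact fix_V1_zero hp hN _ (fixed_list (by decide)
      (fix_of hp _ hg rfl base_w6 (fun k => by simp [el]) oNV f0)
      (fix_of hp _ hg rfl base_w6 (fun k => by simp [el]) oNV f1))) w6_kill9
  rwa [loc_uT base_w6, loc_uT base_w6, loc_nil, smul_zero, add_zero] at this

omit hN in
/-- The module lemma in characteristic five. -/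
theorem exists_fixed (hV : ∃ v : V, v ≠ 0) : ¬ NoFixed ↥(alternatingGroup (Fin 10)) V :=
  fun hN => hV.elim fun v hv => hv (all_zero hp hN v)

end Cfsg.Agent.AltSolvCent.Five
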