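/-
Nonsolvable centralisers of non-central `p`-elements in extensions of simple groups by nilpotent
kernels.
-/
import Cfsg.Agent.AltSolvCent.Fixed
import Cfsg.Agent.Lib.Coprime.Action

set_option autoImplicit false

namespace Cfsg.Agent.AltSolvCent

universe u

variable {H : Type u} {A : Type*} [Group H] [Group A]

/-- The group has a non-central `p`-element with nonsolvable centraliser. -/
def HasBad (p : ℕ) (H : Type*) [Group H] : Prop :=
  ∃ x : H, x ∉ Subgroup.center H ∧ (∃ k : ℕ, orderOf x = p ^ k) ∧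
    ¬ Group.IsSolvable (Subgroup.centralizer ({x} : Set H))

theorem not_solvable_mono {K L : Subgroup H} (h : K ≤ L) (hK : ¬ Group.IsSolvable K) :
    ¬ Group.IsSolvable L := fun hL =>
  hK (@Group.isSolvable_of_isSolvable_injective _ _ _ _ (Subgroup.inclusion h)
    (Subgroup.inclusion_injective h) hL)

theorem not_solvable_of_map {K : Subgroup H} (f : H →* A) (hK : ¬ Group.IsSolvable (K.map f)) :
    ¬ Group.IsSolvable K := fun h =>
  hK (@Group.isSolvable_of_surjective _ _ _ _ (f.subgroupMap K)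
    (f.subgroupMap_surjective K) h)

theorem not_solvable_commutator {M : Subgroup A} (hM : ¬ Group.IsSolvable M) :
    ¬ Group.IsSolvable (⁅M, M⁆ : Subgroup A) := fun h => by
  apply hM
  have : Group.IsSolvable (commutator M) := by
    refine @Group.isSolvable_of_isSolvable_injective _ _ _ _
      ((M.subtype.comp (commutator M).subtype).codRestrict ⁅M, M⁆ fun x => ?_) ?_ h
    · rw [← M.map_subtype_commutator]
      exact ⟨x.1, x.2, rfl⟩
    · intro x y hxy
      exact Subtype.ext (Subtype.ext (congrArg Subtype.val hxy : _))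
  exact @Group.isSolvable_of_ker_le_range _ _ _ _ _ _ (commutator M).subtype Abelianization.of
    (by rw [Abelianization.ker_of]; exact (commutator M).range_subtype.ge) this inferInstance

/-- If a subgroup moves `q` only by central elements, its derived subgroup centralises `q`. -/
theorem commutator_le_centralizer {Y : Subgroup H} {q : H}
    (h : ∀ y ∈ Y, y * q * y⁻¹ * q⁻¹ ∈ Subgroup.center H) :
    ⁅Y, Y⁆ ≤ Subgroup.centralizer ({q} : Set H) := by
  have hc : ∀ y ∈ Y, ∀ g : H, (y * q * y⁻¹ * q⁻¹) * g = g * (y * q * y⁻¹ * q⁻¹) :=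
    fun y hy g => ((Subgroup.mem_center_iff.1 (h y hy)) g).symm
  let c : ↥Y →* ↥(Subgroup.center H) :=
    { toFun := fun y => ⟨y * q * (y : H)⁻¹ * q⁻¹, h y y.2⟩
      map_one' := Subtype.ext (by simp)
      map_mul' := fun a b => Subtype.ext (by
        show (a : H) * b * q * ((a : H) * b)⁻¹ * q⁻¹ = _
        have e := hc b b.2 (a : H)⁻¹
        calc (a : H) * b * q * ((a : H) * b)⁻¹ * q⁻¹
            = a * (((b : H) * q * (b : H)⁻¹ * q⁻¹) * q) * (a : H)⁻¹ * q⁻¹ := by group
          _ = ((b : H) * q * (b : H)⁻¹ * q⁻¹) * (a * q * (a : H)⁻¹ * q⁻¹) := by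
              rw [← mul_assoc (a : H), ← hc b b.2 (a : H)]; group
          _ = (a * q * (a : H)⁻¹ * q⁻¹) * ((b : H) * q * (b : H)⁻¹ * q⁻¹) := hc b b.2 _) }
  rw [← Y.map_subtype_commutator]
  rintro _ ⟨y, hy, rfl⟩
  letI : CommGroup ↥(Subgroup.center H) :=
    { (Subgroup.center H).toGroup with
      mul_comm := fun x y => Subtype.ext (Subgroup.mem_center_iff.1 y.2 x) }
  have := congrArg Subtype.val (MonoidHom.mem_ker.1 (Abelianization.commutator_subset_ker c hy))
  rw [Subgroup.mem_centralizer_singleton_iff]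
  simp only [c, MonoidHom.coe_mk, OneHom.coe_mk, Subgroup.coe_one] at this
  calc (y : H) * q = ((y : H) * q * (y : H)⁻¹ * q⁻¹) * q * y := by group
    _ = q * y := by rw [this, one_mul]

open scoped commutatorElement

variable [Finite H] {f : H →* A} (hf : Function.Surjective f) {p : ℕ} [Fact p.Prime]

include hf

theorem not_center {x : H} (ha : f x ∉ Subgroup.center A) : x ∉ Subgroup.center H := fun hx =>
  ha (Subgroup.mem_center_iff.2 fun g => by
    obtain ⟨g, rfl⟩ := hf g
    rw [← map_mul, ← map_mul, Subgroup.mem_center_iff.1 hx g])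

/-- The normaliser of a Sylow subgroup over a central cyclic `p`-group covers. -/
theorem exists_cover {a : A} (hpa : orderOf a = p) (T : Subgroup A)
    (hT : T ≤ Subgroup.centralizer {a}) :
    ∃ P : Subgroup H, IsPGroup p P ∧ P ≤ (Subgroup.zpowers a).comap f ∧
      (∃ x ∈ P, f x = a) ∧
      ¬ p ∣ P.relIndex ((Subgroup.zpowers a).comap f) ∧
      ((Subgroup.normalizer (P : Set H)) ⊓ (Subgroup.zpowers a ⊔ T).comap f).map f =
        Subgroup.zpowers a ⊔ T := by
  set L := (Subgroup.zpowers a).comap f with hL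
  obtain ⟨P⟩ : Nonempty (Sylow p L) := inferInstance
  set Q := (P : Subgroup L).map L.subtype with hQ
  have hQp : IsPGroup p Q := P.2.map _
  have hQL : Q ≤ L := Subgroup.map_subtype_le _
  have hidx : Q.relIndex L = (P : Subgroup L).index := by
    rw [Subgroup.relIndex, hQ, Subgroup.subgroupOf, Subgroup.comap_map_eq_self_of_injective
      L.subtype_injective]
  have hnd : ¬ p ∣ Q.relIndex L := hidx ▸ P.not_dvd_index
  have hmapL : L.map f = Subgroup.zpowers a := Subgroup.map_comap_eq_self_of_surjective hf _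
  have hmapQ : Q.map f = Subgroup.zpowers a := by
    have hle : Q.map f ≤ Subgroup.zpowers a := hmapL ▸ Subgroup.map_mono hQL
    haveI : Finite A := Finite.of_surjective _ hf
    refine Subgroup.eq_of_le_of_card_ge hle ?_
    have hdvd : Nat.card ↥(Q.map f) ∣ p := by
      have := Subgroup.card_dvd_of_le hle
      rwa [Nat.card_zpowers, hpa] at this
    rcases (Nat.dvd_prime (Fact.out : p.Prime)).1 hdvd with h1 | h1
    · exfalso
      rw [Subgroup.card_eq_one, Subgroup.map_eq_bot_iff] at h1
      apply hnd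
      rw [← Subgroup.relIndex_mul_relIndex Q f.ker L h1 (fun z hz => by
        rw [hL, Subgroup.mem_comap, MonoidHom.mem_ker.1 hz]; exact one_mem _)]
      refine dvd_mul_of_dvd_right ?_ _
      rw [← MonoidHom.comap_bot, Subgroup.relIndex_comap, hmapL, Subgroup.relIndex_bot_left,
        Nat.card_zpowers, hpa]
    · rw [h1, Nat.card_zpowers, hpa]
  refine ⟨Q, hQp, hQL, ?_, hnd, ?_⟩
  · obtain ⟨x, hx, hxa⟩ := (hmapQ.symm ▸ Subgroup.mem_zpowers a : a ∈ Q.map f)
    exact ⟨x, hx, hxa⟩
  · refine le_antisymm ((Subgroup.map_mono inf_le_right).trans (Subgroup.map_comap_le _ _)) ?_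
    intro c hc
    have hcn : ∀ z ∈ Subgroup.zpowers a, c * z * c⁻¹ = z := by
      intro z hz
      have : Subgroup.zpowers a ⊔ T ≤ Subgroup.centralizer {a} :=
        sup_le (Subgroup.zpowers_le.2 (Subgroup.mem_centralizer_singleton_iff.2 rfl)) hT
      obtain ⟨k, rfl⟩ := hz
      have hca : Commute c a := Subgroup.mem_centralizer_singleton_iff.1 (this hc)
      rw [(hca.zpow_right k).eq, mul_inv_cancel_right]
    obtain ⟨g, rfl⟩ := hf c
    have hgL : ∀ l, l ∈ L ↔ g * l * g⁻¹ ∈ L := by
      intro l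
      simp only [hL, Subgroup.mem_comap, map_mul, map_inv]
      constructor
      · intro h; rwa [hcn _ h]
      · intro h
        have := hcn _ h
        have h2 : f g * f l * (f g)⁻¹ = f l := by
          have h3 : f g * (f g * f l * (f g)⁻¹) = (f g * f l * (f g)⁻¹) * f g := by
            conv_rhs => rw [← this]
            group
          simpa [mul_assoc] using h3
        rwa [h2] at h
    have hgN : g ∈ Subgroup.normalizer (L : Set H) := Subgroup.mem_normalizer_iff.2 hgL
    obtain ⟨l, hl, n, hn, rfl⟩ : ∃ l ∈ L, ∃ n ∈ Subgroup.normalizer (Q : Set H), g = l * n := by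
      let K := Subgroup.normalizer (L : Set H)
      haveI : (L.subgroupOf K).Normal := Subgroup.normal_in_normalizer
      let e : ↥(L.subgroupOf K) ≃* ↥L := Subgroup.subgroupOfEquivOfLe Subgroup.le_normalizer
      let P' : Sylow p ↥(L.subgroupOf K) := P.comapOfInjective e.toMonoidHom e.injective
        (by rw [MonoidHom.range_eq_top.2 e.surjective]; exact le_top)
      have hsup := Sylow.normalizer_sup_eq_top P'
      have hg' : (⟨g, hgN⟩ : ↥K) ∈ (L.subgroupOf K) ⊔ Subgroup.normalizer
          (((P' : Subgroup ↥(L.subgroupOf K)).map (L.subgroupOf K).subtype : Subgroup ↥K) : Set ↥K) := by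
        rw [sup_comm, hsup]; exact Subgroup.mem_top _
      obtain ⟨l, hl, n, hn, e0⟩ := Subgroup.mem_sup_of_normal_left.1 hg'
      refine ⟨l, hl, n, ?_, (congrArg Subtype.val e0).symm⟩
      have hmap : ((P' : Subgroup ↥(L.subgroupOf K)).map (L.subgroupOf K).subtype).map K.subtype
          = Q := by
        ext x
        constructor
        · rintro ⟨y, ⟨z, hz, rfl⟩, rfl⟩
          exact ⟨e z, hz, rfl⟩
        · rintro ⟨z, hz, rfl⟩
          exact ⟨_, ⟨e.symm z, (show e (e.symm z) ∈ (P : Subgroup L) by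
            rwa [e.apply_symm_apply]), rfl⟩, rfl⟩
      have := Subgroup.le_normalizer_map (f := K.subtype)
        (H := (P' : Subgroup ↥(L.subgroupOf K)).map (L.subgroupOf K).subtype) ⟨n, hn, rfl⟩
      rwa [hmap] at this
    have hlc : f l ∈ Subgroup.zpowers a := hl
    have hn2 : f n ∈ Subgroup.zpowers a ⊔ T := by
      have : f n = (f l)⁻¹ * f (l * n) := by simp
      rw [this]
      exact mul_mem (inv_mem (Subgroup.mem_sup_left hlc)) hc
    have h1 : f n ∈ ((Subgroup.normalizer (Q : Set H)) ⊓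
        (Subgroup.zpowers a ⊔ T).comap f).map f := ⟨n, ⟨hn, hn2⟩, rfl⟩
    rw [map_mul]
    refine mul_mem ?_ h1
    obtain ⟨q, hq, hqe⟩ : f l ∈ Q.map f := hmapQ.symm ▸ hlc
    refine ⟨q, ⟨Subgroup.le_normalizer hq, ?_⟩, hqe⟩
    exact Subgroup.mem_sup_left (show f q ∈ Subgroup.zpowers a by rw [hqe]; exact hlc)

/-- If all `p`-subgroups of the kernel are central, the lift of `a` is bad. -/
theorem bad_of_central (hcen : ∀ N : Subgroup H, IsPGroup p N → N ≤ f.ker → N ≤ Subgroup.center H)
    {a : A} (hpa : orderOf a = p) (haC : a ∉ Subgroup.center A)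
    (hns : ¬ Group.IsSolvable (Subgroup.centralizer ({a} : Set A))) : HasBad p H := by
  obtain ⟨P, hPp, -, ⟨x, hxP, hxa⟩, -, hmap⟩ := exists_cover hf hpa _ le_rfl
  have hsup : Subgroup.zpowers a ⊔ Subgroup.centralizer ({a} : Set A) =
      Subgroup.centralizer {a} :=
    sup_eq_right.2 (Subgroup.zpowers_le.2 (Subgroup.mem_centralizer_singleton_iff.2 rfl))
  rw [hsup] at hmap
  refine ⟨x, not_center hf (hxa ▸ haC), ?_, ?_⟩
  · obtain ⟨k, hk⟩ := IsPGroup.iff_orderOf.1 hPp ⟨x, hxP⟩
    exact ⟨k, by rw [← hk, Subgroup.orderOf_mk]⟩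
  · set Y := Subgroup.normalizer (P : Set H) ⊓ (Subgroup.centralizer {a}).comap f with hY
    have hc : ⁅Y, Y⁆ ≤ Subgroup.centralizer ({x} : Set H) := by
      refine commutator_le_centralizer fun y hy => ?_
      refine hcen (P ⊓ f.ker) (hPp.to_le inf_le_left) inf_le_right (Subgroup.mem_inf.2 ⟨?_, ?_⟩)
      · exact mul_mem ((Subgroup.mem_normalizer_iff.1 hy.1 x).1 hxP) (inv_mem hxP)
      · have hya : f y * a = a * f y := Subgroup.mem_centralizer_singleton_iff.1 hy.2
        rw [MonoidHom.mem_ker, map_mul, map_mul, map_mul, map_inv, map_inv, hxa, hya,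
          mul_inv_cancel_right, mul_inv_cancel]
    refine not_solvable_mono hc (not_solvable_of_map f ?_)
    rw [Subgroup.map_commutator, hmap]
    exact not_solvable_commutator hns

/-- A nonsolvable `p'`-subgroup centralising `a` gives a bad lift of `a`. -/
theorem bad_of_coprime {a : A} (hpa : orderOf a = p) (haC : a ∉ Subgroup.center A) (T : Subgroup A)
    (hT : T ≤ Subgroup.centralizer {a}) (hns : ¬ Group.IsSolvable T)
    (hcop : (Nat.card T).Coprime p) : HasBad p H := by
  obtain ⟨P, hPp, hPL, ⟨x, hxP, hxa⟩, hnd, hmap⟩ := exists_cover hf hpa T hT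
  have hTz : T ≤ Subgroup.normalizer ((Subgroup.zpowers a : Subgroup A) : Set A) := by
    refine hT.trans fun c hc => Subgroup.mem_normalizer_iff.2 fun z => ?_
    have hca : Commute c a := Subgroup.mem_centralizer_singleton_iff.1 hc
    constructor
    · rintro ⟨k, rfl⟩
      exact ⟨k, by simp only; rw [(hca.zpow_right k).eq, mul_inv_cancel_right]⟩
    · rintro ⟨k, hk⟩
      refine ⟨k, ?_⟩
      simp only at hk ⊢
      calc a ^ k = c⁻¹ * (a ^ k * c) := by rw [← (hca.zpow_right k).eq]; group
        _ = z := by rw [hk]; group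
  set Y := Subgroup.normalizer (P : Set H) ⊓ (Subgroup.zpowers a ⊔ T).comap f with hY
  set L := (Subgroup.zpowers a).comap f with hL
  have hPY : P ≤ Y := le_inf Subgroup.le_normalizer
    (hPL.trans (Subgroup.comap_mono le_sup_left))
  have hidx : (P.relIndex Y).Coprime p := by
    rw [← Subgroup.relIndex_mul_relIndex P (L ⊓ Y) Y (le_inf hPL hPY) inf_le_right]
    refine Nat.Coprime.mul_left ?_ ?_
    · refine ((Fact.out : p.Prime).coprime_iff_not_dvd.2 fun h => hnd (h.trans ?_)).symm
      exact ⟨_, (Subgroup.relIndex_mul_relIndex P (L ⊓ Y) L (le_inf hPL hPY) inf_le_left).symm⟩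
    · rw [Subgroup.inf_relIndex_right, hL, Subgroup.relIndex_comap, hmap,
        sup_comm (Subgroup.zpowers a) T]
      have hdvd : (Subgroup.zpowers a).relIndex (T ⊔ Subgroup.zpowers a) ∣ Nat.card T := by
        haveI : Finite A := Finite.of_surjective _ hf
        letI := Subgroup.normal_subgroupOf_of_le_normalizer hTz
        letI := Subgroup.normal_subgroupOf_sup_of_le_normalizer hTz
        have := Nat.card_congr (QuotientGroup.quotientInfEquivProdNormalizerQuotient T
          (Subgroup.zpowers a) hTz).toEquiv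
        rw [Subgroup.relIndex, Subgroup.index, ← this, ← Subgroup.index]
        exact Subgroup.index_dvd_card _
      exact hcop.coprime_dvd_left hdvd
  -- a complement of `P` in `Y`
  have hPn : (P.subgroupOf Y).Normal :=
    (Subgroup.normal_subgroupOf_iff_le_normalizer hPY).2 inf_le_left
  obtain ⟨m, hm⟩ := IsPGroup.iff_card.1 hPp
  have hcP : (Nat.card (P.subgroupOf Y)).Coprime (P.subgroupOf Y).index := by
    rw [Nat.card_congr (Subgroup.subgroupOfEquivOfLe hPY).toEquiv, hm]
    exact (hidx.pow_right m).symm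
  obtain ⟨K₁, hK₁⟩ := Subgroup.exists_right_complement'_of_coprime hcP
  set K := K₁.map Y.subtype with hK
  have hKY : K ≤ Y := Subgroup.map_subtype_le _
  have hKcard : (Nat.card K).Coprime p := by
    rw [hK, ← Nat.card_congr (Subgroup.equivMapOfInjective K₁ Y.subtype Y.subtype_injective).toEquiv,
      ← hK₁.symm.index_eq_card]
    exact hidx
  have hPK : ∀ y ∈ Y, ∃ u ∈ P, ∃ k ∈ K, y = u * k := by
    intro y hy
    obtain ⟨⟨u, k⟩, e⟩ := hK₁.2 ⟨y, hy⟩
    exact ⟨u.1, u.2, k.1, ⟨k.1, k.2, rfl⟩, (congrArg Subtype.val e).symm⟩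
  have hKns : ¬ Group.IsSolvable K := by
    intro hs
    apply hns
    haveI hP : Group.IsSolvable P := by
      haveI := hPp.isNilpotent
      exact IsNilpotent.to_isSolvable
    have hYs : Group.IsSolvable Y := by
      haveI : Group.IsSolvable (P.subgroupOf Y) :=
        Group.isSolvable_of_isSolvable_injective
          (f := (Subgroup.subgroupOfEquivOfLe hPY).toMonoidHom)
          (Subgroup.subgroupOfEquivOfLe hPY).injective
      haveI : Group.IsSolvable K₁ :=
        Group.isSolvable_of_isSolvable_injective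
          (f := (Subgroup.equivMapOfInjective K₁ Y.subtype Y.subtype_injective).toMonoidHom)
          (Subgroup.equivMapOfInjective K₁ Y.subtype Y.subtype_injective).injective
      haveI : Group.IsSolvable (↥Y ⧸ P.subgroupOf Y) :=
        Group.isSolvable_of_surjective
          (f := ((QuotientGroup.mk' (P.subgroupOf Y)).comp K₁.subtype)) (fun z => by
            induction z using QuotientGroup.induction_on with
            | H y =>
              obtain ⟨⟨u, k⟩, e⟩ := hK₁.2 y
              refine ⟨k, ?_⟩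
              simp only [MonoidHom.comp_apply, Subgroup.coe_subtype, QuotientGroup.mk'_apply,
                ← e, QuotientGroup.mk_mul, (QuotientGroup.eq_one_iff _).2 u.2, one_mul])
      exact Group.isSolvable_of_ker_le_range (P.subgroupOf Y).subtype
        (QuotientGroup.mk' (P.subgroupOf Y)) (by simp)
    by_contra hTs
    exact not_solvable_of_map f (hmap ▸ not_solvable_mono le_sup_right hTs) hYs
  -- a translate of `x` centralises `K`
  set P₀ := P ⊓ f.ker with hP₀
  have hcoset : ∀ k ∈ K, x * k * x⁻¹ * k⁻¹ ∈ P₀ := by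
    intro k hk
    refine Subgroup.mem_inf.2 ⟨?_, ?_⟩
    · have : k * x⁻¹ * k⁻¹ ∈ P :=
        (Subgroup.mem_normalizer_iff.1 (hKY hk).1 x⁻¹).1 (inv_mem hxP)
      simpa [mul_assoc] using mul_mem hxP this
    · have hka : f k ∈ Subgroup.centralizer ({a} : Set A) :=
        sup_le (Subgroup.zpowers_le.2 (Subgroup.mem_centralizer_singleton_iff.2 rfl)) hT (hKY hk).2
      have e : f k * a = a * f k := Subgroup.mem_centralizer_singleton_iff.1 hka
      rw [MonoidHom.mem_ker, map_mul, map_mul, map_mul, map_inv, map_inv, hxa, ← e,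
        mul_inv_cancel_right, mul_inv_cancel]
  have hKn : K ≤ Subgroup.normalizer (P₀ : Set H) := fun k hk => by
    refine Subgroup.mem_normalizer_iff.2 fun z => ?_
    have h1 := Subgroup.mem_normalizer_iff.1 (hKY hk).1 z
    simp only [hP₀, Subgroup.mem_inf, MonoidHom.mem_ker, map_mul, map_inv]
    rw [← h1]
    exact and_congr_right fun _ => (conj_eq_one_iff).symm
  set X := K.map (MulAut.conj x).toMonoidHom with hX
  have hXK : X ≤ P₀ ⊔ K := by
    rintro _ ⟨k, hk, rfl⟩
    have : x * k * x⁻¹ = (x * k * x⁻¹ * k⁻¹) * k := by group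
    rw [MulEquiv.coe_toMonoidHom, MulAut.conj_apply, this]
    exact mul_mem (Subgroup.mem_sup_left (hcoset k hk)) (Subgroup.mem_sup_right hk)
  obtain ⟨z, hz, hzK⟩ := Coprime.exists_conj_le_of_le_sup X P₀ K
    (hXK.trans (sup_le Subgroup.le_normalizer hKn)) hKn (by
      rw [hX, ← Nat.card_congr (Subgroup.equivMapOfInjective K _
        (MulAut.conj x).injective).toEquiv]
      obtain ⟨j, hj⟩ := IsPGroup.iff_card.1 (hPp.to_le (inf_le_left : P₀ ≤ P))
      rw [hj]
      exact hKcard.pow_right j)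
    (Or.inr (by
      haveI := (hPp.to_le (inf_le_left : P₀ ≤ P)).isNilpotent
      exact IsNilpotent.to_isSolvable)) hXK
  have hfix : ∀ k ∈ K, (z * x) * k * (z * x)⁻¹ = k := by
    intro k hk
    have h1 : z * (x * k * x⁻¹) * z⁻¹ ∈ K := hzK _ ⟨k, hk, rfl⟩
    have h2 : z * (x * k * x⁻¹) * z⁻¹ * k⁻¹ ∈ P₀ := by
      have hk2 : k * z⁻¹ * k⁻¹ ∈ P₀ :=
        (Subgroup.mem_normalizer_iff.1 (hKn hk) z⁻¹).1 (inv_mem hz)
      have : z * (x * k * x⁻¹) * z⁻¹ * k⁻¹ = z * (x * k * x⁻¹ * k⁻¹) * (k * z⁻¹ * k⁻¹) := by group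
      rw [this]
      exact mul_mem (mul_mem hz (hcoset k hk)) hk2
    have h3 : z * (x * k * x⁻¹) * z⁻¹ * k⁻¹ = 1 := by
      have hmem : z * (x * k * x⁻¹) * z⁻¹ * k⁻¹ ∈ K ⊓ P₀ :=
        Subgroup.mem_inf.2 ⟨K.mul_mem h1 (K.inv_mem hk), h2⟩
      obtain ⟨j, hj⟩ := IsPGroup.iff_card.1 (hPp.to_le (inf_le_left : P₀ ≤ P))
      rw [Subgroup.inf_eq_bot_of_coprime (by rw [hj]; exact hKcard.pow_right j)] at hmem
      exact hmem
    calc (z * x) * k * (z * x)⁻¹ = z * (x * k * x⁻¹) * z⁻¹ * k⁻¹ * k := by group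
      _ = k := by rw [h3, one_mul]
  have hzx : f (z * x) = a := by
    rw [map_mul, MonoidHom.mem_ker.1 (Subgroup.mem_inf.1 hz).2, one_mul, hxa]
  refine ⟨z * x, not_center hf (hzx ▸ haC), ?_, not_solvable_mono ?_ hKns⟩
  · obtain ⟨k, hk⟩ := IsPGroup.iff_orderOf.1 hPp ⟨z * x, mul_mem hz.1 hxP⟩
    exact ⟨k, by rw [← hk, Subgroup.orderOf_mk]⟩
  · intro k hk
    rw [Subgroup.mem_centralizer_singleton_iff]
    calc k * (z * x) = (z * x) * k * (z * x)⁻¹ * (z * x) := by rw [hfix k hk]
      _ = z * x * k := by group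

omit hf in
theorem exists_min_normal (hne : ∃ N : Subgroup H, N.Normal ∧ IsPGroup p N ∧ N ≤ f.ker ∧
      ¬ N ≤ Subgroup.center H) :
    ∃ W : Subgroup H, W.Normal ∧ IsPGroup p W ∧ W ≤ f.ker ∧ ¬ W ≤ Subgroup.center H ∧
      ∀ N : Subgroup H, N.Normal → N < W → N ≤ Subgroup.center H := by
  classical
  have hex : ∃ n, ∃ N : Subgroup H, Nat.card N = n ∧ N.Normal ∧ IsPGroup p N ∧ N ≤ f.ker ∧
      ¬ N ≤ Subgroup.center H := by
    obtain ⟨N, h⟩ := hne
    exact ⟨_, N, rfl, h⟩
  obtain ⟨W, hcard, hn, hp, hk, hnc⟩ := Nat.find_spec hex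
  refine ⟨W, hn, hp, hk, hnc, fun N hN hlt => ?_⟩
  by_contra hnc'
  have := Nat.find_min' hex ⟨N, rfl, hN, hp.to_le hlt.le, hlt.le.trans hk, hnc'⟩
  exact absurd (Subgroup.eq_of_le_of_card_ge hlt.le (hcard ▸ this)) hlt.ne

/-- The module case: a nilpotent kernel with a non-central `p`-part. -/
theorem bad_or_central [Group.IsNilpotent f.ker]
    (hmod : ∀ (V : Type u) [AddCommGroup V] [DistribMulAction A V], (∀ v : V, p • v = 0) →
      (∃ v : V, v ≠ 0) → ¬ NoFixed A V) :
    HasBad p H ∨ ∀ N : Subgroup H, IsPGroup p N → N ≤ f.ker → N ≤ Subgroup.center H := by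
  classical
  by_cases hne : ∃ N : Subgroup H, N.Normal ∧ IsPGroup p N ∧ N ≤ f.ker ∧ ¬ N ≤ Subgroup.center H
  swap
  · right
    intro N hN hNk
    obtain ⟨S, hS⟩ := (hN.of_equiv (Subgroup.subgroupOfEquivOfLe hNk).symm).exists_le_sylow
    haveI : (S : Subgroup f.ker).Normal := inferInstance
    haveI : (S : Subgroup f.ker).Characteristic := S.characteristic_of_normal inferInstance
    have hle : N ≤ (S : Subgroup f.ker).map f.ker.subtype := fun n hn => ⟨⟨n, hNk hn⟩, hS hn, rfl⟩
    by_contra hc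
    exact hne ⟨(S : Subgroup f.ker).map f.ker.subtype, inferInstance, S.2.map _,
      Subgroup.map_subtype_le _, fun h => hc (hle.trans h)⟩
  left
  obtain ⟨W, hWn, hWp, hWk, hWc, hmin⟩ := exists_min_normal (f := f) hne
  haveI := hWn
  -- the kernel acts trivially modulo the centre
  have hWK : ⁅W, f.ker⁆ ≤ Subgroup.center H := by
    rcases (Subgroup.commutator_le_left W f.ker).lt_or_eq with h | h
    · exact hmin _ inferInstance h
    · exfalso
      obtain ⟨n, hn⟩ := nilpotent_iff_lowerCentralSeries.1 (inferInstance : Group.IsNilpotent f.ker)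
      have key : ∀ n, W ≤ (Subgroup.lowerCentralSeries (⊤ : Subgroup f.ker) n).map f.ker.subtype := by
        intro n
        induction n with
        | zero => rw [Subgroup.lowerCentralSeries_zero, ← MonoidHom.range_eq_map, f.ker.range_subtype]; exact hWk
        | succ n ih =>
          rw [Subgroup.lowerCentralSeries_succ, Subgroup.map_commutator, ← MonoidHom.range_eq_map,
            f.ker.range_subtype]
          exact h.ge.trans (Subgroup.commutator_mono ih le_rfl)
      exact hWc (((key n).trans (by rw [hn, Subgroup.map_bot])).trans bot_le)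
  -- exponent
  have hWexp : ∀ w ∈ W, w ^ p ∈ Subgroup.center H := by
    set Z := Subgroup.center H
    let q := QuotientGroup.mk' Z
    have hcomm : ∀ u ∈ W, ∀ v ∈ W, q u * q v = q v * q u := fun u hu v hv => by
      have hc : q ⁅u, v⁆ = 1 :=
        (QuotientGroup.eq_one_iff _).2 (hWK (Subgroup.commutator_mem_commutator hu (hWk hv)))
      rwa [map_commutatorElement, commutatorElement_eq_one_iff_mul_comm] at hc
    have hmem : ∀ u, u ^ p ∈ Z ↔ q u ^ p = 1 := fun u => by
      rw [← map_pow, ← MonoidHom.mem_ker, QuotientGroup.ker_mk']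
    let W1 : Subgroup H :=
      { carrier := {u | u ∈ W ∧ u ^ p ∈ Z}
        one_mem' := ⟨one_mem _, by rw [one_pow]; exact one_mem _⟩
        mul_mem' := fun {u v} hu hv => ⟨mul_mem hu.1 hv.1, (hmem _).2 (by
          rw [map_mul, Commute.mul_pow (hcomm u hu.1 v hv.1), (hmem u).1 hu.2,
            (hmem v).1 hv.2, one_mul])⟩
        inv_mem' := fun {u} hu => ⟨inv_mem hu.1, by rw [inv_pow]; exact inv_mem hu.2⟩ }
    have hW1n : W1.Normal := ⟨fun u hu g => ⟨hWn.conj_mem u hu.1 g, by
      rw [conj_pow, Subgroup.mem_center_iff.1 hu.2 g, mul_inv_cancel_right]; exact hu.2⟩⟩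
    have hW1c : ¬ W1 ≤ Z := by
      intro h1
      obtain ⟨w, hw, hwc⟩ := SetLike.not_le_iff_exists.1 hWc
      obtain ⟨k, hk⟩ := IsPGroup.iff_orderOf.1 hWp ⟨w, hw⟩
      rw [Subgroup.orderOf_mk] at hk
      have : ∀ j, j ≤ k → w ^ p ^ (k - j) ∈ Z := by
        intro j
        induction j with
        | zero => intro _; rw [Nat.sub_zero, ← hk, pow_orderOf_eq_one]; exact one_mem _
        | succ j ih =>
          intro hj
          refine h1 ⟨pow_mem hw _, ?_⟩
          rw [← pow_mul, ← pow_succ, show k - (j + 1) + 1 = k - j by omega]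
          exact ih (by omega)
      exact hwc (by simpa using this k le_rfl)
    intro w hw
    have hle : W1 ≤ W := fun u hu => hu.1
    rcases hle.lt_or_eq with h | h
    · exact absurd (hmin _ hW1n h) hW1c
    · exact (h.ge hw).2
  -- the module
  set Z := Subgroup.center H with hZ
  set W' := W.map (QuotientGroup.mk' Z) with hW'
  haveI : W'.Normal := hWn.map _ (QuotientGroup.mk'_surjective Z)
  let φ : H →* MulAut ↥W' := MulAut.conjNormal.comp (QuotientGroup.mk' Z)
  have hker : f.ker ≤ φ.ker := by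
    intro k hk
    refine MonoidHom.mem_ker.2 (MulEquiv.ext fun v => Subtype.ext ?_)
    obtain ⟨w, hw, e⟩ := v.2
    show (MulAut.conjNormal (QuotientGroup.mk' Z k) v : H ⧸ Z) = v
    rw [MulAut.conjNormal_apply, ← e]
    have hc : QuotientGroup.mk' Z ⁅w, k⁆ = 1 :=
      (QuotientGroup.eq_one_iff _).2 (hWK (Subgroup.commutator_mem_commutator hw hk))
    rw [map_commutatorElement, commutatorElement_eq_one_iff_mul_comm] at hc
    rw [← hc, mul_inv_cancel_right]
  let ψ : A →* MulAut ↥W' := f.liftOfSurjective hf ⟨φ, hker⟩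
  have hψ : ∀ g v, ψ (f g) v = φ g v := fun g v => by
    rw [show ψ (f g) = φ g from MonoidHom.liftOfRightInverse_comp_apply _ _ _ ⟨φ, hker⟩ g]
  letI : CommGroup ↥W' :=
    { W'.toGroup with
      mul_comm := fun u v => Subtype.ext (by
        obtain ⟨w, hw, e⟩ := u.2
        obtain ⟨w', hw', e'⟩ := v.2
        show (u : H ⧸ Z) * v = v * u
        rw [← e, ← e']
        have hc : QuotientGroup.mk' Z ⁅w, w'⁆ = 1 :=
          (QuotientGroup.eq_one_iff _).2 (hWK (Subgroup.commutator_mem_commutator hw (hWk hw')))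
        rwa [map_commutatorElement, commutatorElement_eq_one_iff_mul_comm] at hc) }
  letI : DistribMulAction A (Additive ↥W') :=
    { smul := fun a v => Additive.ofMul (ψ a v.toMul)
      one_smul := fun v => by show Additive.ofMul (ψ 1 v.toMul) = v; simp
      mul_smul := fun a b v => by
        show Additive.ofMul (ψ (a * b) v.toMul) = Additive.ofMul (ψ a (ψ b v.toMul))
        simp
      smul_zero := fun a => by show Additive.ofMul (ψ a 1) = 0; simp
      smul_add := fun a u v => by
        show Additive.ofMul (ψ a (u.toMul * v.toMul)) = _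
        rw [map_mul]; rfl }
  have hpV : ∀ v : Additive ↥W', p • v = 0 := by
    intro v
    obtain ⟨w, hw, e⟩ := v.toMul.2
    show Additive.ofMul (v.toMul ^ p) = 0
    rw [ofMul_eq_zero]
    refine Subtype.ext ?_
    rw [SubmonoidClass.coe_pow, ← e, ← map_pow, OneMemClass.coe_one]
    exact (QuotientGroup.eq_one_iff _).2 (hWexp w hw)
  have hV : ∃ v : Additive ↥W', v ≠ 0 := by
    obtain ⟨w, hw, hwc⟩ := SetLike.not_le_iff_exists.1 hWc
    refine ⟨Additive.ofMul ⟨QuotientGroup.mk' Z w, ⟨w, hw, rfl⟩⟩, fun h => hwc ?_⟩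
    exact (QuotientGroup.eq_one_iff _).1 (congrArg Subtype.val (ofMul_eq_zero.1 h))
  have hnf := hmod (Additive ↥W') hpV hV
  simp only [NoFixed, not_forall] at hnf
  obtain ⟨M, hM, v, hv, hv0⟩ := hnf
  obtain ⟨q, hqW, hq⟩ := v.toMul.2
  refine ⟨q, fun hc => hv0 ?_, ?_, ?_⟩
  · rw [← ofMul_toMul v, ofMul_eq_zero]
    exact Subtype.ext (by rw [← hq, OneMemClass.coe_one]; exact (QuotientGroup.eq_one_iff _).2 hc)
  · obtain ⟨k, hk⟩ := IsPGroup.iff_orderOf.1 hWp ⟨q, hqW⟩
    exact ⟨k, by rw [← hk, Subgroup.orderOf_mk]⟩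
  · have hc : ⁅M.comap f, M.comap f⁆ ≤ Subgroup.centralizer ({q} : Set H) := by
      refine commutator_le_centralizer fun y hy => ?_
      have h1 : ψ (f y) v.toMul = v.toMul := congrArg Additive.toMul (hv (f y) hy)
      rw [hψ] at h1
      have h2 := congrArg Subtype.val h1
      simp only [φ, MonoidHom.comp_apply, MulAut.conjNormal_apply, ← hq] at h2
      rw [← map_inv, ← map_mul, ← map_mul] at h2
      rw [← QuotientGroup.eq_one_iff, ← QuotientGroup.mk'_apply, map_mul, h2, map_inv, mul_inv_cancel]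
    refine not_solvable_mono hc (not_solvable_of_map f ?_)
    rw [Subgroup.map_commutator, Subgroup.map_comap_eq_self_of_surjective hf]
    exact not_solvable_commutator hM

end Cfsg.Agent.AltSolvCent
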