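import Cfsg.Agent.AltSolvCent.Cert

/-! Machine generated certificate data for fixed vectors of the alternating group of degree nine in characteristic two. -/

set_option autoImplicit false

namespace Cfsg.Agent.AltSolvCent.Two

def gi : List (List ℕ) := [[1, 2, 0, 3, 4, 5, 6, 7, 8], [1, 3, 2, 0, 4, 5, 6, 7, 8], [1, 4, 2, 3, 0, 5, 6, 7, 8], [1, 5, 2, 3, 4, 0, 6, 7, 8], [1, 6, 2, 3, 4, 5, 0, 7, 8], [1, 7, 2, 3, 4, 5, 6, 0, 8], [1, 8, 2, 3, 4, 5, 6, 7, 0]]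

def simpleSets_0 : List (List (List ℕ) × List (List ℕ × List ℕ)) :=
  [([[0], [2, 1, 1, 0]], [([0, 0], [1, 1, 0, 0, 1, 0, 1]), ([0], [0, 1, 0, 1])]),
    ([[2, 1, 1, 0], [3, 2]], [([0, 0, 0], [1, 0, 0, 1, 0, 0, 0, 1]), ([0, 1, 0, 0, 0], [1, 0, 0, 0, 1, 0])]),
    ([[4, 2, 3, 1, 2, 0], [2, 3, 3, 2, 1]], [([0, 0], [1, 0, 1, 0, 0, 0, 0, 1]), ([0, 1, 0, 0, 0, 0], [0, 1, 0, 0, 0, 0, 1])]),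
    ([[4, 2, 3, 1, 2, 0], [5, 4, 2, 0, 3, 1, 2, 0]], [([0, 0], [1, 0, 0, 0, 0, 1, 0, 0, 1]), ([0, 0, 1, 0, 0, 0, 0], [0, 1, 0, 0, 0, 1, 0, 0])]),
    ([[2, 4, 1, 3, 0, 2], [4, 5, 2, 0, 3, 1, 2, 0]], [([0, 0], [1, 0, 0, 0, 0, 1, 0, 0, 1]), ([0, 0, 1, 0, 0, 0, 0], [0, 1, 0, 0, 0, 1, 0, 0])]),
    ([[4, 2, 5, 3, 4, 2, 0, 1, 1, 0], [4, 3, 1, 5, 2, 4, 0], [6, 0, 2, 3, 5, 1, 2, 4, 1, 1, 0]], [([1], [1, 0, 1, 0]), ([2], [1, 1, 1]), ([0, 1, 0], [0, 1, 1, 0, 2])]),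
    ([[4, 2, 5, 3, 4, 2, 0, 1, 1, 0], [3, 1, 5, 2, 4, 0, 1], [0, 6, 3, 2, 1, 5, 4, 2, 1, 0, 0]], [([1], [1, 0, 1, 0]), ([2], [1, 1, 1]), ([0, 1, 0], [0, 1, 1, 0, 2])])]

def simpleSets : List (List (List ℕ) × List (List ℕ × List ℕ)) :=
  simpleSets_0

def chain_0 : List (List ℕ × List ℕ × List (List ℕ)) :=
  [([4, 2, 5, 3, 4, 2], [], []),
    ([3, 2, 5, 4, 3, 2], [], [[0]]),
    ([4, 0, 5, 1, 4, 0], [], [[0], [1, 0]]),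
    ([4, 5, 5, 4], [], [[0], [1, 0], [2]]),
    ([0, 1], [], [[0], [1], [3], [2]]),
    ([2, 3, 1, 0, 5, 4, 1, 0], [], [[3, 2], [4], [2], [2, 0], [1]])]

def chain : List (List ℕ × List ℕ × List (List ℕ)) :=
  chain_0

def kgens0 : List (List ℕ) := [[0, 1, 5, 4, 3, 2, 1, 0], [0, 1, 3, 2, 4, 5], [1, 0, 3, 2, 5, 4, 1, 0]]

def kgens1 : List (List ℕ) := [[3, 5, 0, 1, 4, 2, 1], [2, 3, 0, 1, 5, 4, 1, 0], [5, 4, 0, 1, 2, 3, 1, 0]]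

def kgens2 : List (List ℕ) := [[5, 3, 0, 1, 2, 4], [5, 3, 1, 0, 2, 4, 0]]

def ugens : List (List ℕ) := [[4, 2, 5, 3, 4, 2], [3, 2, 5, 4, 3, 2], [4, 0, 5, 1, 4, 0], [4, 5, 5, 4], [0, 1], [2, 3, 1, 0, 5, 4, 1, 0]]

def a0elts_0 : List (List ℕ × List ℕ) :=
  [([], [0, 1, 2, 3, 4, 5, 6, 7, 8]),
    ([0], [1, 2, 0, 3, 4, 5, 6, 7, 8]),
    ([2, 1, 1, 0], [1, 2, 3, 4, 0, 5, 6, 7, 8]),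
    ([3, 2], [5, 4, 2, 3, 1, 0, 6, 7, 8]),
    ([4, 2, 3, 1, 2, 0], [1, 2, 3, 4, 5, 6, 0, 7, 8]),
    ([2, 3, 3, 2, 1], [0, 3, 2, 1, 5, 4, 6, 7, 8])]

def a0elts : List (List ℕ × List ℕ) :=
  a0elts_0

def a0reps_0 : List (List ℕ × List ℕ) :=
  [([], [0, 1, 2, 3, 4, 5, 6, 7, 8]),
    ([6, 3, 5, 2, 4, 1, 3, 0], [1, 2, 3, 4, 5, 6, 7, 8, 0]),
    ([6, 4, 5, 3, 4, 2, 0, 1], [2, 3, 1, 4, 5, 6, 7, 8, 0]),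
    ([3, 6, 2, 5, 1, 4, 0, 3], [2, 0, 3, 4, 5, 6, 7, 8, 1]),
    ([6, 3, 5, 2, 4, 1, 3], [3, 1, 2, 4, 5, 6, 7, 8, 0]),
    ([4, 6, 3, 5, 2, 4, 1], [0, 3, 2, 4, 5, 6, 7, 8, 1]),
    ([4, 0, 3, 6, 2, 5, 1, 4, 0], [0, 1, 3, 4, 5, 6, 7, 8, 2]),
    ([4, 6, 3, 5, 2, 4, 1, 0], [3, 2, 0, 4, 5, 6, 7, 8, 1]),
    ([0, 4, 6, 3, 5, 2, 4, 1], [1, 3, 0, 4, 5, 6, 7, 8, 2]),
    ([4, 1, 1, 6, 5, 3, 2, 0], [4, 2, 5, 6, 7, 8, 0, 1, 3]),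
    ([4, 3, 1, 0, 6, 5, 3, 2], [1, 4, 5, 6, 7, 8, 0, 2, 3]),
    ([4, 0, 3, 6, 2, 5, 1, 4], [3, 0, 1, 4, 5, 6, 7, 8, 2]),
    ([2, 5, 6, 2, 3, 4, 0, 1], [2, 3, 5, 6, 7, 8, 0, 1, 4]),
    ([3, 4, 0, 1, 5, 6, 2, 3], [4, 0, 5, 6, 7, 8, 1, 2, 3]),
    ([4, 0, 2, 5, 6, 2, 3, 1, 0], [3, 1, 5, 6, 7, 8, 0, 2, 4]),
    ([5, 4, 2, 1, 6, 0, 3, 5, 0], [0, 3, 5, 6, 7, 8, 1, 2, 4]),
    ([0], [1, 2, 0, 3, 4, 5, 6, 7, 8]),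
    ([0, 1, 2, 5, 3, 4, 4], [6, 7, 0, 1, 2, 4, 5, 3, 8]),
    ([0, 2, 1, 3, 2], [5, 1, 0, 2, 3, 4, 6, 7, 8]),
    ([0, 2, 2, 1], [1, 3, 0, 4, 2, 5, 6, 7, 8]),
    ([2, 2, 3], [0, 5, 2, 3, 1, 4, 6, 7, 8]),
    ([4, 5, 1, 2, 6, 0, 3], [2, 5, 4, 6, 7, 8, 0, 1, 3]),
    ([5, 4, 2, 1, 6, 0, 3, 5], [5, 0, 3, 6, 7, 8, 1, 2, 4]),
    ([6, 4, 1, 1, 5, 3, 2], [5, 4, 2, 6, 7, 8, 1, 3, 0]),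
    ([5, 1, 0, 3, 2, 6, 4, 0, 0], [7, 8, 6, 1, 2, 3, 4, 0, 5]),
    ([2, 1, 5, 4, 0, 6, 3, 1], [5, 1, 7, 8, 0, 2, 3, 4, 6]),
    ([1, 2, 4, 3, 0, 5, 6], [7, 8, 6, 0, 1, 4, 3, 5, 2]),
    ([3, 0, 0, 2, 1, 5, 4, 6], [6, 8, 5, 1, 2, 0, 3, 4, 7]),
    ([1, 3, 3, 5, 2, 6, 4, 0], [6, 2, 8, 0, 1, 3, 4, 5, 7]),
    ([2, 1, 5, 3, 6, 0, 0, 4], [5, 6, 8, 1, 0, 3, 2, 4, 7]),
    ([6, 2, 0, 3, 1, 5, 4, 6], [6, 0, 8, 2, 1, 4, 3, 5, 7]),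
    ([4, 0, 5, 2, 6, 4, 0], [0, 1, 8, 3, 2, 5, 4, 6, 7]),
    ([1, 0, 4, 1, 5, 2, 6], [4, 8, 1, 2, 0, 5, 3, 6, 7]),
    ([5, 1, 6, 3, 2, 0, 4, 2, 0], [8, 5, 6, 1, 2, 3, 4, 0, 7]),
    ([0, 3, 1, 5, 2, 4, 4, 0], [7, 0, 6, 2, 3, 1, 4, 5, 8]),
    ([0, 4, 3, 5, 4], [7, 1, 0, 3, 4, 2, 5, 6, 8]),
    ([2, 0, 4, 1, 3, 2], [5, 0, 1, 2, 3, 6, 4, 7, 8]),
    ([3, 4, 4], [6, 1, 2, 3, 4, 0, 5, 7, 8]),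
    ([0, 2, 2, 4, 1, 5], [3, 7, 0, 1, 2, 5, 4, 6, 8]),
    ([1, 0, 2, 4, 1], [6, 0, 1, 4, 3, 5, 2, 7, 8])]

def a0reps_1 : List (List ℕ × List ℕ) :=
  [([1, 5, 6, 3, 4, 1, 2], [0, 4, 2, 5, 6, 7, 8, 1, 3]),
    ([1, 3, 6, 0, 2, 4, 5, 1, 1], [0, 6, 5, 7, 8, 1, 2, 4, 3]),
    ([0, 1, 4, 6, 5, 0], [7, 0, 8, 1, 4, 5, 2, 6, 3]),
    ([5, 3, 1, 2, 6, 0, 2, 4], [5, 6, 4, 7, 8, 1, 2, 0, 3]),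
    ([2, 0, 4, 1, 5, 6, 0], [8, 1, 7, 2, 0, 5, 4, 6, 3]),
    ([2, 1, 3, 5, 4, 0, 0, 6], [7, 8, 6, 1, 0, 4, 5, 3, 2]),
    ([5, 1, 0, 2, 6, 5], [8, 0, 7, 1, 3, 5, 6, 4, 2]),
    ([1, 2, 4, 3, 0, 5, 6, 0], [8, 6, 7, 0, 1, 4, 3, 5, 2]),
    ([0, 1, 6, 2, 0, 4], [0, 6, 8, 1, 3, 5, 4, 7, 2]),
    ([3, 2, 5, 0, 1, 6, 4, 1], [6, 7, 4, 8, 1, 0, 3, 5, 2]),
    ([6, 6, 5, 1, 3, 2, 4, 0], [6, 2, 4, 0, 3, 7, 5, 8, 1]),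
    ([5, 6, 3, 1, 1, 2], [8, 4, 2, 5, 3, 7, 6, 0, 1]),
    ([2, 6, 4, 5, 5, 0], [8, 2, 7, 3, 0, 5, 4, 6, 1]),
    ([2, 6, 4, 0, 0, 3, 1, 5], [3, 7, 6, 8, 0, 2, 4, 5, 1]),
    ([3, 6, 1, 2, 0, 5, 4, 1], [6, 5, 3, 7, 8, 0, 2, 4, 1]),
    ([3, 5, 1, 4, 6, 2], [8, 4, 2, 5, 6, 0, 7, 1, 3]),
    ([3, 1, 5, 6, 0, 2, 2, 4], [8, 6, 7, 1, 2, 0, 4, 5, 3]),
    ([2, 0, 4, 1, 5, 6, 0, 0], [1, 7, 8, 2, 0, 5, 4, 6, 3]),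
    ([2, 1, 0, 6, 4, 0, 5, 3, 0], [5, 8, 7, 1, 0, 4, 2, 6, 3]),
    ([1, 0, 6, 4, 2, 1, 5, 3, 1], [5, 6, 1, 7, 8, 0, 2, 4, 3]),
    ([4, 1, 5, 2, 0, 6, 1], [8, 1, 7, 2, 3, 5, 0, 6, 4]),
    ([0, 4, 3, 2, 1, 6, 5, 2, 1, 0, 0], [0, 6, 5, 7, 8, 2, 1, 3, 4]),
    ([4, 0, 2, 2, 6, 5, 0], [7, 1, 8, 3, 2, 5, 0, 6, 4]),
    ([3, 4, 0, 2, 5, 6, 1, 1], [3, 7, 5, 8, 6, 0, 1, 2, 4]),
    ([0, 5, 4, 2, 1, 6, 5, 3], [1, 5, 0, 6, 7, 8, 2, 3, 4]),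
    ([0, 3, 4, 6, 1, 2, 5, 1, 1, 0], [4, 0, 6, 7, 8, 1, 2, 3, 5]),
    ([4, 5, 0, 3, 3, 6, 1, 2], [3, 4, 6, 7, 8, 2, 0, 1, 5]),
    ([3, 4, 6, 1, 2, 5, 1, 1, 0], [4, 2, 6, 7, 8, 0, 1, 3, 5]),
    ([3, 4, 6, 0, 1, 2, 0, 5], [6, 7, 3, 8, 2, 0, 1, 4, 5]),
    ([3, 2, 6, 0, 1, 3, 5, 4], [7, 6, 4, 8, 1, 2, 0, 3, 5]),
    ([0, 1, 2, 4, 1], [6, 1, 0, 4, 2, 5, 3, 7, 8]),
    ([2, 1, 4, 3, 0, 5, 1, 0], [1, 6, 7, 2, 0, 3, 4, 5, 8]),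
    ([4, 2, 3, 4], [5, 0, 2, 3, 1, 6, 4, 7, 8]),
    ([1, 3, 2, 4, 3], [6, 1, 2, 0, 3, 4, 5, 7, 8]),
    ([0, 1, 2, 5, 3, 4, 4, 0], [7, 0, 6, 1, 2, 4, 5, 3, 8]),
    ([0, 1, 2, 4, 6, 5, 0], [7, 0, 8, 1, 2, 5, 3, 6, 4]),
    ([2, 3, 6, 5, 0, 0, 4, 1, 0], [3, 7, 6, 8, 0, 1, 2, 5, 4]),
    ([3, 4, 2, 1, 6, 5, 2, 1, 0, 0], [2, 5, 6, 7, 8, 0, 1, 3, 4]),
    ([4, 5, 1, 2, 5, 6, 0, 3], [2, 5, 1, 6, 7, 8, 0, 3, 4]),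
    ([4, 1, 5, 3, 0, 6, 2], [8, 4, 7, 1, 2, 3, 0, 6, 5])]

def a0reps_2 : List (List ℕ × List ℕ) :=
  [([3, 1, 6, 5, 2, 0, 0, 4, 1, 0], [1, 4, 6, 7, 8, 0, 2, 3, 5]),
    ([0, 3, 4, 6, 1, 2, 5, 1, 1], [6, 4, 0, 7, 8, 1, 2, 3, 5]),
    ([2, 3, 0, 6, 4, 1, 0, 5], [4, 7, 6, 8, 0, 1, 2, 3, 5]),
    ([4, 1, 2, 6, 3, 0, 5, 2, 0], [6, 8, 7, 1, 2, 4, 0, 5, 3]),
    ([1, 2, 6, 3, 0, 5, 4, 0], [6, 8, 7, 0, 1, 4, 2, 5, 3]),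
    ([2, 3, 4, 5, 1, 0, 6, 1], [8, 6, 7, 2, 0, 1, 4, 5, 3]),
    ([4, 2, 1, 5, 6, 0, 1, 3, 0], [5, 7, 6, 8, 1, 2, 0, 4, 3]),
    ([3, 4, 5, 0, 1, 2, 6, 1, 1], [7, 4, 6, 8, 2, 0, 1, 5, 3]),
    ([1, 4, 2, 5, 3, 0, 6, 1, 0], [0, 7, 8, 2, 3, 4, 1, 6, 5]),
    ([3, 1, 6, 5, 2, 0, 0, 4, 1], [6, 1, 4, 7, 8, 0, 2, 3, 5]),
    ([2, 4, 3, 5, 6, 0, 1, 1], [3, 8, 7, 2, 0, 4, 1, 6, 5]),
    ([3, 2, 6, 4, 5, 3, 0], [0, 2, 7, 3, 1, 6, 4, 8, 5]),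
    ([2, 1, 5, 3, 0, 6, 4, 0, 0], [7, 8, 6, 1, 0, 3, 2, 4, 5]),
    ([0, 1, 4, 2, 5, 6, 0], [8, 0, 7, 1, 3, 5, 2, 6, 4]),
    ([4, 3, 2, 1, 6, 5, 2, 1, 0, 0], [2, 6, 5, 7, 8, 1, 0, 3, 4]),
    ([0, 2, 4, 6, 5, 0], [7, 0, 8, 3, 1, 5, 2, 6, 4]),
    ([0, 3, 2, 4, 6, 3, 5, 0, 0], [0, 1, 7, 3, 2, 6, 5, 8, 4]),
    ([5, 4, 2, 1, 6, 5, 3], [0, 5, 2, 6, 7, 8, 1, 3, 4]),
    ([3, 4, 0, 2, 5, 6, 1, 2], [3, 6, 5, 7, 8, 0, 1, 2, 4]),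
    ([3, 0, 2, 4, 6, 1, 2, 5, 1, 1], [6, 5, 1, 7, 8, 0, 2, 3, 4]),
    ([0, 2, 5, 6, 0], [8, 0, 7, 3, 1, 5, 6, 2, 4]),
    ([1, 5, 2, 0, 6, 1], [8, 0, 7, 2, 3, 5, 6, 1, 4]),
    ([5, 1, 0, 4, 2, 5, 3], [0, 5, 7, 1, 2, 4, 3, 6, 8]),
    ([1, 0, 4, 1, 5], [0, 7, 1, 2, 4, 5, 3, 6, 8]),
    ([2, 0, 4, 1, 3, 2, 0], [0, 1, 5, 2, 3, 6, 4, 7, 8]),
    ([3, 2, 4, 3, 0], [0, 2, 6, 3, 1, 4, 5, 7, 8]),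
    ([2, 1, 3, 4, 0, 5, 1, 0], [1, 5, 7, 2, 0, 4, 3, 6, 8]),
    ([5, 6, 3, 4, 1, 2, 0, 0], [2, 3, 4, 5, 6, 7, 8, 0, 1]),
    ([5, 6, 2, 0, 1], [2, 3, 8, 4, 7, 5, 6, 0, 1]),
    ([0, 6, 2, 0, 4, 1, 5, 3, 0], [5, 8, 7, 0, 2, 3, 4, 6, 1]),
    ([4, 6, 1, 1, 3, 0, 5, 2], [7, 4, 6, 8, 2, 3, 0, 5, 1]),
    ([3, 1, 5, 4, 6, 0, 2, 2], [4, 8, 6, 1, 2, 0, 3, 5, 7]),
    ([5, 2, 6, 5, 0], [0, 2, 8, 3, 1, 5, 6, 4, 7]),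
    ([0, 1, 1, 4, 2, 5, 3, 6], [5, 8, 0, 2, 1, 4, 3, 6, 7]),
    ([0, 3, 1, 5, 2, 6, 4], [8, 6, 0, 2, 3, 1, 4, 5, 7]),
    ([3, 1, 2, 4, 5, 0, 6, 2, 0], [5, 6, 8, 1, 2, 0, 3, 4, 7]),
    ([4, 2, 3, 4, 2, 0], [1, 2, 0, 3, 5, 6, 4, 7, 8]),
    ([2, 1, 4, 0, 3, 2], [5, 0, 3, 1, 2, 6, 4, 7, 8]),
    ([0, 1, 2, 3, 4, 0], [6, 0, 5, 1, 2, 3, 4, 7, 8]),
    ([0, 2, 1, 4, 2], [6, 1, 0, 2, 3, 5, 4, 7, 8])]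

def a0reps_3 : List (List ℕ × List ℕ) :=
  [([0, 3, 5, 1, 4, 6, 2], [8, 4, 0, 5, 6, 1, 7, 2, 3]),
    ([1, 0, 6, 5, 3, 1, 2, 4, 0], [6, 1, 4, 7, 5, 8, 0, 2, 3]),
    ([0, 4, 1, 5, 6, 0, 0], [0, 7, 8, 2, 4, 5, 1, 6, 3]),
    ([2, 1, 3, 6, 5, 0, 4, 4, 0], [7, 8, 6, 1, 0, 4, 2, 5, 3]),
    ([1, 1, 6, 3, 2, 0, 5, 4, 1], [6, 1, 5, 7, 8, 0, 2, 4, 3]),
    ([2, 3, 5, 6, 1, 2, 0, 4], [2, 6, 3, 7, 8, 1, 0, 4, 5]),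
    ([3, 1, 6, 2, 0, 3, 4], [0, 6, 8, 1, 3, 4, 2, 7, 5]),
    ([5, 3, 1, 6, 0, 2, 4, 0], [6, 3, 4, 7, 8, 1, 2, 0, 5]),
    ([4, 3, 1, 6, 5, 2, 1, 0, 0], [2, 4, 6, 7, 8, 1, 0, 3, 5]),
    ([3, 6, 4, 5, 3, 1, 2, 2, 1, 0], [7, 2, 0, 4, 3, 6, 5, 8, 1]),
    ([2, 6, 1, 5, 0], [7, 2, 3, 4, 0, 5, 6, 8, 1]),
    ([2, 6, 4, 5, 3, 2, 2, 0], [7, 2, 0, 3, 5, 6, 4, 8, 1]),
    ([0, 6, 1, 4, 2, 5, 4, 0], [8, 0, 7, 2, 3, 5, 4, 6, 1]),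
    ([5, 6, 1, 3, 2, 1, 0], [7, 2, 4, 5, 3, 8, 6, 0, 1]),
    ([5, 6, 4, 2, 3, 0, 2, 1], [8, 3, 4, 2, 5, 6, 7, 0, 1]),
    ([4, 6, 1, 3], [3, 5, 2, 6, 4, 8, 0, 7, 1]),
    ([1, 6, 2, 5, 3, 0, 5, 4], [8, 6, 7, 0, 3, 4, 2, 5, 1]),
    ([5, 6, 4, 1, 3, 2, 1, 0], [8, 2, 4, 5, 3, 6, 7, 0, 1]),
    ([4, 0, 5, 1, 6, 4, 0], [0, 1, 8, 2, 4, 5, 3, 6, 7]),
    ([2, 3, 4, 0, 5, 1, 6, 2, 0], [0, 5, 8, 2, 3, 1, 4, 6, 7]),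
    ([2, 0, 1, 1, 5, 3, 6, 4, 0], [6, 1, 8, 2, 0, 4, 5, 3, 7]),
    ([3, 2, 4, 3, 5, 0, 6], [2, 8, 0, 3, 1, 4, 5, 6, 7]),
    ([1, 5, 2, 6, 3, 0, 4, 1], [6, 0, 8, 2, 3, 4, 5, 1, 7]),
    ([4, 3, 0, 6, 3, 1, 2, 5], [4, 7, 6, 8, 1, 2, 0, 3, 5]),
    ([1, 4, 3, 0, 6, 2, 5, 5, 0], [8, 6, 7, 0, 2, 3, 1, 4, 5]),
    ([4, 2, 1, 5, 3, 0, 6, 1], [8, 6, 7, 2, 1, 3, 0, 4, 5]),
    ([2, 3, 5, 6, 0, 1, 4, 0, 0], [7, 3, 6, 8, 0, 1, 2, 4, 5]),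
    ([2, 0, 5, 3, 1, 6, 4, 1, 0], [7, 1, 6, 8, 0, 2, 3, 4, 5]),
    ([2, 1, 4, 3, 0, 5, 1, 6], [1, 8, 6, 2, 0, 3, 4, 5, 7]),
    ([5, 1, 6, 3, 0, 4, 2, 5], [4, 0, 8, 1, 2, 3, 5, 6, 7]),
    ([3, 1, 5, 4, 6, 0, 0, 2], [6, 4, 8, 1, 2, 0, 3, 5, 7]),
    ([6, 1, 0, 4, 2, 5, 3, 6], [5, 0, 8, 1, 2, 4, 3, 6, 7]),
    ([5, 1, 6, 2, 0, 3, 4, 5], [6, 0, 8, 1, 3, 4, 2, 5, 7]),
    ([4, 5, 2, 1, 0, 6, 3, 2], [5, 6, 4, 7, 8, 2, 0, 1, 3]),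
    ([1, 1, 6, 4, 2, 0, 5, 3, 1, 0], [1, 6, 5, 7, 8, 2, 0, 4, 3]),
    ([4, 0, 1, 1, 6, 5, 0], [7, 1, 8, 2, 4, 5, 0, 6, 3]),
    ([0, 1, 5, 6, 3, 4, 1, 2], [1, 4, 0, 5, 6, 7, 8, 2, 3]),
    ([1, 2, 6, 4, 5, 5, 0], [8, 2, 7, 0, 1, 5, 4, 6, 3]),
    ([2, 3, 0, 5, 6, 0, 1, 4, 0], [6, 7, 3, 8, 0, 1, 4, 5, 2]),
    ([0, 5, 6, 3, 1, 1], [3, 8, 0, 5, 4, 7, 6, 1, 2])]

def a0reps_4 : List (List ℕ × List ℕ) :=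
  [([5, 0, 4, 6, 2, 3, 3, 1], [8, 3, 1, 5, 6, 4, 7, 0, 2]),
    ([3, 5, 2, 4, 0, 3, 6, 1], [8, 3, 4, 0, 5, 6, 7, 1, 2]),
    ([0, 2, 6, 3, 0, 4], [0, 6, 8, 3, 1, 4, 5, 7, 2]),
    ([4, 6, 1, 2, 0, 5, 3, 1], [5, 6, 3, 7, 8, 2, 0, 4, 1]),
    ([2, 6, 1, 5], [3, 7, 2, 4, 0, 5, 6, 8, 1]),
    ([3, 6, 4, 5, 3, 0], [0, 2, 7, 3, 4, 6, 5, 8, 1]),
    ([5, 6, 3, 4, 1, 2, 2, 0], [6, 2, 4, 5, 3, 7, 8, 0, 1]),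
    ([0, 4, 4, 5, 2, 6], [4, 8, 0, 3, 1, 5, 2, 6, 7]),
    ([1, 1, 4, 0, 5, 3, 6, 0], [8, 0, 5, 1, 4, 2, 3, 6, 7]),
    ([5, 1, 6, 3, 2, 0, 4, 2], [6, 8, 5, 1, 2, 3, 4, 0, 7]),
    ([6, 1, 0, 3, 2, 5, 4, 6], [6, 0, 8, 1, 2, 3, 4, 5, 7]),
    ([1, 2, 0, 3, 4, 5, 0, 6], [3, 8, 6, 0, 1, 4, 2, 5, 7]),
    ([1, 0, 4, 3, 0, 5, 2, 6], [4, 8, 6, 0, 1, 2, 3, 5, 7]),
    ([1, 2, 0, 4, 5, 0, 6, 3], [8, 5, 6, 0, 1, 3, 4, 2, 7]),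
    ([6, 3, 5, 1, 4, 2, 3], [4, 1, 2, 5, 3, 6, 7, 8, 0]),
    ([6, 0, 1, 4, 5, 1, 2, 3, 0], [5, 1, 4, 6, 7, 8, 2, 3, 0]),
    ([6, 1, 2, 4, 3, 0, 5, 2], [7, 8, 6, 1, 2, 4, 3, 5, 0]),
    ([2, 0, 1, 1, 5, 3, 6, 4], [8, 6, 1, 2, 0, 4, 5, 3, 7]),
    ([0, 1, 2, 5, 3, 6, 4, 0, 0], [0, 8, 6, 1, 2, 4, 5, 3, 7]),
    ([2, 3, 0, 5, 1, 6, 4, 0, 0], [4, 8, 6, 2, 0, 1, 3, 5, 7]),
    ([6, 1, 2, 3, 4, 0, 5, 2, 0], [8, 5, 7, 1, 2, 3, 4, 6, 0]),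
    ([6, 2, 5, 5, 0], [8, 2, 7, 3, 1, 5, 6, 4, 0]),
    ([6, 0, 2, 1, 5, 2, 0], [8, 1, 7, 2, 3, 5, 6, 4, 0]),
    ([6, 3, 5, 5, 4, 0, 3], [2, 1, 8, 3, 4, 6, 7, 5, 0]),
    ([6, 4, 3, 1, 2, 5, 0, 2], [2, 5, 4, 6, 7, 8, 1, 3, 0]),
    ([4, 2, 6, 0, 1, 3, 5, 0], [7, 4, 5, 8, 1, 2, 0, 3, 6]),
    ([4, 1, 6, 3, 0, 5, 2], [7, 4, 8, 1, 2, 3, 0, 5, 6]),
    ([1, 2, 0, 0, 4, 3, 6, 5, 0], [7, 4, 8, 0, 1, 3, 2, 5, 6]),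
    ([2, 3, 1, 5, 4, 0, 6, 1, 0], [4, 7, 8, 2, 0, 1, 3, 5, 6]),
    ([3, 4, 5, 6, 0, 1, 2, 0], [4, 7, 3, 8, 2, 0, 1, 5, 6]),
    ([2, 3, 4, 0, 0, 6, 5, 1], [7, 3, 6, 8, 0, 1, 4, 5, 2]),
    ([4, 2, 0, 1, 6, 3, 1, 5], [4, 7, 6, 8, 1, 3, 0, 5, 2]),
    ([1, 3, 2, 5, 3, 0, 4, 6], [6, 8, 7, 0, 3, 4, 1, 5, 2]),
    ([2, 4, 5, 0, 1, 6, 3, 1], [5, 7, 6, 8, 0, 3, 1, 4, 2]),
    ([2, 1, 3, 4, 5, 0, 0, 6], [6, 8, 7, 1, 0, 4, 3, 5, 2]),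
    ([3, 0, 2, 1, 4, 3, 0], [0, 1, 6, 2, 5, 3, 4, 7, 8]),
    ([2, 0, 4, 2], [6, 0, 1, 3, 2, 5, 4, 7, 8]),
    ([1, 4, 2, 3, 4], [5, 1, 2, 0, 3, 6, 4, 7, 8]),
    ([3, 2, 6, 5, 2, 1, 4], [3, 6, 2, 7, 8, 0, 1, 4, 5]),
    ([3, 4, 6, 0, 2, 5, 1, 1], [3, 4, 6, 7, 8, 0, 1, 2, 5])]

def a0reps_5 : List (List ℕ × List ℕ) :=
  [([3, 0, 6, 4, 1, 1, 5, 2, 1], [4, 6, 1, 7, 8, 0, 2, 3, 5]),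
    ([3, 4, 6, 1, 2, 5, 0, 1], [2, 6, 4, 7, 8, 0, 1, 3, 5]),
    ([3, 5, 6, 1, 2, 0, 5, 4], [1, 6, 3, 7, 8, 0, 2, 4, 5]),
    ([2, 4, 0, 1, 6, 3, 1, 5], [6, 7, 4, 8, 0, 3, 1, 5, 2]),
    ([4, 0, 1, 6, 5, 3, 2], [5, 4, 1, 6, 7, 8, 0, 3, 2]),
    ([2, 1, 4, 3, 5, 0, 0, 6], [5, 8, 7, 1, 0, 3, 4, 6, 2]),
    ([4, 3, 0, 1, 6, 5, 2, 1, 0], [5, 6, 4, 7, 8, 1, 0, 3, 2]),
    ([0, 1, 2, 4, 1, 3], [1, 5, 0, 4, 2, 6, 3, 7, 8]),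
    ([5, 2, 0, 4, 3, 5], [5, 0, 7, 3, 1, 2, 4, 6, 8]),
    ([2, 0, 1, 2, 4], [0, 6, 1, 4, 2, 5, 3, 7, 8]),
    ([0, 3, 2, 4, 3, 5, 1], [7, 3, 0, 1, 2, 4, 5, 6, 8]),
    ([1, 4, 4], [6, 1, 2, 0, 4, 5, 3, 7, 8]),
    ([1, 2, 6, 3, 4, 0, 5, 4], [7, 8, 5, 0, 1, 4, 2, 6, 3]),
    ([2, 0, 1, 1, 6, 4, 0], [6, 1, 8, 2, 0, 5, 4, 7, 3]),
    ([4, 2, 1, 0, 6, 3, 1, 5], [6, 7, 4, 8, 1, 2, 0, 5, 3]),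
    ([3, 4, 0, 2, 5, 6, 1, 2, 0], [6, 5, 3, 7, 8, 0, 1, 2, 4]),
    ([4, 3, 2, 1, 6, 5, 2, 1], [6, 5, 2, 7, 8, 1, 0, 3, 4]),
    ([0, 4, 3, 2, 1, 6, 5, 2, 1], [6, 5, 0, 7, 8, 2, 1, 3, 4]),
    ([3, 0, 4, 2, 5, 6, 0, 0], [1, 7, 8, 3, 2, 0, 5, 6, 4]),
    ([2, 5, 4, 0, 1, 6, 3, 1, 0], [6, 7, 5, 8, 0, 3, 4, 1, 2]),
    ([1, 2, 4, 3, 0, 0, 6, 5], [8, 7, 5, 0, 1, 4, 3, 6, 2]),
    ([3, 4, 2, 0, 5, 6, 1, 2, 0], [5, 6, 3, 7, 8, 0, 1, 4, 2]),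
    ([1, 2, 0, 3, 4, 6, 5, 0, 0], [3, 8, 7, 0, 1, 4, 2, 6, 5]),
    ([2, 4, 5, 3, 0, 6, 3, 1], [6, 3, 7, 8, 0, 2, 1, 4, 5]),
    ([2, 4, 5, 3, 1, 6, 3, 1, 0], [7, 2, 6, 8, 0, 3, 1, 4, 5]),
    ([6, 4, 2, 0, 5, 3, 1, 6, 0], [0, 6, 3, 7, 8, 2, 1, 4, 5]),
    ([4, 6, 1, 3, 5, 2, 2, 0], [5, 2, 4, 6, 7, 8, 0, 3, 1]),
    ([3, 6, 5, 0, 4, 2, 3, 1], [0, 3, 8, 4, 2, 6, 7, 5, 1]),
    ([5, 6, 1, 2, 4, 0, 3, 3], [5, 6, 4, 7, 8, 2, 3, 0, 1]),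
    ([2, 6, 5, 1, 0, 3, 4, 0], [6, 7, 5, 8, 0, 3, 2, 4, 1]),
    ([6, 6, 5, 0], [7, 2, 0, 3, 4, 5, 6, 8, 1]),
    ([0, 3, 2, 4, 1, 3, 6, 0, 0], [0, 1, 8, 4, 2, 6, 5, 7, 3]),
    ([2, 4, 5, 0, 1, 3, 6, 1, 1], [7, 5, 6, 8, 0, 2, 1, 4, 3]),
    ([3, 4, 0, 1, 5, 6, 1, 2], [6, 4, 5, 7, 8, 0, 1, 2, 3]),
    ([4, 2, 5, 3, 0, 1, 1, 6], [5, 8, 7, 2, 1, 4, 0, 6, 3]),
    ([1, 2, 6, 4, 0, 5, 3, 0], [5, 8, 7, 0, 1, 2, 4, 6, 3]),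
    ([2, 3, 4, 0, 1, 5, 6, 1, 1], [6, 7, 5, 8, 0, 1, 4, 2, 3]),
    ([2, 2, 3, 0, 4], [2, 6, 0, 3, 1, 4, 5, 7, 8]),
    ([0, 4, 2, 5, 4], [7, 1, 0, 3, 2, 5, 4, 6, 8]),
    ([0, 3, 3], [5, 1, 0, 3, 4, 2, 6, 7, 8])]

def a0reps_6 : List (List ℕ × List ℕ) :=
  [([0, 3, 4, 6, 1, 2, 5, 0, 1], [0, 6, 4, 7, 8, 1, 2, 3, 5]),
    ([3, 0, 6, 2, 0, 4], [1, 6, 8, 3, 2, 0, 4, 7, 5]),
    ([4, 5, 3, 1, 6, 0, 2, 3, 0], [6, 3, 4, 7, 8, 2, 0, 1, 5]),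
    ([6, 3, 2, 0, 5, 4, 1], [6, 3, 5, 7, 8, 1, 2, 4, 0]),
    ([6, 3, 0, 4, 3, 5], [1, 7, 8, 3, 4, 2, 5, 6, 0]),
    ([6, 5, 4, 3, 5, 1, 0, 2], [2, 4, 1, 5, 3, 7, 8, 6, 0]),
    ([6, 2, 1, 4, 3, 0, 0, 5], [6, 7, 5, 8, 1, 3, 4, 2, 0]),
    ([3, 4, 4, 5], [1, 7, 2, 3, 4, 0, 5, 6, 8]),
    ([3, 2, 4, 3], [6, 0, 2, 3, 1, 4, 5, 7, 8]),
    ([2, 2, 5], [0, 7, 2, 3, 1, 5, 6, 4, 8]),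
    ([4, 3, 1, 6, 5, 2, 1], [4, 6, 2, 7, 8, 1, 0, 3, 5]),
    ([6, 1, 0, 2, 4, 3, 5, 6], [7, 0, 8, 1, 3, 4, 2, 6, 5]),
    ([5, 3, 1, 6, 0, 2, 4, 5], [6, 0, 3, 7, 8, 1, 2, 4, 5]),
    ([6, 4, 0, 5], [2, 7, 8, 3, 4, 5, 1, 6, 0]),
    ([6, 2, 5, 4, 2, 3, 1, 2, 0], [7, 2, 3, 1, 5, 6, 4, 8, 0]),
    ([6, 3, 5, 2, 1, 1, 0], [7, 2, 3, 4, 5, 1, 6, 8, 0]),
    ([6, 3, 5, 4, 1, 3, 2, 0, 1], [2, 7, 1, 4, 3, 6, 5, 8, 0]),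
    ([2, 4, 5, 6, 0, 1, 3, 0, 0], [7, 3, 5, 8, 0, 2, 1, 4, 6]),
    ([2, 5, 1, 0, 4, 3, 6, 1, 1], [4, 5, 7, 8, 0, 2, 3, 1, 6]),
    ([3, 1, 0, 4, 2, 6, 5, 0], [7, 5, 8, 1, 2, 0, 3, 4, 6]),
    ([3, 1, 5, 4, 0, 6, 2], [8, 4, 7, 1, 2, 0, 3, 5, 6]),
    ([3, 0, 4, 1, 5, 2, 6, 3, 0], [0, 1, 8, 2, 3, 4, 5, 6, 7]),
    ([1, 2, 0, 4, 5, 0, 6, 3, 0], [5, 6, 8, 0, 1, 3, 4, 2, 7]),
    ([4, 2, 5, 3, 6, 4, 0], [0, 2, 8, 3, 1, 4, 5, 6, 7]),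
    ([3, 0, 4, 1, 5, 3, 6, 2], [8, 4, 1, 2, 0, 3, 5, 6, 7]),
    ([1, 2, 6, 3, 4, 0, 5, 4, 0], [8, 5, 7, 0, 1, 4, 2, 6, 3]),
    ([0, 1, 2, 6, 4, 0, 5], [0, 7, 8, 1, 2, 5, 4, 6, 3]),
    ([1, 2, 6, 0, 4, 3, 5, 4, 0], [8, 4, 7, 0, 1, 2, 5, 6, 3]),
    ([1, 4, 6, 0, 3, 2, 5, 3, 0], [8, 6, 7, 0, 2, 4, 1, 5, 3]),
    ([5, 0, 3, 6, 2, 0, 1], [1, 3, 8, 4, 5, 7, 6, 0, 2]),
    ([1, 2, 3, 4, 0, 5, 6, 0], [8, 5, 7, 0, 1, 3, 4, 6, 2]),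
    ([0, 0, 6, 5, 4, 3, 2, 1, 0], [3, 1, 4, 5, 6, 7, 8, 0, 2]),
    ([0, 1, 2, 5, 3, 6, 4], [8, 6, 0, 1, 2, 4, 5, 3, 7]),
    ([3, 2, 5, 3, 6, 1, 0, 4], [2, 6, 8, 0, 1, 4, 3, 5, 7]),
    ([2, 6, 5, 1, 4, 2, 3, 0, 1], [2, 8, 0, 5, 3, 6, 7, 4, 1]),
    ([5, 6, 4, 1, 3, 2, 1], [4, 8, 2, 5, 3, 6, 7, 0, 1]),
    ([3, 6, 0, 2, 4, 5, 1, 1], [3, 6, 5, 7, 8, 0, 2, 4, 1]),
    ([5, 6, 0, 3, 4, 0, 1, 2, 0], [4, 5, 3, 6, 7, 8, 2, 0, 1]),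
    ([4, 2, 1, 0, 3, 6, 5, 1], [7, 6, 4, 8, 1, 3, 0, 5, 2]),
    ([5, 0, 3, 6, 4, 5], [6, 0, 1, 3, 4, 7, 5, 8, 2])]

def a0reps_7 : List (List ℕ × List ℕ) :=
  [([1, 2, 3, 4, 5, 0, 0, 6], [6, 8, 7, 0, 1, 3, 4, 5, 2]),
    ([3, 4, 0, 1, 6, 5, 2, 1], [4, 6, 5, 7, 8, 0, 1, 3, 2]),
    ([5, 0, 4, 6, 3, 2, 2, 1], [8, 3, 1, 4, 5, 6, 7, 0, 2]),
    ([0, 2, 6, 1], [8, 3, 0, 4, 1, 5, 6, 7, 2]),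
    ([3, 0, 4, 6, 3, 0], [0, 1, 8, 3, 4, 6, 5, 7, 2]),
    ([3, 5, 1, 4, 0, 2, 6, 0], [8, 3, 4, 5, 6, 0, 7, 1, 2]),
    ([6, 4, 0, 1, 5, 0, 2, 3, 0], [5, 3, 4, 6, 7, 8, 1, 2, 0]),
    ([6, 4, 5, 3, 4, 1, 0, 2], [2, 4, 1, 5, 3, 6, 7, 8, 0]),
    ([6, 0, 5, 2, 4, 1, 0, 0], [1, 6, 3, 4, 2, 5, 7, 8, 0]),
    ([0, 3, 1, 4, 2, 5, 3, 0], [1, 0, 7, 2, 3, 4, 5, 6, 8]),
    ([0, 2, 1, 4, 2, 5, 3, 0], [5, 0, 7, 2, 3, 1, 4, 6, 8]),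
    ([5, 2, 0, 4, 6, 5], [8, 0, 7, 3, 1, 5, 4, 6, 2]),
    ([4, 3, 1, 0, 5, 6, 1, 2], [6, 4, 5, 7, 8, 1, 0, 3, 2]),
    ([0, 5, 6, 4, 3, 3, 1], [8, 3, 0, 5, 4, 6, 7, 1, 2]),
    ([4, 5, 0, 2, 6, 0, 3, 1], [5, 3, 4, 6, 7, 8, 0, 1, 2]),
    ([3, 2, 6, 0, 1, 3, 5, 4, 0], [6, 4, 7, 8, 1, 2, 0, 3, 5]),
    ([1, 2, 3, 4, 6, 0, 5, 5], [7, 8, 6, 0, 1, 3, 4, 2, 5]),
    ([2, 3, 5, 6, 1, 1, 4, 0], [6, 2, 7, 8, 0, 1, 3, 4, 5]),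
    ([0, 1, 4, 2, 5, 3, 0], [5, 0, 7, 1, 3, 4, 2, 6, 8]),
    ([0, 1, 2, 4, 3, 0], [5, 0, 6, 1, 2, 4, 3, 7, 8]),
    ([2, 3, 0, 4, 1, 5, 6, 0], [8, 4, 7, 2, 0, 1, 5, 6, 3]),
    ([5, 0, 4, 2, 3, 1, 1, 6], [4, 8, 1, 5, 2, 6, 7, 0, 3]),
    ([3, 2, 5, 1, 4, 6, 3, 0], [0, 2, 8, 4, 1, 6, 7, 5, 3]),
    ([5, 6, 3, 4, 1, 2], [3, 4, 2, 5, 6, 7, 8, 0, 1]),
    ([5, 6, 4, 0, 2, 3, 1, 1], [3, 4, 8, 5, 6, 2, 7, 0, 1]),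
    ([1, 6, 4, 2, 0, 5, 3, 1, 0], [0, 6, 5, 7, 8, 2, 3, 4, 1]),
    ([5, 6, 2, 3, 1, 2, 0], [7, 2, 3, 4, 5, 8, 6, 0, 1]),
    ([5, 6, 3, 1, 1], [3, 8, 2, 5, 4, 7, 6, 0, 1]),
    ([5, 6, 0], [8, 2, 7, 3, 4, 5, 6, 0, 1]),
    ([1, 6, 5, 0, 3, 2, 4, 3, 0], [7, 8, 6, 0, 2, 4, 5, 3, 1]),
    ([5, 0, 0, 2, 1, 4, 3, 6], [5, 8, 7, 1, 2, 3, 4, 0, 6]),
    ([1, 2, 3, 4, 0, 6, 5, 0, 0], [5, 8, 7, 0, 1, 3, 4, 2, 6]),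
    ([2, 1, 5, 4, 1, 6, 3, 1, 0], [7, 2, 5, 8, 0, 1, 3, 4, 6]),
    ([5, 6, 3, 1, 1, 0], [8, 2, 3, 5, 4, 7, 6, 0, 1]),
    ([2, 6, 0, 1, 3, 4, 5], [6, 7, 4, 8, 0, 2, 3, 5, 1]),
    ([2, 6, 3, 0, 5, 1, 4, 4, 0], [7, 8, 6, 2, 0, 4, 3, 5, 1]),
    ([1, 6, 4, 0, 3, 2, 5, 3, 0], [6, 8, 7, 0, 2, 4, 3, 5, 1]),
    ([6, 0, 2, 2, 1], [8, 3, 1, 4, 2, 5, 6, 7, 0]),
    ([6, 1, 5, 3, 4, 2, 1, 1, 0], [6, 2, 1, 4, 5, 3, 7, 8, 0]),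
    ([6, 4, 2, 1, 5, 0, 1, 3], [6, 5, 3, 7, 8, 2, 1, 4, 0])]

def a0reps_8 : List (List ℕ × List ℕ) :=
  [([6, 4, 0, 0, 2, 1, 5, 3], [7, 5, 6, 8, 2, 3, 1, 4, 0]),
    ([4, 2, 0, 3, 1, 5, 2, 0], [1, 6, 7, 2, 3, 4, 0, 5, 8]),
    ([3, 1, 5, 2, 0, 3, 4], [0, 6, 7, 1, 3, 4, 2, 5, 8]),
    ([2, 0, 3, 1, 4, 2, 5], [0, 7, 1, 2, 3, 4, 5, 6, 8]),
    ([2, 0, 3, 1, 4, 2, 0], [0, 1, 6, 2, 3, 4, 5, 7, 8]),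
    ([1, 2, 4, 6, 3, 0, 5, 3, 0], [6, 8, 7, 0, 1, 2, 3, 5, 4]),
    ([4, 2, 0, 6, 3, 1, 0, 5], [6, 7, 5, 8, 1, 2, 0, 3, 4]),
    ([0, 2, 3, 6, 4, 0], [6, 0, 8, 3, 1, 2, 5, 7, 4]),
    ([3, 4, 1, 2, 6, 5, 2, 1], [6, 5, 2, 7, 8, 0, 1, 4, 3]),
    ([0, 3, 4, 1, 2, 6, 5, 2, 1], [6, 5, 0, 7, 8, 1, 2, 4, 3]),
    ([3, 1, 4, 6, 5, 0, 0, 2], [8, 4, 7, 1, 2, 0, 5, 6, 3]),
    ([1, 6, 4, 0, 5, 2, 3, 3, 0], [7, 8, 5, 0, 2, 4, 3, 6, 1]),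
    ([2, 6, 3, 0, 4, 2], [6, 0, 8, 3, 2, 4, 5, 7, 1]),
    ([1, 1, 4, 0, 5, 2, 6, 3], [8, 5, 0, 1, 2, 4, 3, 6, 7]),
    ([0, 3, 2, 5, 3, 6, 4, 0], [6, 0, 8, 3, 2, 4, 1, 5, 7]),
    ([1, 2, 3, 0, 0, 5, 4, 6], [6, 8, 5, 0, 1, 3, 4, 2, 7]),
    ([6, 5, 4, 3, 2, 1, 0, 6], [2, 0, 4, 5, 6, 7, 8, 1, 3]),
    ([2, 0, 4, 1, 0, 6], [1, 8, 6, 2, 0, 5, 4, 7, 3]),
    ([4, 3, 1, 2, 6, 5, 2, 1], [5, 6, 2, 7, 8, 1, 0, 4, 3]),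
    ([4, 3, 6, 0, 1, 4, 5, 2], [7, 4, 5, 8, 0, 1, 2, 3, 6]),
    ([2, 0, 5, 4, 0, 6, 3, 1], [5, 3, 7, 8, 0, 1, 2, 4, 6]),
    ([2, 3, 4, 5, 6, 0, 1, 1], [3, 8, 7, 2, 0, 1, 4, 5, 6]),
    ([2, 0, 0, 4, 3, 6, 5, 1], [7, 3, 4, 8, 0, 1, 2, 5, 6]),
    ([2, 1, 5, 4, 1, 6, 3, 1], [5, 7, 2, 8, 0, 1, 3, 4, 6]),
    ([5, 0, 3, 6, 1, 4, 0, 2], [1, 4, 3, 5, 6, 7, 8, 0, 2]),
    ([0, 2, 6, 5, 1, 0, 3, 4, 0], [6, 7, 5, 8, 1, 3, 0, 4, 2]),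
    ([0, 5, 6, 3, 4, 1, 2], [3, 4, 0, 5, 6, 7, 8, 1, 2]),
    ([2, 3, 4, 0, 5, 1, 0, 6], [5, 8, 7, 2, 0, 1, 4, 6, 3]),
    ([0, 1, 4, 6, 0], [8, 0, 6, 1, 4, 5, 2, 7, 3]),
    ([4, 2, 0, 3, 1, 5, 6, 0], [8, 6, 7, 2, 1, 4, 0, 5, 3]),
    ([3, 1, 0, 6, 5, 4, 4, 2], [8, 4, 5, 1, 6, 0, 7, 2, 3]),
    ([2, 3, 6, 0, 1, 4, 5, 0], [7, 5, 6, 8, 0, 1, 2, 3, 4]),
    ([5, 3, 2, 0, 6, 4, 2, 1, 1], [3, 6, 5, 7, 8, 1, 2, 0, 4]),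
    ([4, 0, 2, 3, 6, 1, 2, 5, 1, 1, 0], [6, 1, 5, 7, 8, 2, 0, 3, 4]),
    ([3, 4, 2, 1, 6, 5, 2, 1, 0], [6, 2, 5, 7, 8, 0, 1, 3, 4]),
    ([0, 6, 2, 5, 1], [7, 3, 0, 4, 2, 5, 6, 8, 1]),
    ([1, 4, 6, 1, 2, 3, 5, 0, 1], [2, 6, 5, 7, 8, 0, 1, 4, 3]),
    ([0, 1, 2, 6, 4, 5, 5, 0], [8, 0, 7, 1, 2, 5, 4, 6, 3]),
    ([5, 1, 3, 6, 1, 4, 0, 2], [2, 4, 1, 5, 6, 7, 8, 0, 3]),
    ([3, 4, 1, 0, 6, 5, 2, 1, 0], [5, 6, 4, 7, 8, 0, 1, 2, 3])]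

def a0reps_9 : List (List ℕ × List ℕ) :=
  [([1, 4, 6, 5, 2, 0, 3, 2], [5, 8, 7, 0, 2, 4, 1, 6, 3]),
    ([3, 2, 4, 6, 3, 0], [0, 2, 8, 3, 1, 6, 5, 7, 4]),
    ([3, 1, 0, 4, 2, 5, 6, 0], [8, 5, 7, 1, 2, 0, 3, 6, 4]),
    ([5, 3, 1, 2, 0, 6, 4, 2, 0], [5, 3, 6, 7, 8, 1, 2, 0, 4]),
    ([2, 4, 6, 0, 3, 3, 5, 1], [7, 3, 6, 8, 0, 2, 1, 5, 4]),
    ([5, 1, 6, 4, 0, 5, 2], [0, 4, 8, 1, 2, 5, 3, 6, 7]),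
    ([2, 1, 0, 3, 4, 5, 0, 6], [4, 8, 6, 1, 0, 3, 2, 5, 7]),
    ([0, 4, 4, 5, 2, 6, 3], [8, 5, 0, 3, 1, 4, 2, 6, 7]),
    ([2, 6, 4, 0, 5, 1, 6, 3], [1, 5, 8, 2, 0, 3, 4, 6, 7]),
    ([1, 0, 3, 1, 5, 2, 6, 4], [8, 6, 1, 2, 0, 3, 4, 5, 7]),
    ([2, 6, 5, 1, 0, 4, 3, 0], [5, 7, 6, 8, 0, 2, 3, 4, 1]),
    ([2, 6, 4, 3, 3, 2, 0], [0, 2, 8, 3, 5, 6, 4, 7, 1]),
    ([1, 2, 6, 4, 0, 5], [2, 7, 8, 0, 1, 5, 4, 6, 3]),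
    ([5, 3, 1, 0, 6, 4, 2], [6, 4, 5, 7, 8, 1, 2, 0, 3]),
    ([4, 3, 1, 6, 5, 2, 1, 0], [6, 2, 4, 7, 8, 1, 0, 3, 5]),
    ([2, 4, 5, 3, 1, 6, 3, 1], [6, 7, 2, 8, 0, 3, 1, 4, 5]),
    ([2, 1, 5, 3, 0, 6, 4], [8, 6, 7, 1, 0, 3, 2, 4, 5]),
    ([2, 4, 1, 5, 3, 0, 6, 1], [8, 4, 7, 2, 0, 3, 1, 6, 5]),
    ([1, 0, 4, 2, 3, 1], [5, 0, 1, 4, 2, 6, 3, 7, 8]),
    ([2, 2, 4, 0], [6, 2, 0, 3, 1, 5, 4, 7, 8]),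
    ([2, 0, 3, 1, 4, 5, 0], [7, 1, 6, 2, 0, 4, 5, 3, 8]),
    ([1, 2, 4, 3, 5, 0, 6, 1, 0], [0, 5, 8, 2, 1, 4, 3, 6, 7]),
    ([0, 4, 2, 0, 5, 1, 6, 3], [8, 5, 6, 0, 2, 3, 1, 4, 7]),
    ([0, 2, 5, 3, 6, 4], [8, 6, 0, 3, 1, 4, 5, 2, 7]),
    ([2, 4, 5, 1, 3, 3, 6, 0, 1], [2, 6, 7, 8, 0, 3, 1, 4, 5]),
    ([4, 0, 1, 3, 5, 6, 1, 2, 0, 0], [1, 6, 4, 7, 8, 2, 0, 3, 5]),
    ([2, 3, 6, 5, 1, 0, 0, 4], [7, 6, 3, 8, 0, 1, 2, 5, 4]),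
    ([3, 4, 2, 0, 6, 5, 2, 1], [5, 3, 6, 7, 8, 0, 1, 2, 4]),
    ([2, 5, 6, 0, 1, 3, 4, 0], [6, 7, 5, 8, 0, 2, 3, 1, 4]),
    ([0, 3, 4, 2, 1, 6, 5, 2, 1, 0, 0], [0, 5, 6, 7, 8, 1, 2, 3, 4]),
    ([4, 0, 2, 3, 6, 1, 2, 5, 0, 1], [1, 5, 6, 7, 8, 2, 0, 3, 4]),
    ([1, 2, 4, 5, 0, 6, 3, 0], [5, 6, 8, 0, 1, 2, 3, 4, 7]),
    ([3, 1, 4, 3, 5, 0, 6, 2], [8, 4, 0, 1, 2, 3, 5, 6, 7]),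
    ([6, 3, 0, 4, 1, 5, 2, 6], [4, 0, 8, 2, 3, 1, 5, 6, 7]),
    ([0, 1, 4, 2, 3, 3, 5, 0], [7, 0, 6, 1, 3, 4, 2, 5, 8]),
    ([2, 0, 3, 1, 4, 5, 0, 0], [1, 6, 7, 2, 0, 4, 5, 3, 8]),
    ([0, 3, 2, 4, 3], [6, 1, 0, 3, 2, 4, 5, 7, 8]),
    ([4, 5, 2, 2, 6, 1, 3, 0], [5, 2, 3, 6, 7, 8, 0, 1, 4]),
    ([4, 5, 2, 1, 6, 0, 2, 3, 0], [5, 3, 6, 7, 8, 2, 0, 1, 4]),
    ([2, 3, 6, 4, 0, 5], [2, 7, 8, 3, 0, 1, 5, 6, 4])]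

def a0reps_10 : List (List ℕ × List ℕ) :=
  [([6, 4, 2, 1, 0, 5, 3, 1], [5, 6, 4, 7, 8, 2, 1, 3, 0]),
    ([6, 3, 0, 5, 2, 4, 1, 3], [3, 1, 8, 4, 2, 6, 7, 5, 0]),
    ([6, 1, 5, 0], [7, 2, 3, 1, 4, 5, 6, 8, 0]),
    ([3, 4, 4, 0], [1, 2, 6, 3, 4, 0, 5, 7, 8]),
    ([1, 0, 2, 1, 4], [0, 6, 1, 2, 3, 5, 4, 7, 8]),
    ([1, 0, 6, 5, 4, 3, 2, 1, 0], [0, 1, 4, 5, 6, 7, 8, 2, 3]),
    ([4, 4, 1, 0, 6, 5, 3, 2], [5, 4, 0, 6, 7, 8, 1, 2, 3]),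
    ([1, 1, 4, 0, 5, 2, 6, 0], [8, 0, 4, 1, 2, 5, 3, 6, 7]),
    ([1, 4, 3, 2, 0, 5, 2, 6], [6, 8, 5, 0, 2, 3, 1, 4, 7]),
    ([0, 4, 5, 1, 2, 6, 0, 3], [0, 5, 4, 6, 7, 8, 1, 2, 3]),
    ([0, 4, 3, 1, 6, 5, 2, 1, 0], [6, 0, 4, 7, 8, 2, 1, 3, 5]),
    ([4, 0, 2, 3, 5, 6, 1, 2], [3, 6, 1, 7, 8, 2, 0, 4, 5]),
    ([4, 5, 3, 1, 6, 0, 2, 3], [4, 6, 3, 7, 8, 2, 0, 1, 5]),
    ([0, 2, 1, 4, 2, 5, 3], [7, 5, 0, 2, 3, 1, 4, 6, 8]),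
    ([0, 3, 1, 4, 2, 5, 3], [7, 1, 0, 2, 3, 4, 5, 6, 8]),
    ([3, 4, 4, 5, 0], [7, 2, 1, 3, 4, 0, 5, 6, 8]),
    ([3, 2, 4, 3, 5], [0, 7, 2, 3, 1, 4, 5, 6, 8]),
    ([6, 1, 0, 2, 1, 5], [1, 7, 8, 2, 3, 5, 6, 4, 0]),
    ([6, 2, 5, 4, 1, 3, 2, 1], [1, 7, 2, 5, 3, 6, 4, 8, 0]),
    ([6, 5, 5], [7, 1, 2, 3, 4, 5, 6, 8, 0]),
    ([6, 0, 5, 1, 3, 2, 4, 3, 0], [7, 1, 6, 2, 3, 4, 5, 8, 0]),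
    ([0, 2, 2, 4, 1, 5, 3, 6], [5, 8, 0, 1, 2, 3, 4, 6, 7]),
    ([0, 1, 2, 3, 4, 5, 0, 6], [0, 8, 6, 1, 2, 3, 4, 5, 7]),
    ([1, 4, 3, 0, 5, 2, 6], [4, 8, 6, 0, 2, 3, 1, 5, 7]),
    ([3, 4, 6, 0, 2, 5, 0, 1], [6, 3, 4, 7, 8, 0, 1, 2, 5]),
    ([0, 1, 4, 2, 3, 3, 6, 0], [8, 0, 6, 1, 3, 4, 2, 7, 5]),
    ([3, 2, 6, 5, 2, 1, 4, 0], [6, 2, 3, 7, 8, 0, 1, 4, 5]),
    ([6, 3, 5, 2, 0, 1], [2, 3, 7, 4, 5, 1, 6, 8, 0]),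
    ([6, 0, 5, 2, 1, 1], [3, 7, 1, 4, 2, 5, 6, 8, 0]),
    ([6, 2, 1, 5, 4, 0, 0, 3], [7, 5, 6, 8, 1, 2, 3, 4, 0]),
    ([6, 1, 5, 3, 2, 2, 1], [7, 1, 2, 4, 5, 3, 6, 8, 0]),
    ([2, 0, 4, 1, 5, 3, 6, 0], [8, 1, 5, 2, 0, 3, 4, 6, 7]),
    ([0, 4, 2, 5, 3, 6], [5, 8, 0, 3, 2, 4, 1, 6, 7]),
    ([2, 4, 0, 6, 3, 1, 5], [3, 7, 4, 8, 0, 2, 1, 5, 6]),
    ([3, 0, 5, 2, 0, 4, 1, 6], [3, 8, 7, 1, 2, 0, 4, 5, 6]),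
    ([2, 5, 1, 0, 4, 3, 6, 0, 1], [7, 4, 5, 8, 0, 2, 3, 1, 6]),
    ([3, 1, 5, 4, 0, 6, 2, 0, 0], [7, 8, 4, 1, 2, 0, 3, 5, 6]),
    ([6, 2, 0, 4, 1, 3, 2], [5, 1, 8, 2, 3, 6, 4, 7, 0]),
    ([6, 2, 1, 0, 4, 3, 0, 5], [4, 7, 6, 8, 1, 2, 3, 5, 0]),
    ([6, 5, 5, 3, 1, 4, 0], [6, 2, 3, 1, 4, 7, 5, 8, 0])]

def a0reps_11 : List (List ℕ × List ℕ) :=
  [([6, 2, 0, 4, 2], [6, 1, 8, 3, 2, 5, 4, 7, 0]),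
    ([6, 0, 2, 5, 0, 1, 3, 4], [5, 6, 4, 7, 8, 1, 3, 2, 0]),
    ([5, 0, 6, 5, 0], [0, 1, 8, 3, 4, 5, 6, 2, 7]),
    ([1, 1, 4, 0, 5, 2, 6], [4, 8, 0, 1, 2, 5, 3, 6, 7]),
    ([2, 1, 4, 3, 5, 0, 6, 2], [8, 0, 5, 1, 2, 3, 4, 6, 7]),
    ([0, 4, 3, 2, 1, 6, 5, 2, 1, 0], [5, 0, 6, 7, 8, 2, 1, 3, 4]),
    ([4, 2, 5, 6, 0, 1, 1, 3], [8, 5, 7, 2, 1, 3, 0, 6, 4]),
    ([1, 2, 3, 6, 5, 0, 0, 4], [8, 6, 7, 0, 1, 3, 2, 5, 4]),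
    ([1, 0, 4, 1, 5, 2, 6, 3, 0], [5, 1, 8, 2, 0, 4, 3, 6, 7]),
    ([3, 1, 5, 0, 6, 2, 0, 4], [3, 6, 8, 1, 2, 0, 4, 5, 7]),
    ([2, 3, 1, 4, 0, 3, 6, 2, 0], [0, 3, 8, 4, 1, 6, 5, 7, 2]),
    ([3, 4, 0, 2, 6, 5, 2, 1], [6, 3, 5, 7, 8, 0, 1, 4, 2]),
    ([2, 3, 5, 0, 1, 6, 4, 2], [6, 0, 5, 7, 8, 1, 3, 4, 2]),
    ([4, 2, 0, 5, 6, 1, 1, 3], [7, 5, 6, 8, 1, 3, 0, 4, 2]),
    ([4, 2, 3, 5, 6, 0, 1, 3], [3, 6, 7, 8, 1, 2, 0, 4, 5]),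
    ([1, 3, 5, 6, 0, 1, 4, 2], [6, 4, 7, 8, 0, 1, 2, 3, 5]),
    ([2, 3, 5, 6, 0, 1, 3, 4], [1, 6, 7, 8, 0, 2, 3, 4, 5]),
    ([4, 2, 6, 0, 1, 3, 0, 5], [4, 7, 3, 8, 1, 2, 0, 5, 6]),
    ([3, 1, 5, 4, 0, 6, 2, 0], [4, 7, 8, 1, 2, 0, 3, 5, 6]),
    ([2, 4, 1, 6, 3, 0, 5, 1], [7, 4, 8, 2, 0, 3, 1, 5, 6]),
    ([4, 2, 5, 1, 0, 3, 1, 6], [4, 8, 7, 2, 1, 3, 0, 6, 5]),
    ([3, 5, 6, 0, 1, 3, 4, 2, 0], [4, 7, 6, 8, 0, 2, 3, 1, 5]),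
    ([4, 2, 0, 5, 1, 3, 3, 6], [7, 8, 6, 2, 1, 3, 0, 4, 5]),
    ([0, 4, 3, 1, 6, 5, 2, 1], [4, 6, 0, 7, 8, 2, 1, 3, 5]),
    ([1, 4, 3, 5, 6, 0, 2, 2], [4, 8, 7, 0, 2, 3, 1, 6, 5]),
    ([5, 1, 0, 3, 2, 6, 4], [8, 6, 7, 1, 2, 3, 4, 0, 5]),
    ([0, 3, 6, 5, 1, 0, 4, 2, 0], [4, 7, 6, 8, 0, 1, 3, 5, 2]),
    ([5, 6, 3, 4, 0, 1, 6, 0], [1, 5, 3, 6, 4, 7, 8, 0, 2]),
    ([6, 0, 2, 3, 5, 1, 1, 4], [5, 6, 1, 7, 8, 2, 3, 4, 0]),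
    ([6, 0, 5, 2, 4, 1, 3, 0], [5, 1, 3, 4, 2, 6, 7, 8, 0]),
    ([6, 0, 5, 2, 3, 1, 4, 0], [6, 1, 3, 4, 2, 7, 5, 8, 0]),
    ([6, 5, 4, 3, 2, 1], [4, 3, 2, 5, 6, 7, 8, 1, 0]),
    ([6, 0, 2, 1, 4, 2, 0], [8, 1, 6, 2, 3, 5, 4, 7, 0]),
    ([6, 0, 4, 2, 5, 4, 0], [8, 1, 7, 3, 2, 5, 4, 6, 0]),
    ([6, 5, 4, 3, 2, 1, 0], [3, 2, 4, 5, 6, 7, 8, 1, 0]),
    ([6, 0, 3, 1, 4, 2, 5, 3, 0], [8, 1, 7, 2, 3, 4, 5, 6, 0]),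
    ([1, 2, 3, 0, 5, 4, 6, 0], [8, 4, 6, 0, 1, 3, 2, 5, 7]),
    ([1, 4, 4, 5, 2, 6], [4, 8, 2, 0, 1, 5, 3, 6, 7]),
    ([1, 4, 3, 5, 0, 6, 2], [8, 4, 5, 0, 2, 3, 1, 6, 7]),
    ([4, 2, 0, 1, 3, 6, 5, 1], [7, 4, 6, 8, 1, 2, 0, 5, 3])]

def a0reps_12 : List (List ℕ × List ℕ) :=
  [([1, 5, 6, 3, 4, 1, 2, 0], [4, 2, 0, 5, 6, 7, 8, 1, 3]),
    ([0, 1, 4, 2, 5, 3, 6], [5, 8, 0, 1, 3, 4, 2, 6, 7]),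
    ([4, 0, 3, 1, 5, 2, 6, 3, 0], [6, 1, 8, 2, 3, 4, 0, 5, 7]),
    ([2, 1, 6, 4, 0, 5, 1], [7, 1, 8, 2, 0, 5, 3, 6, 4]),
    ([0, 4, 1, 2, 2, 6, 5, 0], [7, 0, 8, 2, 3, 5, 1, 6, 4]),
    ([4, 5, 2, 1, 6, 0, 2, 3], [6, 5, 3, 7, 8, 2, 0, 1, 4]),
    ([2, 4, 1, 6, 3, 0, 5, 1, 0], [4, 8, 7, 2, 0, 3, 1, 5, 6]),
    ([2, 2, 6, 4, 1, 0, 5, 3], [7, 5, 6, 8, 1, 2, 0, 3, 4]),
    ([4, 1, 5, 6, 0, 2, 2, 3], [8, 5, 7, 1, 2, 4, 0, 6, 3]),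
    ([2, 4, 5, 6, 0, 1, 4, 3], [1, 5, 7, 8, 0, 3, 2, 4, 6]),
    ([0, 4, 2, 3, 3, 6, 5, 0], [7, 0, 8, 3, 2, 4, 1, 6, 5]),
    ([2, 3, 1, 5, 6, 0, 1, 4, 0, 0], [7, 4, 6, 8, 0, 1, 2, 5, 3]),
    ([3, 5, 6, 0, 1, 3, 4, 2], [6, 4, 7, 8, 0, 2, 3, 1, 5]),
    ([1, 2, 3, 0, 6, 4, 5, 5, 0], [8, 4, 7, 0, 1, 3, 2, 6, 5]),
    ([1, 4, 3, 6, 5, 0, 0, 2], [8, 4, 7, 0, 2, 3, 1, 5, 6]),
    ([6, 2, 1, 0, 3, 4, 5], [6, 7, 4, 8, 1, 3, 2, 5, 0]),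
    ([0, 5, 6, 4, 1, 3, 2, 1], [4, 8, 0, 5, 3, 6, 7, 1, 2]),
    ([2, 1, 3, 4, 0, 5, 6], [7, 8, 5, 1, 0, 4, 3, 6, 2]),
    ([0, 1, 1, 4, 2, 5, 3, 0], [5, 0, 7, 2, 1, 4, 3, 6, 8]),
    ([6, 3, 5, 4, 1, 3, 2, 1, 1], [7, 1, 2, 4, 3, 6, 5, 8, 0]),
    ([6, 6, 0], [0, 2, 8, 3, 4, 5, 6, 7, 1]),
    ([3, 6, 1, 2, 5, 0, 1, 4, 0], [6, 4, 5, 7, 8, 0, 2, 3, 1]),
    ([5, 6, 3, 3, 0], [7, 2, 5, 3, 4, 8, 6, 0, 1]),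
    ([2, 1, 4, 3, 0, 5, 6, 0], [8, 6, 7, 1, 0, 3, 4, 5, 2]),
    ([0, 0, 6, 2, 5, 1], [7, 3, 1, 4, 0, 5, 6, 8, 2]),
    ([6, 0, 5, 5, 0], [8, 1, 7, 3, 4, 5, 6, 2, 0]),
    ([2, 0, 6, 1, 5, 5, 0], [8, 1, 7, 2, 0, 5, 6, 3, 4]),
    ([4, 0, 2, 3, 5, 6, 1, 2, 0], [6, 1, 3, 7, 8, 2, 0, 4, 5]),
    ([4, 5, 0, 1, 3, 6, 0, 2], [6, 4, 5, 7, 8, 2, 0, 1, 3]),
    ([2, 5, 3, 0, 4, 1, 6, 2, 0], [0, 7, 8, 2, 3, 4, 5, 1, 6]),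
    ([6, 0, 4, 5, 2, 3, 0, 1], [1, 3, 4, 5, 6, 7, 8, 2, 0]),
    ([1, 2, 4, 5, 0, 3, 3, 6], [7, 8, 6, 0, 1, 2, 3, 4, 5]),
    ([1, 2, 6, 4, 3, 0, 5, 3, 0], [8, 6, 7, 0, 1, 2, 4, 5, 3]),
    ([2, 0, 4, 1, 5, 3, 6], [5, 8, 1, 2, 0, 3, 4, 6, 7]),
    ([6, 2, 5, 4, 3, 3, 2, 0], [1, 2, 7, 3, 5, 6, 4, 8, 0]),
    ([2, 0, 5, 6, 0], [8, 1, 7, 3, 0, 5, 6, 4, 2]),
    ([0, 6, 5, 4, 3, 2, 1], [4, 3, 0, 5, 6, 7, 8, 2, 1]),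
    ([4, 1, 6, 0, 3, 2, 5, 3, 0], [8, 3, 7, 1, 2, 4, 0, 5, 6]),
    ([1, 2, 4, 0, 5, 3, 0, 6], [4, 8, 7, 0, 1, 2, 3, 6, 5]),
    ([0, 3, 2, 6, 4, 5, 3, 0], [1, 0, 7, 3, 2, 6, 4, 8, 5])]

def a0reps_13 : List (List ℕ × List ℕ) :=
  [([2, 3, 0, 6, 3, 1, 5, 4], [7, 6, 4, 8, 0, 2, 3, 1, 5]),
    ([3, 0, 2, 4, 6, 1, 2, 5, 0, 1], [1, 6, 5, 7, 8, 0, 2, 3, 4]),
    ([2, 5, 6, 4, 1, 0, 4, 3], [7, 5, 6, 8, 0, 2, 3, 1, 4]),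
    ([4, 5, 2, 1, 6, 0, 2, 3, 0, 0], [3, 6, 5, 7, 8, 2, 0, 1, 4]),
    ([6, 2, 5, 4, 1, 3, 2, 1, 0], [7, 2, 1, 5, 3, 6, 4, 8, 0]),
    ([6, 2, 3, 3, 4, 0, 5], [2, 7, 8, 3, 1, 4, 5, 6, 0]),
    ([3, 0, 4, 3, 0], [0, 1, 6, 3, 4, 2, 5, 7, 8]),
    ([1, 4, 3, 6, 2, 0, 5, 2], [7, 5, 8, 0, 2, 3, 1, 4, 6]),
    ([3, 1, 5, 0, 4, 2, 6, 4, 0], [7, 3, 8, 1, 2, 0, 4, 5, 6]),
    ([1, 3, 2, 5, 0, 4, 4, 6], [7, 8, 4, 0, 3, 1, 2, 5, 6]),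
    ([2, 4, 5, 6, 3, 1, 0, 3], [2, 7, 5, 8, 0, 3, 1, 4, 6]),
    ([1, 2, 4, 0, 6, 3, 0, 5], [4, 7, 8, 0, 1, 2, 3, 5, 6]),
    ([1, 6, 3, 0, 5, 2, 4, 4, 0], [7, 8, 6, 0, 2, 3, 4, 5, 1]),
    ([0, 6, 5, 4, 3, 2, 1, 0], [3, 0, 4, 5, 6, 7, 8, 2, 1]),
    ([5, 6, 1, 4, 2, 3, 0, 1], [2, 7, 4, 5, 3, 6, 8, 0, 1]),
    ([5, 6, 4, 0, 2, 3, 0, 1], [8, 3, 4, 5, 6, 2, 7, 0, 1]),
    ([0, 4, 6, 1, 3, 5, 2, 2], [4, 5, 0, 6, 7, 8, 1, 3, 2]),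
    ([1, 4, 2, 5, 3, 0, 0, 6], [7, 8, 5, 0, 3, 4, 1, 6, 2]),
    ([6, 2, 1, 0, 3, 4, 5, 0], [7, 4, 6, 8, 1, 3, 2, 5, 0]),
    ([0, 3, 4, 5, 6, 0, 1, 2, 0], [4, 7, 3, 8, 0, 1, 2, 5, 6]),
    ([5, 1, 0, 4, 2, 5], [4, 0, 7, 1, 2, 5, 3, 6, 8]),
    ([6, 1, 5, 2, 3, 4, 1], [6, 1, 2, 5, 3, 7, 4, 8, 0]),
    ([1, 6, 2, 0, 3, 4, 5, 0], [7, 8, 6, 0, 3, 4, 2, 5, 1]),
    ([1, 0, 2, 1], [4, 0, 1, 2, 3, 5, 6, 7, 8]),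
    ([0, 2, 1, 3, 4, 5, 0], [7, 0, 6, 2, 1, 4, 3, 5, 8]),
    ([0, 2, 1, 5, 2, 0], [1, 0, 7, 2, 3, 5, 6, 4, 8]),
    ([0, 1, 2, 5, 3, 0, 4], [0, 6, 7, 1, 2, 4, 5, 3, 8]),
    ([3, 1, 0, 4, 2, 6, 5, 0, 0], [5, 8, 7, 1, 2, 0, 3, 4, 6]),
    ([2, 5, 1, 1, 4, 0, 6, 3, 1], [5, 7, 4, 8, 0, 2, 3, 1, 6]),
    ([1, 6, 4, 5, 3, 1, 1, 0], [7, 2, 0, 5, 4, 6, 3, 8, 1]),
    ([3, 6, 1, 5, 2, 3, 4, 0], [6, 2, 0, 5, 3, 7, 4, 8, 1]),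
    ([3, 4, 1, 5, 2, 0, 6, 1], [8, 5, 7, 2, 3, 0, 1, 6, 4]),
    ([2, 1, 6, 3, 0, 5, 4, 0], [6, 8, 7, 1, 0, 3, 2, 5, 4]),
    ([4, 1, 0, 2, 6, 4], [8, 0, 6, 1, 3, 5, 4, 7, 2]),
    ([0, 2, 1, 6, 4, 5, 5, 0], [8, 0, 7, 2, 1, 5, 3, 6, 4]),
    ([1, 2, 4, 5, 6, 0, 0, 3], [7, 5, 8, 0, 1, 2, 3, 4, 6]),
    ([5, 4, 6, 5, 0], [0, 2, 8, 3, 4, 5, 1, 6, 7]),
    ([2, 6, 1], [8, 3, 2, 4, 0, 5, 6, 7, 1]),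
    ([6, 2, 0, 5], [2, 7, 8, 3, 1, 5, 6, 4, 0]),
    ([4, 0, 3, 2, 6, 4, 0], [0, 1, 8, 3, 2, 6, 4, 7, 5])]

def a0reps_14 : List (List ℕ × List ℕ) :=
  [([2, 0, 3, 4, 5, 6, 0, 0], [1, 7, 8, 3, 0, 4, 2, 5, 6]),
    ([2, 1, 3, 2, 5, 0, 6, 4], [8, 6, 0, 1, 3, 4, 2, 5, 7]),
    ([2, 0, 5, 1, 6, 2, 0], [0, 1, 8, 2, 3, 5, 6, 4, 7]),
    ([1, 2, 4, 0, 5, 3, 6], [5, 8, 4, 0, 1, 2, 3, 6, 7]),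
    ([2, 3, 5, 6, 0, 1, 4], [3, 6, 7, 8, 0, 1, 2, 4, 5]),
    ([1, 6, 2, 5, 4, 1, 3, 0, 1], [2, 7, 0, 5, 3, 6, 4, 8, 1]),
    ([5, 1, 0, 4, 6, 5], [8, 0, 7, 1, 4, 5, 3, 6, 2]),
    ([3, 6, 5, 4, 4, 3, 0], [0, 2, 8, 3, 4, 6, 7, 5, 1]),
    ([4, 0, 1, 3, 5, 6, 1, 2], [6, 4, 1, 7, 8, 2, 0, 3, 5]),
    ([2, 0, 4, 2, 5], [0, 7, 1, 3, 2, 5, 4, 6, 8]),
    ([0, 5, 6, 1, 3, 0, 2, 4], [4, 6, 3, 7, 5, 8, 0, 1, 2]),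
    ([5, 6, 3, 4, 1, 2, 6], [4, 1, 2, 5, 6, 7, 8, 0, 3]),
    ([5, 2, 1, 4, 6, 0, 1, 3, 0, 0], [6, 7, 5, 8, 1, 2, 4, 0, 3]),
    ([3, 4, 5, 1, 0, 6, 2, 1, 0], [6, 7, 4, 8, 2, 0, 1, 5, 3]),
    ([2, 0, 3, 4, 5, 6, 0], [8, 1, 7, 3, 0, 4, 2, 5, 6]),
    ([6, 3, 2, 0, 1, 4, 5, 1, 1], [4, 6, 5, 7, 8, 1, 2, 3, 0]),
    ([5, 2, 4, 0, 3, 6, 1, 4], [3, 7, 4, 5, 1, 6, 8, 0, 2]),
    ([4, 1, 5, 2, 0, 3, 6, 4], [8, 0, 7, 1, 3, 4, 5, 6, 2]),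
    ([2, 3, 6, 0, 4, 1, 5, 4, 0], [8, 5, 7, 2, 0, 1, 3, 6, 4]),
    ([4, 5, 1, 2, 0, 6, 5, 3], [1, 5, 3, 6, 7, 8, 0, 2, 4]),
    ([2, 0, 3, 1, 4, 5, 0, 6], [1, 8, 6, 2, 0, 4, 5, 3, 7]),
    ([4, 0, 6, 1, 3, 2, 5, 3, 0], [8, 1, 7, 2, 3, 4, 0, 5, 6]),
    ([0, 5, 6, 3, 4, 1, 2, 0, 0], [0, 3, 4, 5, 6, 7, 8, 1, 2]),
    ([0, 2, 3, 4, 5, 0, 6, 1], [8, 3, 6, 0, 1, 2, 4, 5, 7]),
    ([6, 2, 1, 5, 4, 0, 3, 3, 0], [6, 7, 5, 8, 1, 2, 3, 4, 0]),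
    ([1, 2, 4, 0, 6, 3, 5, 5, 0], [8, 4, 7, 0, 1, 2, 3, 5, 6]),
    ([6, 3, 1, 5, 4, 0, 2, 2, 0], [6, 7, 4, 8, 2, 1, 3, 5, 0]),
    ([1, 2, 4, 5, 0, 6, 3], [8, 5, 6, 0, 1, 2, 3, 4, 7]),
    ([1, 2, 0, 4, 3, 6, 5, 0, 0], [3, 8, 7, 0, 1, 2, 4, 5, 6]),
    ([6, 0, 1, 4, 5, 1, 2, 3], [4, 5, 1, 6, 7, 8, 2, 3, 0]),
    ([1, 6, 3, 0, 5, 2, 0, 4], [8, 6, 7, 0, 2, 3, 4, 5, 1]),
    ([6, 2, 5, 3, 4, 4, 2, 0], [1, 2, 7, 3, 6, 4, 5, 8, 0]),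
    ([2, 5, 3, 0, 4, 1, 0, 6], [7, 8, 6, 2, 0, 4, 5, 1, 3]),
    ([2, 4, 3, 5, 1, 0, 6, 1], [8, 5, 7, 2, 0, 4, 1, 6, 3]),
    ([1, 0, 6, 3, 2, 1, 5, 4, 1], [6, 5, 1, 7, 8, 2, 0, 4, 3]),
    ([5, 0, 3, 6, 2, 3, 1], [7, 3, 1, 4, 5, 8, 6, 0, 2]),
    ([1, 1, 3, 0, 5, 2, 6, 4], [8, 6, 0, 1, 2, 3, 4, 5, 7]),
    ([0, 2, 3, 4, 5, 0, 6, 1, 0], [3, 6, 8, 0, 1, 2, 4, 5, 7]),
    ([0, 3, 1, 5, 2, 6, 4, 0], [6, 0, 8, 2, 3, 1, 4, 5, 7]),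
    ([1, 0, 2, 1, 5], [0, 7, 1, 2, 3, 5, 6, 4, 8])]

def a0reps_15 : List (List ℕ × List ℕ) :=
  [([0, 6, 5, 4, 3, 2, 1, 0, 0], [0, 4, 3, 5, 6, 7, 8, 2, 1]),
    ([2, 3, 6, 5, 1, 4, 4, 0], [7, 2, 6, 8, 0, 1, 3, 5, 4]),
    ([0, 5, 6, 3, 1, 1, 2], [8, 4, 0, 5, 3, 7, 6, 1, 2]),
    ([5, 2, 4, 0, 3, 6, 1], [8, 3, 4, 5, 1, 6, 7, 0, 2]),
    ([6, 5, 3, 0, 2, 6, 1], [0, 3, 7, 4, 5, 8, 6, 1, 2]),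
    ([3, 2, 0, 5, 6, 1, 2, 4], [1, 6, 5, 7, 8, 0, 3, 4, 2]),
    ([3, 2, 6, 5, 2, 1, 0, 4], [2, 6, 1, 7, 8, 0, 3, 4, 5]),
    ([4, 0, 1, 5, 6, 2, 3], [4, 5, 1, 6, 7, 8, 0, 2, 3]),
    ([5, 2, 4, 1, 3, 6, 1], [8, 4, 2, 5, 1, 6, 7, 0, 3]),
    ([2, 5, 0, 3, 6, 1, 4, 2], [6, 0, 4, 5, 3, 7, 8, 1, 2]),
    ([0, 5, 6, 3, 4, 1, 1, 0], [5, 0, 3, 6, 4, 7, 8, 1, 2]),
    ([0, 2, 6, 5, 2, 1, 3, 4], [5, 6, 0, 7, 8, 1, 3, 4, 2]),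
    ([0, 5, 6, 3, 4, 1, 2, 0], [4, 0, 3, 5, 6, 7, 8, 1, 2]),
    ([3, 0, 2, 4, 6, 1, 2, 5, 1, 1, 0], [5, 1, 6, 7, 8, 0, 2, 3, 4]),
    ([5, 6, 3, 4, 1, 2, 6, 0], [1, 2, 4, 5, 6, 7, 8, 0, 3]),
    ([0, 4, 6, 1, 3], [3, 5, 0, 6, 4, 8, 1, 7, 2]),
    ([0, 1, 6, 2, 4, 4, 5, 0], [7, 0, 8, 1, 3, 5, 4, 6, 2]),
    ([0, 1, 6, 4, 0, 5], [0, 7, 8, 1, 4, 5, 3, 6, 2]),
    ([1, 1, 3, 0, 4, 2, 5], [4, 7, 0, 1, 2, 3, 5, 6, 8]),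
    ([0, 4, 3, 1, 2, 6, 5, 2, 1], [5, 6, 0, 7, 8, 2, 1, 4, 3]),
    ([2, 6, 5, 2, 1, 3, 4], [5, 6, 2, 7, 8, 0, 3, 4, 1]),
    ([6, 3, 2, 1, 5, 0, 1, 4], [5, 6, 3, 7, 8, 1, 2, 4, 0]),
    ([2, 1, 5, 3, 6, 0, 4, 4], [6, 8, 5, 1, 0, 3, 2, 4, 7]),
    ([6, 2, 0, 6, 4], [0, 6, 8, 3, 1, 5, 2, 7, 4]),
    ([1, 4, 3, 6, 5, 0, 2, 2, 0], [7, 8, 4, 0, 2, 3, 1, 5, 6]),
    ([6, 1, 5, 2, 1, 1, 0], [7, 2, 1, 4, 3, 5, 6, 8, 0]),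
    ([6, 3, 5, 4, 3, 3, 0], [7, 2, 1, 3, 4, 6, 5, 8, 0]),
    ([2, 3, 1, 4, 6, 3, 0], [1, 2, 8, 4, 0, 6, 5, 7, 3]),
    ([3, 4, 1, 2, 6, 0, 1, 5, 0], [7, 4, 5, 8, 6, 0, 1, 2, 3]),
    ([4, 2, 6, 0, 1, 3, 5], [5, 7, 4, 8, 1, 2, 0, 3, 6]),
    ([4, 2, 3, 5, 6, 0, 1, 3, 0], [6, 7, 3, 8, 1, 2, 0, 4, 5]),
    ([6, 4, 0, 1, 5, 0, 2, 3], [4, 5, 3, 6, 7, 8, 1, 2, 0]),
    ([4, 2, 0, 6, 3, 1, 5], [3, 7, 6, 8, 1, 2, 0, 5, 4]),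
    ([4, 5, 3, 1, 2, 6, 0, 3], [2, 6, 4, 7, 5, 8, 0, 1, 3]),
    ([0, 1, 4, 2, 5, 3, 6, 0, 0], [0, 5, 8, 1, 3, 4, 2, 6, 7]),
    ([4, 6, 1, 3, 5, 2, 2], [4, 5, 2, 6, 7, 8, 0, 3, 1]),
    ([1, 5, 0, 3, 6, 2, 3, 0], [7, 3, 4, 0, 5, 8, 6, 1, 2]),
    ([2, 4, 1, 0, 3, 6, 5, 1], [7, 4, 6, 8, 0, 3, 1, 5, 2]),
    ([6, 4, 1, 0, 3, 2, 0, 5], [6, 7, 5, 8, 2, 3, 1, 4, 0]),
    ([2, 3, 1, 6, 4, 0, 5, 1, 0], [4, 8, 7, 2, 0, 1, 3, 6, 5])]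

def a0reps_16 : List (List ℕ × List ℕ) :=
  [([2, 0, 3, 1, 4, 5, 6, 0], [8, 1, 7, 2, 0, 4, 5, 3, 6]),
    ([2, 3, 6, 0, 1, 4, 5], [6, 7, 5, 8, 0, 1, 2, 3, 4]),
    ([2, 4, 6, 0, 1, 3, 0, 5], [6, 7, 3, 8, 0, 2, 1, 5, 4]),
    ([4, 3, 2, 1, 6, 5, 2, 1, 0], [5, 2, 6, 7, 8, 1, 0, 3, 4]),
    ([0, 4, 1, 5, 4], [7, 1, 0, 2, 4, 5, 3, 6, 8]),
    ([2, 0, 1, 2, 5], [0, 7, 1, 4, 2, 5, 6, 3, 8]),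
    ([1, 2, 3, 4, 5, 6, 0], [8, 2, 7, 0, 1, 3, 4, 5, 6]),
    ([1, 2, 4, 5, 6, 0, 3, 3], [5, 8, 7, 0, 1, 2, 3, 4, 6]),
    ([1, 2, 0, 3, 4, 5, 6, 0], [8, 3, 7, 0, 1, 4, 2, 5, 6]),
    ([2, 1, 3, 5, 4, 0, 6, 2, 0], [0, 7, 8, 1, 2, 4, 5, 3, 6]),
    ([4, 3, 1, 2, 6, 5, 2, 1, 0], [6, 2, 5, 7, 8, 1, 0, 4, 3]),
    ([6, 1, 0, 6, 4], [0, 6, 8, 1, 4, 5, 2, 7, 3]),
    ([1, 5, 2, 0, 3, 1, 4], [0, 6, 7, 2, 3, 4, 5, 1, 8]),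
    ([5, 6, 2, 3, 0, 2, 1], [7, 3, 4, 2, 5, 8, 6, 0, 1]),
    ([5, 3, 1, 6, 0, 2, 4], [4, 6, 3, 7, 8, 1, 2, 0, 5]),
    ([1, 2, 0, 4, 3, 6, 5, 0], [7, 3, 8, 0, 1, 2, 4, 5, 6]),
    ([1, 2, 4, 1], [6, 0, 2, 4, 1, 5, 3, 7, 8]),
    ([4, 2, 6, 5, 1, 0, 0, 3], [7, 5, 3, 8, 1, 2, 0, 4, 6]),
    ([2, 5, 4, 0, 6, 1, 0, 3], [7, 5, 8, 2, 0, 3, 4, 1, 6]),
    ([2, 4, 0, 6, 4, 1, 3, 5], [5, 7, 4, 8, 0, 1, 2, 3, 6]),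
    ([1, 2, 3, 4, 0, 6, 5, 0], [7, 5, 8, 0, 1, 3, 4, 2, 6]),
    ([4, 2, 5, 0, 6, 4, 0], [0, 4, 8, 3, 1, 5, 2, 6, 7]),
    ([2, 3, 4, 0, 5, 1, 6, 2], [8, 0, 5, 2, 3, 1, 4, 6, 7]),
    ([2, 6, 5, 2, 1, 3, 4, 0], [6, 2, 5, 7, 8, 0, 3, 4, 1]),
    ([5, 0, 3, 6, 1], [8, 3, 1, 5, 4, 7, 6, 0, 2]),
    ([2, 4, 6, 5, 0], [7, 2, 8, 3, 0, 5, 1, 6, 4]),
    ([5, 6, 4, 3, 3, 1], [8, 3, 2, 5, 4, 6, 7, 0, 1]),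
    ([2, 4, 5, 6, 0, 1, 3, 0], [5, 7, 3, 8, 0, 2, 1, 4, 6]),
    ([0, 3, 2, 4, 3, 5, 1, 6], [3, 8, 0, 1, 2, 4, 5, 6, 7]),
    ([6, 0, 0, 5], [1, 7, 8, 3, 4, 5, 6, 2, 0]),
    ([1, 4, 2, 5, 0, 0, 6, 3], [8, 5, 7, 0, 3, 4, 1, 6, 2]),
    ([1, 4, 3, 0, 5, 2, 0, 6], [6, 8, 7, 0, 2, 3, 1, 5, 4]),
    ([0, 2, 1, 3, 4, 6, 5, 0], [7, 0, 8, 2, 1, 4, 3, 6, 5]),
    ([1, 4, 3, 5, 2, 0, 6, 2], [8, 5, 7, 0, 2, 3, 1, 6, 4]),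
    ([6, 5, 1, 4, 2, 3, 5, 1], [1, 8, 2, 5, 3, 6, 7, 4, 0]),
    ([6, 2, 1, 5, 0, 0, 4, 3, 0], [5, 7, 6, 8, 1, 3, 2, 4, 0]),
    ([6, 0, 5, 2, 3, 4, 1, 3, 0], [7, 1, 3, 5, 2, 6, 4, 8, 0]),
    ([2, 1, 4, 3, 0, 5, 1], [7, 1, 6, 2, 0, 3, 4, 5, 8]),
    ([0, 2, 2, 4, 1, 5, 3, 0], [5, 0, 7, 1, 2, 3, 4, 6, 8]),
    ([0, 3, 1, 4, 2, 5], [4, 7, 0, 2, 3, 1, 5, 6, 8])]

def a0reps_17 : List (List ℕ × List ℕ) :=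
  [([5, 2, 0, 5], [2, 0, 7, 3, 1, 5, 6, 4, 8]),
    ([0, 2, 1, 3, 4, 5], [6, 7, 0, 2, 1, 4, 3, 5, 8]),
    ([0, 1, 2, 4, 3, 5, 0], [7, 0, 5, 1, 2, 4, 3, 6, 8]),
    ([0, 3, 4, 0, 6, 2, 1, 5, 0], [7, 5, 3, 8, 0, 1, 2, 4, 6]),
    ([1, 2, 4, 6, 0], [8, 2, 6, 0, 1, 5, 3, 7, 4]),
    ([6, 3, 0, 6, 4], [0, 6, 8, 3, 4, 1, 2, 7, 5]),
    ([5, 2, 4, 1, 3, 0, 1, 6], [4, 8, 3, 5, 1, 6, 7, 0, 2]),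
    ([2, 1, 5, 3, 4, 0, 6, 4, 0], [7, 5, 8, 1, 0, 3, 2, 4, 6]),
    ([4, 2, 1, 0, 5, 6, 2, 3], [1, 5, 4, 6, 7, 8, 0, 3, 2]),
    ([2, 6, 0, 1, 4, 3, 0, 5], [4, 7, 6, 8, 0, 3, 2, 5, 1]),
    ([2, 1, 6, 3, 4, 0, 5, 4, 0], [8, 5, 7, 1, 0, 3, 2, 6, 4]),
    ([0, 2, 2, 4], [1, 6, 0, 3, 2, 5, 4, 7, 8]),
    ([6, 0, 2, 3, 5, 1, 1, 4, 0], [6, 1, 5, 7, 8, 2, 3, 4, 0]),
    ([6, 4, 0, 5, 2, 6, 3], [0, 5, 8, 3, 2, 4, 1, 6, 7]),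
    ([2, 1, 3, 5, 4, 0, 6, 2], [8, 0, 7, 1, 2, 4, 5, 3, 6]),
    ([3, 0, 4, 3], [6, 0, 1, 3, 4, 2, 5, 7, 8]),
    ([6, 1, 0, 4, 1], [6, 1, 8, 2, 4, 5, 3, 7, 0]),
    ([3, 4, 6, 0, 2, 5, 1, 1, 0], [4, 6, 3, 7, 8, 0, 1, 2, 5]),
    ([4, 0, 2, 5, 6, 2, 3, 1], [5, 3, 1, 6, 7, 8, 0, 2, 4]),
    ([1, 2, 4, 3, 5, 0, 0, 6], [5, 8, 7, 0, 1, 4, 3, 6, 2]),
    ([6, 0, 4, 1, 5, 4, 0], [8, 1, 7, 2, 4, 5, 3, 6, 0]),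
    ([2, 1, 5, 0, 0, 4, 3, 6], [5, 8, 7, 1, 0, 3, 2, 4, 6]),
    ([4, 1, 6, 2, 0, 3, 1, 5], [1, 7, 8, 2, 3, 4, 0, 5, 6]),
    ([0, 1, 2, 3, 4, 5, 6, 0], [8, 0, 7, 1, 2, 3, 4, 5, 6]),
    ([4, 1, 5, 2, 0, 6, 3], [8, 5, 7, 1, 3, 2, 0, 6, 4]),
    ([4, 2, 1, 6, 5, 3, 2], [5, 1, 2, 6, 7, 8, 0, 3, 4]),
    ([4, 2, 1, 6, 3, 0, 5, 1, 0], [6, 8, 7, 2, 1, 3, 0, 5, 4]),
    ([0, 4, 2, 5, 6, 0, 0], [0, 7, 8, 3, 2, 5, 1, 6, 4]),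
    ([3, 4, 6, 1, 2, 5, 1, 1], [6, 4, 2, 7, 8, 0, 1, 3, 5]),
    ([4, 6, 0, 3, 5, 0, 2, 1, 0], [3, 5, 4, 6, 7, 8, 0, 2, 1]),
    ([5, 6, 3, 5, 4, 0], [6, 2, 0, 3, 4, 7, 5, 8, 1]),
    ([0, 5, 1, 3, 2, 4, 3, 0], [7, 0, 6, 2, 3, 4, 5, 1, 8]),
    ([2, 0, 6, 4, 0, 5], [1, 7, 8, 3, 0, 5, 2, 6, 4]),
    ([4, 1, 3, 5, 2, 4, 1, 0], [1, 2, 0, 4, 5, 6, 7, 3, 8]),
    ([2, 0, 3, 1, 4, 2], [6, 0, 1, 2, 3, 4, 5, 7, 8]),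
    ([1, 2, 6, 3, 0, 4, 5, 0], [7, 8, 6, 0, 1, 4, 5, 2, 3]),
    ([2, 1, 3, 6, 5, 0, 0, 4], [8, 6, 7, 1, 0, 4, 2, 5, 3]),
    ([0, 1, 2, 6, 4, 0, 0], [0, 8, 6, 1, 2, 5, 4, 7, 3]),
    ([2, 3, 1, 5, 6, 0, 1, 4, 0], [6, 7, 4, 8, 0, 1, 2, 5, 3]),
    ([4, 3, 2, 0, 5, 6, 1, 2, 0], [6, 5, 3, 7, 8, 1, 0, 4, 2])]

def a0reps_18 : List (List ℕ × List ℕ) :=
  [([6, 0, 5, 1, 3, 2, 4, 0], [6, 1, 4, 2, 3, 7, 5, 8, 0]),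
    ([3, 1, 6, 4, 0, 5, 2, 0], [4, 8, 7, 1, 2, 0, 3, 6, 5]),
    ([4, 0, 5, 2, 0, 3, 1, 6], [3, 8, 7, 1, 2, 4, 0, 6, 5]),
    ([3, 0, 4, 3, 5], [0, 7, 1, 3, 4, 2, 5, 6, 8]),
    ([1, 0, 2, 1, 3], [0, 5, 1, 2, 3, 4, 6, 7, 8]),
    ([5, 3, 1, 6, 0, 2, 4, 0, 0], [3, 4, 6, 7, 8, 1, 2, 0, 5]),
    ([2, 3, 5, 6, 4, 1, 0, 4], [2, 7, 6, 8, 0, 1, 3, 4, 5]),
    ([2, 0, 4, 1, 5, 3, 0], [5, 1, 7, 2, 0, 3, 4, 6, 8]),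
    ([2, 0, 1, 2], [3, 0, 1, 4, 2, 5, 6, 7, 8]),
    ([2, 3, 5, 0, 1, 6, 4, 1], [6, 7, 5, 8, 0, 1, 3, 4, 2]),
    ([1, 4, 6, 0, 2, 3, 5, 0, 1], [6, 0, 5, 7, 8, 2, 1, 4, 3]),
    ([1, 5, 2, 4, 3, 0, 4, 6], [7, 8, 6, 0, 3, 4, 5, 1, 2]),
    ([1, 4, 3, 5, 0, 2, 2, 6], [7, 8, 5, 0, 2, 3, 1, 6, 4]),
    ([6, 0, 5, 2, 1, 1, 0], [7, 1, 3, 4, 2, 5, 6, 8, 0]),
    ([6, 2, 0, 4], [2, 6, 8, 3, 1, 5, 4, 7, 0]),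
    ([6, 3, 5, 4, 3], [6, 1, 2, 3, 4, 7, 5, 8, 0]),
    ([0, 3, 4, 2, 1, 6, 5, 2, 1], [5, 6, 0, 7, 8, 1, 2, 3, 4]),
    ([0, 0, 3], [0, 5, 1, 3, 4, 2, 6, 7, 8]),
    ([5, 1, 3, 2, 6, 1, 0], [1, 2, 8, 4, 3, 7, 6, 0, 5]),
    ([1, 4, 3, 6, 2, 0, 5, 2, 0], [5, 8, 7, 0, 2, 3, 1, 4, 6]),
    ([2, 6, 4, 0], [6, 2, 8, 3, 0, 5, 4, 7, 1]),
    ([0, 6, 2, 1, 1], [3, 8, 0, 4, 2, 5, 6, 7, 1]),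
    ([2, 0, 4, 1, 6, 3, 0, 5], [1, 7, 8, 2, 0, 3, 4, 5, 6]),
    ([0, 2, 1, 4, 2, 5, 3, 6], [5, 8, 0, 2, 3, 1, 4, 6, 7]),
    ([1, 6, 3, 5, 2, 1, 1, 0], [7, 2, 0, 4, 5, 3, 6, 8, 1]),
    ([5, 6, 3, 4, 1, 2, 0], [4, 2, 3, 5, 6, 7, 8, 0, 1]),
    ([1, 0, 3, 1, 5, 2, 6, 4, 0], [6, 1, 8, 2, 0, 3, 4, 5, 7]),
    ([2, 3, 1, 5, 4, 0, 6, 1], [8, 4, 7, 2, 0, 1, 3, 5, 6]),
    ([2, 4, 6, 0, 1, 3, 4, 5], [1, 7, 6, 8, 0, 2, 3, 5, 4]),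
    ([1, 4, 3, 6, 0, 2, 2, 5], [8, 7, 5, 0, 2, 3, 1, 4, 6]),
    ([2, 1, 0, 3, 4, 5, 6, 0, 0], [4, 7, 8, 1, 0, 3, 2, 5, 6]),
    ([2, 4, 3, 6, 5, 0, 1, 1], [3, 7, 8, 2, 0, 4, 1, 5, 6]),
    ([0, 5, 2, 4, 1, 3, 6, 1], [8, 4, 0, 5, 2, 6, 7, 1, 3]),
    ([4, 2, 6, 0, 3, 1, 5, 3, 0], [8, 4, 7, 2, 1, 3, 0, 5, 6]),
    ([4, 0, 6, 2, 0, 3, 1, 5], [3, 7, 8, 1, 2, 4, 0, 5, 6]),
    ([6, 1, 0, 4, 1, 5], [1, 7, 8, 2, 4, 5, 3, 6, 0]),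
    ([6, 0, 3, 1, 4, 2, 3], [4, 8, 1, 2, 3, 6, 5, 7, 0]),
    ([2, 3, 5, 0, 1, 6, 4, 1, 0], [7, 5, 6, 8, 0, 1, 3, 4, 2]),
    ([2, 0, 3, 6, 4, 0], [6, 1, 8, 3, 0, 4, 5, 7, 2]),
    ([6, 1, 0, 2, 1, 4], [1, 6, 8, 2, 3, 5, 4, 7, 0])]

def a0reps_19 : List (List ℕ × List ℕ) :=
  [([6, 1, 0, 3, 2, 4, 1], [6, 1, 8, 4, 2, 3, 5, 7, 0]),
    ([2, 6, 4, 0, 5, 1, 0, 3], [8, 5, 7, 2, 0, 3, 4, 6, 1]),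
    ([6, 3, 2, 6, 5, 0, 1, 4], [3, 6, 0, 7, 8, 1, 2, 4, 5]),
    ([2, 3, 4, 5, 6, 0, 0, 1], [7, 3, 8, 2, 0, 1, 4, 5, 6]),
    ([0, 2, 6, 1, 5], [3, 7, 0, 4, 1, 5, 6, 8, 2]),
    ([5, 3, 1, 2, 0, 6, 4, 2], [6, 5, 3, 7, 8, 1, 2, 0, 4]),
    ([2, 0, 4, 6, 3, 0, 2], [1, 0, 8, 3, 5, 6, 4, 7, 2]),
    ([4, 2, 6, 5, 1, 0, 3, 1], [5, 8, 7, 2, 1, 3, 0, 4, 6]),
    ([3, 2, 4, 3, 5, 0], [7, 2, 0, 3, 1, 4, 5, 6, 8]),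
    ([2, 4, 6, 1, 1, 3, 0, 5], [2, 7, 6, 8, 0, 3, 1, 5, 4]),
    ([0, 3, 2, 4, 6, 3, 0], [1, 0, 8, 3, 2, 6, 5, 7, 4]),
    ([3, 6, 4, 0, 5], [2, 7, 8, 3, 4, 0, 5, 6, 1]),
    ([0, 4, 2, 6, 3, 0, 5], [0, 7, 8, 3, 2, 4, 1, 5, 6]),
    ([2, 6, 1, 5, 0, 4], [2, 6, 3, 4, 0, 5, 7, 8, 1]),
    ([1, 2, 3, 4, 0, 6, 5], [8, 7, 5, 0, 1, 3, 4, 2, 6]),
    ([0, 4, 2, 6, 3, 5, 5, 0], [8, 0, 7, 3, 2, 4, 1, 5, 6]),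
    ([2, 3, 5, 1, 4, 4, 6, 0, 1], [2, 5, 7, 8, 0, 1, 3, 4, 6]),
    ([1, 2, 0, 3, 4, 5, 6, 0, 0], [3, 7, 8, 0, 1, 4, 2, 5, 6]),
    ([1, 2, 3, 0, 5, 4, 0, 6], [4, 8, 7, 0, 1, 3, 2, 5, 6]),
    ([6, 0, 4, 5, 2, 3, 1, 1], [3, 4, 1, 5, 6, 7, 8, 2, 0]),
    ([2, 4, 3, 0, 5, 1, 0, 6], [6, 8, 7, 2, 0, 4, 1, 5, 3]),
    ([1, 0, 3, 4, 0, 5, 2, 6], [4, 8, 5, 0, 1, 3, 2, 6, 7]),
    ([0, 2, 3, 6, 4, 0, 5], [0, 7, 8, 3, 1, 2, 5, 6, 4]),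
    ([2, 3, 4, 6, 5, 0, 0, 1], [8, 3, 7, 2, 0, 1, 4, 6, 5]),
    ([2, 6, 3, 0, 5, 4, 6], [6, 1, 8, 3, 0, 4, 2, 5, 7]),
    ([2, 6, 0, 1, 3, 4, 5, 0], [7, 4, 6, 8, 0, 2, 3, 5, 1]),
    ([6, 3, 5, 1, 3, 2, 0, 4], [2, 6, 1, 5, 3, 7, 4, 8, 0]),
    ([0, 1, 2, 4, 6, 0], [8, 0, 6, 1, 2, 5, 3, 7, 4]),
    ([5, 6, 3, 3, 2, 0, 1], [2, 3, 7, 4, 5, 8, 6, 0, 1]),
    ([5, 6, 4, 3, 2, 1, 3, 0], [8, 2, 3, 5, 6, 4, 7, 0, 1]),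
    ([1, 0, 6, 5, 4, 3, 2, 1], [4, 0, 1, 5, 6, 7, 8, 2, 3]),
    ([1, 2, 0, 4, 3, 5, 6, 0], [8, 3, 7, 0, 1, 2, 4, 6, 5]),
    ([6, 2, 3, 3, 4, 0], [6, 2, 8, 3, 1, 4, 5, 7, 0]),
    ([0, 2, 1, 6, 4, 0, 5], [0, 7, 8, 2, 1, 5, 3, 6, 4]),
    ([2, 5, 3, 0, 4, 1, 6, 2], [8, 0, 7, 2, 3, 4, 5, 1, 6]),
    ([6, 2, 2, 5, 3, 1, 0, 4], [2, 6, 5, 7, 8, 1, 3, 4, 0]),
    ([0, 2, 1, 3, 4, 5, 6, 0, 0], [0, 7, 8, 2, 1, 4, 3, 5, 6]),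
    ([1, 4, 3, 0, 6, 2, 5, 5], [7, 8, 6, 0, 2, 3, 1, 4, 5]),
    ([4, 1, 6, 5, 1, 0, 2, 3], [4, 5, 7, 8, 1, 2, 0, 3, 6]),
    ([3, 4, 2, 1, 6, 5, 2, 1], [5, 6, 2, 7, 8, 0, 1, 3, 4])]

def a0reps_20 : List (List ℕ × List ℕ) :=
  [([4, 0, 1, 5, 6, 2, 3, 0], [5, 1, 4, 6, 7, 8, 0, 2, 3]),
    ([6, 2, 4, 5, 2, 3, 0, 1], [2, 3, 1, 5, 6, 7, 8, 4, 0]),
    ([4, 2, 5, 3, 0, 4], [2, 0, 7, 3, 1, 4, 5, 6, 8]),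
    ([3, 6, 4, 1, 3, 2, 1, 1, 0], [0, 2, 8, 4, 3, 6, 5, 7, 1]),
    ([2, 6, 4, 1, 0, 5, 3, 0, 0], [6, 7, 5, 8, 0, 2, 4, 3, 1]),
    ([0, 2, 3, 4, 6, 0, 0], [0, 6, 8, 3, 1, 2, 4, 7, 5]),
    ([4, 2, 6, 3, 0, 5], [2, 7, 8, 3, 1, 4, 0, 5, 6]),
    ([1, 2, 0, 3, 4, 5, 6], [7, 8, 3, 0, 1, 4, 2, 5, 6]),
    ([0, 1, 2, 6, 4, 0], [6, 0, 8, 1, 2, 5, 4, 7, 3]),
    ([0, 1, 4, 2, 5, 3, 6, 0], [8, 0, 5, 1, 3, 4, 2, 6, 7]),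
    ([4, 6, 0, 1, 2, 3, 0, 5], [6, 7, 4, 8, 2, 3, 0, 5, 1]),
    ([3, 0, 1, 6, 2, 5, 4, 3], [6, 0, 1, 5, 3, 7, 4, 8, 2]),
    ([1, 4, 2, 0, 6, 1, 0], [0, 6, 8, 2, 3, 5, 1, 7, 4]),
    ([5, 0, 3, 6, 4, 2, 2, 1], [8, 3, 1, 4, 6, 7, 5, 0, 2]),
    ([4, 2, 6, 5, 0, 0, 3, 1, 0], [3, 7, 5, 8, 1, 2, 0, 4, 6]),
    ([4, 2, 6, 5, 0, 1, 1, 3], [7, 5, 8, 2, 1, 3, 0, 4, 6]),
    ([4, 5, 2, 2, 6, 1, 3], [3, 5, 2, 6, 7, 8, 0, 1, 4]),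
    ([0, 2, 2, 4, 1, 5, 3], [7, 5, 0, 1, 2, 3, 4, 6, 8]),
    ([1, 0, 4, 1, 0], [0, 1, 6, 2, 4, 5, 3, 7, 8]),
    ([6, 2, 1, 4, 0, 3, 3, 5], [6, 7, 3, 8, 1, 2, 4, 5, 0]),
    ([4, 3, 2, 0, 5, 6, 1, 2], [3, 6, 5, 7, 8, 1, 0, 4, 2]),
    ([3, 5, 1, 4, 0, 2, 6, 0, 0], [3, 4, 8, 5, 6, 0, 7, 1, 2]),
    ([1, 2, 4, 6, 5, 0, 0, 3], [8, 5, 7, 0, 1, 2, 3, 6, 4]),
    ([0, 2, 3, 0, 5, 1, 6, 4, 0], [6, 4, 8, 0, 1, 2, 3, 5, 7]),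
    ([0, 0, 4, 2, 5, 3, 6], [5, 8, 1, 3, 0, 4, 2, 6, 7]),
    ([0, 1, 2, 4, 6, 0, 0], [0, 6, 8, 1, 2, 5, 3, 7, 4]),
    ([2, 4, 3, 6, 5, 0, 0, 1], [8, 3, 7, 2, 0, 4, 1, 5, 6]),
    ([0, 0, 6, 5, 4, 3, 2, 1], [4, 3, 1, 5, 6, 7, 8, 0, 2]),
    ([6, 1, 5, 4, 3, 3, 1], [7, 1, 2, 5, 4, 6, 3, 8, 0]),
    ([6, 2, 4, 4, 3, 0, 2], [2, 1, 8, 3, 5, 6, 4, 7, 0]),
    ([0, 1, 2, 3, 4, 5, 0], [7, 0, 6, 1, 2, 3, 4, 5, 8]),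
    ([0, 1, 4, 2, 3, 3, 5], [6, 7, 0, 1, 3, 4, 2, 5, 8]),
    ([0, 1, 2, 5, 3, 6, 4, 0], [6, 0, 8, 1, 2, 4, 5, 3, 7]),
    ([2, 0, 4, 1, 6, 3, 5, 5, 0], [8, 1, 7, 2, 0, 3, 4, 5, 6]),
    ([0, 3, 4, 0, 6, 2, 1, 5], [3, 7, 5, 8, 0, 1, 2, 4, 6]),
    ([2, 2], [4, 0, 2, 3, 1, 5, 6, 7, 8]),
    ([4, 1, 6, 3, 0, 5, 2, 0], [4, 8, 7, 1, 2, 3, 0, 5, 6]),
    ([0, 3, 1, 5, 2, 0, 4], [0, 6, 7, 2, 3, 1, 4, 5, 8]),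
    ([0, 1, 2, 3, 4, 5, 6, 0, 0], [0, 7, 8, 1, 2, 3, 4, 5, 6]),
    ([5, 0, 4, 6, 3, 1, 1, 2], [8, 4, 1, 5, 3, 6, 7, 0, 2])]

def a0reps_21 : List (List ℕ × List ℕ) :=
  [([2, 6, 3, 0, 4, 1, 6, 5], [1, 7, 8, 2, 0, 4, 5, 3, 6]),
    ([1, 4, 3, 6, 5, 0, 2, 2], [4, 7, 8, 0, 2, 3, 1, 5, 6]),
    ([0, 4, 3, 0, 6, 2, 1, 5], [3, 7, 6, 8, 0, 2, 1, 4, 5]),
    ([2, 6, 1, 1, 3, 0, 5, 4], [7, 6, 4, 8, 0, 3, 2, 5, 1]),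
    ([2, 6, 5, 1, 0, 3, 4, 0, 0], [7, 5, 6, 8, 0, 3, 2, 4, 1]),
    ([5, 6, 4, 2, 3, 1, 2, 0], [8, 2, 3, 4, 5, 6, 7, 0, 1]),
    ([1, 2, 4, 5, 6, 0, 3, 3, 0], [8, 7, 5, 0, 1, 2, 3, 4, 6]),
    ([4, 6, 1, 3, 5, 0, 2, 4, 0], [0, 5, 4, 6, 7, 8, 2, 3, 1]),
    ([3, 2, 4, 6, 3, 5, 0, 0], [2, 0, 7, 3, 1, 6, 5, 8, 4]),
    ([4, 2, 6, 0, 3, 3, 5, 1], [7, 3, 4, 8, 1, 2, 0, 5, 6]),
    ([5, 6, 4, 3, 3, 2, 0, 1], [2, 3, 8, 4, 5, 6, 7, 0, 1]),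
    ([0, 1, 1, 4, 2, 6, 3, 0], [5, 0, 8, 2, 1, 4, 3, 7, 6]),
    ([0, 3, 6, 5, 1, 4, 2, 3, 1, 0, 0], [0, 1, 8, 4, 3, 6, 7, 5, 2]),
    ([0, 5, 6, 1, 3, 0, 2, 4, 0], [6, 3, 4, 7, 5, 8, 0, 1, 2]),
    ([2, 0, 3, 1, 6, 4, 5, 5, 0], [8, 1, 7, 2, 0, 4, 3, 6, 5]),
    ([1, 6, 4, 0, 5, 2, 0, 3], [8, 5, 7, 0, 2, 4, 3, 6, 1]),
    ([4, 2, 0, 6, 3, 1, 5, 0], [7, 6, 3, 8, 1, 2, 0, 5, 4]),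
    ([4, 6, 0, 2, 3, 5, 0, 1], [6, 3, 5, 7, 8, 2, 0, 4, 1]),
    ([1, 2, 3, 0, 5, 4, 6], [6, 8, 4, 0, 1, 3, 2, 5, 7]),
    ([2, 3, 3, 4, 0, 5, 1, 6], [3, 8, 1, 2, 0, 4, 5, 6, 7]),
    ([1, 3, 2, 0, 6, 4, 5, 5, 0], [8, 5, 7, 0, 3, 1, 2, 6, 4]),
    ([5, 6, 3, 4, 1, 1], [3, 5, 2, 6, 4, 7, 8, 0, 1]),
    ([0, 2, 1, 3, 4, 5, 6, 0], [8, 0, 7, 2, 1, 4, 3, 5, 6]),
    ([6, 1, 0, 2, 4, 6, 5], [0, 7, 8, 1, 3, 5, 2, 6, 4]),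
    ([6, 4, 2, 0, 5, 3, 1, 0], [3, 6, 5, 7, 8, 2, 1, 4, 0]),
    ([4, 6, 3, 5, 1, 4, 2], [0, 4, 2, 5, 3, 6, 7, 8, 1]),
    ([1, 2, 3, 6, 5, 0, 4, 4, 0], [7, 8, 6, 0, 1, 3, 2, 5, 4]),
    ([0, 4, 5, 2, 2, 6, 1, 3], [3, 5, 0, 6, 7, 8, 1, 2, 4]),
    ([1, 2, 4, 0, 6, 3, 5, 5], [7, 8, 4, 0, 1, 2, 3, 5, 6])]

def a0reps : List (List ℕ × List ℕ) :=
  a0reps_0 ++ a0reps_1 ++ a0reps_2 ++ a0reps_3 ++ a0reps_4 ++ a0reps_5 ++ a0reps_6 ++ a0reps_7 ++ a0reps_8 ++ a0reps_9 ++ a0reps_10 ++ a0reps_11 ++ a0reps_12 ++ a0reps_13 ++ a0reps_14 ++ a0reps_15 ++ a0reps_16 ++ a0reps_17 ++ a0reps_18 ++ a0reps_19 ++ a0reps_20 ++ a0reps_21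

def a0stab_0 : List (List ℕ × List ℕ) :=
  [([], [0, 1, 2, 3, 4, 5, 6, 7, 8]),
    ([0, 1, 5, 4, 3, 2, 1, 0, 0, 1, 3, 2, 4, 5, 1, 0, 3, 2, 5, 4, 1, 0, 0, 1, 5, 4, 3, 2, 1, 0], [2, 3, 1, 0, 5, 4, 6, 7, 8]),
    ([0, 1, 5, 4, 3, 2, 1, 0, 0, 1, 5, 4, 3, 2, 1, 0, 0, 1, 3, 2, 4, 5, 0, 1, 5, 4, 3, 2, 1, 0], [4, 5, 7, 6, 2, 3, 1, 0, 8]),
    ([0, 1, 3, 2, 4, 5, 1, 0, 3, 2, 5, 4, 1, 0, 0, 1, 5, 4, 3, 2, 1, 0, 0, 1, 5, 4, 3, 2, 1, 0, 0, 1, 5, 4, 3, 2, 1, 0], [7, 6, 4, 5, 1, 0, 2, 3, 8]),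
    ([0, 1, 5, 4, 3, 2, 1, 0, 0, 1, 3, 2, 4, 5, 1, 0, 3, 2, 5, 4, 1, 0, 0, 1, 5, 4, 3, 2, 1, 0, 0, 1, 3, 2, 4, 5], [6, 7, 2, 3, 0, 1, 4, 5, 8]),
    ([0, 1, 5, 4, 3, 2, 1, 0, 0, 1, 5, 4, 3, 2, 1, 0, 0, 1, 3, 2, 4, 5, 0, 1, 5, 4, 3, 2, 1, 0, 0, 1, 5, 4, 3, 2, 1, 0, 0, 1, 3, 2, 4, 5], [6, 7, 5, 4, 3, 2, 0, 1, 8]),
    ([1, 0, 3, 2, 5, 4, 1, 0, 0, 1, 3, 2, 4, 5, 0, 1, 3, 2, 4, 5, 0, 1, 5, 4, 3, 2, 1, 0, 0, 1, 5, 4, 3, 2, 1, 0, 0, 1, 5, 4, 3, 2, 1, 0], [2, 3, 5, 4, 0, 1, 7, 6, 8]),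
    ([1, 0, 3, 2, 5, 4, 1, 0, 0, 1, 3, 2, 4, 5, 1, 0, 3, 2, 5, 4, 1, 0, 1, 0, 3, 2, 5, 4, 1, 0], [4, 5, 7, 6, 3, 2, 0, 1, 8]),
    ([0, 1, 3, 2, 4, 5, 0, 1, 3, 2, 4, 5, 0, 1, 5, 4, 3, 2, 1, 0, 0, 1, 5, 4, 3, 2, 1, 0, 0, 1, 3, 2, 4, 5], [0, 1, 5, 4, 3, 2, 6, 7, 8]),
    ([0, 1, 5, 4, 3, 2, 1, 0, 1, 0, 3, 2, 5, 4, 1, 0, 1, 0, 3, 2, 5, 4, 1, 0], [1, 0, 6, 7, 3, 2, 4, 5, 8]),
    ([0, 1, 5, 4, 3, 2, 1, 0, 1, 0, 3, 2, 5, 4, 1, 0, 1, 0, 3, 2, 5, 4, 1, 0, 0, 1, 3, 2, 4, 5, 0, 1, 3, 2, 4, 5], [2, 3, 4, 5, 0, 1, 6, 7, 8]),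
    ([1, 0, 3, 2, 5, 4, 1, 0, 0, 1, 5, 4, 3, 2, 1, 0, 0, 1, 3, 2, 4, 5, 1, 0, 3, 2, 5, 4, 1, 0, 0, 1, 3, 2, 4, 5, 1, 0, 3, 2, 5, 4, 1, 0], [3, 2, 0, 1, 7, 6, 4, 5, 8]),
    ([0, 1, 3, 2, 4, 5, 0, 1, 3, 2, 4, 5, 1, 0, 3, 2, 5, 4, 1, 0, 0, 1, 5, 4, 3, 2, 1, 0], [4, 5, 6, 7, 1, 0, 3, 2, 8]),
    ([0, 1, 3, 2, 4, 5, 1, 0, 3, 2, 5, 4, 1, 0, 0, 1, 5, 4, 3, 2, 1, 0, 0, 1, 3, 2, 4, 5, 1, 0, 3, 2, 5, 4, 1, 0, 0, 1, 5, 4, 3, 2, 1, 0], [5, 4, 7, 6, 1, 0, 3, 2, 8]),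
    ([0, 1, 3, 2, 4, 5, 0, 1, 3, 2, 4, 5, 1, 0, 3, 2, 5, 4, 1, 0, 1, 0, 3, 2, 5, 4, 1, 0, 0, 1, 5, 4, 3, 2, 1, 0], [4, 5, 2, 3, 6, 7, 0, 1, 8]),
    ([0, 1, 3, 2, 4, 5, 1, 0, 3, 2, 5, 4, 1, 0, 0, 1, 3, 2, 4, 5, 0, 1, 3, 2, 4, 5, 0, 1, 5, 4, 3, 2, 1, 0], [0, 1, 7, 6, 5, 4, 2, 3, 8]),
    ([0, 1, 5, 4, 3, 2, 1, 0, 0, 1, 5, 4, 3, 2, 1, 0, 0, 1, 3, 2, 4, 5, 0, 1, 3, 2, 4, 5], [2, 3, 5, 4, 1, 0, 6, 7, 8]),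
    ([0, 1, 5, 4, 3, 2, 1, 0, 0, 1, 3, 2, 4, 5, 0, 1, 5, 4, 3, 2, 1, 0], [2, 3, 5, 4, 7, 6, 0, 1, 8]),
    ([0, 1, 5, 4, 3, 2, 1, 0, 0, 1, 5, 4, 3, 2, 1, 0, 1, 0, 3, 2, 5, 4, 1, 0, 0, 1, 3, 2, 4, 5, 0, 1, 5, 4, 3, 2, 1, 0], [2, 3, 4, 5, 7, 6, 1, 0, 8]),
    ([0, 1, 3, 2, 4, 5, 0, 1, 3, 2, 4, 5, 0, 1, 5, 4, 3, 2, 1, 0, 0, 1, 3, 2, 4, 5, 1, 0, 3, 2, 5, 4, 1, 0, 0, 1, 5, 4, 3, 2, 1, 0], [6, 7, 4, 5, 0, 1, 2, 3, 8]),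
    ([0, 1, 3, 2, 4, 5, 0, 1, 5, 4, 3, 2, 1, 0, 0, 1, 3, 2, 4, 5, 1, 0, 3, 2, 5, 4, 1, 0, 0, 1, 5, 4, 3, 2, 1, 0, 0, 1, 3, 2, 4, 5], [5, 4, 0, 1, 6, 7, 3, 2, 8]),
    ([1, 0, 3, 2, 5, 4, 1, 0, 0, 1, 3, 2, 4, 5, 0, 1, 5, 4, 3, 2, 1, 0, 0, 1, 3, 2, 4, 5, 1, 0, 3, 2, 5, 4, 1, 0], [1, 0, 2, 3, 5, 4, 6, 7, 8]),
    ([0, 1, 3, 2, 4, 5, 0, 1, 3, 2, 4, 5, 1, 0, 3, 2, 5, 4, 1, 0, 0, 1, 3, 2, 4, 5], [1, 0, 5, 4, 3, 2, 7, 6, 8]),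
    ([0, 1, 5, 4, 3, 2, 1, 0, 0, 1, 3, 2, 4, 5, 1, 0, 3, 2, 5, 4, 1, 0, 0, 1, 3, 2, 4, 5, 0, 1, 3, 2, 4, 5, 0, 1, 5, 4, 3, 2, 1, 0], [1, 0, 2, 3, 7, 6, 4, 5, 8]),
    ([1, 0, 3, 2, 5, 4, 1, 0, 0, 1, 3, 2, 4, 5, 1, 0, 3, 2, 5, 4, 1, 0, 1, 0, 3, 2, 5, 4, 1, 0, 0, 1, 5, 4, 3, 2, 1, 0, 0, 1, 3, 2, 4, 5, 0, 1, 3, 2, 4, 5], [1, 0, 6, 7, 4, 5, 3, 2, 8]),
    ([1, 0, 3, 2, 5, 4, 1, 0, 0, 1, 3, 2, 4, 5, 0, 1, 5, 4, 3, 2, 1, 0, 0, 1, 5, 4, 3, 2, 1, 0, 0, 1, 5, 4, 3, 2, 1, 0], [5, 4, 1, 0, 6, 7, 2, 3, 8]),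
    ([0, 1, 3, 2, 4, 5, 0, 1, 5, 4, 3, 2, 1, 0, 0, 1, 5, 4, 3, 2, 1, 0, 0, 1, 3, 2, 4, 5], [2, 3, 6, 7, 4, 5, 0, 1, 8]),
    ([0, 1, 3, 2, 4, 5, 1, 0, 3, 2, 5, 4, 1, 0, 1, 0, 3, 2, 5, 4, 1, 0, 0, 1, 5, 4, 3, 2, 1, 0], [7, 6, 5, 4, 0, 1, 2, 3, 8]),
    ([0, 1, 3, 2, 4, 5, 1, 0, 3, 2, 5, 4, 1, 0, 0, 1, 5, 4, 3, 2, 1, 0, 0, 1, 5, 4, 3, 2, 1, 0], [6, 7, 3, 2, 4, 5, 1, 0, 8]),
    ([1, 0, 3, 2, 5, 4, 1, 0, 0, 1, 3, 2, 4, 5, 1, 0, 3, 2, 5, 4, 1, 0, 0, 1, 3, 2, 4, 5], [7, 6, 4, 5, 2, 3, 1, 0, 8]),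
    ([0, 1, 5, 4, 3, 2, 1, 0, 0, 1, 5, 4, 3, 2, 1, 0, 1, 0, 3, 2, 5, 4, 1, 0, 1, 0, 3, 2, 5, 4, 1, 0], [0, 1, 3, 2, 5, 4, 6, 7, 8]),
    ([0, 1, 3, 2, 4, 5, 1, 0, 3, 2, 5, 4, 1, 0, 1, 0, 3, 2, 5, 4, 1, 0, 0, 1, 5, 4, 3, 2, 1, 0, 0, 1, 5, 4, 3, 2, 1, 0, 0, 1, 5, 4, 3, 2, 1, 0], [7, 6, 2, 3, 4, 5, 1, 0, 8]),
    ([0, 1, 3, 2, 4, 5, 0, 1, 3, 2, 4, 5, 0, 1, 5, 4, 3, 2, 1, 0, 0, 1, 5, 4, 3, 2, 1, 0, 0, 1, 5, 4, 3, 2, 1, 0], [4, 5, 7, 6, 0, 1, 3, 2, 8]),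
    ([1, 0, 3, 2, 5, 4, 1, 0, 0, 1, 3, 2, 4, 5, 1, 0, 3, 2, 5, 4, 1, 0, 0, 1, 3, 2, 4, 5, 0, 1, 5, 4, 3, 2, 1, 0], [6, 7, 2, 3, 1, 0, 5, 4, 8]),
    ([0, 1, 3, 2, 4, 5, 0, 1, 3, 2, 4, 5, 0, 1, 5, 4, 3, 2, 1, 0, 0, 1, 5, 4, 3, 2, 1, 0], [5, 4, 2, 3, 7, 6, 0, 1, 8]),
    ([0, 1, 5, 4, 3, 2, 1, 0, 0, 1, 5, 4, 3, 2, 1, 0, 0, 1, 5, 4, 3, 2, 1, 0], [1, 0, 3, 2, 5, 4, 7, 6, 8]),
    ([0, 1, 5, 4, 3, 2, 1, 0, 1, 0, 3, 2, 5, 4, 1, 0, 0, 1, 3, 2, 4, 5, 0, 1, 3, 2, 4, 5, 0, 1, 5, 4, 3, 2, 1, 0, 0, 1, 5, 4, 3, 2, 1, 0], [5, 4, 3, 2, 7, 6, 1, 0, 8]),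
    ([0, 1, 3, 2, 4, 5, 1, 0, 3, 2, 5, 4, 1, 0, 0, 1, 5, 4, 3, 2, 1, 0, 0, 1, 3, 2, 4, 5, 1, 0, 3, 2, 5, 4, 1, 0], [4, 5, 2, 3, 7, 6, 1, 0, 8]),
    ([0, 1, 5, 4, 3, 2, 1, 0, 1, 0, 3, 2, 5, 4, 1, 0], [1, 0, 3, 2, 4, 5, 6, 7, 8]),
    ([1, 0, 3, 2, 5, 4, 1, 0, 0, 1, 3, 2, 4, 5, 1, 0, 3, 2, 5, 4, 1, 0, 1, 0, 3, 2, 5, 4, 1, 0, 0, 1, 5, 4, 3, 2, 1, 0], [5, 4, 3, 2, 0, 1, 6, 7, 8])]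

def a0stab_1 : List (List ℕ × List ℕ) :=
  [([0, 1, 5, 4, 3, 2, 1, 0, 0, 1, 5, 4, 3, 2, 1, 0, 0, 1, 3, 2, 4, 5, 0, 1, 3, 2, 4, 5, 1, 0, 3, 2, 5, 4, 1, 0], [2, 3, 6, 7, 5, 4, 1, 0, 8]),
    ([0, 1, 3, 2, 4, 5, 0, 1, 3, 2, 4, 5, 1, 0, 3, 2, 5, 4, 1, 0, 0, 1, 5, 4, 3, 2, 1, 0, 0, 1, 3, 2, 4, 5], [3, 2, 4, 5, 7, 6, 0, 1, 8]),
    ([0, 1, 5, 4, 3, 2, 1, 0, 1, 0, 3, 2, 5, 4, 1, 0, 0, 1, 3, 2, 4, 5, 0, 1, 3, 2, 4, 5], [5, 4, 6, 7, 0, 1, 3, 2, 8]),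
    ([0, 1, 3, 2, 4, 5, 1, 0, 3, 2, 5, 4, 1, 0, 0, 1, 3, 2, 4, 5, 0, 1, 3, 2, 4, 5, 0, 1, 5, 4, 3, 2, 1, 0, 0, 1, 5, 4, 3, 2, 1, 0], [1, 0, 5, 4, 2, 3, 6, 7, 8]),
    ([1, 0, 3, 2, 5, 4, 1, 0, 1, 0, 3, 2, 5, 4, 1, 0, 0, 1, 5, 4, 3, 2, 1, 0, 0, 1, 3, 2, 4, 5, 0, 1, 3, 2, 4, 5], [3, 2, 5, 4, 0, 1, 6, 7, 8]),
    ([0, 1, 5, 4, 3, 2, 1, 0, 0, 1, 3, 2, 4, 5, 1, 0, 3, 2, 5, 4, 1, 0, 0, 1, 5, 4, 3, 2, 1, 0, 0, 1, 5, 4, 3, 2, 1, 0, 0, 1, 5, 4, 3, 2, 1, 0], [2, 3, 6, 7, 0, 1, 4, 5, 8]),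
    ([0, 1, 3, 2, 4, 5, 0, 1, 3, 2, 4, 5, 0, 1, 5, 4, 3, 2, 1, 0, 0, 1, 3, 2, 4, 5], [7, 6, 4, 5, 0, 1, 3, 2, 8]),
    ([0, 1, 5, 4, 3, 2, 1, 0, 0, 1, 3, 2, 4, 5, 0, 1, 3, 2, 4, 5, 0, 1, 5, 4, 3, 2, 1, 0, 0, 1, 3, 2, 4, 5], [2, 3, 6, 7, 1, 0, 5, 4, 8]),
    ([0, 1, 3, 2, 4, 5, 1, 0, 3, 2, 5, 4, 1, 0, 1, 0, 3, 2, 5, 4, 1, 0, 0, 1, 5, 4, 3, 2, 1, 0, 0, 1, 5, 4, 3, 2, 1, 0], [6, 7, 0, 1, 2, 3, 4, 5, 8]),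
    ([1, 0, 3, 2, 5, 4, 1, 0, 0, 1, 5, 4, 3, 2, 1, 0, 0, 1, 5, 4, 3, 2, 1, 0, 0, 1, 3, 2, 4, 5, 0, 1, 5, 4, 3, 2, 1, 0, 0, 1, 5, 4, 3, 2, 1, 0], [3, 2, 6, 7, 1, 0, 4, 5, 8]),
    ([0, 1, 5, 4, 3, 2, 1, 0, 0, 1, 3, 2, 4, 5, 0, 1, 5, 4, 3, 2, 1, 0, 0, 1, 5, 4, 3, 2, 1, 0, 0, 1, 5, 4, 3, 2, 1, 0], [2, 3, 0, 1, 4, 5, 6, 7, 8]),
    ([0, 1, 5, 4, 3, 2, 1, 0, 0, 1, 3, 2, 4, 5, 0, 1, 3, 2, 4, 5, 1, 0, 3, 2, 5, 4, 1, 0, 1, 0, 3, 2, 5, 4, 1, 0], [7, 6, 0, 1, 4, 5, 3, 2, 8]),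
    ([1, 0, 3, 2, 5, 4, 1, 0, 0, 1, 5, 4, 3, 2, 1, 0, 0, 1, 3, 2, 4, 5, 0, 1, 3, 2, 4, 5, 0, 1, 5, 4, 3, 2, 1, 0], [4, 5, 0, 1, 2, 3, 6, 7, 8]),
    ([0, 1, 3, 2, 4, 5, 1, 0, 3, 2, 5, 4, 1, 0, 1, 0, 3, 2, 5, 4, 1, 0, 0, 1, 5, 4, 3, 2, 1, 0, 0, 1, 3, 2, 4, 5], [2, 3, 7, 6, 4, 5, 1, 0, 8]),
    ([1, 0, 3, 2, 5, 4, 1, 0], [0, 1, 6, 7, 2, 3, 4, 5, 8]),
    ([0, 1, 3, 2, 4, 5, 0, 1, 5, 4, 3, 2, 1, 0, 0, 1, 5, 4, 3, 2, 1, 0, 0, 1, 5, 4, 3, 2, 1, 0, 0, 1, 5, 4, 3, 2, 1, 0], [6, 7, 2, 3, 4, 5, 0, 1, 8]),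
    ([0, 1, 3, 2, 4, 5, 1, 0, 3, 2, 5, 4, 1, 0, 0, 1, 3, 2, 4, 5, 1, 0, 3, 2, 5, 4, 1, 0], [3, 2, 1, 0, 6, 7, 4, 5, 8]),
    ([0, 1, 3, 2, 4, 5, 0, 1, 5, 4, 3, 2, 1, 0, 0, 1, 5, 4, 3, 2, 1, 0, 0, 1, 3, 2, 4, 5, 0, 1, 5, 4, 3, 2, 1, 0, 0, 1, 5, 4, 3, 2, 1, 0], [2, 3, 0, 1, 7, 6, 5, 4, 8]),
    ([0, 1, 5, 4, 3, 2, 1, 0, 0, 1, 3, 2, 4, 5, 1, 0, 3, 2, 5, 4, 1, 0, 0, 1, 3, 2, 4, 5, 0, 1, 3, 2, 4, 5, 0, 1, 5, 4, 3, 2, 1, 0, 0, 1, 5, 4, 3, 2, 1, 0], [0, 1, 7, 6, 4, 5, 3, 2, 8]),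
    ([0, 1, 3, 2, 4, 5, 0, 1, 5, 4, 3, 2, 1, 0, 0, 1, 5, 4, 3, 2, 1, 0], [6, 7, 5, 4, 1, 0, 2, 3, 8]),
    ([1, 0, 3, 2, 5, 4, 1, 0, 0, 1, 5, 4, 3, 2, 1, 0, 0, 1, 3, 2, 4, 5, 1, 0, 3, 2, 5, 4, 1, 0, 0, 1, 3, 2, 4, 5, 0, 1, 3, 2, 4, 5, 0, 1, 5, 4, 3, 2, 1, 0], [1, 0, 6, 7, 5, 4, 2, 3, 8]),
    ([0, 1, 5, 4, 3, 2, 1, 0, 0, 1, 5, 4, 3, 2, 1, 0, 1, 0, 3, 2, 5, 4, 1, 0, 0, 1, 3, 2, 4, 5, 0, 1, 3, 2, 4, 5], [7, 6, 3, 2, 1, 0, 5, 4, 8]),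
    ([0, 1, 5, 4, 3, 2, 1, 0, 0, 1, 5, 4, 3, 2, 1, 0, 1, 0, 3, 2, 5, 4, 1, 0, 0, 1, 3, 2, 4, 5], [3, 2, 0, 1, 4, 5, 7, 6, 8]),
    ([0, 1, 3, 2, 4, 5, 0, 1, 3, 2, 4, 5, 1, 0, 3, 2, 5, 4, 1, 0, 0, 1, 5, 4, 3, 2, 1, 0, 0, 1, 5, 4, 3, 2, 1, 0], [5, 4, 1, 0, 3, 2, 7, 6, 8]),
    ([1, 0, 3, 2, 5, 4, 1, 0, 1, 0, 3, 2, 5, 4, 1, 0, 0, 1, 5, 4, 3, 2, 1, 0, 0, 1, 3, 2, 4, 5, 1, 0, 3, 2, 5, 4, 1, 0], [5, 4, 3, 2, 1, 0, 7, 6, 8]),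
    ([1, 0, 3, 2, 5, 4, 1, 0, 0, 1, 5, 4, 3, 2, 1, 0], [1, 0, 2, 3, 4, 5, 7, 6, 8]),
    ([1, 0, 3, 2, 5, 4, 1, 0, 1, 0, 3, 2, 5, 4, 1, 0, 0, 1, 3, 2, 4, 5, 0, 1, 3, 2, 4, 5], [7, 6, 2, 3, 1, 0, 4, 5, 8]),
    ([0, 1, 5, 4, 3, 2, 1, 0, 0, 1, 5, 4, 3, 2, 1, 0], [0, 1, 6, 7, 3, 2, 5, 4, 8]),
    ([1, 0, 3, 2, 5, 4, 1, 0, 1, 0, 3, 2, 5, 4, 1, 0, 0, 1, 3, 2, 4, 5], [2, 3, 0, 1, 5, 4, 7, 6, 8]),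
    ([0, 1, 5, 4, 3, 2, 1, 0, 0, 1, 3, 2, 4, 5, 1, 0, 3, 2, 5, 4, 1, 0, 0, 1, 3, 2, 4, 5], [5, 4, 3, 2, 6, 7, 0, 1, 8]),
    ([0, 1, 3, 2, 4, 5, 0, 1, 5, 4, 3, 2, 1, 0, 0, 1, 5, 4, 3, 2, 1, 0, 0, 1, 3, 2, 4, 5, 1, 0, 3, 2, 5, 4, 1, 0], [2, 3, 0, 1, 6, 7, 4, 5, 8]),
    ([0, 1, 3, 2, 4, 5, 0, 1, 5, 4, 3, 2, 1, 0, 0, 1, 3, 2, 4, 5], [1, 0, 7, 6, 2, 3, 4, 5, 8]),
    ([0, 1, 3, 2, 4, 5, 1, 0, 3, 2, 5, 4, 1, 0, 0, 1, 3, 2, 4, 5, 0, 1, 3, 2, 4, 5, 0, 1, 5, 4, 3, 2, 1, 0, 0, 1, 5, 4, 3, 2, 1, 0, 0, 1, 5, 4, 3, 2, 1, 0], [0, 1, 2, 3, 6, 7, 4, 5, 8]),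
    ([0, 1, 5, 4, 3, 2, 1, 0, 0, 1, 3, 2, 4, 5, 0, 1, 5, 4, 3, 2, 1, 0, 0, 1, 5, 4, 3, 2, 1, 0, 0, 1, 5, 4, 3, 2, 1, 0, 0, 1, 5, 4, 3, 2, 1, 0], [3, 2, 4, 5, 6, 7, 1, 0, 8]),
    ([0, 1, 3, 2, 4, 5, 0, 1, 5, 4, 3, 2, 1, 0], [7, 6, 3, 2, 5, 4, 1, 0, 8]),
    ([1, 0, 3, 2, 5, 4, 1, 0, 0, 1, 5, 4, 3, 2, 1, 0, 0, 1, 3, 2, 4, 5, 0, 1, 3, 2, 4, 5, 0, 1, 5, 4, 3, 2, 1, 0, 0, 1, 3, 2, 4, 5], [6, 7, 4, 5, 1, 0, 3, 2, 8]),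
    ([1, 0, 3, 2, 5, 4, 1, 0, 0, 1, 3, 2, 4, 5, 0, 1, 5, 4, 3, 2, 1, 0, 0, 1, 3, 2, 4, 5], [1, 0, 5, 4, 6, 7, 2, 3, 8]),
    ([1, 0, 3, 2, 5, 4, 1, 0, 1, 0, 3, 2, 5, 4, 1, 0, 0, 1, 3, 2, 4, 5, 0, 1, 3, 2, 4, 5, 0, 1, 5, 4, 3, 2, 1, 0], [6, 7, 1, 0, 4, 5, 3, 2, 8]),
    ([1, 0, 3, 2, 5, 4, 1, 0, 1, 0, 3, 2, 5, 4, 1, 0, 0, 1, 3, 2, 4, 5, 0, 1, 5, 4, 3, 2, 1, 0], [3, 2, 5, 4, 7, 6, 1, 0, 8]),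
    ([0, 1, 3, 2, 4, 5, 0, 1, 3, 2, 4, 5, 1, 0, 3, 2, 5, 4, 1, 0, 0, 1, 3, 2, 4, 5, 0, 1, 5, 4, 3, 2, 1, 0], [0, 1, 3, 2, 7, 6, 4, 5, 8])]

def a0stab_2 : List (List ℕ × List ℕ) :=
  [([1, 0, 3, 2, 5, 4, 1, 0, 0, 1, 3, 2, 4, 5, 0, 1, 3, 2, 4, 5, 0, 1, 5, 4, 3, 2, 1, 0, 0, 1, 5, 4, 3, 2, 1, 0], [3, 2, 6, 7, 5, 4, 0, 1, 8]),
    ([1, 0, 3, 2, 5, 4, 1, 0, 0, 1, 5, 4, 3, 2, 1, 0, 0, 1, 5, 4, 3, 2, 1, 0], [0, 1, 4, 5, 7, 6, 3, 2, 8]),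
    ([1, 0, 3, 2, 5, 4, 1, 0, 0, 1, 3, 2, 4, 5, 0, 1, 3, 2, 4, 5], [3, 2, 4, 5, 1, 0, 6, 7, 8]),
    ([0, 1, 5, 4, 3, 2, 1, 0, 1, 0, 3, 2, 5, 4, 1, 0, 1, 0, 3, 2, 5, 4, 1, 0, 0, 1, 3, 2, 4, 5, 0, 1, 3, 2, 4, 5, 0, 1, 5, 4, 3, 2, 1, 0], [3, 2, 0, 1, 6, 7, 5, 4, 8]),
    ([1, 0, 3, 2, 5, 4, 1, 0, 1, 0, 3, 2, 5, 4, 1, 0, 0, 1, 5, 4, 3, 2, 1, 0, 0, 1, 5, 4, 3, 2, 1, 0, 0, 1, 5, 4, 3, 2, 1, 0], [1, 0, 5, 4, 7, 6, 3, 2, 8]),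
    ([0, 1, 5, 4, 3, 2, 1, 0, 0, 1, 3, 2, 4, 5, 0, 1, 3, 2, 4, 5, 1, 0, 3, 2, 5, 4, 1, 0, 0, 1, 5, 4, 3, 2, 1, 0, 0, 1, 3, 2, 4, 5], [5, 4, 6, 7, 2, 3, 1, 0, 8]),
    ([0, 1, 3, 2, 4, 5, 1, 0, 3, 2, 5, 4, 1, 0, 0, 1, 3, 2, 4, 5, 0, 1, 3, 2, 4, 5], [1, 0, 3, 2, 7, 6, 5, 4, 8]),
    ([0, 1, 3, 2, 4, 5, 1, 0, 3, 2, 5, 4, 1, 0, 1, 0, 3, 2, 5, 4, 1, 0], [6, 7, 3, 2, 5, 4, 0, 1, 8]),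
    ([1, 0, 3, 2, 5, 4, 1, 0, 1, 0, 3, 2, 5, 4, 1, 0, 0, 1, 5, 4, 3, 2, 1, 0, 0, 1, 3, 2, 4, 5], [5, 4, 1, 0, 7, 6, 3, 2, 8]),
    ([0, 1, 3, 2, 4, 5], [6, 7, 0, 1, 3, 2, 5, 4, 8]),
    ([0, 1, 3, 2, 4, 5, 0, 1, 5, 4, 3, 2, 1, 0, 0, 1, 3, 2, 4, 5, 1, 0, 3, 2, 5, 4, 1, 0, 0, 1, 5, 4, 3, 2, 1, 0], [0, 1, 7, 6, 2, 3, 5, 4, 8]),
    ([0, 1, 5, 4, 3, 2, 1, 0, 0, 1, 3, 2, 4, 5, 0, 1, 3, 2, 4, 5, 0, 1, 5, 4, 3, 2, 1, 0], [6, 7, 0, 1, 4, 5, 2, 3, 8]),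
    ([1, 0, 3, 2, 5, 4, 1, 0, 0, 1, 3, 2, 4, 5, 1, 0, 3, 2, 5, 4, 1, 0, 1, 0, 3, 2, 5, 4, 1, 0, 0, 1, 5, 4, 3, 2, 1, 0, 0, 1, 3, 2, 4, 5], [6, 7, 5, 4, 2, 3, 1, 0, 8]),
    ([0, 1, 3, 2, 4, 5, 1, 0, 3, 2, 5, 4, 1, 0], [6, 7, 5, 4, 0, 1, 3, 2, 8]),
    ([0, 1, 3, 2, 4, 5, 0, 1, 3, 2, 4, 5, 1, 0, 3, 2, 5, 4, 1, 0, 1, 0, 3, 2, 5, 4, 1, 0], [5, 4, 1, 0, 2, 3, 6, 7, 8]),
    ([0, 1, 3, 2, 4, 5, 0, 1, 5, 4, 3, 2, 1, 0, 0, 1, 5, 4, 3, 2, 1, 0, 0, 1, 5, 4, 3, 2, 1, 0], [7, 6, 1, 0, 2, 3, 4, 5, 8]),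
    ([0, 1, 5, 4, 3, 2, 1, 0, 0, 1, 3, 2, 4, 5, 1, 0, 3, 2, 5, 4, 1, 0, 0, 1, 5, 4, 3, 2, 1, 0, 0, 1, 5, 4, 3, 2, 1, 0], [3, 2, 5, 4, 6, 7, 0, 1, 8]),
    ([1, 0, 3, 2, 5, 4, 1, 0, 1, 0, 3, 2, 5, 4, 1, 0, 0, 1, 5, 4, 3, 2, 1, 0, 0, 1, 5, 4, 3, 2, 1, 0], [0, 1, 2, 3, 5, 4, 7, 6, 8]),
    ([1, 0, 3, 2, 5, 4, 1, 0, 1, 0, 3, 2, 5, 4, 1, 0, 0, 1, 3, 2, 4, 5, 0, 1, 5, 4, 3, 2, 1, 0, 0, 1, 5, 4, 3, 2, 1, 0, 0, 1, 5, 4, 3, 2, 1, 0], [3, 2, 1, 0, 4, 5, 6, 7, 8]),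
    ([1, 0, 3, 2, 5, 4, 1, 0, 0, 1, 3, 2, 4, 5, 0, 1, 5, 4, 3, 2, 1, 0, 0, 1, 3, 2, 4, 5, 0, 1, 3, 2, 4, 5], [2, 3, 1, 0, 4, 5, 7, 6, 8]),
    ([0, 1, 3, 2, 4, 5, 0, 1, 3, 2, 4, 5, 0, 1, 5, 4, 3, 2, 1, 0], [4, 5, 1, 0, 2, 3, 7, 6, 8]),
    ([1, 0, 3, 2, 5, 4, 1, 0, 0, 1, 3, 2, 4, 5, 0, 1, 5, 4, 3, 2, 1, 0, 0, 1, 5, 4, 3, 2, 1, 0, 0, 1, 3, 2, 4, 5, 0, 1, 3, 2, 4, 5], [0, 1, 6, 7, 5, 4, 3, 2, 8]),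
    ([1, 0, 3, 2, 5, 4, 1, 0, 0, 1, 5, 4, 3, 2, 1, 0, 0, 1, 5, 4, 3, 2, 1, 0, 0, 1, 3, 2, 4, 5], [3, 2, 0, 1, 5, 4, 6, 7, 8]),
    ([1, 0, 3, 2, 5, 4, 1, 0, 0, 1, 3, 2, 4, 5, 1, 0, 3, 2, 5, 4, 1, 0, 0, 1, 3, 2, 4, 5, 0, 1, 3, 2, 4, 5], [1, 0, 7, 6, 5, 4, 3, 2, 8]),
    ([0, 1, 5, 4, 3, 2, 1, 0, 1, 0, 3, 2, 5, 4, 1, 0, 1, 0, 3, 2, 5, 4, 1, 0, 0, 1, 5, 4, 3, 2, 1, 0, 0, 1, 3, 2, 4, 5], [7, 6, 0, 1, 2, 3, 5, 4, 8]),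
    ([0, 1, 5, 4, 3, 2, 1, 0, 0, 1, 3, 2, 4, 5], [3, 2, 1, 0, 5, 4, 7, 6, 8]),
    ([0, 1, 5, 4, 3, 2, 1, 0, 1, 0, 3, 2, 5, 4, 1, 0, 0, 1, 3, 2, 4, 5, 0, 1, 5, 4, 3, 2, 1, 0, 0, 1, 3, 2, 4, 5], [0, 1, 7, 6, 3, 2, 4, 5, 8]),
    ([1, 0, 3, 2, 5, 4, 1, 0, 0, 1, 3, 2, 4, 5, 0, 1, 5, 4, 3, 2, 1, 0, 0, 1, 5, 4, 3, 2, 1, 0, 0, 1, 3, 2, 4, 5, 0, 1, 5, 4, 3, 2, 1, 0], [7, 6, 2, 3, 0, 1, 5, 4, 8]),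
    ([1, 0, 3, 2, 5, 4, 1, 0, 0, 1, 5, 4, 3, 2, 1, 0, 0, 1, 5, 4, 3, 2, 1, 0, 0, 1, 5, 4, 3, 2, 1, 0], [1, 0, 7, 6, 3, 2, 5, 4, 8]),
    ([0, 1, 5, 4, 3, 2, 1, 0, 0, 1, 5, 4, 3, 2, 1, 0, 0, 1, 3, 2, 4, 5, 0, 1, 3, 2, 4, 5, 1, 0, 3, 2, 5, 4, 1, 0, 0, 1, 5, 4, 3, 2, 1, 0], [3, 2, 5, 4, 1, 0, 7, 6, 8]),
    ([1, 0, 3, 2, 5, 4, 1, 0, 1, 0, 3, 2, 5, 4, 1, 0, 0, 1, 3, 2, 4, 5, 0, 1, 5, 4, 3, 2, 1, 0, 0, 1, 5, 4, 3, 2, 1, 0], [2, 3, 7, 6, 1, 0, 4, 5, 8]),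
    ([0, 1, 5, 4, 3, 2, 1, 0, 1, 0, 3, 2, 5, 4, 1, 0, 1, 0, 3, 2, 5, 4, 1, 0, 0, 1, 3, 2, 4, 5, 0, 1, 5, 4, 3, 2, 1, 0], [5, 4, 7, 6, 2, 3, 0, 1, 8]),
    ([0, 1, 5, 4, 3, 2, 1, 0, 1, 0, 3, 2, 5, 4, 1, 0, 1, 0, 3, 2, 5, 4, 1, 0, 0, 1, 5, 4, 3, 2, 1, 0], [0, 1, 3, 2, 4, 5, 7, 6, 8]),
    ([0, 1, 3, 2, 4, 5, 0, 1, 5, 4, 3, 2, 1, 0, 0, 1, 3, 2, 4, 5, 0, 1, 3, 2, 4, 5, 0, 1, 5, 4, 3, 2, 1, 0], [5, 4, 6, 7, 3, 2, 0, 1, 8]),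
    ([0, 1, 3, 2, 4, 5, 0, 1, 5, 4, 3, 2, 1, 0, 0, 1, 5, 4, 3, 2, 1, 0, 1, 0, 3, 2, 5, 4, 1, 0], [6, 7, 2, 3, 5, 4, 1, 0, 8]),
    ([0, 1, 5, 4, 3, 2, 1, 0, 0, 1, 5, 4, 3, 2, 1, 0, 0, 1, 3, 2, 4, 5, 1, 0, 3, 2, 5, 4, 1, 0, 0, 1, 3, 2, 4, 5], [7, 6, 5, 4, 3, 2, 1, 0, 8]),
    ([0, 1, 5, 4, 3, 2, 1, 0, 0, 1, 3, 2, 4, 5, 0, 1, 5, 4, 3, 2, 1, 0, 0, 1, 5, 4, 3, 2, 1, 0, 0, 1, 3, 2, 4, 5, 1, 0, 3, 2, 5, 4, 1, 0], [4, 5, 1, 0, 3, 2, 6, 7, 8]),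
    ([0, 1, 5, 4, 3, 2, 1, 0, 1, 0, 3, 2, 5, 4, 1, 0, 0, 1, 3, 2, 4, 5, 0, 1, 3, 2, 4, 5, 0, 1, 5, 4, 3, 2, 1, 0], [4, 5, 0, 1, 3, 2, 7, 6, 8]),
    ([0, 1, 5, 4, 3, 2, 1, 0, 0, 1, 5, 4, 3, 2, 1, 0, 0, 1, 5, 4, 3, 2, 1, 0, 0, 1, 5, 4, 3, 2, 1, 0], [0, 1, 5, 4, 7, 6, 2, 3, 8]),
    ([0, 1, 5, 4, 3, 2, 1, 0, 0, 1, 5, 4, 3, 2, 1, 0, 0, 1, 3, 2, 4, 5, 1, 0, 3, 2, 5, 4, 1, 0], [5, 4, 2, 3, 0, 1, 7, 6, 8])]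

def a0stab_3 : List (List ℕ × List ℕ) :=
  [([1, 0, 3, 2, 5, 4, 1, 0, 1, 0, 3, 2, 5, 4, 1, 0, 0, 1, 5, 4, 3, 2, 1, 0], [1, 0, 6, 7, 2, 3, 5, 4, 8]),
    ([0, 1, 3, 2, 4, 5, 0, 1, 3, 2, 4, 5, 1, 0, 3, 2, 5, 4, 1, 0, 0, 1, 3, 2, 4, 5, 0, 1, 3, 2, 4, 5], [7, 6, 1, 0, 4, 5, 2, 3, 8]),
    ([0, 1, 5, 4, 3, 2, 1, 0, 1, 0, 3, 2, 5, 4, 1, 0, 1, 0, 3, 2, 5, 4, 1, 0, 0, 1, 3, 2, 4, 5], [4, 5, 1, 0, 7, 6, 2, 3, 8]),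
    ([1, 0, 3, 2, 5, 4, 1, 0, 0, 1, 3, 2, 4, 5, 0, 1, 5, 4, 3, 2, 1, 0, 0, 1, 5, 4, 3, 2, 1, 0, 0, 1, 3, 2, 4, 5, 0, 1, 5, 4, 3, 2, 1, 0, 0, 1, 5, 4, 3, 2, 1, 0], [6, 7, 0, 1, 5, 4, 3, 2, 8]),
    ([0, 1, 3, 2, 4, 5, 0, 1, 3, 2, 4, 5, 1, 0, 3, 2, 5, 4, 1, 0, 0, 1, 3, 2, 4, 5, 0, 1, 5, 4, 3, 2, 1, 0, 0, 1, 5, 4, 3, 2, 1, 0], [1, 0, 7, 6, 4, 5, 2, 3, 8]),
    ([0, 1, 3, 2, 4, 5, 1, 0, 3, 2, 5, 4, 1, 0, 0, 1, 5, 4, 3, 2, 1, 0, 0, 1, 3, 2, 4, 5, 0, 1, 3, 2, 4, 5], [2, 3, 4, 5, 6, 7, 0, 1, 8]),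
    ([0, 1, 5, 4, 3, 2, 1, 0, 0, 1, 3, 2, 4, 5, 0, 1, 5, 4, 3, 2, 1, 0, 0, 1, 5, 4, 3, 2, 1, 0, 0, 1, 3, 2, 4, 5, 0, 1, 3, 2, 4, 5], [1, 0, 4, 5, 2, 3, 7, 6, 8]),
    ([0, 1, 3, 2, 4, 5, 1, 0, 3, 2, 5, 4, 1, 0, 1, 0, 3, 2, 5, 4, 1, 0, 0, 1, 5, 4, 3, 2, 1, 0, 0, 1, 3, 2, 4, 5, 0, 1, 3, 2, 4, 5], [1, 0, 2, 3, 6, 7, 5, 4, 8]),
    ([0, 1, 3, 2, 4, 5, 0, 1, 3, 2, 4, 5], [5, 4, 6, 7, 1, 0, 2, 3, 8]),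
    ([1, 0, 3, 2, 5, 4, 1, 0, 0, 1, 5, 4, 3, 2, 1, 0, 0, 1, 3, 2, 4, 5, 0, 1, 3, 2, 4, 5], [5, 4, 7, 6, 0, 1, 2, 3, 8]),
    ([0, 1, 3, 2, 4, 5, 0, 1, 3, 2, 4, 5, 0, 1, 5, 4, 3, 2, 1, 0, 0, 1, 3, 2, 4, 5, 1, 0, 3, 2, 5, 4, 1, 0], [7, 6, 3, 2, 4, 5, 0, 1, 8]),
    ([1, 0, 3, 2, 5, 4, 1, 0, 0, 1, 5, 4, 3, 2, 1, 0, 0, 1, 3, 2, 4, 5, 1, 0, 3, 2, 5, 4, 1, 0, 0, 1, 3, 2, 4, 5, 0, 1, 3, 2, 4, 5], [0, 1, 3, 2, 6, 7, 5, 4, 8]),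
    ([0, 1, 5, 4, 3, 2, 1, 0, 0, 1, 5, 4, 3, 2, 1, 0, 1, 0, 3, 2, 5, 4, 1, 0, 0, 1, 3, 2, 4, 5, 0, 1, 3, 2, 4, 5, 0, 1, 5, 4, 3, 2, 1, 0], [6, 7, 1, 0, 5, 4, 2, 3, 8]),
    ([0, 1, 5, 4, 3, 2, 1, 0, 0, 1, 3, 2, 4, 5, 1, 0, 3, 2, 5, 4, 1, 0, 0, 1, 3, 2, 4, 5, 0, 1, 5, 4, 3, 2, 1, 0], [4, 5, 6, 7, 0, 1, 2, 3, 8]),
    ([1, 0, 3, 2, 5, 4, 1, 0, 0, 1, 3, 2, 4, 5, 0, 1, 5, 4, 3, 2, 1, 0, 0, 1, 5, 4, 3, 2, 1, 0, 0, 1, 3, 2, 4, 5], [6, 7, 4, 5, 2, 3, 0, 1, 8]),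
    ([0, 1, 5, 4, 3, 2, 1, 0, 0, 1, 3, 2, 4, 5, 1, 0, 3, 2, 5, 4, 1, 0, 0, 1, 3, 2, 4, 5, 0, 1, 3, 2, 4, 5], [0, 1, 5, 4, 2, 3, 7, 6, 8]),
    ([1, 0, 3, 2, 5, 4, 1, 0, 0, 1, 5, 4, 3, 2, 1, 0, 0, 1, 3, 2, 4, 5, 1, 0, 3, 2, 5, 4, 1, 0, 0, 1, 5, 4, 3, 2, 1, 0], [6, 7, 1, 0, 3, 2, 4, 5, 8]),
    ([1, 0, 3, 2, 5, 4, 1, 0, 0, 1, 5, 4, 3, 2, 1, 0, 0, 1, 3, 2, 4, 5, 1, 0, 3, 2, 5, 4, 1, 0, 0, 1, 3, 2, 4, 5], [3, 2, 7, 6, 4, 5, 0, 1, 8]),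
    ([0, 1, 5, 4, 3, 2, 1, 0, 0, 1, 5, 4, 3, 2, 1, 0, 0, 1, 3, 2, 4, 5], [5, 4, 0, 1, 7, 6, 2, 3, 8]),
    ([1, 0, 3, 2, 5, 4, 1, 0, 1, 0, 3, 2, 5, 4, 1, 0], [0, 1, 4, 5, 6, 7, 2, 3, 8]),
    ([0, 1, 3, 2, 4, 5, 1, 0, 3, 2, 5, 4, 1, 0, 0, 1, 3, 2, 4, 5, 0, 1, 5, 4, 3, 2, 1, 0], [2, 3, 4, 5, 1, 0, 7, 6, 8]),
    ([0, 1, 5, 4, 3, 2, 1, 0, 1, 0, 3, 2, 5, 4, 1, 0, 0, 1, 3, 2, 4, 5, 0, 1, 5, 4, 3, 2, 1, 0], [7, 6, 2, 3, 5, 4, 0, 1, 8]),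
    ([0, 1, 3, 2, 4, 5, 0, 1, 3, 2, 4, 5, 0, 1, 5, 4, 3, 2, 1, 0, 0, 1, 5, 4, 3, 2, 1, 0, 0, 1, 3, 2, 4, 5, 0, 1, 5, 4, 3, 2, 1, 0, 0, 1, 5, 4, 3, 2, 1, 0], [0, 1, 6, 7, 4, 5, 2, 3, 8]),
    ([1, 0, 3, 2, 5, 4, 1, 0, 0, 1, 5, 4, 3, 2, 1, 0, 0, 1, 5, 4, 3, 2, 1, 0, 0, 1, 3, 2, 4, 5, 1, 0, 3, 2, 5, 4, 1, 0], [3, 2, 6, 7, 0, 1, 5, 4, 8]),
    ([0, 1, 3, 2, 4, 5, 0, 1, 3, 2, 4, 5, 0, 1, 5, 4, 3, 2, 1, 0, 0, 1, 3, 2, 4, 5, 0, 1, 3, 2, 4, 5], [3, 2, 7, 6, 5, 4, 1, 0, 8]),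
    ([0, 1, 3, 2, 4, 5, 0, 1, 3, 2, 4, 5, 1, 0, 3, 2, 5, 4, 1, 0, 1, 0, 3, 2, 5, 4, 1, 0, 0, 1, 5, 4, 3, 2, 1, 0, 0, 1, 3, 2, 4, 5], [0, 1, 4, 5, 3, 2, 7, 6, 8]),
    ([0, 1, 3, 2, 4, 5, 0, 1, 3, 2, 4, 5, 0, 1, 5, 4, 3, 2, 1, 0, 0, 1, 5, 4, 3, 2, 1, 0, 1, 0, 3, 2, 5, 4, 1, 0], [5, 4, 0, 1, 2, 3, 7, 6, 8]),
    ([0, 1, 3, 2, 4, 5, 0, 1, 5, 4, 3, 2, 1, 0, 0, 1, 3, 2, 4, 5, 0, 1, 3, 2, 4, 5], [4, 5, 1, 0, 6, 7, 3, 2, 8]),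
    ([0, 1, 3, 2, 4, 5, 0, 1, 5, 4, 3, 2, 1, 0, 0, 1, 3, 2, 4, 5, 1, 0, 3, 2, 5, 4, 1, 0], [1, 0, 4, 5, 7, 6, 2, 3, 8]),
    ([0, 1, 5, 4, 3, 2, 1, 0, 0, 1, 5, 4, 3, 2, 1, 0, 1, 0, 3, 2, 5, 4, 1, 0], [0, 1, 5, 4, 6, 7, 3, 2, 8]),
    ([0, 1, 5, 4, 3, 2, 1, 0, 0, 1, 3, 2, 4, 5, 0, 1, 3, 2, 4, 5, 1, 0, 3, 2, 5, 4, 1, 0, 0, 1, 5, 4, 3, 2, 1, 0], [6, 7, 3, 2, 0, 1, 5, 4, 8]),
    ([1, 0, 3, 2, 5, 4, 1, 0, 0, 1, 5, 4, 3, 2, 1, 0, 0, 1, 5, 4, 3, 2, 1, 0, 0, 1, 3, 2, 4, 5, 0, 1, 3, 2, 4, 5], [6, 7, 3, 2, 1, 0, 4, 5, 8]),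
    ([1, 0, 3, 2, 5, 4, 1, 0, 0, 1, 3, 2, 4, 5, 0, 1, 5, 4, 3, 2, 1, 0, 0, 1, 5, 4, 3, 2, 1, 0, 0, 1, 5, 4, 3, 2, 1, 0, 0, 1, 5, 4, 3, 2, 1, 0], [4, 5, 6, 7, 2, 3, 0, 1, 8]),
    ([0, 1, 3, 2, 4, 5, 0, 1, 3, 2, 4, 5, 1, 0, 3, 2, 5, 4, 1, 0, 0, 1, 3, 2, 4, 5, 0, 1, 5, 4, 3, 2, 1, 0, 0, 1, 5, 4, 3, 2, 1, 0, 0, 1, 5, 4, 3, 2, 1, 0], [0, 1, 4, 5, 2, 3, 6, 7, 8]),
    ([0, 1, 5, 4, 3, 2, 1, 0, 1, 0, 3, 2, 5, 4, 1, 0, 1, 0, 3, 2, 5, 4, 1, 0, 0, 1, 3, 2, 4, 5, 0, 1, 5, 4, 3, 2, 1, 0, 0, 1, 5, 4, 3, 2, 1, 0], [4, 5, 2, 3, 0, 1, 6, 7, 8]),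
    ([1, 0, 3, 2, 5, 4, 1, 0, 1, 0, 3, 2, 5, 4, 1, 0, 0, 1, 3, 2, 4, 5, 1, 0, 3, 2, 5, 4, 1, 0], [2, 3, 7, 6, 0, 1, 5, 4, 8]),
    ([1, 0, 3, 2, 5, 4, 1, 0, 0, 1, 5, 4, 3, 2, 1, 0, 0, 1, 3, 2, 4, 5], [7, 6, 1, 0, 3, 2, 5, 4, 8]),
    ([0, 1, 5, 4, 3, 2, 1, 0, 0, 1, 3, 2, 4, 5, 0, 1, 5, 4, 3, 2, 1, 0, 0, 1, 5, 4, 3, 2, 1, 0], [3, 2, 7, 6, 0, 1, 4, 5, 8]),
    ([0, 1, 5, 4, 3, 2, 1, 0, 0, 1, 3, 2, 4, 5, 0, 1, 3, 2, 4, 5], [7, 6, 3, 2, 0, 1, 4, 5, 8]),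
    ([0, 1, 3, 2, 4, 5, 0, 1, 5, 4, 3, 2, 1, 0, 0, 1, 5, 4, 3, 2, 1, 0, 0, 1, 3, 2, 4, 5, 0, 1, 3, 2, 4, 5], [0, 1, 2, 3, 7, 6, 5, 4, 8])]

def a0stab_4 : List (List ℕ × List ℕ) :=
  [([0, 1, 5, 4, 3, 2, 1, 0, 1, 0, 3, 2, 5, 4, 1, 0, 1, 0, 3, 2, 5, 4, 1, 0, 0, 1, 3, 2, 4, 5, 1, 0, 3, 2, 5, 4, 1, 0], [4, 5, 2, 3, 1, 0, 7, 6, 8]),
    ([0, 1, 5, 4, 3, 2, 1, 0, 0, 1, 3, 2, 4, 5, 0, 1, 5, 4, 3, 2, 1, 0, 0, 1, 5, 4, 3, 2, 1, 0, 0, 1, 3, 2, 4, 5], [4, 5, 3, 2, 6, 7, 1, 0, 8]),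
    ([0, 1, 3, 2, 4, 5, 1, 0, 3, 2, 5, 4, 1, 0, 0, 1, 5, 4, 3, 2, 1, 0], [7, 6, 0, 1, 3, 2, 4, 5, 8]),
    ([0, 1, 5, 4, 3, 2, 1, 0, 0, 1, 3, 2, 4, 5, 1, 0, 3, 2, 5, 4, 1, 0], [3, 2, 7, 6, 1, 0, 5, 4, 8]),
    ([0, 1, 5, 4, 3, 2, 1, 0, 1, 0, 3, 2, 5, 4, 1, 0, 0, 1, 3, 2, 4, 5], [6, 7, 1, 0, 2, 3, 5, 4, 8]),
    ([0, 1, 5, 4, 3, 2, 1, 0, 0, 1, 3, 2, 4, 5, 0, 1, 3, 2, 4, 5, 1, 0, 3, 2, 5, 4, 1, 0], [7, 6, 4, 5, 3, 2, 0, 1, 8]),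
    ([1, 0, 3, 2, 5, 4, 1, 0, 0, 1, 3, 2, 4, 5, 1, 0, 3, 2, 5, 4, 1, 0], [4, 5, 3, 2, 0, 1, 7, 6, 8]),
    ([1, 0, 3, 2, 5, 4, 1, 0, 0, 1, 3, 2, 4, 5, 0, 1, 5, 4, 3, 2, 1, 0, 0, 1, 5, 4, 3, 2, 1, 0], [4, 5, 3, 2, 1, 0, 6, 7, 8]),
    ([0, 1, 5, 4, 3, 2, 1, 0, 0, 1, 5, 4, 3, 2, 1, 0, 0, 1, 3, 2, 4, 5, 0, 1, 5, 4, 3, 2, 1, 0, 0, 1, 5, 4, 3, 2, 1, 0], [5, 4, 2, 3, 1, 0, 6, 7, 8]),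
    ([0, 1, 5, 4, 3, 2, 1, 0, 0, 1, 3, 2, 4, 5, 1, 0, 3, 2, 5, 4, 1, 0, 0, 1, 3, 2, 4, 5, 1, 0, 3, 2, 5, 4, 1, 0], [5, 4, 0, 1, 3, 2, 6, 7, 8]),
    ([0, 1, 3, 2, 4, 5, 1, 0, 3, 2, 5, 4, 1, 0, 0, 1, 3, 2, 4, 5, 0, 1, 5, 4, 3, 2, 1, 0, 0, 1, 5, 4, 3, 2, 1, 0, 0, 1, 5, 4, 3, 2, 1, 0], [2, 3, 7, 6, 5, 4, 0, 1, 8]),
    ([1, 0, 3, 2, 5, 4, 1, 0, 0, 1, 3, 2, 4, 5, 1, 0, 3, 2, 5, 4, 1, 0, 1, 0, 3, 2, 5, 4, 1, 0, 0, 1, 5, 4, 3, 2, 1, 0, 0, 1, 5, 4, 3, 2, 1, 0], [4, 5, 0, 1, 6, 7, 2, 3, 8]),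
    ([0, 1, 3, 2, 4, 5, 0, 1, 5, 4, 3, 2, 1, 0, 0, 1, 5, 4, 3, 2, 1, 0, 0, 1, 3, 2, 4, 5, 0, 1, 5, 4, 3, 2, 1, 0], [3, 2, 4, 5, 0, 1, 7, 6, 8]),
    ([1, 0, 3, 2, 5, 4, 1, 0, 0, 1, 3, 2, 4, 5, 0, 1, 5, 4, 3, 2, 1, 0, 0, 1, 5, 4, 3, 2, 1, 0, 1, 0, 3, 2, 5, 4, 1, 0], [4, 5, 6, 7, 3, 2, 1, 0, 8]),
    ([0, 1, 5, 4, 3, 2, 1, 0, 0, 1, 3, 2, 4, 5, 0, 1, 3, 2, 4, 5, 1, 0, 3, 2, 5, 4, 1, 0, 0, 1, 5, 4, 3, 2, 1, 0, 0, 1, 5, 4, 3, 2, 1, 0], [7, 6, 0, 1, 5, 4, 2, 3, 8]),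
    ([0, 1, 3, 2, 4, 5, 1, 0, 3, 2, 5, 4, 1, 0, 0, 1, 5, 4, 3, 2, 1, 0, 0, 1, 3, 2, 4, 5], [4, 5, 7, 6, 1, 0, 2, 3, 8]),
    ([0, 1, 3, 2, 4, 5, 1, 0, 3, 2, 5, 4, 1, 0, 0, 1, 3, 2, 4, 5, 0, 1, 5, 4, 3, 2, 1, 0, 0, 1, 5, 4, 3, 2, 1, 0], [3, 2, 1, 0, 7, 6, 5, 4, 8]),
    ([1, 0, 3, 2, 5, 4, 1, 0, 0, 1, 5, 4, 3, 2, 1, 0, 0, 1, 5, 4, 3, 2, 1, 0, 0, 1, 3, 2, 4, 5, 0, 1, 5, 4, 3, 2, 1, 0], [2, 3, 5, 4, 6, 7, 1, 0, 8]),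
    ([0, 1, 3, 2, 4, 5, 1, 0, 3, 2, 5, 4, 1, 0, 1, 0, 3, 2, 5, 4, 1, 0, 0, 1, 5, 4, 3, 2, 1, 0, 0, 1, 3, 2, 4, 5, 1, 0, 3, 2, 5, 4, 1, 0], [2, 3, 1, 0, 7, 6, 4, 5, 8]),
    ([0, 1, 5, 4, 3, 2, 1, 0], [1, 0, 4, 5, 6, 7, 3, 2, 8]),
    ([0, 1, 3, 2, 4, 5, 0, 1, 3, 2, 4, 5, 1, 0, 3, 2, 5, 4, 1, 0], [5, 4, 2, 3, 6, 7, 1, 0, 8]),
    ([1, 0, 3, 2, 5, 4, 1, 0, 1, 0, 3, 2, 5, 4, 1, 0, 0, 1, 5, 4, 3, 2, 1, 0, 0, 1, 3, 2, 4, 5, 1, 0, 3, 2, 5, 4, 1, 0, 0, 1, 3, 2, 4, 5], [7, 6, 5, 4, 2, 3, 0, 1, 8]),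
    ([0, 1, 3, 2, 4, 5, 0, 1, 3, 2, 4, 5, 1, 0, 3, 2, 5, 4, 1, 0, 0, 1, 5, 4, 3, 2, 1, 0, 0, 1, 5, 4, 3, 2, 1, 0, 0, 1, 5, 4, 3, 2, 1, 0], [4, 5, 3, 2, 7, 6, 0, 1, 8]),
    ([0, 1, 3, 2, 4, 5, 1, 0, 3, 2, 5, 4, 1, 0, 0, 1, 5, 4, 3, 2, 1, 0, 0, 1, 3, 2, 4, 5, 1, 0, 3, 2, 5, 4, 1, 0, 0, 1, 3, 2, 4, 5], [1, 0, 4, 5, 3, 2, 6, 7, 8]),
    ([0, 1, 3, 2, 4, 5, 0, 1, 3, 2, 4, 5, 0, 1, 5, 4, 3, 2, 1, 0, 0, 1, 5, 4, 3, 2, 1, 0, 0, 1, 3, 2, 4, 5, 0, 1, 5, 4, 3, 2, 1, 0], [1, 0, 3, 2, 6, 7, 4, 5, 8]),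
    ([1, 0, 3, 2, 5, 4, 1, 0, 0, 1, 3, 2, 4, 5, 0, 1, 3, 2, 4, 5, 0, 1, 5, 4, 3, 2, 1, 0], [2, 3, 1, 0, 6, 7, 5, 4, 8]),
    ([1, 0, 3, 2, 5, 4, 1, 0, 0, 1, 3, 2, 4, 5, 1, 0, 3, 2, 5, 4, 1, 0, 0, 1, 3, 2, 4, 5, 0, 1, 5, 4, 3, 2, 1, 0, 0, 1, 5, 4, 3, 2, 1, 0], [7, 6, 1, 0, 5, 4, 3, 2, 8]),
    ([0, 1, 5, 4, 3, 2, 1, 0, 0, 1, 3, 2, 4, 5, 0, 1, 3, 2, 4, 5, 1, 0, 3, 2, 5, 4, 1, 0, 1, 0, 3, 2, 5, 4, 1, 0, 0, 1, 5, 4, 3, 2, 1, 0], [6, 7, 4, 5, 3, 2, 1, 0, 8]),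
    ([1, 0, 3, 2, 5, 4, 1, 0, 0, 1, 3, 2, 4, 5], [4, 5, 0, 1, 7, 6, 3, 2, 8]),
    ([1, 0, 3, 2, 5, 4, 1, 0, 0, 1, 3, 2, 4, 5, 0, 1, 5, 4, 3, 2, 1, 0], [5, 4, 7, 6, 3, 2, 1, 0, 8]),
    ([0, 1, 3, 2, 4, 5, 1, 0, 3, 2, 5, 4, 1, 0, 0, 1, 3, 2, 4, 5], [3, 2, 6, 7, 4, 5, 1, 0, 8]),
    ([1, 0, 3, 2, 5, 4, 1, 0, 0, 1, 5, 4, 3, 2, 1, 0, 0, 1, 3, 2, 4, 5, 1, 0, 3, 2, 5, 4, 1, 0], [7, 6, 5, 4, 1, 0, 3, 2, 8])]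

def a0stab : List (List ℕ × List ℕ) :=
  a0stab_0 ++ a0stab_1 ++ a0stab_2 ++ a0stab_3 ++ a0stab_4

def a0exps_0 : List (List ℕ) :=
  [[],
    [0, 1, 2, 0],
    [0, 0, 1, 0],
    [1, 2, 0, 0, 0],
    [0, 1, 2, 0, 1],
    [0, 0, 1, 0, 0, 1],
    [2, 1, 1, 0, 0, 0],
    [2, 1, 2, 2],
    [1, 1, 0, 0, 1],
    [0, 2, 2],
    [0, 2, 2, 1, 1],
    [2, 0, 1, 2, 1, 2],
    [1, 1, 2, 0],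
    [1, 2, 0, 1, 2, 0],
    [1, 1, 2, 2, 0],
    [1, 2, 1, 1, 0],
    [0, 0, 1, 1],
    [0, 1, 0],
    [0, 0, 2, 1, 0],
    [1, 1, 0, 1, 2, 0],
    [1, 0, 1, 2, 0, 1],
    [2, 1, 0, 1, 2],
    [1, 1, 2, 1],
    [0, 1, 2, 1, 1, 0],
    [2, 1, 2, 2, 0, 1, 1],
    [2, 1, 0, 0, 0],
    [1, 0, 0, 1],
    [1, 2, 2, 0],
    [1, 2, 0, 0],
    [2, 1, 2, 1],
    [0, 0, 2, 2],
    [1, 2, 2, 0, 0, 0],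
    [1, 1, 0, 0, 0],
    [2, 1, 2, 1, 0],
    [1, 1, 0, 0],
    [0, 0, 0],
    [0, 2, 1, 1, 0, 0],
    [1, 2, 0, 1, 2],
    [0, 2],
    [2, 1, 2, 2, 0]]

def a0exps_1 : List (List ℕ) :=
  [[0, 0, 1, 1, 2],
    [1, 1, 2, 0, 1],
    [0, 2, 1, 1],
    [1, 2, 1, 1, 0, 0],
    [2, 2, 0, 1, 1],
    [0, 1, 2, 0, 0, 0],
    [1, 1, 0, 1],
    [0, 1, 1, 0, 1],
    [1, 2, 2, 0, 0],
    [2, 0, 0, 1, 0, 0],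
    [0, 1, 0, 0, 0],
    [0, 1, 1, 2, 2],
    [2, 0, 1, 1, 0],
    [1, 2, 2, 0, 1],
    [2],
    [1, 0, 0, 0, 0],
    [1, 2, 1, 2],
    [1, 0, 0, 1, 0, 0],
    [0, 1, 2, 1, 1, 0, 0],
    [1, 0, 0],
    [2, 0, 1, 2, 1, 1, 0],
    [0, 0, 2, 1, 1],
    [0, 0, 2, 1],
    [1, 1, 2, 0, 0],
    [2, 2, 0, 1, 2],
    [2, 0],
    [2, 2, 1, 1],
    [0, 0],
    [2, 2, 1],
    [0, 1, 2, 1],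
    [1, 0, 0, 1, 2],
    [1, 0, 1],
    [1, 2, 1, 1, 0, 0, 0],
    [0, 1, 0, 0, 0, 0],
    [1, 0],
    [2, 0, 1, 1, 0, 1],
    [2, 1, 0, 1],
    [2, 2, 1, 1, 0],
    [2, 2, 1, 0],
    [1, 1, 2, 1, 0]]

def a0exps_2 : List (List ℕ) :=
  [[2, 1, 1, 0, 0],
    [2, 0, 0],
    [2, 1, 1],
    [0, 2, 2, 1, 1, 0],
    [2, 2, 0, 0, 0],
    [0, 1, 1, 2, 0, 1],
    [1, 2, 1, 1],
    [1, 2, 2],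
    [2, 2, 0, 1],
    [1],
    [1, 0, 1, 2, 0],
    [0, 1, 1, 0],
    [2, 1, 2, 2, 0, 1],
    [1, 2],
    [1, 1, 2, 2],
    [1, 0, 0, 0],
    [0, 1, 2, 0, 0],
    [2, 2, 0, 0],
    [2, 2, 1, 0, 0, 0],
    [2, 1, 0, 1, 1],
    [1, 1, 0],
    [2, 1, 0, 0, 1, 1],
    [2, 0, 0, 1],
    [2, 1, 2, 1, 1],
    [0, 2, 2, 0, 1],
    [0, 1],
    [0, 2, 1, 0, 1],
    [2, 1, 0, 0, 1, 0],
    [2, 0, 0, 0],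
    [0, 0, 1, 1, 2, 0],
    [2, 2, 1, 0, 0],
    [0, 2, 2, 1, 0],
    [0, 2, 2, 0],
    [1, 0, 1, 1, 0],
    [1, 0, 0, 2],
    [0, 0, 1, 2, 1],
    [0, 1, 0, 0, 1, 2],
    [0, 2, 1, 1, 0],
    [0, 0, 0, 0],
    [0, 0, 1, 2]]

def a0exps_3 : List (List ℕ) :=
  [[2, 2, 0],
    [1, 1, 2, 1, 1],
    [0, 2, 2, 1],
    [2, 1, 0, 0, 1, 0, 0],
    [1, 1, 2, 1, 0, 0],
    [1, 2, 0, 1, 1],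
    [0, 1, 0, 0, 1, 1],
    [1, 2, 2, 0, 1, 1],
    [1, 1],
    [2, 0, 1, 1],
    [1, 1, 0, 1, 2],
    [2, 0, 1, 2, 1, 1],
    [0, 0, 2, 1, 1, 0],
    [0, 1, 2, 1, 0],
    [2, 1, 0, 0, 1],
    [0, 1, 2, 1, 1],
    [2, 0, 1, 2, 0],
    [2, 0, 1, 2, 1],
    [0, 0, 1],
    [2, 2],
    [1, 2, 1, 0],
    [0, 2, 1, 0],
    [1, 1, 0, 0, 1, 0, 0],
    [2, 0, 0, 1, 2],
    [1, 1, 0, 1, 1],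
    [1, 1, 2, 2, 0, 1],
    [1, 1, 0, 0, 2],
    [1, 0, 1, 1],
    [1, 0, 1, 2],
    [0, 0, 2],
    [0, 1, 1, 2, 0],
    [2, 0, 0, 1, 1],
    [2, 1, 0, 0, 0, 0],
    [1, 1, 2, 1, 0, 0, 0],
    [0, 2, 2, 1, 0, 0],
    [2, 2, 1, 2],
    [2, 0, 1],
    [0, 1, 0, 0],
    [0, 1, 1],
    [1, 0, 0, 1, 1]]

def a0exps_4 : List (List ℕ) :=
  [[0, 2, 2, 1, 2],
    [0, 1, 0, 0, 1],
    [1, 2, 0],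
    [0, 1, 2],
    [0, 2, 1],
    [0, 1, 1, 2],
    [2, 1, 2],
    [2, 1, 0, 0],
    [0, 0, 1, 0, 0],
    [0, 1, 2, 1, 2],
    [1, 2, 1, 0, 0, 0],
    [2, 1, 2, 2, 0, 0],
    [1, 0, 0, 1, 0],
    [2, 1, 0, 0, 2],
    [0, 1, 1, 2, 0, 0],
    [1, 2, 0, 1],
    [1, 2, 1, 0, 0],
    [2, 0, 0, 1, 0],
    [1, 2, 2, 0, 1, 2],
    [0],
    [1, 1, 2],
    [2, 2, 0, 1, 2, 1],
    [1, 1, 2, 0, 0, 0],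
    [1, 2, 0, 1, 2, 1],
    [1, 1, 0, 0, 1, 0],
    [2, 1, 1, 0],
    [2, 1, 2, 1, 0, 0],
    [0, 1, 1, 2, 2, 0],
    [2, 1],
    [2, 1, 0],
    [1, 2, 1],
    [2, 0, 1, 2]]

def a0exps : List (List ℕ) :=
  a0exps_0 ++ a0exps_1 ++ a0exps_2 ++ a0exps_3 ++ a0exps_4

def a0rels_0 : List (List (ℕ × ℕ × ℕ)) :=
  [[(1, 0, 1), (1, 0, 2), (1, 0, 3), (1, 0, 4), (1, 0, 5), (1, 0, 6), (1, 0, 7), (1, 0, 8), (1, 0, 9), (1, 0, 10), (1, 0, 11), (1, 0, 12), (1, 0, 13), (1, 0, 14), (1, 0, 15)],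
    [(1, 0, 16), (1, 0, 17), (1, 0, 18), (1, 0, 19), (1, 0, 20)],
    [(1, 0, 5), (1, 0, 21), (1, 0, 22), (1, 0, 23), (1, 0, 24), (1, 0, 25), (1, 0, 26)],
    [(1, 0, 27), (1, 0, 28), (1, 0, 29), (1, 0, 30), (1, 0, 31), (1, 0, 32), (1, 0, 33)],
    [(1, 0, 34), (1, 0, 18), (1, 0, 35), (1, 0, 36), (1, 0, 37), (1, 0, 38), (1, 0, 39)]]

def a0rels : List (List (ℕ × ℕ × ℕ)) :=
  a0rels_0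

def a0invs_0 : List (ℕ × List (ℕ × List (ℕ × ℕ))) :=
  [(0, [(1, [(3, 0), (5, 0), (6, 0), (7, 0), (8, 0), (1, 0), (11, 0), (2, 0), (13, 0), (9, 65), (4, 0), (15, 0), (10, 65), (12, 65), (14, 65), (1, 0), (2, 0), (3, 0), (4, 0), (5, 0), (6, 0), (7, 0), (8, 0), (9, 0), (10, 0), (11, 0), (12, 0), (13, 0), (14, 0), (15, 0)]), (2, [(7, 38), (3, 50), (8, 38), (5, 98), (11, 50), (13, 48), (6, 98), (9, 71), (15, 0), (14, 31), (10, 71), (1, 125), (12, 55), (4, 73), (2, 125), (1, 0), (2, 0), (3, 0), (4, 0), (5, 0), (6, 0), (7, 0), (8, 0), (9, 0), (10, 0), (11, 0), (12, 0), (13, 0), (14, 0), (15, 0)])])]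

def a0invs_1 : List (ℕ × List (ℕ × List (ℕ × ℕ))) :=
  [(1, [(2, [(20, 10), (16, 89), (19, 169), (17, 182), (18, 183), (16, 0), (17, 0), (18, 0), (19, 0), (20, 0)]), (3, [(17, 113), (16, 59), (19, 16), (18, 169), (20, 21), (16, 0), (17, 0), (18, 0), (19, 0), (20, 0)])])]

def a0invs_2 : List (ℕ × List (ℕ × List (ℕ × ℕ))) :=
  [(2, [(4, [(26, 152), (22, 50), (24, 45), (5, 25), (25, 125), (23, 73), (21, 133), (5, 0), (21, 0), (22, 0), (23, 0), (24, 0), (25, 0), (26, 0)]), (5, [(21, 48), (5, 125), (24, 150), (23, 65), (22, 182), (25, 31), (26, 72), (5, 0), (21, 0), (22, 0), (23, 0), (24, 0), (25, 0), (26, 0)])])]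

def a0invs_3 : List (ℕ × List (ℕ × List (ℕ × ℕ))) :=
  [(2, [(4, [(28, 102), (29, 14), (30, 0), (31, 0), (32, 185), (33, 183), (27, 76), (27, 0), (28, 0), (29, 0), (30, 0), (31, 0), (32, 0), (33, 0)]), (5, [(27, 58), (28, 97), (31, 4), (30, 72), (29, 14), (33, 84), (32, 108), (27, 0), (28, 0), (29, 0), (30, 0), (31, 0), (32, 0), (33, 0)])])]

def a0invs_4 : List (ℕ × List (ℕ × List (ℕ × ℕ))) :=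
  [(2, [(4, [(35, 0), (34, 177), (39, 141), (37, 0), (18, 10), (36, 55), (38, 125), (34, 0), (18, 0), (35, 0), (36, 0), (37, 0), (38, 0), (39, 0)]), (5, [(34, 97), (18, 168), (38, 21), (37, 167), (36, 39), (35, 21), (39, 153), (34, 0), (18, 0), (35, 0), (36, 0), (37, 0), (38, 0), (39, 0)])])]

def a0invs : List (ℕ × List (ℕ × List (ℕ × ℕ))) :=
  a0invs_0 ++ a0invs_1 ++ a0invs_2 ++ a0invs_3 ++ a0invs_4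

def a0steps_0 : List (Step) :=
  [⟨1, [1, 5, 6, 4, 4, 3, 2, 0], 1, [(40, 1), (41, 2), (42, 3), (43, 4), (44, 5)]⟩,
    ⟨1, [6, 0, 3, 6, 5, 1, 2, 4], 1, [(45, 6), (46, 7), (47, 8), (48, 9), (49, 10)]⟩,
    ⟨1, [0, 6, 1, 2, 4, 0], 1, [(50, 11), (51, 12), (52, 13), (53, 14), (54, 15)]⟩,
    ⟨1, [1, 5, 6, 4, 3, 1, 0], 1, [(55, 16), (56, 17), (57, 18), (58, 19), (59, 20)]⟩,
    ⟨1, [5, 2, 2, 6, 3, 2], 1, [(60, 6), (61, 21), (62, 22), (63, 23), (64, 24)]⟩,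
    ⟨1, [1, 0, 3, 2, 6, 1, 0], 1, [(65, 25), (66, 26), (67, 27), (68, 5), (69, 28)]⟩,
    ⟨1, [2, 4, 3, 5, 1, 0, 0], 1, [(70, 29), (71, 30), (72, 4), (73, 31), (74, 32)]⟩,
    ⟨1, [2, 1, 6, 0, 3, 5, 4, 3, 0], 1, [(75, 33), (62, 34), (76, 35), (77, 29), (78, 36)]⟩,
    ⟨1, [2, 0, 3, 4, 6, 1, 1, 5, 0], 1, [(24, 11), (79, 37), (80, 38), (81, 39), (82, 21)]⟩,
    ⟨1, [1, 0, 6, 3, 4, 1, 5], 1, [(83, 40), (84, 38), (85, 41), (86, 24), (87, 42)]⟩,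
    ⟨1, [0, 4, 3, 5, 6, 2, 2], 1, [(88, 43), (89, 21), (90, 44), (91, 45), (92, 46)]⟩,
    ⟨1, [3, 0, 2, 5, 6, 2, 2], 1, [(93, 6), (94, 21), (95, 22), (96, 47), (97, 24)]⟩,
    ⟨1, [5, 2, 3, 6, 1, 4, 0, 2], 1, [(77, 48), (98, 32), (99, 49), (100, 7), (101, 41)]⟩,
    ⟨1, [3, 0, 1, 2, 4, 3, 5], 1, [(102, 50), (103, 48), (104, 48), (105, 51), (106, 52)]⟩,
    ⟨1, [0, 6, 4, 1, 3, 5, 2, 1, 0], 1, [(7, 53), (107, 54), (108, 55), (109, 56), (110, 56)]⟩,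
    ⟨1, [4, 0, 1, 5, 3, 6, 2, 1], 1, [(111, 57), (112, 58), (113, 59), (114, 60), (115, 61)]⟩,
    ⟨1, [5, 2, 4, 5, 3, 0, 2, 1], 1, [(116, 62), (117, 61), (104, 63), (118, 64), (119, 65)]⟩,
    ⟨1, [1, 5, 6, 3, 3, 1, 0], 1, [(120, 66), (121, 67), (122, 68), (123, 19), (124, 69)]⟩,
    ⟨1, [1, 5, 3, 2, 6, 1, 4], 1, [(125, 9), (126, 70), (127, 71), (81, 72), (128, 48)]⟩,
    ⟨1, [0, 6, 4, 3, 1, 2], 1, [(129, 73), (130, 65), (131, 74), (132, 75), (133, 2)]⟩,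
    ⟨1, [5, 6, 4, 0, 3, 1, 2, 0], 1, [(134, 0), (135, 46), (136, 76), (137, 0), (109, 59)]⟩,
    ⟨1, [1, 5, 0, 6, 4, 5, 0], 1, [(138, 77), (139, 78), (140, 77), (141, 41), (142, 51)]⟩,
    ⟨1, [3, 2, 6, 0, 4, 3, 5], 1, [(143, 24), (144, 79), (145, 80), (146, 81), (147, 32)]⟩,
    ⟨1, [5, 4, 6, 1, 5, 0, 0], 1, [(148, 69), (149, 82), (150, 46), (151, 75), (152, 77)]⟩,
    ⟨1, [2, 3, 0, 1, 4, 6, 1, 5], 1, [(153, 83), (154, 34), (155, 84), (156, 64), (157, 85)]⟩]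

def a0steps_1 : List (Step) :=
  [⟨1, [2, 0, 1, 6, 5, 4, 3, 2], 1, [(158, 32), (159, 86), (160, 87), (161, 41), (162, 19)]⟩,
    ⟨1, [1, 6, 4, 1, 3, 0, 2], 1, [(163, 27), (164, 0), (165, 88), (51, 23), (166, 71)]⟩,
    ⟨1, [3, 5, 4, 6, 1, 1, 2, 0], 1, [(167, 89), (168, 18), (112, 90), (142, 44), (169, 91)]⟩,
    ⟨1, [4, 0, 5, 3, 6, 2, 2], 1, [(142, 92), (170, 9), (171, 93), (172, 51), (173, 75)]⟩,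
    ⟨1, [6, 3, 5, 2, 4, 0, 3, 1], 1, [(1, 50), (23, 12), (174, 94), (175, 95), (176, 96)]⟩,
    ⟨1, [0, 1, 1, 5, 3, 6, 4], 1, [(30, 97), (177, 91), (178, 98), (179, 99), (150, 6)]⟩,
    ⟨1, [6, 4, 0, 5, 2, 1, 4, 3], 1, [(180, 38), (181, 46), (182, 100), (183, 95), (184, 59)]⟩,
    ⟨1, [4, 2, 6, 5, 0, 4, 3], 1, [(185, 26), (186, 54), (187, 87), (188, 29), (189, 36)]⟩,
    ⟨1, [3, 0, 1, 6, 0, 4, 2, 5], 1, [(190, 101), (191, 102), (192, 78), (193, 103), (194, 85)]⟩,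
    ⟨1, [0, 1, 2, 3, 5, 1, 4, 0, 0], 1, [(72, 100), (195, 104), (196, 105), (197, 35), (116, 6)]⟩,
    ⟨1, [5, 1, 3, 0, 6, 3, 4, 2, 0], 1, [(198, 106), (199, 100), (200, 48), (201, 66), (202, 95)]⟩,
    ⟨1, [5, 0, 1, 6, 4, 1, 2, 3], 1, [(203, 107), (204, 95), (193, 108), (205, 67), (206, 6)]⟩,
    ⟨1, [0, 1, 1, 5, 3, 4, 2], 1, [(207, 109), (208, 110), (209, 99), (210, 111), (211, 112)]⟩,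
    ⟨1, [1, 1, 6, 5, 3, 2, 4], 1, [(212, 27), (44, 113), (83, 22), (213, 67), (214, 6)]⟩,
    ⟨1, [3, 2, 4, 6, 5, 2, 0, 1], 1, [(215, 53), (12, 50), (216, 114), (217, 115), (218, 116)]⟩,
    ⟨1, [0, 2, 6, 5, 2, 1, 4, 0], 1, [(219, 117), (162, 116), (220, 110), (47, 56), (221, 21)]⟩,
    ⟨1, [3, 2, 6, 5, 2, 1, 4, 0], 1, [(80, 55), (222, 32), (223, 52), (224, 21), (225, 21)]⟩,
    ⟨1, [4, 6, 1, 3, 5, 2, 2, 1, 0], 1, [(226, 38), (227, 118), (228, 100), (229, 48), (230, 59)]⟩,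
    ⟨1, [2, 3, 1, 5, 6, 4], 1, [(231, 119), (232, 30), (154, 81), (233, 81), (41, 12)]⟩,
    ⟨1, [2, 3, 1, 5, 6, 2, 4], 1, [(58, 29), (234, 9), (121, 120), (235, 74), (236, 32)]⟩,
    ⟨1, [4, 0, 3, 1, 2, 5, 0, 0], 1, [(116, 91), (237, 18), (238, 121), (239, 122), (71, 72)]⟩,
    ⟨1, [0, 1, 2, 3, 4, 6, 1, 1], 1, [(240, 76), (241, 123), (242, 124), (143, 125), (201, 59)]⟩,
    ⟨1, [6, 1, 3, 0, 2, 5, 4, 3, 0], 1, [(243, 126), (244, 37), (245, 85), (246, 39), (176, 127)]⟩,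
    ⟨1, [0, 1, 4, 5, 1, 2, 3, 0], 1, [(247, 128), (72, 70), (0, 76), (248, 60), (249, 129)]⟩,
    ⟨1, [6, 4, 5, 2, 1, 3, 0, 6], 1, [(250, 33), (127, 128), (65, 67), (251, 24), (252, 33)]⟩]

def a0steps_2 : List (Step) :=
  [⟨1, [6, 4, 0, 3, 4, 1, 2, 0], 1, [(253, 125), (254, 120), (255, 28), (256, 130), (182, 46)]⟩,
    ⟨1, [5, 2, 0, 3, 4, 1, 6, 0], 1, [(257, 131), (258, 69), (189, 79), (259, 72), (260, 54)]⟩,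
    ⟨1, [3, 0, 4, 1, 5, 2, 6, 3], 1, [(261, 0), (262, 0), (149, 0), (263, 0), (264, 0)]⟩,
    ⟨1, [5, 3, 1, 1, 6, 4, 1, 0], 1, [(265, 132), (266, 84), (267, 133), (122, 78), (268, 121)]⟩,
    ⟨1, [1, 5, 4, 2, 0, 0, 6], 1, [(269, 40), (191, 119), (270, 108), (271, 134), (8, 36)]⟩,
    ⟨1, [2, 3, 0, 5, 1, 6, 4, 0, 0], 1, [(272, 135), (172, 48), (150, 98), (140, 6), (273, 94)]⟩,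
    ⟨1, [0, 6, 1, 3, 5, 2], 1, [(129, 83), (274, 85), (275, 120), (276, 74), (277, 32)]⟩,
    ⟨1, [0, 4, 6, 1, 2, 5, 3, 1, 0], 1, [(278, 136), (279, 70), (8, 96), (280, 11), (281, 21)]⟩,
    ⟨1, [3, 0, 2, 6, 1, 4, 5, 3, 1], 1, [(282, 137), (283, 0), (284, 138), (159, 37), (285, 111)]⟩,
    ⟨1, [6, 3, 5, 2, 4, 1, 3, 0], 1, [(2, 0), (286, 12), (23, 49), (287, 0), (288, 0)]⟩,
    ⟨1, [0, 3, 5, 2, 4, 1, 3], 1, [(289, 139), (290, 140), (71, 76), (39, 140), (106, 19)]⟩,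
    ⟨1, [3, 0, 2, 6, 5, 2], 1, [(291, 119), (292, 30), (293, 47), (294, 81), (270, 140)]⟩,
    ⟨1, [3, 2, 6, 1, 5, 0, 4, 3], 1, [(295, 91), (296, 97), (223, 138), (24, 141), (297, 142)]⟩,
    ⟨1, [5, 1, 3, 0, 4, 2, 1], 1, [(290, 113), (20, 22), (298, 17), (299, 96), (36, 134)]⟩,
    ⟨1, [0, 1, 3, 6, 2, 4, 5, 0, 2], 1, [(300, 134), (214, 143), (55, 17), (301, 144), (302, 118)]⟩,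
    ⟨1, [2, 6, 5, 2, 1, 3, 4, 0], 1, [(303, 125), (304, 145), (3, 76), (130, 60), (305, 21)]⟩,
    ⟨1, [4, 6, 5, 1, 1, 2, 0, 3], 1, [(306, 100), (307, 66), (308, 100), (108, 146), (309, 147)]⟩,
    ⟨1, [3, 5, 4, 0, 6, 1, 5, 2], 1, [(185, 148), (257, 45), (310, 130), (311, 134), (312, 138)]⟩,
    ⟨1, [1, 6, 5, 3, 0, 4, 2], 1, [(313, 12), (132, 111), (314, 62), (315, 119), (316, 97)]⟩,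
    ⟨1, [6, 5, 3, 1, 2, 2, 4, 0], 1, [(317, 12), (318, 62), (319, 117), (256, 149), (320, 99)]⟩,
    ⟨1, [1, 2, 5, 4, 1, 3, 0, 0], 1, [(321, 150), (18, 39), (322, 120), (323, 131), (324, 143)]⟩,
    ⟨1, [2, 4, 6, 3, 0, 0, 5, 2, 1], 1, [(325, 151), (326, 152), (22, 98), (215, 16), (327, 9)]⟩,
    ⟨1, [1, 2, 6, 3, 4, 4, 5], 1, [(328, 73), (13, 17), (153, 125), (329, 73), (330, 153)]⟩,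
    ⟨1, [1, 6, 0, 3, 5, 2, 2, 4], 1, [(331, 107), (54, 95), (316, 108), (332, 67), (229, 6)]⟩,
    ⟨1, [2, 3, 5, 1, 6, 0, 4, 4, 0], 1, [(333, 48), (334, 154), (335, 100), (178, 95), (29, 1)]⟩]

def a0steps_3 : List (Step) :=
  [⟨1, [1, 5, 6, 3, 4, 2, 2, 1], 1, [(336, 38), (337, 22), (266, 76), (338, 48), (41, 45)]⟩,
    ⟨1, [5, 4, 2, 6, 3, 0, 1, 1], 1, [(339, 155), (340, 63), (341, 89), (342, 156), (343, 150)]⟩,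
    ⟨1, [0, 1, 6, 0, 0], 1, [(158, 125), (203, 145), (344, 157), (345, 113), (346, 45)]⟩,
    ⟨1, [2, 3, 0, 1, 4, 6, 1, 1], 1, [(347, 51), (338, 57), (348, 44), (349, 103), (350, 99)]⟩,
    ⟨1, [2, 3, 6, 5, 0, 4, 1, 0], 1, [(351, 137), (327, 158), (352, 20), (353, 32), (354, 51)]⟩,
    ⟨1, [5, 6, 3, 1, 4, 0, 2, 5, 0], 1, [(303, 58), (226, 54), (355, 159), (307, 58), (275, 51)]⟩,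
    ⟨1, [4, 2, 3, 1, 0, 6, 2, 5], 1, [(356, 143), (357, 35), (358, 160), (359, 143), (348, 78)]⟩,
    ⟨1, [4, 1, 3, 6, 0, 2, 5, 4], 1, [(83, 33), (360, 119), (41, 35), (9, 134), (358, 36)]⟩,
    ⟨1, [5, 3, 3, 2, 0, 6, 4, 1, 0], 1, [(361, 161), (14, 162), (362, 45), (363, 94), (364, 127)]⟩,
    ⟨1, [2, 2, 1, 0, 5, 3, 6, 0], 1, [(32, 100), (168, 104), (113, 105), (365, 97), (138, 6)]⟩,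
    ⟨1, [5, 4, 6, 0, 1, 2, 4], 1, [(366, 83), (367, 78), (368, 120), (29, 163), (369, 164)]⟩,
    ⟨1, [4, 6, 1, 5, 0, 2, 5, 0], 1, [(370, 151), (371, 72), (314, 158), (277, 6), (165, 165)]⟩,
    ⟨1, [3, 1, 2, 6, 5, 0, 2], 1, [(235, 135), (21, 102), (57, 166), (372, 146), (373, 134)]⟩,
    ⟨1, [4, 3, 0, 6, 1, 2, 5, 0, 0], 1, [(374, 50), (295, 48), (375, 48), (376, 95), (377, 66)]⟩,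
    ⟨1, [1, 2, 0, 3, 4, 1, 5], 1, [(378, 95), (34, 98), (379, 114), (324, 51), (380, 32)]⟩,
    ⟨1, [2, 4, 5, 1, 6], 1, [(381, 45), (263, 167), (382, 43), (383, 79), (273, 48)]⟩,
    ⟨1, [4, 3, 1, 6, 5, 0, 0], 1, [(384, 11), (385, 5), (250, 168), (376, 54), (69, 169)]⟩,
    ⟨1, [2, 3, 6, 0, 0, 1], 1, [(386, 53), (387, 50), (388, 141), (389, 121), (390, 148)]⟩,
    ⟨1, [3, 2, 4, 0, 5, 3, 6, 1], 1, [(391, 55), (263, 114), (392, 52), (29, 34), (393, 50)]⟩,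
    ⟨1, [1, 5, 2, 3, 3, 0], 1, [(394, 91), (395, 127), (396, 111), (211, 170), (72, 104)]⟩,
    ⟨1, [4, 5, 3, 1, 2, 2, 6, 0], 1, [(397, 43), (398, 19), (96, 111), (399, 72), (351, 56)]⟩,
    ⟨1, [6, 5, 4, 1, 3, 4, 2, 0], 1, [(400, 119), (246, 113), (401, 69), (402, 148), (184, 6)]⟩,
    ⟨1, [0, 4, 5, 2, 3, 1, 1, 0], 1, [(16, 125), (403, 145), (323, 76), (208, 9), (404, 19)]⟩,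
    ⟨1, [3, 1, 4, 6, 2, 2, 5], 1, [(348, 107), (405, 41), (42, 108), (56, 99), (406, 137)]⟩,
    ⟨1, [1, 5, 2, 6, 4, 3, 3, 0], 1, [(407, 171), (30, 34), (367, 104), (263, 127), (408, 65)]⟩]

def a0steps_4 : List (Step) :=
  [⟨1, [2, 3, 5, 0, 1, 1, 6], 1, [(347, 65), (409, 82), (373, 69), (157, 97), (357, 6)]⟩,
    ⟨1, [5, 2, 1, 3, 0, 6, 4, 5], 1, [(375, 171), (410, 138), (411, 156), (88, 58), (412, 127)]⟩,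
    ⟨1, [3, 2, 5, 1, 4], 1, [(324, 140), (403, 61), (248, 35), (413, 165), (396, 172)]⟩,
    ⟨1, [1, 2, 2, 3, 0, 5], 1, [(414, 112), (415, 95), (116, 164), (416, 65), (210, 166)]⟩,
    ⟨1, [6, 4, 3, 1, 2, 3], 1, [(417, 170), (418, 54), (244, 41), (419, 29), (420, 36)]⟩,
    ⟨1, [1, 3, 5, 2, 6, 0, 3, 4], 1, [(421, 158), (422, 161), (408, 9), (423, 45), (149, 11)]⟩,
    ⟨1, [3, 1, 6, 3, 5, 4, 0, 2], 1, [(424, 155), (67, 63), (425, 173), (426, 156), (200, 150)]⟩,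
    ⟨1, [6, 4, 4, 5, 0, 3], 1, [(427, 117), (428, 29), (429, 149), (430, 160), (402, 35)]⟩,
    ⟨1, [4, 1, 1, 5, 3, 6, 2, 1], 1, [(167, 174), (431, 173), (432, 59), (369, 9), (141, 138)]⟩,
    ⟨1, [4, 3, 6, 1, 2, 0, 3, 5], 1, [(433, 9), (434, 39), (435, 71), (259, 131), (436, 143)]⟩,
    ⟨1, [6, 2, 4, 4], 1, [(437, 16), (438, 97), (439, 48), (440, 50), (441, 124)]⟩,
    ⟨1, [4, 5, 1, 6, 2, 3, 3, 1, 0], 1, [(261, 137), (442, 54), (272, 25), (443, 175), (421, 121)]⟩,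
    ⟨1, [5, 0, 6, 2, 4, 1, 1], 1, [(407, 26), (391, 26), (28, 27), (444, 5), (178, 74)]⟩,
    ⟨1, [0, 5, 3, 1, 2, 4, 6, 2, 2, 0], 1, [(445, 65), (446, 13), (14, 130), (447, 176), (354, 97)]⟩,
    ⟨1, [0, 1, 1, 5, 3, 6, 2], 1, [(448, 119), (32, 121), (407, 62), (333, 146), (449, 177)]⟩,
    ⟨1, [3, 6, 4, 1, 0, 2, 6], 1, [(450, 167), (451, 155), (284, 153), (452, 129), (453, 31)]⟩,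
    ⟨1, [0, 6, 3, 5, 6, 4, 2], 1, [(454, 121), (455, 50), (296, 141), (456, 121), (384, 148)]⟩,
    ⟨1, [0, 1, 2, 3, 4, 0, 6], 1, [(339, 73), (187, 86), (457, 26), (458, 17), (459, 2)]⟩,
    ⟨1, [3, 4, 6, 1, 2, 5, 0], 1, [(67, 38), (460, 154), (461, 100), (462, 11), (463, 102)]⟩,
    ⟨1, [1, 3, 5, 6, 2, 0, 0, 4, 3, 0], 1, [(455, 43), (80, 48), (464, 9), (465, 151), (240, 94)]⟩,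
    ⟨1, [3, 1, 2, 0, 5, 6, 4, 0, 2], 1, [(279, 150), (466, 9), (159, 57), (467, 127), (206, 46)]⟩,
    ⟨1, [6, 2, 1, 4, 5, 3, 3, 1], 1, [(468, 100), (429, 141), (469, 93), (470, 51), (471, 14)]⟩,
    ⟨1, [6, 4, 5, 3, 1, 2, 3], 1, [(472, 40), (473, 24), (243, 108), (474, 160), (475, 36)]⟩,
    ⟨1, [5, 2, 6, 4, 5, 3, 0, 1, 3, 0], 1, [(264, 2), (476, 21), (477, 170), (478, 144), (179, 26)]⟩,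
    ⟨1, [4, 3, 1, 5, 6, 2, 3, 1], 1, [(212, 46), (120, 17), (479, 82), (57, 162), (480, 121)]⟩]

def a0steps_5 : List (Step) :=
  [⟨1, [3, 1, 2, 4, 5, 2, 6, 0, 2], 1, [(391, 43), (481, 133), (152, 9), (482, 79), (27, 154)]⟩,
    ⟨1, [3, 6, 1, 4, 2, 0, 6, 5], 1, [(390, 11), (483, 178), (484, 60), (61, 49), (485, 162)]⟩,
    ⟨1, [5, 0, 3, 4, 1, 1, 6, 2, 1], 2, [(486, 54), (238, 43), (385, 73), (487, 139), (148, 166), (219, 179), (5, 97)]⟩,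
    ⟨1, [3, 4, 0, 1, 5, 2, 1, 6], 2, [(17, 54), (335, 17), (488, 55), (489, 147), (243, 92), (54, 42), (490, 152)]⟩,
    ⟨1, [1, 2, 4, 5, 0, 6, 3], 2, [(89, 171), (439, 112), (228, 111), (36, 96), (48, 75), (491, 136), (189, 159)]⟩,
    ⟨1, [3, 5, 6, 1, 3, 4, 1, 2, 0], 1, [(145, 163), (67, 162), (410, 160), (492, 94), (493, 127)]⟩,
    ⟨1, [4, 2, 2, 5, 3, 1], 2, [(231, 75), (172, 119), (494, 33), (91, 147), (131, 33), (495, 37), (496, 0)]⟩,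
    ⟨1, [4, 1, 6, 5, 3, 4, 1, 0], 2, [(497, 82), (424, 168), (352, 154), (275, 124), (498, 33), (138, 47), (499, 52)]⟩,
    ⟨1, [3, 6, 5, 4, 3], 4, [(228, 139), (304, 19), (331, 170), (500, 162), (501, 12), (502, 49), (355, 66)]⟩,
    ⟨1, [0, 0, 6, 1, 5], 1, [(503, 177), (504, 164), (453, 76), (192, 125), (466, 59)]⟩,
    ⟨1, [4, 6, 1, 5, 3, 0, 2, 2, 0], 2, [(29, 15), (259, 29), (48, 100), (65, 51), (266, 70), (505, 102), (506, 153)]⟩,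
    ⟨1, [0, 4, 6, 3, 5, 1, 1], 2, [(507, 45), (30, 43), (483, 104), (508, 142), (509, 155), (228, 179), (510, 89)]⟩,
    ⟨1, [0, 5, 6, 4, 3, 2, 1, 1], 2, [(511, 151), (387, 180), (457, 62), (512, 112), (403, 15), (513, 21), (514, 0)]⟩,
    ⟨1, [5, 1, 2, 4, 0, 3, 1, 6], 2, [(36, 40), (515, 31), (478, 165), (516, 52), (517, 132), (349, 24), (97, 15)]⟩,
    ⟨1, [2, 3, 5, 6, 2, 4, 0, 1, 1], 1, [(79, 181), (518, 9), (377, 5), (519, 64), (520, 75)]⟩,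
    ⟨1, [0, 2, 3, 6, 5, 4, 4, 0], 1, [(327, 65), (521, 82), (522, 69), (94, 75), (523, 147)]⟩,
    ⟨1, [6, 2, 4, 0, 1, 4], 1, [(524, 29), (525, 30), (470, 4), (402, 31), (182, 32)]⟩,
    ⟨1, [4, 5, 2, 1, 3, 2, 1], 1, [(289, 53), (0, 54), (195, 55), (526, 141), (38, 3)]⟩,
    ⟨1, [1, 6, 2, 0, 5, 3, 4, 0], 2, [(39, 149), (428, 169), (265, 87), (527, 122), (220, 94), (141, 118), (68, 156)]⟩,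
    ⟨1, [6, 0, 4, 1, 5, 2, 3, 6], 3, [(494, 72), (528, 40), (529, 159), (530, 137), (517, 115), (343, 19), (531, 0)]⟩,
    ⟨1, [2, 3, 1, 5, 3, 6, 4], 1, [(167, 95), (27, 98), (448, 114), (444, 51), (334, 10)]⟩,
    ⟨1, [2, 6, 4, 3, 0, 5, 1, 2], 1, [(532, 44), (533, 50), (534, 19), (53, 52), (535, 148)]⟩,
    ⟨1, [0, 2, 6, 3, 5, 1, 4, 0], 1, [(11, 43), (536, 182), (497, 111), (537, 137), (294, 56)]⟩,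
    ⟨1, [6, 4, 1, 3, 0, 5, 4, 0], 1, [(473, 56), (538, 19), (418, 138), (317, 23), (288, 54)]⟩,
    ⟨1, [3, 4, 6, 0, 2, 5, 1, 1, 0], 2, [(539, 0), (431, 169), (540, 65), (77, 129), (541, 99), (542, 80), (84, 19)]⟩]

def a0steps_6 : List (Step) :=
  [⟨1, [0, 3, 1, 4, 5, 3, 2], 1, [(543, 159), (544, 3), (545, 89), (546, 39), (119, 127)]⟩,
    ⟨1, [4, 0, 6, 5, 2, 2, 3], 1, [(189, 61), (547, 63), (528, 33), (436, 156), (548, 157)]⟩,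
    ⟨1, [4, 6, 3, 2, 5, 1, 2], 1, [(516, 132), (549, 47), (110, 16), (550, 3), (331, 75)]⟩,
    ⟨1, [4, 1, 3, 5, 2, 1, 6, 0], 1, [(15, 181), (390, 19), (94, 183), (551, 83), (552, 184)]⟩,
    ⟨1, [5, 1, 2, 0, 3, 2, 0], 2, [(357, 177), (166, 176), (553, 151), (262, 89), (554, 103), (555, 158), (80, 34)]⟩,
    ⟨1, [0, 2, 1, 4, 6, 0, 5], 2, [(556, 15), (282, 119), (557, 119), (558, 85), (559, 40), (327, 33), (560, 16)]⟩,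
    ⟨1, [3, 1, 2, 0, 5, 4, 6, 0, 2], 1, [(262, 135), (272, 175), (151, 9), (334, 158), (432, 157)]⟩,
    ⟨1, [4, 5, 1, 6, 2, 3, 3, 0], 1, [(561, 91), (562, 97), (333, 138), (442, 141), (392, 142)]⟩,
    ⟨1, [2, 4, 0, 6, 4, 1, 3, 5], 2, [(563, 0), (105, 169), (437, 65), (564, 129), (565, 171), (566, 80), (75, 19)]⟩,
    ⟨1, [4, 3, 5, 2, 0, 6, 3], 2, [(567, 47), (44, 17), (568, 129), (569, 122), (570, 9), (286, 74), (444, 156)]⟩,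
    ⟨1, [2, 1, 1, 6, 3, 0], 1, [(405, 158), (571, 161), (572, 14), (480, 184), (573, 130)]⟩,
    ⟨1, [4, 6, 1, 5], 2, [(151, 19), (574, 93), (60, 129), (336, 83), (251, 185), (575, 18), (206, 173)]⟩,
    ⟨1, [0, 3, 6, 1, 4, 0, 2, 5], 1, [(576, 21), (467, 134), (577, 96), (281, 11), (344, 21)]⟩,
    ⟨1, [1, 2, 5, 6, 3, 3, 2, 0], 1, [(578, 109), (98, 9), (483, 99), (579, 51), (75, 62)]⟩,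
    ⟨1, [4, 6, 3, 5, 1, 1], 2, [(252, 45), (580, 109), (75, 104), (373, 142), (581, 67), (441, 179), (582, 89)]⟩,
    ⟨1, [2, 6, 4, 0, 0, 5], 2, [(583, 159), (13, 176), (584, 40), (208, 15), (424, 107), (487, 22), (585, 94)]⟩,
    ⟨1, [0, 6, 5, 3, 4, 0, 0], 2, [(295, 89), (479, 1), (215, 37), (586, 62), (403, 71), (587, 8), (588, 34)]⟩,
    ⟨1, [6, 1, 4, 2, 0, 0], 1, [(286, 163), (469, 165), (4, 160), (589, 143), (174, 68)]⟩,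
    ⟨1, [1, 6, 0, 3, 2, 4, 5, 1], 1, [(533, 84), (590, 141), (166, 93), (133, 51), (277, 37)]⟩,
    ⟨1, [6, 1, 0, 5, 3, 4, 2], 1, [(541, 89), (591, 18), (245, 90), (319, 51), (505, 91)]⟩,
    ⟨1, [4, 1, 2, 6, 5, 1, 3], 1, [(40, 137), (592, 7), (86, 183), (593, 9), (594, 16)]⟩,
    ⟨1, [6, 0, 4, 2, 5, 3, 0, 1], 2, [(350, 49), (410, 44), (595, 73), (309, 146), (327, 159), (322, 63), (170, 97)]⟩,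
    ⟨1, [2, 3, 4, 5, 0, 6, 1, 0], 1, [(596, 43), (597, 48), (556, 151), (148, 16), (598, 154)]⟩,
    ⟨1, [1, 2, 5, 4, 3, 2, 6, 1, 1, 0], 2, [(48, 11), (599, 142), (260, 70), (600, 146), (178, 27), (601, 101), (318, 64)]⟩,
    ⟨1, [6, 4, 2, 5, 3, 0, 1, 6, 0], 1, [(602, 119), (603, 175), (604, 62), (605, 96), (45, 32)]⟩]

def a0steps_7 : List (Step) :=
  [⟨1, [3, 0, 6, 4, 2, 5], 1, [(606, 137), (374, 21), (222, 44), (519, 45), (462, 46)]⟩,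
    ⟨1, [1, 5, 6, 3, 3, 2, 0], 1, [(593, 109), (124, 106), (213, 26), (607, 51), (608, 120)]⟩,
    ⟨1, [3, 4, 1, 0, 0, 6, 2, 5], 1, [(609, 119), (610, 29), (611, 155), (292, 176), (612, 97)]⟩,
    ⟨1, [0, 1, 2, 0, 6], 1, [(386, 73), (613, 17), (326, 26), (363, 175), (445, 124)]⟩,
    ⟨1, [4, 3, 0, 5, 1, 2, 6, 4], 1, [(155, 4), (614, 26), (85, 169), (607, 5), (42, 110)]⟩,
    ⟨1, [1, 6, 5, 3, 0, 4, 6, 2], 1, [(466, 135), (344, 102), (615, 85), (45, 39), (616, 83)]⟩,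
    ⟨1, [0, 3, 6, 5, 3, 2, 1, 4], 1, [(536, 137), (617, 133), (503, 8), (576, 138), (158, 10)]⟩,
    ⟨1, [4, 3, 5, 6, 1, 2, 2], 2, [(618, 145), (264, 78), (619, 151), (14, 108), (620, 43), (621, 88), (161, 39)]⟩,
    ⟨1, [0, 6, 2, 4, 3, 0, 5, 1], 2, [(301, 93), (181, 132), (467, 175), (622, 104), (623, 168), (18, 138), (624, 186)]⟩,
    ⟨1, [6, 0, 1, 4, 2, 1, 0], 1, [(625, 53), (475, 102), (524, 144), (253, 55), (626, 29)]⟩,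
    ⟨1, [3, 4, 1, 0, 6, 5, 2, 1], 1, [(359, 0), (512, 12), (409, 0), (627, 87), (572, 48)]⟩,
    ⟨1, [4, 5, 1, 6, 5, 2, 0, 1], 1, [(432, 3), (148, 166), (264, 151), (368, 158), (383, 3)]⟩,
    ⟨1, [4, 2, 1, 6, 5, 3, 2], 3, [(40, 54), (607, 48), (328, 175), (83, 5), (157, 128), (628, 54), (231, 62)]⟩,
    ⟨1, [4, 6, 1, 3, 2, 0, 0, 5], 2, [(391, 90), (629, 170), (628, 41), (630, 144), (599, 11), (631, 13), (632, 128)]⟩,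
    ⟨1, [3, 4, 0, 6, 5, 2, 1], 2, [(633, 125), (634, 127), (380, 117), (100, 84), (401, 122), (635, 4), (222, 19)]⟩,
    ⟨1, [5, 3, 2, 0, 4, 5, 1], 3, [(278, 18), (566, 171), (162, 154), (636, 16), (637, 182), (294, 147), (611, 32)]⟩,
    ⟨1, [6, 2, 4, 3, 1, 5, 2, 0], 1, [(470, 100), (591, 104), (499, 105), (439, 35), (638, 77)]⟩,
    ⟨1, [0, 3, 6, 2, 3], 2, [(130, 41), (328, 63), (639, 120), (446, 54), (71, 99), (640, 97), (558, 24)]⟩,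
    ⟨1, [0, 1, 2, 3, 6, 0, 0], 1, [(641, 125), (445, 99), (387, 76), (642, 165), (643, 19)]⟩,
    ⟨1, [2, 1, 3, 4, 1, 5], 1, [(106, 50), (644, 136), (36, 4), (526, 186), (645, 140)]⟩,
    ⟨1, [4, 2, 6, 1, 3, 3], 1, [(646, 58), (647, 102), (648, 103), (494, 58), (649, 134)]⟩,
    ⟨1, [1, 5, 6, 0, 4, 2, 3, 1, 0], 1, [(650, 49), (266, 68), (480, 154), (43, 157), (651, 118)]⟩,
    ⟨1, [5, 4, 1, 6, 2, 0, 0], 2, [(652, 96), (598, 75), (55, 80), (26, 115), (240, 135), (653, 7), (327, 126)]⟩,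
    ⟨1, [6, 1, 0, 6, 2], 2, [(485, 75), (50, 186), (602, 144), (428, 13), (654, 98), (655, 162), (656, 162)]⟩,
    ⟨1, [3, 3, 4, 0, 6, 1, 3, 2], 1, [(657, 29), (658, 124), (659, 96), (660, 187), (259, 78)]⟩]

def a0steps_8 : List (Step) :=
  [⟨1, [5, 0, 6, 2, 1, 4, 3, 0], 1, [(33, 98), (661, 84), (393, 152), (365, 78), (177, 164)]⟩,
    ⟨1, [3, 1, 5, 3, 6, 0, 2, 4], 1, [(171, 16), (662, 49), (365, 136), (366, 50), (561, 168)]⟩,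
    ⟨1, [0, 1, 2, 3, 0, 6], 2, [(526, 145), (663, 156), (450, 148), (575, 162), (232, 159), (657, 70), (61, 98)]⟩,
    ⟨1, [0, 5, 1, 4, 5, 3], 2, [(630, 133), (664, 3), (665, 156), (666, 13), (667, 99), (668, 162), (669, 105)]⟩,
    ⟨1, [5, 1, 6, 4, 2, 3, 3, 0], 2, [(670, 186), (535, 11), (569, 4), (585, 108), (671, 78), (329, 107), (672, 9)]⟩,
    ⟨1, [5, 4, 4, 2, 0, 6, 3], 1, [(95, 34), (673, 70), (75, 14), (325, 121), (217, 12)]⟩,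
    ⟨1, [5, 6, 3, 4, 0, 2], 3, [(674, 9), (584, 41), (2, 4), (181, 81), (675, 19), (253, 46), (676, 108)]⟩,
    ⟨1, [2, 4, 1, 3, 3], 1, [(677, 53), (414, 9), (540, 93), (678, 51), (546, 75)]⟩,
    ⟨1, [5, 4, 0, 1, 4], 1, [(644, 24), (679, 82), (680, 69), (73, 148), (681, 77)]⟩,
    ⟨1, [3, 2, 0, 6, 5, 4, 4], 2, [(682, 66), (83, 130), (653, 156), (683, 147), (176, 188), (262, 163), (128, 112)]⟩,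
    ⟨1, [6, 4, 3, 5, 4, 3, 1, 0], 2, [(269, 21), (532, 120), (684, 29), (628, 112), (152, 90), (685, 156), (546, 24)]⟩,
    ⟨1, [2, 0, 1, 6, 4, 3, 1, 5, 0], 1, [(344, 118), (194, 114), (48, 110), (686, 133), (294, 37)]⟩,
    ⟨1, [6, 3, 4, 1, 0, 5, 2, 1, 0], 2, [(687, 108), (141, 169), (688, 81), (69, 37), (689, 39), (71, 118), (690, 138)]⟩,
    ⟨1, [4, 2, 0, 5, 3, 4, 1], 1, [(36, 100), (691, 66), (118, 100), (195, 146), (679, 53)]⟩,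
    ⟨1, [1, 6, 0, 2, 4, 0, 5, 3], 2, [(464, 68), (692, 46), (211, 150), (693, 78), (123, 40), (553, 37), (551, 61)]⟩,
    ⟨1, [1, 0, 2, 6, 5, 3, 3, 1, 0], 2, [(557, 188), (564, 11), (329, 176), (245, 128), (432, 13), (694, 16), (695, 52)]⟩,
    ⟨1, [6, 2, 3, 4, 5, 3], 1, [(696, 110), (631, 81), (402, 48), (669, 178), (474, 25)]⟩,
    ⟨1, [3, 5, 6, 0, 3, 4, 1, 1], 1, [(518, 143), (143, 13), (697, 160), (511, 143), (630, 185)]⟩,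
    ⟨1, [5, 1, 1, 3, 2, 6, 4, 1, 0], 2, [(537, 58), (498, 3), (550, 2), (139, 32), (83, 93), (389, 162), (457, 123)]⟩,
    ⟨1, [6, 3, 1, 4, 2, 0, 1, 5], 2, [(477, 124), (698, 176), (336, 107), (679, 189), (567, 103), (147, 22), (257, 119)]⟩,
    ⟨1, [4, 0, 6, 3, 2, 1, 5, 2, 0], 2, [(165, 66), (250, 157), (57, 96), (249, 178), (284, 188), (286, 141), (662, 132)]⟩,
    ⟨1, [6, 1, 2, 6, 4, 0, 5, 3, 1], 2, [(276, 177), (477, 176), (104, 144), (411, 128), (699, 115), (22, 158), (700, 3)]⟩,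
    ⟨1, [2, 4, 1, 6, 3, 0, 0], 1, [(701, 24), (702, 79), (560, 80), (260, 81), (703, 32)]⟩,
    ⟨1, [2, 0, 6, 4, 0, 1, 3, 5], 4, [(398, 43), (704, 176), (215, 1), (705, 183), (706, 56), (352, 65), (707, 122)]⟩,
    ⟨1, [4, 1, 5, 3, 4, 2, 0, 6, 1, 0], 2, [(591, 106), (284, 40), (708, 107), (709, 8), (157, 107), (431, 13), (678, 66)]⟩]

def a0steps_9 : List (Step) :=
  [⟨1, [1, 2, 4, 0, 6, 5], 2, [(273, 17), (23, 120), (710, 33), (711, 5), (125, 159), (231, 134), (712, 151)]⟩,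
    ⟨1, [0, 4, 5, 1], 1, [(16, 137), (713, 54), (599, 25), (36, 175), (714, 121)]⟩,
    ⟨1, [6, 5, 3, 4, 2, 3, 1, 0], 1, [(468, 42), (180, 6), (669, 28), (430, 17), (418, 2)]⟩,
    ⟨1, [2, 0, 1, 4, 6, 3, 1, 5, 0], 1, [(715, 117), (716, 114), (717, 110), (266, 56), (718, 21)]⟩,
    ⟨1, [2, 0, 6, 3, 4, 2, 5], 1, [(552, 18), (671, 184), (601, 179), (632, 24), (522, 32)]⟩,
    ⟨1, [2, 3, 1, 4, 5, 3, 6, 2, 0], 2, [(719, 19), (364, 49), (308, 187), (720, 58), (342, 108), (426, 97), (208, 102)]⟩,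
    ⟨1, [0, 1, 2, 0, 0], 4, [(569, 71), (543, 94), (210, 0), (321, 46), (105, 16), (677, 179), (118, 8)]⟩,
    ⟨1, [0, 5, 1, 4, 3, 2, 6, 0, 0], 1, [(721, 118), (465, 155), (606, 93), (722, 128), (568, 75)]⟩,
    ⟨1, [2, 0, 3, 1, 4, 5, 6, 0], 2, [(137, 54), (610, 94), (418, 55), (403, 7), (554, 92), (223, 156), (333, 136)]⟩,
    ⟨1, [3, 4, 5, 0, 2, 1, 6, 3, 0], 1, [(364, 10), (64, 97), (554, 136), (95, 95), (390, 134)]⟩,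
    ⟨1, [1, 4, 6, 0, 5, 2, 3, 1], 3, [(723, 178), (395, 58), (677, 118), (197, 183), (724, 179), (248, 185), (38, 79)]⟩,
    ⟨1, [0, 3, 4, 5, 1, 0, 6, 2], 1, [(491, 38), (608, 70), (715, 100), (357, 48), (40, 59)]⟩,
    ⟨1, [1, 2, 4, 5, 3, 0, 6, 3, 0], 1, [(511, 0), (725, 0), (726, 0), (88, 71), (606, 183)]⟩,
    ⟨1, [5, 1, 4, 4, 3, 0, 2], 1, [(116, 77), (396, 41), (727, 61), (728, 41), (677, 83)]⟩,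
    ⟨1, [0, 4, 5, 2, 3, 1, 1, 6], 3, [(8, 54), (729, 113), (285, 164), (193, 5), (686, 159), (467, 190), (515, 98)]⟩,
    ⟨1, [0, 1, 5, 6, 4, 4, 1], 1, [(405, 43), (594, 161), (157, 34), (213, 124), (730, 56)]⟩,
    ⟨1, [4, 5, 3, 6, 2, 5, 1, 0], 2, [(731, 2), (732, 33), (454, 108), (9, 144), (436, 22), (23, 78), (226, 128)]⟩,
    ⟨1, [4, 3, 1, 2, 5, 6, 2, 2], 2, [(261, 151), (555, 180), (652, 121), (725, 42), (304, 15), (733, 21), (537, 166)]⟩,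
    ⟨1, [6, 2, 1, 4, 0, 1], 1, [(734, 50), (400, 17), (735, 4), (438, 96), (674, 140)]⟩,
    ⟨1, [5, 6, 2, 5, 4, 1, 3], 2, [(250, 66), (472, 157), (365, 104), (480, 147), (528, 26), (736, 148), (452, 2)]⟩,
    ⟨1, [2, 4, 5, 3, 0, 1, 4, 0], 1, [(656, 3), (35, 63), (737, 33), (526, 156), (74, 157)]⟩,
    ⟨1, [2, 1, 4, 3, 6, 5, 1], 3, [(708, 71), (128, 21), (456, 164), (559, 59), (465, 99), (738, 174), (672, 115)]⟩,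
    ⟨1, [6, 2, 5, 0, 4, 5, 0], 2, [(361, 177), (330, 130), (165, 151), (18, 67), (127, 150), (114, 158), (436, 52)]⟩,
    ⟨1, [4, 1, 0, 5, 6, 3, 2, 2, 1, 0], 2, [(739, 164), (732, 21), (465, 40), (501, 41), (423, 64), (474, 138), (618, 34)]⟩,
    ⟨1, [6, 5, 4, 1, 3, 6, 2], 1, [(329, 66), (40, 48), (373, 106), (337, 187), (651, 142)]⟩]

def a0steps_10 : List (Step) :=
  [⟨1, [4, 6, 3, 5, 0, 1, 2, 4], 1, [(740, 12), (741, 30), (133, 4), (134, 31), (567, 32)]⟩,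
    ⟨1, [5, 5, 6, 2, 3, 0], 2, [(194, 191), (55, 84), (499, 3), (200, 52), (298, 144), (742, 57), (218, 58)]⟩,
    ⟨1, [1, 2, 4, 6, 0, 5, 3, 0, 0], 1, [(327, 51), (642, 57), (399, 58), (707, 103), (712, 191)]⟩,
    ⟨1, [3, 2, 4, 0, 5, 3, 6, 1], 4, [(369, 124), (392, 52), (407, 162), (482, 73), (580, 93), (334, 21), (743, 153)]⟩,
    ⟨1, [6, 5, 3, 0, 1, 6, 2], 1, [(159, 154), (636, 150), (686, 108), (204, 24), (605, 36)]⟩,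
    ⟨1, [1, 6, 4, 2, 3, 0, 5, 1], 1, [(744, 57), (135, 58), (313, 59), (709, 134), (745, 138)]⟩,
    ⟨1, [0, 5, 4, 6, 2, 5, 3, 2, 1, 0], 1, [(30, 24), (746, 44), (448, 42), (139, 81), (261, 32)]⟩,
    ⟨1, [3, 2, 5, 4, 0, 3, 6], 2, [(238, 57), (571, 63), (542, 18), (440, 15), (342, 107), (447, 108), (365, 94)]⟩,
    ⟨1, [3, 1, 5, 6, 1, 4, 0, 1], 2, [(273, 145), (747, 88), (748, 37), (612, 108), (176, 156), (599, 8), (313, 102)]⟩,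
    ⟨1, [5, 4, 1, 6, 3, 2, 4, 0], 4, [(341, 2), (749, 128), (260, 39), (660, 129), (750, 104), (647, 18), (751, 61)]⟩,
    ⟨1, [5, 2, 3, 1, 4, 6, 0], 1, [(752, 188), (213, 119), (349, 68), (480, 24), (409, 36)]⟩,
    ⟨1, [4, 6, 6, 3, 0, 5, 1, 2], 1, [(749, 191), (702, 19), (753, 8), (754, 169), (457, 10)]⟩,
    ⟨1, [6, 1, 1, 4, 0, 5, 2, 3, 0], 1, [(256, 45), (287, 167), (755, 43), (674, 79), (756, 48)]⟩,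
    ⟨1, [2, 0, 1, 6, 3, 4, 4], 1, [(292, 171), (757, 21), (758, 102), (269, 45), (451, 142)]⟩,
    ⟨1, [6, 5, 2, 1, 3, 2, 0], 1, [(288, 2), (759, 21), (720, 170), (253, 97), (760, 26)]⟩,
    ⟨1, [4, 6, 1, 3, 5, 2, 2, 0], 1, [(5, 125), (689, 32), (533, 28), (227, 7), (761, 9)]⟩,
    ⟨1, [6, 2, 4, 3, 1, 1], 2, [(585, 59), (762, 5), (304, 184), (619, 115), (447, 70), (249, 156), (603, 123)]⟩,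
    ⟨1, [4, 3, 1, 2, 6, 0, 1], 2, [(763, 80), (378, 11), (697, 187), (764, 167), (51, 13), (720, 22), (765, 157)]⟩,
    ⟨1, [3, 2, 4, 1, 3, 5, 0], 2, [(766, 186), (623, 145), (500, 187), (693, 162), (560, 137), (222, 104), (183, 157)]⟩,
    ⟨1, [0, 3, 5, 4, 6, 1, 2, 0], 2, [(558, 130), (767, 63), (768, 175), (60, 183), (565, 112), (726, 138), (348, 59)]⟩,
    ⟨1, [4, 2, 1, 6, 5, 3, 2], 1, [(15, 55), (769, 32), (643, 52), (353, 21), (690, 9)]⟩,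
    ⟨1, [2, 3, 5, 4, 0, 6, 3], 2, [(666, 54), (44, 125), (417, 41), (413, 83), (291, 92), (295, 63), (421, 89)]⟩,
    ⟨1, [1, 4, 6, 3, 5, 2, 4, 1], 2, [(317, 125), (770, 152), (241, 120), (771, 104), (772, 99), (583, 50), (293, 54)]⟩,
    ⟨1, [2, 6, 3, 5, 1, 4, 0, 2], 1, [(226, 136), (277, 152), (7, 98), (773, 52), (309, 7)]⟩,
    ⟨1, [4, 1, 6, 2, 0, 4, 5, 3], 1, [(701, 97), (683, 162), (774, 98), (775, 107), (649, 127)]⟩]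

def a0steps_11 : List (Step) :=
  [⟨1, [1, 6, 0, 3, 4, 5, 6, 2], 1, [(776, 181), (777, 19), (778, 183), (560, 169), (750, 44)]⟩,
    ⟨1, [0, 6, 4, 3, 5, 1, 2], 1, [(315, 42), (304, 138), (227, 178), (166, 18), (740, 73)]⟩,
    ⟨1, [3, 6, 5, 2, 4, 1, 3], 2, [(779, 58), (705, 6), (197, 42), (780, 79), (772, 121), (423, 170), (291, 168)]⟩,
    ⟨1, [0, 1, 2, 6], 3, [(563, 162), (152, 153), (263, 87), (368, 181), (781, 8), (422, 147), (272, 95)]⟩,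
    ⟨1, [2, 3, 0, 1, 4, 5, 1, 0], 2, [(782, 77), (434, 6), (734, 116), (783, 168), (557, 23), (162, 161), (784, 80)]⟩,
    ⟨1, [6, 2, 3, 0, 4, 5, 3, 0], 2, [(218, 178), (573, 24), (785, 40), (73, 90), (528, 32), (492, 8), (113, 102)]⟩,
    ⟨1, [2, 3, 0, 1, 4, 5, 1, 6], 2, [(713, 166), (257, 3), (786, 99), (146, 13), (52, 56), (609, 165), (787, 19)]⟩,
    ⟨1, [2, 3, 1, 0, 5, 4, 6, 0, 1], 2, [(63, 125), (211, 131), (181, 117), (519, 8), (164, 72), (221, 4), (574, 80)]⟩,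
    ⟨1, [5, 6, 0, 4], 4, [(277, 181), (620, 72), (788, 162), (741, 42), (164, 156), (227, 179), (789, 153)]⟩,
    ⟨1, [4, 3, 5, 1, 4, 6, 1, 1, 0], 1, [(571, 155), (336, 63), (214, 173), (790, 156), (236, 37)]⟩,
    ⟨1, [0, 5, 1, 2, 6, 4, 5, 3], 2, [(791, 182), (664, 27), (693, 29), (741, 33), (434, 60), (399, 141), (792, 177)]⟩,
    ⟨1, [6, 2, 4, 0, 3, 3, 0], 2, [(793, 115), (266, 64), (535, 25), (647, 146), (686, 136), (723, 88), (144, 57)]⟩,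
    ⟨1, [1, 5, 3, 4, 4, 6, 0], 1, [(794, 102), (459, 107), (624, 63), (433, 64), (772, 99)]⟩,
    ⟨1, [5, 6, 3, 4, 1, 2, 6], 1, [(614, 0), (356, 32), (59, 157), (372, 133), (717, 187)]⟩,
    ⟨1, [6, 0, 2, 3, 5, 1, 1, 4, 0], 1, [(779, 125), (470, 70), (1, 76), (733, 60), (795, 21)]⟩,
    ⟨1, [4, 6, 2, 3, 5, 2, 2, 1], 2, [(328, 65), (796, 105), (382, 159), (223, 78), (237, 119), (317, 30), (504, 82)]⟩,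
    ⟨1, [5, 1, 0, 3, 2, 6, 0, 1], 1, [(797, 91), (722, 141), (410, 130), (126, 144), (738, 39)]⟩,
    ⟨1, [0, 2, 4, 3, 1, 0], 2, [(287, 167), (798, 126), (773, 56), (715, 42), (14, 2), (45, 138), (455, 26)]⟩,
    ⟨1, [6, 0, 2], 2, [(736, 93), (268, 48), (645, 13), (670, 120), (463, 56), (588, 141), (135, 130)]⟩,
    ⟨1, [6, 1, 5, 2, 0, 3, 1, 4], 2, [(655, 171), (553, 46), (571, 72), (663, 130), (799, 117), (200, 153), (168, 159)]⟩,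
    ⟨1, [4, 2, 6, 3, 1, 0, 5, 4, 1], 2, [(682, 21), (597, 46), (129, 62), (174, 112), (523, 135), (496, 153), (127, 24)]⟩,
    ⟨1, [4, 6, 3, 3, 5, 1, 2], 2, [(554, 150), (509, 56), (334, 57), (800, 129), (207, 65), (801, 151), (637, 3)]⟩,
    ⟨1, [4, 6, 5, 0, 4, 2, 1, 1, 3], 2, [(507, 134), (665, 178), (604, 184), (589, 115), (302, 85), (178, 107), (394, 57)]⟩,
    ⟨1, [0, 0, 6, 5, 4, 3, 2, 1], 2, [(607, 0), (147, 65), (435, 0), (363, 78), (112, 0), (802, 1), (803, 0)]⟩,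
    ⟨1, [6, 3, 1, 4, 0, 3, 5, 2], 2, [(14, 117), (197, 100), (804, 30), (111, 26), (434, 32), (654, 9), (232, 88)]⟩]

def a0steps_12 : List (Step) :=
  [⟨1, [3, 5, 2, 6, 4, 2, 2, 1], 3, [(228, 170), (309, 138), (50, 78), (565, 77), (567, 47), (107, 147), (136, 177)]⟩,
    ⟨1, [1, 3, 3, 6, 0, 4, 2, 1, 0], 1, [(797, 28), (564, 41), (462, 85), (456, 81), (295, 77)]⟩,
    ⟨1, [1, 4, 6, 2, 5, 0, 2, 3], 2, [(805, 60), (244, 100), (442, 104), (806, 135), (283, 145), (666, 68), (361, 125)]⟩,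
    ⟨1, [2, 2, 3, 1, 5, 0, 4], 3, [(455, 178), (225, 82), (461, 30), (90, 178), (606, 139), (762, 25), (69, 11)]⟩,
    ⟨1, [0, 1, 5, 3, 2, 6, 4, 0, 2], 2, [(561, 50), (666, 135), (807, 125), (418, 2), (808, 152), (787, 75), (19, 182)]⟩,
    ⟨1, [2, 4, 0, 5, 3, 4, 6, 2], 1, [(630, 28), (80, 82), (520, 69), (128, 75), (66, 147)]⟩,
    ⟨1, [2, 4, 5, 1, 6, 3, 0, 0], 2, [(117, 52), (188, 46), (735, 62), (637, 13), (43, 6), (307, 153), (424, 26)]⟩,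
    ⟨1, [1, 4, 3, 1, 5, 2, 6], 1, [(368, 26), (477, 52), (334, 44), (169, 24), (809, 42)]⟩,
    ⟨1, [0, 3, 1, 4, 2, 5], 1, [(723, 183), (116, 152), (247, 153), (289, 16), (802, 94)]⟩,
    ⟨1, [3, 0, 1, 5, 6, 2, 4], 2, [(703, 151), (455, 180), (33, 121), (736, 177), (427, 15), (248, 21), (810, 166)]⟩,
    ⟨1, [6, 4, 1, 5, 2, 0, 0, 3], 2, [(511, 15), (695, 166), (651, 33), (382, 2), (811, 72), (307, 40), (812, 60)]⟩,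
    ⟨1, [1, 3, 0, 2, 6, 0, 4, 5, 0], 1, [(160, 113), (766, 170), (813, 17), (758, 129), (285, 134)]⟩,
    ⟨1, [3, 0, 1, 4, 2, 5, 6], 4, [(326, 135), (93, 21), (522, 70), (75, 21), (684, 179), (12, 18), (665, 21)]⟩,
    ⟨1, [4, 1, 6, 0, 2, 3, 5, 2, 2], 1, [(640, 48), (814, 150), (560, 4), (624, 186), (815, 16)]⟩,
    ⟨1, [3, 5, 6, 1, 2, 4, 5], 3, [(816, 54), (99, 95), (390, 164), (75, 5), (361, 128), (63, 190), (706, 115)]⟩,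
    ⟨1, [5, 6, 3, 3, 2], 2, [(76, 9), (153, 20), (564, 62), (481, 120), (817, 53), (747, 153), (158, 171)]⟩,
    ⟨1, [4, 5, 3, 2, 2, 1, 0], 1, [(289, 73), (817, 6), (818, 26), (17, 175), (104, 7)]⟩,
    ⟨1, [1, 5, 2, 4, 4, 3, 0], 1, [(498, 83), (209, 78), (237, 120), (681, 163), (416, 164)]⟩,
    ⟨1, [2, 5, 5, 6, 0, 4, 3], 1, [(477, 189), (392, 106), (366, 114), (172, 31), (781, 29)]⟩,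
    ⟨1, [3, 0, 5, 3, 2, 4, 6, 1, 0], 2, [(277, 177), (646, 159), (170, 188), (348, 123), (190, 165), (819, 111), (677, 3)]⟩,
    ⟨1, [0, 6, 1, 3, 5, 4, 0, 2], 1, [(785, 126), (600, 102), (135, 85), (309, 39), (132, 127)]⟩,
    ⟨1, [4, 0, 2, 6, 5, 0, 3], 1, [(345, 10), (764, 18), (820, 44), (45, 151), (161, 51)]⟩,
    ⟨1, [3, 4, 6, 0, 2, 5, 0, 1], 3, [(688, 54), (221, 48), (49, 129), (603, 167), (820, 23), (821, 50), (191, 46)]⟩,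
    ⟨1, [4, 2, 1, 3, 0, 6, 2, 5], 2, [(33, 96), (547, 75), (595, 80), (229, 115), (822, 131), (439, 7), (347, 126)]⟩,
    ⟨1, [3, 1, 5, 6, 0, 4, 1, 0], 2, [(823, 117), (615, 82), (398, 93), (744, 26), (318, 32), (74, 9), (458, 66)]⟩]

def a0steps_13 : List (Step) :=
  [⟨1, [0, 5, 3, 6, 4, 5, 2, 2], 1, [(587, 53), (421, 54), (824, 5), (113, 181), (432, 34)]⟩,
    ⟨1, [3, 1, 5, 6, 1, 2, 4, 0], 4, [(328, 9), (800, 28), (718, 162), (488, 134), (479, 116), (650, 11), (122, 151)]⟩,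
    ⟨1, [6, 5, 4, 1, 3, 4, 0], 1, [(184, 135), (510, 9), (439, 15), (254, 124), (675, 83)]⟩,
    ⟨1, [6, 1, 3, 5, 2, 0], 2, [(193, 156), (5, 75), (377, 101), (326, 176), (677, 119), (459, 16), (431, 189)]⟩,
    ⟨1, [5, 3, 0, 2, 3, 6, 1], 1, [(825, 114), (327, 159), (64, 93), (446, 146), (812, 53)]⟩,
    ⟨1, [3, 5, 6, 2, 3, 4, 1, 2], 2, [(167, 49), (181, 24), (826, 139), (268, 139), (197, 120), (64, 138), (827, 68)]⟩,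
    ⟨1, [5, 0, 3, 4, 2, 6, 1, 3, 0], 3, [(505, 162), (638, 171), (759, 178), (524, 43), (828, 149), (4, 147), (429, 177)]⟩,
    ⟨1, [0, 1, 6, 4, 0, 2], 2, [(601, 182), (129, 27), (753, 29), (525, 33), (126, 29), (348, 13), (727, 177)]⟩,
    ⟨1, [6, 2, 2, 4, 1], 1, [(735, 11), (437, 5), (472, 168), (538, 180), (829, 169)]⟩,
    ⟨1, [2, 4, 3, 5], 1, [(395, 26), (73, 120), (691, 5), (299, 51), (830, 46)]⟩,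
    ⟨1, [4, 0, 1, 6, 5, 3, 2], 1, [(11, 73), (503, 7), (203, 157), (292, 21), (604, 7)]⟩,
    ⟨1, [5, 1, 4, 6, 3, 2, 2], 1, [(619, 32), (608, 164), (268, 76), (42, 125), (235, 59)]⟩,
    ⟨1, [2, 6, 5, 1, 3, 4, 0, 2], 1, [(516, 53), (3, 50), (136, 45), (663, 94), (306, 148)]⟩,
    ⟨1, [5, 6, 2, 1, 4, 2, 3, 0], 2, [(570, 167), (831, 126), (300, 51), (242, 131), (340, 2), (770, 25), (596, 26)]⟩,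
    ⟨1, [1, 5, 2, 6, 3, 4, 1, 0], 1, [(634, 91), (449, 16), (832, 25), (431, 41), (149, 124)]⟩,
    ⟨1, [4, 2, 3, 0, 0, 6], 3, [(114, 178), (693, 153), (142, 30), (365, 153), (392, 179), (513, 185), (273, 79)]⟩,
    ⟨1, [4, 5, 3, 1, 0, 2, 6, 4], 1, [(220, 83), (344, 9), (595, 93), (282, 51), (193, 62)]⟩,
    ⟨1, [1, 3, 0, 4, 5, 3, 6, 2], 2, [(799, 175), (524, 160), (130, 75), (395, 108), (833, 144), (783, 158), (234, 102)]⟩,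
    ⟨1, [6, 3, 0, 5, 4, 3, 1, 2, 0], 1, [(828, 3), (495, 114), (288, 151), (428, 158), (674, 3)]⟩,
    ⟨1, [4, 3, 6, 5, 4, 2, 0, 1, 1], 1, [(310, 92), (647, 9), (530, 93), (834, 51), (435, 75)]⟩,
    ⟨1, [1, 2, 0, 6, 3, 5, 4, 1], 1, [(326, 91), (446, 103), (362, 2), (673, 144), (96, 39)]⟩,
    ⟨1, [4, 2, 3, 5, 2, 0], 1, [(415, 127), (403, 138), (380, 178), (835, 18), (70, 124)]⟩,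
    ⟨1, [0, 3, 6, 5, 4, 2, 1, 1], 1, [(821, 171), (699, 9), (604, 156), (570, 127), (345, 42)]⟩,
    ⟨1, [2, 3, 4, 5, 6, 1, 1, 0], 4, [(343, 106), (655, 52), (807, 162), (836, 82), (772, 39), (767, 21), (458, 153)]⟩,
    ⟨1, [6, 4, 1, 0, 3, 6, 5], 2, [(662, 124), (645, 87), (643, 46), (288, 1), (716, 61), (51, 182), (539, 191)]⟩]

def a0steps_14 : List (Step) :=
  [⟨1, [2, 4, 5, 1, 1, 3, 0, 6], 2, [(837, 98), (138, 51), (419, 62), (204, 61), (336, 53), (535, 21), (655, 134)]⟩,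
    ⟨1, [1, 3, 5, 6, 2, 1, 4, 0], 1, [(147, 119), (251, 13), (511, 160), (66, 180), (425, 185)]⟩,
    ⟨1, [6, 3, 2, 0, 1, 4, 0], 2, [(791, 121), (217, 165), (74, 44), (838, 109), (136, 26), (839, 40), (265, 47)]⟩,
    ⟨1, [5, 4, 0, 6, 2, 1, 4, 3], 4, [(339, 116), (840, 104), (581, 136), (548, 89), (798, 97), (775, 54), (648, 129)]⟩,
    ⟨1, [0, 6, 3, 4, 5, 1, 1, 2], 2, [(390, 40), (112, 30), (592, 83), (841, 182), (839, 11), (656, 6), (255, 7)]⟩,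
    ⟨1, [1, 5, 3, 0, 6, 2, 1, 4, 0, 0], 1, [(797, 62), (222, 34), (375, 63), (198, 64), (842, 65)]⟩,
    ⟨1, [4, 6, 1, 2, 5, 3, 2], 1, [(228, 117), (761, 116), (843, 110), (844, 56), (635, 21)]⟩,
    ⟨1, [6, 5, 0, 2, 4, 0, 1, 3, 0], 2, [(485, 65), (341, 97), (481, 108), (455, 144), (526, 22), (49, 41), (491, 128)]⟩,
    ⟨1, [5, 6, 4, 2, 3, 0, 1, 1], 4, [(689, 147), (845, 168), (810, 5), (534, 39), (332, 181), (709, 104), (50, 128)]⟩,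
    ⟨1, [2, 1, 6, 5, 1, 0, 3, 4], 4, [(601, 136), (521, 0), (822, 136), (390, 0), (97, 10), (218, 47), (825, 100)]⟩,
    ⟨1, [4, 3, 2, 1, 5, 6, 0, 0], 2, [(561, 89), (126, 1), (846, 37), (605, 81), (304, 71), (468, 170), (18, 34)]⟩,
    ⟨1, [6, 2, 4, 5, 2, 3, 0, 1], 1, [(495, 42), (760, 140), (514, 99), (676, 140), (524, 65)]⟩,
    ⟨1, [1, 6, 3, 5, 0, 2, 4, 0], 2, [(240, 23), (475, 119), (449, 135), (754, 135), (40, 33), (616, 37), (94, 52)]⟩,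
    ⟨1, [5, 1, 0, 3, 2, 5, 4], 1, [(0, 48), (837, 48), (103, 48), (211, 79), (677, 52)]⟩,
    ⟨1, [2, 3, 1, 6, 5, 4, 4], 1, [(412, 147), (842, 21), (125, 88), (738, 47), (202, 24)]⟩,
    ⟨1, [5, 2, 6, 3, 5, 4, 1], 2, [(406, 163), (287, 159), (847, 68), (807, 128), (698, 138), (297, 158), (8, 3)]⟩,
    ⟨1, [4, 1, 2, 0, 6, 5, 1, 3], 1, [(363, 135), (579, 48), (522, 106), (848, 187), (218, 131)]⟩,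
    ⟨1, [2, 3, 1, 0, 4, 1, 6], 1, [(834, 137), (849, 23), (528, 190), (751, 17), (777, 111)]⟩,
    ⟨1, [1, 3, 4, 5, 6, 1], 4, [(739, 135), (188, 168), (774, 70), (528, 44), (486, 39), (555, 97), (560, 82)]⟩,
    ⟨1, [5, 2, 4, 5, 3, 0, 2, 1], 2, [(214, 133), (269, 165), (377, 61), (850, 189), (433, 99), (443, 162), (676, 48)]⟩,
    ⟨1, [6, 4, 5, 1, 1, 3, 2], 1, [(243, 107), (505, 84), (471, 35), (441, 57), (182, 36)]⟩,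
    ⟨1, [2, 0, 6, 5, 3, 2, 1, 4, 0], 1, [(14, 38), (848, 22), (352, 100), (642, 48), (748, 45)]⟩,
    ⟨1, [2, 0, 5, 3, 1, 6, 4, 2], 4, [(463, 106), (456, 94), (65, 0), (519, 100), (376, 39), (805, 121), (198, 8)]⟩,
    ⟨1, [4, 0, 5, 6, 2, 3, 1, 2, 0], 4, [(219, 139), (609, 92), (553, 170), (8, 162), (757, 12), (293, 12), (839, 66)]⟩,
    ⟨1, [6, 4, 0, 1, 5, 0], 1, [(819, 56), (1, 54), (591, 55), (438, 56), (756, 3)]⟩]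

def a0steps_15 : List (Step) :=
  [⟨1, [5, 6, 2, 1, 0, 0], 4, [(803, 135), (532, 3), (163, 5), (136, 27), (549, 42), (745, 164), (710, 81)]⟩,
    ⟨1, [4, 2, 6, 3, 5, 0, 1, 4], 1, [(851, 24), (459, 78), (840, 13), (646, 78), (343, 91)]⟩,
    ⟨1, [5, 4, 0, 1], 1, [(818, 28), (618, 82), (545, 69), (526, 78), (831, 77)]⟩,
    ⟨1, [1, 5, 2, 4, 3, 0, 1, 6, 0, 0], 1, [(577, 124), (285, 19), (194, 138), (496, 16), (205, 121)]⟩,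
    ⟨1, [4, 3, 2, 1, 0, 6, 5, 2], 2, [(659, 21), (80, 179), (678, 62), (149, 62), (532, 161), (735, 21), (671, 166)]⟩,
    ⟨1, [4, 1, 0, 2, 3, 5, 0, 1], 2, [(314, 15), (366, 27), (301, 133), (836, 32), (852, 11), (514, 60), (460, 142)]⟩,
    ⟨1, [0, 3, 4, 6, 1, 1, 5, 0], 2, [(286, 161), (74, 17), (812, 55), (273, 147), (785, 92), (49, 12), (640, 130)]⟩,
    ⟨1, [2, 4, 6, 5, 4, 2, 1, 0], 2, [(270, 64), (847, 145), (150, 158), (233, 6), (412, 179), (238, 189), (558, 4)]⟩,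
    ⟨1, [2, 0, 3, 1, 4, 5, 6, 0, 2], 2, [(631, 19), (853, 109), (645, 41), (803, 137), (506, 181), (411, 104), (168, 33)]⟩,
    ⟨1, [2, 4, 6, 2, 3, 0, 5, 1, 2], 1, [(64, 137), (793, 133), (769, 44), (100, 151), (642, 10)]⟩,
    ⟨1, [4, 5, 3, 2, 2, 1, 0], 2, [(452, 150), (389, 105), (854, 191), (329, 30), (458, 109), (505, 136), (431, 183)]⟩,
    ⟨1, [1, 4, 0, 5, 6, 3, 2, 1], 2, [(669, 167), (125, 140), (379, 27), (97, 7), (179, 177), (304, 75), (356, 60)]⟩,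
    ⟨1, [4, 3, 6, 0, 1, 4, 5, 2], 2, [(22, 171), (197, 112), (755, 72), (443, 96), (855, 75), (451, 136), (854, 87)]⟩,
    ⟨1, [2, 5, 3, 0, 4, 1, 6, 2], 2, [(696, 53), (553, 165), (608, 65), (73, 13), (665, 93), (24, 151), (432, 48)]⟩,
    ⟨1, [2, 6, 1, 3, 3], 1, [(533, 151), (804, 97), (741, 8), (810, 137), (745, 56)]⟩,
    ⟨1, [1, 6, 3, 5, 2, 4, 1], 1, [(709, 151), (542, 72), (635, 158), (7, 16), (331, 165)]⟩,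
    ⟨1, [0, 1, 2, 6, 5, 4, 1, 0], 2, [(420, 127), (261, 74), (731, 123), (136, 186), (199, 126), (321, 27), (259, 141)]⟩,
    ⟨1, [1, 4, 3, 5, 2, 6, 4, 1, 0], 4, [(30, 135), (421, 168), (809, 95), (264, 39), (151, 39), (114, 97), (784, 85)]⟩,
    ⟨1, [1, 5, 6, 0, 1, 4, 0, 0], 2, [(184, 167), (723, 29), (61, 125), (28, 51), (461, 181), (278, 46), (767, 161)]⟩,
    ⟨1, [1, 2, 5, 3, 4, 0, 6, 1], 1, [(851, 65), (775, 57), (814, 74), (528, 34), (342, 137)]⟩,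
    ⟨1, [0, 2, 4, 1, 6], 1, [(794, 81), (341, 62), (530, 17), (753, 149), (640, 46)]⟩,
    ⟨1, [6, 5, 3, 4, 5, 1, 0], 2, [(220, 19), (186, 176), (856, 176), (752, 106), (321, 107), (139, 99), (164, 94)]⟩,
    ⟨1, [6, 0, 0], 2, [(850, 0), (235, 120), (75, 42), (280, 95), (490, 90), (509, 136), (544, 0)]⟩,
    ⟨1, [1, 6, 5, 4, 0, 3, 6, 2], 1, [(766, 91), (162, 18), (293, 111), (283, 41), (603, 152)]⟩,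
    ⟨1, [1, 4, 4, 6, 5, 3, 0], 1, [(753, 163), (187, 129), (815, 185), (258, 94), (311, 159)]⟩]

def a0steps_16 : List (Step) :=
  [⟨1, [3, 1, 2, 0, 4, 5, 0], 1, [(102, 33), (210, 138), (239, 110), (695, 157), (74, 159)]⟩,
    ⟨1, [5, 6, 3, 4, 1, 2, 0, 0], 4, [(314, 182), (54, 49), (226, 136), (306, 0), (535, 0), (110, 3), (857, 100)]⟩,
    ⟨1, [5, 4, 4, 6, 3, 4, 2, 1], 2, [(808, 187), (587, 63), (797, 89), (684, 116), (133, 191), (695, 99), (615, 6)]⟩,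
    ⟨1, [2, 3, 0, 1, 4, 5, 1, 0], 1, [(618, 54), (830, 32), (248, 133), (678, 48), (835, 129)]⟩,
    ⟨1, [2, 0, 5, 6, 1, 2, 4, 3], 1, [(827, 73), (611, 132), (537, 157), (757, 21), (821, 7)]⟩,
    ⟨1, [4, 0, 1, 2, 3, 5, 1, 6, 0], 1, [(33, 62), (580, 100), (858, 88), (448, 23), (859, 71)]⟩,
    ⟨1, [3, 4, 6, 5, 4, 1, 0], 2, [(221, 40), (392, 176), (15, 145), (338, 59), (468, 126), (679, 53), (134, 169)]⟩,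
    ⟨1, [2, 3, 5, 6, 2, 4], 2, [(833, 167), (406, 3), (442, 38), (755, 112), (590, 91), (211, 183), (271, 26)]⟩,
    ⟨1, [6, 5, 2, 4, 1, 3, 5], 0, [(69, 160), (128, 135), (843, 33), (375, 107), (533, 137), (203, 107), (229, 107), (219, 107), (390, 37), (643, 34), (582, 53), (239, 113), (326, 11), (728, 143), (16, 113)]⟩,
    ⟨1, [2, 6, 3, 5, 4, 0, 1, 1], 0, [(336, 52), (651, 121), (528, 139), (42, 91), (838, 25), (449, 139), (833, 96), (148, 177), (617, 153), (609, 72), (170, 171), (700, 10), (582, 72), (505, 46), (474, 72)]⟩,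
    ⟨1, [2, 0, 6, 5, 3, 1, 4, 2, 1], 0, [(499, 118), (720, 84), (333, 157), (246, 145), (173, 172), (855, 157), (432, 66), (229, 183), (311, 88), (834, 184), (653, 123), (360, 77), (701, 25), (236, 79), (488, 91)]⟩,
    ⟨1, [6, 6, 5, 2, 0], 0, [(216, 110), (765, 49), (206, 157), (736, 158), (611, 158), (29, 27), (719, 110), (149, 171), (329, 99), (43, 91), (115, 19), (621, 62), (338, 91), (441, 91), (475, 42)]⟩,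
    ⟨1, [2, 4, 3, 6, 2, 5, 1, 4, 0], 0, [(110, 12), (689, 42), (191, 42), (785, 12), (466, 42), (479, 12), (637, 12), (87, 12), (438, 162), (538, 136), (491, 12), (143, 162), (427, 182), (461, 117), (82, 169)]⟩,
    ⟨1, [3, 2, 1, 5, 0, 0, 6, 4, 0], 0, [(489, 99), (701, 65), (622, 65), (687, 65), (29, 65), (239, 48), (432, 90), (396, 104), (128, 128), (376, 18), (35, 48), (229, 41), (92, 41), (844, 148), (5, 169)]⟩,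
    ⟨1, [0, 1, 2, 6, 1, 4, 5, 1], 0, [(824, 129), (173, 49), (860, 163), (743, 107), (388, 126), (439, 20), (446, 66), (626, 171), (435, 34), (311, 91), (246, 54), (279, 120), (767, 62), (270, 121), (345, 65)]⟩,
    ⟨1, [4, 3, 1, 6, 5, 3], 0, [(823, 52), (273, 153), (132, 157), (178, 140), (745, 25), (46, 45), (861, 96), (553, 157), (694, 138), (862, 171), (344, 171), (93, 91), (531, 72), (101, 91), (387, 82)]⟩,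
    ⟨1, [0, 3, 6, 2, 2, 4, 1, 0], 0, [(234, 91), (328, 149), (256, 85), (349, 121), (625, 152), (530, 180), (525, 28), (806, 28), (224, 143), (198, 113), (862, 121), (768, 46), (685, 17), (498, 153), (39, 37)]⟩,
    ⟨1, [4, 1, 5, 2, 4, 0, 3, 6, 1], 0, [(544, 175), (34, 59), (135, 147), (711, 59), (304, 178), (863, 6), (535, 11), (95, 160), (251, 122), (493, 182), (860, 22), (42, 122), (222, 79), (301, 144), (265, 79)]⟩,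
    ⟨1, [0, 4, 5, 0, 2, 3], 0, [(485, 127), (523, 127), (412, 127), (398, 127), (66, 127), (763, 77), (242, 127), (188, 51), (405, 138), (508, 40), (343, 91), (138, 162), (153, 80), (562, 117), (261, 169)]⟩,
    ⟨1, [2, 3, 4, 5, 2, 6, 1, 1, 0], 0, [(320, 161), (792, 98), (193, 69), (864, 171), (451, 25), (232, 161), (162, 50), (730, 25), (105, 125), (237, 139), (356, 171), (667, 45), (248, 139), (658, 110), (527, 49)]⟩,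
    ⟨1, [0, 1, 3, 5, 6, 1], 0, [(195, 108), (544, 183), (861, 181), (380, 145), (315, 183), (472, 106), (135, 181), (676, 124), (580, 36), (273, 171), (318, 33), (863, 142), (179, 131), (93, 26), (816, 119)]⟩,
    ⟨1, [3, 0, 6, 5, 4, 3], 0, [(776, 152), (529, 39), (288, 72), (807, 10), (174, 25), (542, 10), (184, 130), (226, 28), (715, 138), (123, 171), (865, 171), (866, 171), (21, 10), (78, 46), (397, 82)]⟩,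
    ⟨1, [1, 5, 6, 0, 0, 4, 2], 0, [(778, 79), (187, 178), (447, 79), (529, 176), (866, 178), (569, 174), (77, 168), (19, 80), (184, 147), (538, 124), (196, 60), (662, 97), (495, 124), (858, 137), (476, 53)]⟩,
    ⟨1, [3, 0, 5, 2, 1, 1, 0], 0, [(173, 173), (587, 187), (653, 23), (382, 115), (788, 178), (488, 177), (306, 11), (234, 14), (704, 128), (63, 92), (628, 60), (821, 8), (446, 49), (595, 137), (279, 25)]⟩,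
    ⟨1, [3, 1, 6, 4, 0, 2, 2, 5], 0, [(798, 125), (833, 0), (369, 0), (742, 0), (746, 0), (16, 48), (148, 0), (677, 0), (533, 95), (230, 0), (71, 0), (582, 48), (635, 45), (503, 73), (204, 49)]⟩]

def a0steps_17 : List (Step) :=
  [⟨1, [6, 2, 3, 4, 1, 6, 5], 0, [(524, 79), (418, 178), (477, 16), (756, 151), (32, 167), (839, 158), (443, 168), (852, 48), (518, 147), (721, 185), (496, 49), (275, 99), (639, 25), (803, 55), (565, 53)]⟩,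
    ⟨1, [2, 6, 0, 4, 5, 0, 3], 0, [(15, 99), (22, 62), (295, 90), (867, 112), (511, 107), (798, 90), (454, 90), (868, 107), (406, 18), (409, 148), (846, 33), (631, 41), (13, 148), (286, 148), (1, 49)]⟩,
    ⟨1, [1, 6, 6, 4, 0, 5, 3, 2, 0], 0, [(793, 117), (483, 63), (137, 163), (523, 114), (857, 141), (672, 63), (274, 155), (242, 141), (864, 109), (755, 79), (411, 114), (381, 86), (437, 74), (138, 79), (448, 36)]⟩,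
    ⟨1, [1, 2, 3, 4, 5, 2, 6, 1, 1], 0, [(429, 161), (692, 25), (370, 69), (795, 171), (663, 25), (757, 161), (305, 171), (452, 25), (324, 125), (73, 179), (605, 171), (343, 45), (714, 139), (259, 47), (555, 49)]⟩,
    ⟨1, [0, 5, 2, 3, 1, 6, 4], 0, [(656, 79), (207, 17), (775, 43), (680, 95), (433, 82), (245, 132), (751, 168), (181, 48), (364, 20), (100, 55), (786, 132), (764, 99), (684, 124), (291, 55), (811, 181)]⟩,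
    ⟨1, [6, 0, 4, 3, 1, 0], 0, [(157, 175), (619, 101), (789, 82), (122, 115), (137, 167), (463, 186), (845, 168), (88, 187), (646, 164), (796, 167), (672, 165), (217, 22), (509, 64), (484, 158), (793, 151)]⟩,
    ⟨1, [1, 3, 2, 0, 6, 4, 5, 1, 0], 0, [(756, 92), (586, 103), (518, 53), (514, 119), (738, 27), (32, 2), (69, 24), (264, 134), (849, 183), (585, 46), (172, 53), (214, 183), (629, 165), (267, 46), (627, 52)]⟩,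
    ⟨1, [5, 1, 2, 5], 0, [(218, 20), (782, 20), (244, 20), (399, 20), (525, 20), (161, 53), (829, 24), (766, 24), (771, 9), (134, 3), (282, 53), (859, 143), (371, 165), (668, 143), (263, 113)]⟩,
    ⟨1, [0, 5, 3, 1, 6, 4], 0, [(118, 58), (249, 54), (841, 98), (835, 95), (624, 38), (427, 107), (494, 50), (801, 133), (169, 187), (444, 165), (175, 161), (671, 73), (423, 139), (613, 49), (64, 42)]⟩,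
    ⟨1, [3, 1, 6, 5, 1, 1], 0, [(313, 118), (502, 84), (404, 157), (309, 145), (546, 172), (48, 157), (39, 66), (26, 183), (832, 88), (172, 184), (615, 181), (60, 190), (30, 25), (867, 154), (812, 91)]⟩,
    ⟨1, [5, 4, 2, 2, 6, 0, 1], 0, [(764, 15), (497, 54), (780, 178), (283, 15), (790, 115), (169, 100), (592, 184), (661, 80), (835, 59), (106, 77), (448, 45), (624, 106), (207, 94), (826, 58), (751, 137)]⟩,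
    ⟨1, [6, 3, 2, 5, 0, 4, 1, 3], 0, [(156, 58), (480, 58), (516, 58), (214, 119), (810, 119), (445, 181), (557, 185), (856, 160), (278, 176), (346, 165), (389, 92), (737, 12), (813, 139), (724, 49), (20, 49)]⟩,
    ⟨1, [5, 6, 2, 4, 0, 1], 0, [(729, 48), (570, 0), (236, 48), (853, 0), (633, 0), (641, 48), (347, 158), (578, 151), (339, 0), (834, 0), (96, 69), (421, 48), (312, 0), (333, 95), (481, 48)]⟩,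
    ⟨1, [2, 1, 6, 2, 4, 5, 0, 3], 0, [(8, 171), (45, 45), (462, 10), (497, 157), (454, 94), (529, 93), (24, 172), (624, 46), (865, 133), (315, 51), (868, 32), (123, 50), (7, 54), (592, 51), (13, 3)]⟩]

def a0steps : List (Step) :=
  a0steps_0 ++ a0steps_1 ++ a0steps_2 ++ a0steps_3 ++ a0steps_4 ++ a0steps_5 ++ a0steps_6 ++ a0steps_7 ++ a0steps_8 ++ a0steps_9 ++ a0steps_10 ++ a0steps_11 ++ a0steps_12 ++ a0steps_13 ++ a0steps_14 ++ a0steps_15 ++ a0steps_16 ++ a0steps_17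

def a0Ctx : Ctx := ⟨9, gi, a0elts, a0reps, a0stab, []⟩

def a1elts_0 : List (List ℕ × List ℕ) :=
  [([], [0, 1, 2, 3, 4, 5, 6, 7, 8]),
    ([2, 1, 1, 0], [1, 2, 3, 4, 0, 5, 6, 7, 8]),
    ([3, 2], [5, 4, 2, 3, 1, 0, 6, 7, 8]),
    ([4, 2, 3, 1, 2, 0], [1, 2, 3, 4, 5, 6, 0, 7, 8]),
    ([2, 3, 3, 2, 1], [0, 3, 2, 1, 5, 4, 6, 7, 8]),
    ([5, 4, 2, 0, 3, 1, 2, 0], [7, 6, 3, 2, 5, 4, 1, 0, 8]),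
    ([4, 2, 5, 3, 4, 2, 0, 1, 1, 0], [1, 0, 3, 2, 5, 4, 7, 6, 8]),
    ([3, 1, 5, 2, 4, 0, 1], [2, 1, 4, 6, 3, 0, 7, 5, 8]),
    ([0, 6, 3, 2, 1, 5, 4, 2, 1, 0, 0], [0, 8, 5, 6, 7, 2, 3, 4, 1])]

def a1elts : List (List ℕ × List ℕ) :=
  a1elts_0

def a1reps_0 : List (List ℕ × List ℕ) :=
  [([], [0, 1, 2, 3, 4, 5, 6, 7, 8]),
    ([6, 3, 5, 2, 4, 1, 3, 0], [1, 2, 3, 4, 5, 6, 7, 8, 0]),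
    ([4, 0, 3, 6, 2, 5, 1, 4, 0], [0, 1, 3, 4, 5, 6, 7, 8, 2]),
    ([0, 5, 6, 3, 4, 1, 2, 0, 0], [0, 3, 4, 5, 6, 7, 8, 1, 2]),
    ([4, 6, 3, 5, 2, 4, 1, 0], [3, 2, 0, 4, 5, 6, 7, 8, 1]),
    ([5, 6, 3, 4, 1, 2, 0], [4, 2, 3, 5, 6, 7, 8, 0, 1]),
    ([5, 6, 3, 4, 1, 2, 6, 0], [1, 2, 4, 5, 6, 7, 8, 0, 3]),
    ([0, 0, 6, 5, 4, 3, 2, 1], [4, 3, 1, 5, 6, 7, 8, 0, 2]),
    ([6, 5, 4, 3, 2, 1, 0, 0], [2, 4, 3, 5, 6, 7, 8, 1, 0]),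
    ([6, 0, 4, 5, 2, 3, 1, 1], [3, 4, 1, 5, 6, 7, 8, 2, 0]),
    ([0, 6, 5, 4, 3, 2, 1, 0], [3, 0, 4, 5, 6, 7, 8, 2, 1]),
    ([2, 1, 6, 5, 1, 0, 3, 4], [5, 6, 7, 8, 0, 1, 2, 3, 4]),
    ([1, 5, 6, 3, 4, 1, 2], [0, 4, 2, 5, 6, 7, 8, 1, 3]),
    ([0, 1, 5, 6, 3, 4, 1, 2], [1, 4, 0, 5, 6, 7, 8, 2, 3]),
    ([2, 3, 0, 6, 4, 1, 0, 5], [4, 7, 6, 8, 0, 1, 2, 3, 5]),
    ([2, 3, 5, 6, 0, 1, 4, 0], [6, 7, 3, 8, 0, 1, 2, 4, 5]),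
    ([1, 4, 3, 0, 6, 2, 0, 5], [6, 7, 8, 0, 2, 3, 1, 4, 5]),
    ([3, 1, 6, 4, 0, 2, 2, 5], [6, 7, 8, 1, 2, 0, 3, 4, 5]),
    ([2, 3, 5, 6, 4, 1, 0, 4], [2, 7, 6, 8, 0, 1, 3, 4, 5]),
    ([2, 3, 4, 0, 1, 5, 6, 1, 1], [6, 7, 5, 8, 0, 1, 4, 2, 3]),
    ([2, 3, 6, 5, 0, 0, 4, 1], [6, 3, 7, 8, 0, 1, 2, 5, 4]),
    ([2, 6, 0, 1, 3, 4, 5, 0, 0], [4, 6, 7, 8, 0, 2, 3, 5, 1]),
    ([4, 2, 0, 1, 3, 6, 5, 1, 0], [4, 6, 7, 8, 1, 2, 0, 5, 3]),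
    ([1, 2, 3, 6, 5, 0, 4, 4], [6, 7, 8, 0, 1, 3, 2, 5, 4]),
    ([2, 3, 6, 5, 1, 4, 4], [6, 7, 2, 8, 0, 1, 3, 5, 4]),
    ([2, 3, 0, 5, 6, 0, 1, 4], [3, 6, 7, 8, 0, 1, 4, 5, 2]),
    ([4, 1, 0, 3, 2, 5, 6, 0, 0], [6, 7, 8, 1, 2, 3, 0, 5, 4]),
    ([3, 2, 5, 0, 1, 6, 4, 1], [6, 7, 4, 8, 1, 0, 3, 5, 2]),
    ([6, 2, 0, 0, 3, 1, 5, 4, 0], [6, 4, 7, 8, 1, 2, 3, 5, 0]),
    ([6, 2, 1, 4, 0, 3, 3, 5], [6, 7, 3, 8, 1, 2, 4, 5, 0]),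
    ([2, 6, 4, 1, 3, 0, 5, 3, 0], [6, 3, 7, 8, 0, 2, 4, 5, 1]),
    ([4, 1, 1, 6, 5, 3, 2, 0], [4, 2, 5, 6, 7, 8, 0, 1, 3]),
    ([4, 0, 1, 5, 6, 2, 3, 0], [5, 1, 4, 6, 7, 8, 0, 2, 3]),
    ([4, 6, 1, 3, 5, 2, 2], [4, 5, 2, 6, 7, 8, 0, 3, 1]),
    ([5, 4, 2, 1, 6, 0, 3, 5, 0], [0, 3, 5, 6, 7, 8, 1, 2, 4]),
    ([4, 5, 1, 2, 0, 6, 5, 3], [1, 5, 3, 6, 7, 8, 0, 2, 4]),
    ([6, 4, 3, 1, 0, 5, 4, 2], [1, 4, 5, 6, 7, 8, 2, 3, 0]),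
    ([4, 0, 1, 6, 5, 3, 2], [5, 4, 1, 6, 7, 8, 0, 3, 2]),
    ([6, 4, 3, 1, 2, 5, 0, 2], [2, 5, 4, 6, 7, 8, 1, 3, 0]),
    ([1, 2, 4, 6, 5, 0, 3, 3], [5, 7, 8, 0, 1, 2, 3, 6, 4])]

def a1reps_1 : List (List ℕ × List ℕ) :=
  [([1, 2, 4, 0, 3, 3, 6, 5, 0], [7, 4, 8, 0, 1, 2, 3, 6, 5]),
    ([0, 1, 2, 4, 3, 5, 6], [7, 8, 0, 1, 2, 4, 3, 6, 5]),
    ([5, 4, 2, 1, 6, 5, 3, 0], [5, 2, 0, 6, 7, 8, 1, 3, 4]),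
    ([2, 0, 4, 1, 3, 3, 6, 5], [8, 7, 1, 2, 0, 3, 4, 6, 5]),
    ([6, 0, 0, 2, 1, 4, 3, 5], [5, 7, 8, 1, 2, 3, 4, 6, 0]),
    ([3, 1, 4, 6, 5, 0, 2, 2], [4, 7, 8, 1, 2, 0, 5, 6, 3]),
    ([2, 3, 4, 6, 5, 0, 1, 1], [3, 7, 8, 2, 0, 1, 4, 6, 5]),
    ([1, 6, 2, 0, 4, 3, 5, 0], [7, 8, 5, 0, 3, 2, 4, 6, 1]),
    ([2, 3, 4, 0, 1, 1, 6, 5, 0], [7, 5, 8, 2, 0, 1, 4, 6, 3]),
    ([2, 1, 3, 4, 0, 5, 6, 0, 0], [5, 7, 8, 1, 0, 4, 3, 6, 2]),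
    ([6, 4, 5, 1, 4, 0], [1, 2, 3, 6, 4, 5, 7, 8, 0]),
    ([2, 6, 4, 0, 5, 1, 0, 3], [8, 5, 7, 2, 0, 3, 4, 6, 1]),
    ([1, 3, 2, 4, 0, 5, 6], [7, 8, 4, 0, 3, 1, 5, 6, 2]),
    ([6, 1, 0, 3, 1, 4, 2, 5], [4, 7, 8, 2, 1, 3, 5, 6, 0]),
    ([6, 0, 5, 1, 4, 6], [6, 0, 1, 2, 4, 5, 7, 8, 3]),
    ([1, 6, 2, 5, 3, 4, 6], [6, 1, 2, 0, 3, 4, 7, 8, 5]),
    ([4, 1, 5, 3, 0, 4, 6, 2], [8, 4, 7, 1, 0, 3, 5, 6, 2]),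
    ([5, 6, 3, 1, 2, 3, 1], [7, 8, 2, 4, 5, 3, 6, 0, 1]),
    ([1, 6, 2, 5, 3, 4, 1, 0], [0, 2, 6, 5, 3, 4, 7, 8, 1]),
    ([0, 1, 6, 3, 5, 2, 4, 1, 0], [1, 0, 6, 4, 5, 3, 7, 8, 2]),
    ([2, 0, 6, 1, 5, 3, 4, 2, 0], [0, 1, 6, 2, 5, 3, 7, 8, 4]),
    ([4, 0, 5, 1, 6, 4], [8, 0, 1, 2, 4, 5, 3, 6, 7]),
    ([2, 3, 4, 0, 5, 1, 6, 2], [8, 0, 5, 2, 3, 1, 4, 6, 7]),
    ([2, 2, 4, 0, 5, 3, 6], [5, 8, 0, 3, 1, 2, 4, 6, 7]),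
    ([3, 0, 4, 2, 5, 1, 6, 3], [8, 0, 1, 4, 2, 3, 5, 6, 7]),
    ([0, 4, 3, 5, 4, 6, 2], [8, 4, 0, 3, 1, 2, 5, 6, 7]),
    ([2, 5, 4, 6, 5], [8, 1, 2, 3, 0, 5, 4, 6, 7]),
    ([0, 1, 4, 3, 5, 0, 6, 2, 0], [4, 5, 8, 1, 0, 3, 2, 6, 7]),
    ([0, 0, 4, 2, 5, 3, 6], [5, 8, 1, 3, 0, 4, 2, 6, 7]),
    ([2, 1, 0, 4, 1, 5, 3, 6], [5, 8, 4, 2, 0, 1, 3, 6, 7]),
    ([5, 3, 6, 2, 1, 1, 0], [8, 2, 3, 4, 5, 1, 6, 0, 7]),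
    ([0, 3, 1, 5, 2, 4, 4, 0], [7, 0, 6, 2, 3, 1, 4, 5, 8]),
    ([0, 2, 1, 3, 2], [5, 1, 0, 2, 3, 4, 6, 7, 8]),
    ([0, 4, 3, 5, 4], [7, 1, 0, 3, 4, 2, 5, 6, 8]),
    ([3, 4, 4], [6, 1, 2, 3, 4, 0, 5, 7, 8]),
    ([2, 3, 1, 2, 0], [0, 2, 3, 4, 5, 1, 6, 7, 8]),
    ([2, 3, 0, 4, 1, 5, 3], [7, 1, 4, 2, 0, 3, 5, 6, 8]),
    ([1, 0, 2, 4, 1], [6, 0, 1, 4, 3, 5, 2, 7, 8]),
    ([0, 3, 1, 5, 2, 4, 4], [6, 7, 0, 2, 3, 1, 4, 5, 8]),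
    ([3, 0, 4, 3, 5], [0, 7, 1, 3, 4, 2, 5, 6, 8])]

def a1reps_2 : List (List ℕ × List ℕ) :=
  [([1, 0, 3, 1, 4, 2, 5], [4, 7, 1, 2, 0, 3, 5, 6, 8]),
    ([1, 0, 3, 2, 4, 1], [6, 0, 1, 4, 2, 3, 5, 7, 8]),
    ([2, 1, 3, 2, 1], [0, 1, 2, 5, 3, 4, 6, 7, 8]),
    ([2, 4, 4], [6, 1, 2, 3, 0, 5, 4, 7, 8]),
    ([3, 2, 4, 1, 3, 0], [0, 2, 3, 4, 1, 6, 5, 7, 8]),
    ([1, 0, 2, 1, 3], [0, 5, 1, 2, 3, 4, 6, 7, 8]),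
    ([0, 3, 2, 4, 3, 5, 1], [7, 3, 0, 1, 2, 4, 5, 6, 8]),
    ([0, 2, 1, 3, 4, 5], [6, 7, 0, 2, 1, 4, 3, 5, 8]),
    ([2, 2], [4, 0, 2, 3, 1, 5, 6, 7, 8]),
    ([1, 0, 3, 2, 4, 1, 0], [0, 1, 6, 4, 2, 3, 5, 7, 8]),
    ([3, 4, 4, 0], [1, 2, 6, 3, 4, 0, 5, 7, 8]),
    ([2, 3, 0, 4, 1, 5, 3, 0], [1, 4, 7, 2, 0, 3, 5, 6, 8]),
    ([0, 5, 6, 3, 4, 1, 2], [3, 4, 0, 5, 6, 7, 8, 1, 2]),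
    ([4, 6, 0, 3, 5, 0, 2, 1], [4, 3, 5, 6, 7, 8, 0, 2, 1]),
    ([3, 4, 0, 1, 5, 6, 2, 3], [4, 0, 5, 6, 7, 8, 1, 2, 3]),
    ([5, 6, 3, 4, 1, 2, 6], [4, 1, 2, 5, 6, 7, 8, 0, 3]),
    ([3, 4, 2, 0, 5, 6, 1, 2], [3, 5, 6, 7, 8, 0, 1, 4, 2]),
    ([0, 3, 4, 2, 1, 6, 5, 2, 1, 0, 0], [0, 5, 6, 7, 8, 1, 2, 3, 4]),
    ([4, 2, 1, 6, 5, 3, 2, 0], [1, 2, 5, 6, 7, 8, 0, 3, 4]),
    ([3, 1, 6, 5, 2, 0, 0, 4, 1, 0], [1, 4, 6, 7, 8, 0, 2, 3, 5]),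
    ([1, 1, 6, 3, 2, 0, 5, 4, 1, 0], [1, 5, 6, 7, 8, 0, 2, 4, 3]),
    ([4, 2, 3, 5, 6, 0, 1, 3], [3, 6, 7, 8, 1, 2, 0, 4, 5]),
    ([1, 2, 4, 0, 6, 3, 5, 5], [7, 8, 4, 0, 1, 2, 3, 5, 6]),
    ([2, 3, 5, 1, 4, 4, 6, 0, 1], [2, 5, 7, 8, 0, 1, 3, 4, 6]),
    ([3, 6, 1, 2, 4, 5, 0, 1], [2, 5, 6, 7, 8, 0, 3, 4, 1]),
    ([2, 3, 6, 5, 1, 0, 4], [2, 6, 7, 8, 0, 1, 3, 5, 4]),
    ([3, 1, 2, 4, 5, 0, 6, 2, 0], [5, 6, 8, 1, 2, 0, 3, 4, 7]),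
    ([1, 2, 3, 4, 0, 5, 6, 0, 0], [5, 7, 8, 0, 1, 3, 4, 6, 2]),
    ([3, 1, 0, 4, 2, 5, 6, 0, 0], [5, 7, 8, 1, 2, 0, 3, 6, 4]),
    ([3, 0, 5, 2, 0, 4, 1, 6], [3, 8, 7, 1, 2, 0, 4, 5, 6]),
    ([0, 3, 1, 5, 2, 6, 4, 0], [6, 0, 8, 2, 3, 1, 4, 5, 7]),
    ([0, 1, 2, 3, 5, 6, 0], [8, 0, 7, 1, 2, 3, 6, 4, 5]),
    ([0, 1, 4, 2, 3, 3, 5], [6, 7, 0, 1, 3, 4, 2, 5, 8]),
    ([3, 0, 4, 1, 5, 3, 6, 2], [8, 4, 1, 2, 0, 3, 5, 6, 7]),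
    ([2, 0, 4, 1, 3, 3, 6], [6, 8, 1, 2, 0, 3, 4, 7, 5]),
    ([2, 0, 4, 1, 6, 2], [8, 0, 1, 2, 3, 5, 4, 7, 6]),
    ([4, 0, 5, 2, 6, 4], [8, 0, 1, 3, 2, 5, 4, 6, 7]),
    ([1, 2, 4, 0, 5, 3, 6], [5, 8, 4, 0, 1, 2, 3, 6, 7]),
    ([5, 3, 1, 6, 4, 2, 0, 5], [2, 0, 6, 7, 8, 1, 3, 4, 5]),
    ([0, 3, 1, 4, 2, 5], [4, 7, 0, 2, 3, 1, 5, 6, 8])]

def a1reps_3 : List (List ℕ × List ℕ) :=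
  [([0, 1, 2, 4, 6], [6, 8, 0, 1, 2, 5, 3, 7, 4]),
    ([4, 2, 6, 3, 5, 4], [7, 0, 2, 3, 1, 4, 5, 8, 6]),
    ([2, 0, 4, 1, 5, 3, 0], [5, 1, 7, 2, 0, 3, 4, 6, 8]),
    ([6, 0, 2, 1, 3, 2, 0], [8, 1, 5, 2, 3, 4, 6, 7, 0]),
    ([0, 5, 1, 6, 2, 5, 3, 0, 0], [0, 1, 5, 2, 3, 4, 6, 8, 7]),
    ([2, 0, 6, 1, 5, 2, 0], [0, 1, 7, 2, 3, 5, 6, 8, 4]),
    ([6, 0, 5, 1, 3, 2, 4, 3], [6, 7, 1, 2, 3, 4, 5, 8, 0]),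
    ([2, 2, 4, 0, 5, 3], [7, 5, 0, 3, 1, 2, 4, 6, 8]),
    ([4, 2, 5, 0, 3, 1, 6, 3, 0], [7, 4, 8, 2, 1, 3, 0, 6, 5]),
    ([2, 2, 4, 0, 6, 3], [8, 5, 0, 3, 1, 2, 4, 7, 6]),
    ([2, 0, 1, 2, 3], [0, 5, 1, 4, 2, 3, 6, 7, 8]),
    ([5, 6, 2, 4, 1, 3, 0, 2], [2, 7, 3, 4, 5, 6, 8, 0, 1]),
    ([1, 3, 2, 0, 4, 1], [6, 0, 5, 2, 3, 1, 4, 7, 8]),
    ([1, 3, 2, 0, 6, 1], [8, 0, 5, 2, 3, 1, 6, 7, 4]),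
    ([4, 2, 0, 3, 6, 4], [8, 0, 6, 3, 1, 4, 5, 7, 2]),
    ([6, 0, 5, 6, 0], [0, 1, 7, 3, 4, 5, 6, 8, 2]),
    ([5, 6, 4, 3, 3, 1, 0, 2], [2, 4, 8, 5, 3, 6, 7, 0, 1]),
    ([6, 0, 2, 2, 4], [8, 6, 1, 3, 2, 5, 4, 7, 0]),
    ([6, 0, 1, 4, 2, 5, 1], [7, 8, 1, 4, 3, 5, 2, 6, 0]),
    ([0, 5, 2, 6, 1, 5, 3, 0, 4], [0, 6, 1, 4, 2, 3, 5, 8, 7]),
    ([1, 6, 3, 5, 2, 4, 1, 0, 0], [2, 6, 0, 4, 5, 3, 7, 8, 1]),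
    ([5, 0, 4, 6, 2, 3, 3, 1], [8, 3, 1, 5, 6, 4, 7, 0, 2]),
    ([0, 1, 2, 6, 3, 0], [5, 0, 8, 1, 2, 4, 6, 7, 3]),
    ([6, 0, 5, 1, 4, 6, 0], [0, 1, 6, 2, 4, 5, 7, 8, 3]),
    ([1, 0, 6, 2, 5, 1, 0], [0, 1, 7, 4, 2, 5, 6, 8, 3]),
    ([2, 6, 4], [8, 6, 2, 3, 0, 5, 4, 7, 1]),
    ([6, 0, 5, 2, 3, 4, 1, 3, 0], [7, 1, 3, 5, 2, 6, 4, 8, 0]),
    ([3, 3, 4, 2, 6, 0], [8, 2, 4, 3, 0, 1, 5, 7, 6]),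
    ([2, 6, 3, 5, 6, 0], [1, 2, 7, 3, 0, 4, 6, 8, 5]),
    ([4, 0, 1, 5, 6, 2, 0, 0], [1, 8, 4, 6, 7, 5, 0, 2, 3]),
    ([5, 3, 0, 2, 6, 1], [8, 3, 7, 4, 5, 1, 6, 0, 2]),
    ([1, 2, 0, 4, 3, 5, 6, 0], [8, 3, 7, 0, 1, 2, 4, 6, 5]),
    ([0, 2, 1, 3, 4, 6], [6, 8, 0, 2, 1, 4, 3, 7, 5]),
    ([2, 0, 3, 4, 6], [6, 8, 1, 3, 0, 4, 2, 7, 5]),
    ([0, 2, 3, 5, 6, 1, 2, 4], [1, 6, 0, 7, 8, 2, 3, 4, 5]),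
    ([2, 1, 5, 3, 0, 6, 1], [8, 1, 7, 2, 0, 3, 6, 4, 5]),
    ([3, 4, 6, 2, 2, 5, 0, 1], [2, 3, 6, 7, 8, 0, 1, 4, 5]),
    ([1, 2, 2], [4, 1, 2, 0, 3, 5, 6, 7, 8]),
    ([0, 2, 1, 4, 2, 5, 3], [7, 5, 0, 2, 3, 1, 4, 6, 8]),
    ([2, 0, 4, 1, 3, 3, 5], [6, 7, 1, 2, 0, 3, 4, 5, 8])]

def a1reps_4 : List (List ℕ × List ℕ) :=
  [([3, 0], [5, 2, 1, 3, 4, 0, 6, 7, 8]),
    ([3, 2, 4, 3], [6, 0, 2, 3, 1, 4, 5, 7, 8]),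
    ([0, 1, 2, 3, 4], [5, 6, 0, 1, 2, 3, 4, 7, 8]),
    ([5, 3, 1, 6, 0, 2, 4, 5], [6, 0, 3, 7, 8, 1, 2, 4, 5]),
    ([2, 0, 3, 1, 6, 2, 5], [0, 7, 1, 2, 3, 4, 6, 8, 5]),
    ([3, 4, 6, 1, 2, 5, 1, 1], [6, 4, 2, 7, 8, 0, 1, 3, 5]),
    ([0, 3, 1, 6, 2, 4, 4], [6, 8, 0, 2, 3, 1, 4, 7, 5]),
    ([1, 4, 3, 5, 6, 0, 0, 2], [7, 4, 8, 0, 2, 3, 1, 6, 5]),
    ([3, 5, 4, 6, 5], [8, 1, 2, 3, 4, 0, 5, 6, 7]),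
    ([2, 3, 0, 5, 1, 6, 4, 0], [6, 4, 8, 2, 0, 1, 3, 5, 7]),
    ([1, 5, 4, 6, 3, 5, 2, 1, 1], [0, 1, 2, 4, 5, 6, 3, 8, 7]),
    ([2, 1, 3, 2, 5, 0, 6, 4], [8, 6, 0, 1, 3, 4, 2, 5, 7]),
    ([2, 3, 5, 0, 6, 1, 4, 4], [6, 8, 5, 2, 0, 1, 3, 4, 7]),
    ([0, 2, 3, 4, 5, 0, 6, 1, 0], [3, 6, 8, 0, 1, 2, 4, 5, 7]),
    ([0, 2, 2, 4, 1, 5, 3, 6], [5, 8, 0, 1, 2, 3, 4, 6, 7]),
    ([0, 5, 1, 6, 2, 5, 3, 0, 4], [0, 6, 1, 2, 3, 4, 5, 8, 7]),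
    ([3, 1, 5, 4, 6, 0, 0, 2], [6, 4, 8, 1, 2, 0, 3, 5, 7]),
    ([3, 3, 4, 0, 5, 1, 6, 2], [8, 4, 0, 2, 3, 1, 5, 6, 7]),
    ([3, 1, 5, 0, 6, 2, 4, 4], [6, 8, 3, 1, 2, 0, 4, 5, 7]),
    ([0, 4, 2, 5, 3, 6], [5, 8, 0, 3, 2, 4, 1, 6, 7]),
    ([1, 0, 4, 3, 0, 5, 2, 6], [4, 8, 6, 0, 1, 2, 3, 5, 7]),
    ([5, 4, 3, 2, 1, 0, 6, 5, 0], [0, 4, 8, 5, 6, 7, 1, 2, 3]),
    ([1, 3, 6, 0, 2, 4, 5, 1, 1], [0, 6, 5, 7, 8, 1, 2, 4, 3]),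
    ([4, 0, 1, 5, 6, 3, 0, 0], [1, 8, 5, 6, 4, 7, 0, 2, 3]),
    ([1, 2, 6, 3, 0, 4], [2, 6, 8, 0, 1, 4, 5, 7, 3]),
    ([2, 3, 1, 5, 6, 0, 1, 4, 0], [6, 7, 4, 8, 0, 1, 2, 5, 3]),
    ([1, 2, 4, 5, 3, 0, 6, 3, 0], [6, 7, 8, 0, 1, 2, 3, 4, 5]),
    ([3, 4, 6, 1, 2, 5, 0, 1], [2, 6, 4, 7, 8, 0, 1, 3, 5]),
    ([6, 3, 5, 6, 0], [0, 2, 7, 3, 4, 1, 6, 8, 5]),
    ([2, 3, 4, 6, 0], [8, 2, 6, 3, 0, 1, 4, 7, 5]),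
    ([3, 0, 6, 1, 5, 2, 4, 3, 0], [0, 1, 6, 2, 3, 4, 7, 8, 5]),
    ([3, 5, 6, 1, 2, 0, 5, 4], [1, 6, 3, 7, 8, 0, 2, 4, 5]),
    ([2, 0, 3, 1, 6, 4, 5, 5], [7, 8, 1, 2, 0, 4, 3, 6, 5]),
    ([0, 1, 4, 2, 3, 3, 6], [6, 8, 0, 1, 3, 4, 2, 7, 5]),
    ([3, 0, 6, 3, 5], [0, 7, 1, 3, 4, 2, 6, 8, 5]),
    ([3, 0, 6, 4, 1, 1, 5, 2, 1], [4, 6, 1, 7, 8, 0, 2, 3, 5]),
    ([2, 3, 5, 6, 0, 1, 4], [3, 6, 7, 8, 0, 1, 2, 4, 5]),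
    ([1, 2, 4, 0, 5, 3, 0, 6], [4, 8, 7, 0, 1, 2, 3, 6, 5]),
    ([2, 3, 6, 5, 1, 4, 4, 0], [7, 2, 6, 8, 0, 1, 3, 5, 4]),
    ([0, 6, 1, 5, 2, 4, 6], [6, 1, 0, 2, 3, 5, 7, 8, 4])]

def a1reps_5 : List (List ℕ × List ℕ) :=
  [([0, 2, 3, 6, 4], [8, 6, 0, 3, 1, 2, 5, 7, 4]),
    ([6, 2, 5, 6, 0], [0, 2, 7, 3, 1, 5, 6, 8, 4]),
    ([0, 3, 1, 2, 2, 6], [5, 8, 0, 2, 3, 1, 6, 7, 4]),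
    ([4, 5, 2, 2, 6, 1, 3, 0], [5, 2, 3, 6, 7, 8, 0, 1, 4]),
    ([1, 2, 3, 4, 5, 6, 0, 0], [2, 7, 8, 0, 1, 3, 4, 5, 6]),
    ([3, 1, 5, 0, 4, 2, 6, 4, 0], [7, 3, 8, 1, 2, 0, 4, 5, 6]),
    ([2, 0, 4, 1, 6, 3, 0], [5, 1, 8, 2, 0, 3, 4, 7, 6]),
    ([4, 1, 6, 5, 1, 0, 2, 3], [4, 5, 7, 8, 1, 2, 0, 3, 6]),
    ([0, 4, 2, 6, 3], [8, 5, 0, 3, 2, 4, 1, 7, 6]),
    ([4, 1, 6, 3, 0, 4, 2], [0, 4, 8, 1, 2, 3, 5, 7, 6]),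
    ([6, 0, 5, 2, 4, 1, 0, 0], [1, 6, 3, 4, 2, 5, 7, 8, 0]),
    ([6, 3, 5, 2, 1, 1, 0], [7, 2, 3, 4, 5, 1, 6, 8, 0]),
    ([6, 3, 2, 1, 0, 5, 4, 1, 0], [5, 4, 6, 7, 8, 1, 2, 3, 0]),
    ([6, 0, 5, 3, 0, 1], [1, 3, 7, 5, 4, 2, 6, 8, 0]),
    ([6, 2, 0, 4, 3, 0, 5, 1, 0], [3, 6, 7, 8, 1, 2, 4, 5, 0]),
    ([0, 3, 1, 6, 2, 4, 4, 0], [8, 0, 6, 2, 3, 1, 4, 7, 5]),
    ([0, 3, 4, 6, 1, 2, 5, 0, 1], [0, 6, 4, 7, 8, 1, 2, 3, 5]),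
    ([3, 5, 6, 1, 2, 4, 5, 0], [1, 2, 6, 7, 8, 0, 3, 4, 5]),
    ([3, 2, 6, 3, 5], [0, 7, 2, 3, 1, 4, 6, 8, 5]),
    ([2, 3, 1, 6, 4, 0, 5, 1, 0], [4, 8, 7, 2, 0, 1, 3, 6, 5]),
    ([0, 1, 2, 3, 4, 6, 5], [8, 7, 0, 1, 2, 3, 4, 6, 5]),
    ([2, 3, 1, 5, 6, 0, 1, 4], [4, 6, 7, 8, 0, 1, 2, 5, 3]),
    ([1, 0, 6, 2, 5, 1], [7, 0, 1, 4, 2, 5, 6, 8, 3]),
    ([1, 0, 6, 4, 2, 1, 5, 3, 1], [5, 6, 1, 7, 8, 0, 2, 4, 3]),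
    ([5, 0, 4, 2, 3, 1, 1, 6, 0], [8, 1, 4, 5, 2, 6, 7, 0, 3]),
    ([0, 1, 2, 6, 3, 4, 4], [6, 8, 0, 1, 2, 4, 5, 7, 3]),
    ([1, 2, 6, 0, 0, 4, 3, 5], [5, 7, 8, 0, 1, 4, 2, 6, 3]),
    ([2, 6, 1, 5, 6], [7, 1, 2, 4, 0, 5, 6, 8, 3]),
    ([1, 0, 6, 5, 4, 3, 2, 1, 0], [0, 1, 4, 5, 6, 7, 8, 2, 3]),
    ([1, 1, 6, 3, 2, 0, 5, 4, 1], [6, 1, 5, 7, 8, 0, 2, 4, 3]),
    ([3, 1, 0, 6, 1], [8, 1, 5, 2, 4, 0, 6, 7, 3]),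
    ([1, 5, 6, 4, 5], [6, 1, 2, 0, 4, 5, 7, 8, 3]),
    ([3, 0, 6, 1, 5, 3, 0], [0, 1, 7, 2, 4, 3, 6, 8, 5]),
    ([3, 1, 6, 0, 4, 2, 5, 4], [7, 8, 3, 1, 2, 0, 4, 6, 5]),
    ([2, 3, 1, 6, 4, 0, 5, 1], [7, 4, 8, 2, 0, 1, 3, 6, 5]),
    ([3, 2, 6, 5, 2, 1, 4], [3, 6, 2, 7, 8, 0, 1, 4, 5]),
    ([4, 0, 6, 2, 5, 4], [7, 0, 1, 3, 2, 5, 4, 8, 6]),
    ([1, 2, 4, 5, 6, 0, 3, 3], [5, 8, 7, 0, 1, 2, 3, 4, 6]),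
    ([4, 2, 6, 4], [8, 0, 2, 3, 1, 5, 4, 7, 6]),
    ([2, 0, 4, 1, 6, 3, 5, 5, 0], [8, 1, 7, 2, 0, 3, 4, 5, 6])]

def a1reps_6 : List (List ℕ × List ℕ) :=
  [([2, 0, 4, 2, 6, 3], [8, 5, 1, 3, 2, 0, 4, 7, 6]),
    ([0, 3, 4, 5, 6, 0, 1, 2, 0], [4, 7, 3, 8, 0, 1, 2, 5, 6]),
    ([0, 2, 1, 4, 2, 6, 3], [8, 5, 0, 2, 3, 1, 4, 7, 6]),
    ([4, 0, 6, 4], [8, 0, 1, 3, 4, 5, 2, 7, 6]),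
    ([1, 4, 3, 6, 5, 0, 2, 2], [4, 7, 8, 0, 2, 3, 1, 5, 6]),
    ([0, 3, 4, 0, 6, 2, 1, 5], [3, 7, 5, 8, 0, 1, 2, 4, 6]),
    ([2, 0, 4, 1, 6, 3, 5, 5], [7, 8, 1, 2, 0, 3, 4, 5, 6]),
    ([3, 3, 4, 2, 6], [4, 8, 2, 3, 0, 1, 5, 7, 6]),
    ([6, 0, 5, 3, 1, 1, 0], [7, 1, 3, 5, 4, 2, 6, 8, 0]),
    ([6, 2, 0, 4, 3, 0, 5, 1], [7, 3, 6, 8, 1, 2, 4, 5, 0]),
    ([6, 0, 3, 2, 4, 1, 5, 3], [7, 8, 1, 4, 2, 3, 5, 6, 0]),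
    ([6, 4, 2, 0, 1, 3, 5, 1, 1], [4, 5, 6, 7, 8, 2, 1, 3, 0]),
    ([3, 0, 4, 1, 5, 3, 6, 2, 0], [4, 1, 8, 2, 0, 3, 5, 6, 7]),
    ([0, 1, 1, 4, 2, 5, 3, 6], [5, 8, 0, 2, 1, 4, 3, 6, 7]),
    ([0, 2, 3, 0, 5, 1, 6, 4, 0], [6, 4, 8, 0, 1, 2, 3, 5, 7]),
    ([0, 3, 2, 4, 3, 5, 1, 6], [3, 8, 0, 1, 2, 4, 5, 6, 7]),
    ([2, 3, 4, 5, 0, 6, 1, 0], [3, 6, 8, 2, 0, 1, 4, 5, 7]),
    ([3, 0, 0, 2, 1, 5, 4, 6], [6, 8, 5, 1, 2, 0, 3, 4, 7]),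
    ([5, 6, 4, 3, 2, 1, 3, 0], [8, 2, 3, 5, 6, 4, 7, 0, 1]),
    ([3, 6, 1, 2, 0, 5, 4, 1], [6, 5, 3, 7, 8, 0, 2, 4, 1]),
    ([5, 6, 1, 4, 2, 3, 0, 1], [2, 7, 4, 5, 3, 6, 8, 0, 1]),
    ([5, 6, 2, 0, 1, 2, 0], [7, 8, 3, 4, 2, 5, 6, 0, 1]),
    ([6, 6, 5], [0, 7, 2, 3, 4, 5, 6, 8, 1]),
    ([0, 6, 5, 4, 3, 2, 1], [4, 3, 0, 5, 6, 7, 8, 2, 1]),
    ([0, 6, 2, 0, 4, 1, 5, 3], [7, 5, 8, 0, 2, 3, 4, 6, 1]),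
    ([4, 4], [6, 0, 2, 3, 4, 5, 1, 7, 8]),
    ([3, 0, 1, 3, 0], [0, 1, 3, 5, 4, 2, 6, 7, 8]),
    ([2, 0, 1], [2, 3, 1, 4, 0, 5, 6, 7, 8]),
    ([2, 0, 4, 1, 3, 3], [5, 6, 1, 2, 0, 3, 4, 7, 8]),
    ([0, 3, 1, 4, 2, 5, 3], [7, 1, 0, 2, 3, 4, 5, 6, 8]),
    ([3, 0, 5, 2, 4, 4], [6, 7, 1, 3, 2, 0, 4, 5, 8]),
    ([2, 5, 6, 2, 3, 4, 0, 1], [2, 3, 5, 6, 7, 8, 0, 1, 4]),
    ([0, 3, 4, 2, 1, 6, 5, 2, 1, 0], [6, 0, 5, 7, 8, 1, 2, 3, 4]),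
    ([0, 3, 2, 4, 6, 0], [8, 0, 6, 3, 2, 1, 5, 7, 4]),
    ([5, 0, 4, 1, 3, 6, 2, 4, 0], [7, 1, 4, 2, 5, 6, 8, 0, 3]),
    ([2, 4, 3, 5, 1, 0, 6, 1, 0], [5, 7, 8, 2, 0, 4, 1, 6, 3]),
    ([4, 5, 1, 2, 6], [4, 8, 2, 6, 7, 5, 0, 1, 3]),
    ([1, 2, 6, 0, 4, 3, 5, 4], [7, 8, 4, 0, 1, 2, 5, 6, 3]),
    ([3, 4, 0, 1, 5, 6, 1, 2], [6, 4, 5, 7, 8, 0, 1, 2, 3]),
    ([6, 0, 2, 5, 0, 1, 3, 4], [5, 6, 4, 7, 8, 1, 3, 2, 0])]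

def a1reps_7 : List (List ℕ × List ℕ) :=
  [([6, 1, 5, 3, 2, 2, 1, 0], [1, 2, 7, 4, 5, 3, 6, 8, 0]),
    ([6, 1, 5, 2, 4, 3, 1, 1], [1, 6, 2, 5, 3, 4, 7, 8, 0]),
    ([6, 0, 5, 3, 4, 4], [6, 7, 1, 3, 4, 2, 5, 8, 0]),
    ([6, 1, 0, 3, 2, 4, 1], [6, 1, 8, 4, 2, 3, 5, 7, 0]),
    ([6, 1, 2, 3, 4, 0, 5, 2, 0], [8, 5, 7, 1, 2, 3, 4, 6, 0]),
    ([3, 0, 4, 1, 6, 2, 5, 3, 0], [0, 1, 7, 2, 3, 4, 5, 8, 6]),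
    ([3, 1, 0, 4, 2, 6, 5, 0], [7, 5, 8, 1, 2, 0, 3, 4, 6]),
    ([2, 3, 3, 4, 0, 6, 1], [8, 3, 1, 2, 0, 4, 5, 7, 6]),
    ([0, 2, 3, 4, 5, 6], [7, 8, 0, 3, 1, 2, 4, 5, 6]),
    ([0, 1, 1, 4, 2, 6, 3], [8, 5, 0, 2, 1, 4, 3, 7, 6]),
    ([1, 1, 3, 0, 4, 2, 6, 0], [8, 0, 4, 1, 2, 3, 5, 7, 6]),
    ([2, 3, 0, 5, 1, 4, 4, 6], [7, 8, 4, 2, 0, 1, 3, 5, 6]),
    ([1, 1, 3, 0, 4, 2, 5], [4, 7, 0, 1, 2, 3, 5, 6, 8]),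
    ([2, 3, 3, 4, 0, 5, 1], [7, 3, 1, 2, 0, 4, 5, 6, 8]),
    ([0, 2, 3, 4, 5, 0], [7, 0, 6, 3, 1, 2, 4, 5, 8]),
    ([2, 0, 3, 1, 4, 2, 0], [0, 1, 6, 2, 3, 4, 5, 7, 8]),
    ([0, 1, 2, 3, 6, 0, 0], [0, 5, 8, 1, 2, 3, 6, 7, 4]),
    ([4, 5, 2, 3, 6, 1], [8, 3, 2, 5, 6, 7, 0, 1, 4]),
    ([2, 0, 6, 1, 4, 4], [6, 8, 1, 2, 0, 5, 3, 7, 4]),
    ([5, 4, 2, 1, 6, 5, 3], [0, 5, 2, 6, 7, 8, 1, 3, 4]),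
    ([0, 2, 4, 6], [6, 8, 0, 3, 1, 5, 2, 7, 4]),
    ([1, 2, 5, 6, 0, 1, 3, 4], [5, 6, 7, 8, 1, 2, 0, 3, 4]),
    ([4, 0, 2, 5, 6, 2, 3, 1], [5, 3, 1, 6, 7, 8, 0, 2, 4]),
    ([2, 3, 0, 4, 1, 5, 6, 0, 0], [4, 7, 8, 2, 0, 1, 5, 6, 3]),
    ([2, 0, 3, 1, 4, 6, 0, 0], [1, 6, 8, 2, 0, 4, 5, 7, 3]),
    ([4, 1, 1, 6, 5, 3, 2], [5, 4, 2, 6, 7, 8, 0, 1, 3]),
    ([0, 2, 1, 3, 6, 0], [8, 0, 5, 2, 1, 4, 6, 7, 3]),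
    ([5, 4, 1, 2, 6, 3, 4, 1, 0], [7, 2, 1, 5, 6, 4, 8, 0, 3]),
    ([4, 0, 2, 5, 1, 3, 6, 1], [8, 4, 1, 5, 6, 7, 0, 2, 3]),
    ([1, 1, 3, 0, 4, 2, 6], [4, 8, 0, 1, 2, 3, 5, 7, 6]),
    ([1, 2, 4, 5, 6, 0, 0, 3], [7, 5, 8, 0, 1, 2, 3, 4, 6]),
    ([5, 2, 4, 3, 6, 5, 0], [0, 2, 8, 3, 1, 4, 7, 5, 6]),
    ([3, 1, 2, 6, 4, 0, 5, 2], [7, 5, 8, 1, 2, 0, 4, 6, 3]),
    ([4, 5, 2, 3, 1, 1, 6, 0], [8, 2, 4, 5, 6, 7, 0, 1, 3]),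
    ([4, 3, 1, 0, 6, 5, 3, 2], [1, 4, 5, 6, 7, 8, 0, 2, 3]),
    ([3, 4, 1, 2, 6, 5, 2, 1, 0], [5, 2, 6, 7, 8, 0, 1, 4, 3]),
    ([1, 2, 6, 3, 4, 4], [6, 8, 2, 0, 1, 4, 5, 7, 3]),
    ([5, 4, 3, 2, 1, 0, 6, 5], [8, 0, 4, 5, 6, 7, 1, 2, 3]),
    ([6, 1, 2, 3, 4, 0, 5, 2], [7, 8, 5, 1, 2, 3, 4, 6, 0]),
    ([6, 0, 5, 1, 4, 2, 3, 3], [5, 6, 1, 2, 3, 4, 7, 8, 0])]

def a1reps_8 : List (List ℕ × List ℕ) :=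
  [([6, 0, 4, 5, 2, 3, 1, 1, 0], [4, 1, 3, 5, 6, 7, 8, 2, 0]),
    ([1, 6, 2, 5, 3, 4, 4], [6, 7, 2, 0, 3, 4, 5, 8, 1]),
    ([3, 6, 4, 0], [6, 2, 8, 3, 4, 0, 5, 7, 1]),
    ([3, 6, 0, 2, 4, 5, 0, 1], [5, 3, 6, 7, 8, 0, 2, 4, 1]),
    ([2, 6, 4, 0, 5, 1, 3, 3], [5, 7, 8, 2, 0, 3, 4, 6, 1]),
    ([2, 6, 0, 1, 3, 4, 5, 0], [7, 4, 6, 8, 0, 2, 3, 5, 1]),
    ([6, 3, 0, 4, 3], [6, 1, 8, 3, 4, 2, 5, 7, 0]),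
    ([6, 0, 5, 2, 1, 1, 0], [7, 1, 3, 4, 2, 5, 6, 8, 0]),
    ([6, 0, 5, 1, 4, 4], [6, 7, 1, 2, 4, 5, 3, 8, 0]),
    ([6, 3, 2, 1, 5, 0, 1, 4], [5, 6, 3, 7, 8, 1, 2, 4, 0]),
    ([3, 2, 4, 3, 5, 0], [7, 2, 0, 3, 1, 4, 5, 6, 8]),
    ([2, 1, 4, 3, 0, 5, 1], [7, 1, 6, 2, 0, 3, 4, 5, 8]),
    ([1, 2, 4, 1], [6, 0, 2, 4, 1, 5, 3, 7, 8]),
    ([2, 0, 4, 2], [6, 0, 1, 3, 2, 5, 4, 7, 8]),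
    ([5, 2, 4, 1, 3, 0, 2], [2, 1, 3, 4, 5, 6, 7, 0, 8]),
    ([4, 5, 1, 3, 6, 1, 0, 2], [2, 4, 8, 5, 6, 7, 0, 1, 3]),
    ([4, 1, 5, 6, 2, 0, 3, 2], [5, 7, 8, 1, 2, 4, 0, 6, 3]),
    ([2, 0, 3, 1, 4, 6], [6, 8, 1, 2, 0, 4, 5, 7, 3]),
    ([5, 3, 6, 2, 0, 1], [2, 3, 8, 4, 5, 1, 6, 0, 7]),
    ([5, 0, 6, 1, 5, 2], [0, 4, 1, 2, 3, 5, 6, 8, 7]),
    ([2, 0, 4, 1, 5, 3, 6], [5, 8, 1, 2, 0, 3, 4, 6, 7]),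
    ([1, 5, 4, 6, 5, 0, 2, 3], [4, 5, 8, 0, 1, 2, 3, 6, 7]),
    ([4, 2, 6, 3, 5, 4, 0], [0, 2, 7, 3, 1, 4, 5, 8, 6]),
    ([4, 2, 6, 1, 0, 3, 1, 5], [4, 7, 8, 2, 1, 3, 0, 5, 6]),
    ([0, 1, 4, 2, 6, 1, 5, 0], [7, 0, 1, 4, 3, 5, 2, 8, 6]),
    ([0, 3, 3, 4, 2, 6], [4, 8, 0, 3, 1, 2, 5, 7, 6]),
    ([5, 0, 4, 6, 2, 3, 3, 1, 0], [3, 1, 8, 5, 6, 4, 7, 0, 2]),
    ([0, 5, 6, 4, 5, 0], [1, 0, 6, 3, 4, 5, 7, 8, 2]),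
    ([4, 5, 1, 2, 0, 0, 6], [3, 8, 4, 6, 7, 5, 0, 1, 2]),
    ([4, 2, 1, 0, 5, 6, 2, 3], [1, 5, 4, 6, 7, 8, 0, 3, 2]),
    ([5, 0, 3, 6, 2, 4, 1, 3, 0], [7, 1, 3, 4, 5, 6, 8, 0, 2]),
    ([0, 2, 1, 4, 2, 5, 3, 0], [5, 0, 7, 2, 3, 1, 4, 6, 8]),
    ([3, 1, 2, 3, 1], [0, 1, 2, 4, 5, 3, 6, 7, 8]),
    ([0, 1, 4, 2, 3, 3], [5, 6, 0, 1, 3, 4, 2, 7, 8]),
    ([3], [1, 5, 2, 3, 4, 0, 6, 7, 8]),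
    ([2, 5, 1, 4, 0, 6], [2, 8, 3, 4, 0, 5, 7, 1, 6]),
    ([6, 2, 0, 4, 3, 6], [5, 0, 8, 3, 1, 2, 4, 7, 6]),
    ([3, 2, 4, 6, 0], [8, 2, 6, 3, 1, 0, 5, 7, 4]),
    ([3, 2, 0, 6, 2, 0], [1, 5, 8, 3, 2, 0, 6, 7, 4]),
    ([2, 3, 6, 0, 1, 4, 5], [6, 7, 5, 8, 0, 1, 2, 3, 4])]

def a1reps_9 : List (List ℕ × List ℕ) :=
  [([0, 4, 5, 2, 2, 6, 1, 3], [3, 5, 0, 6, 7, 8, 1, 2, 4]),
    ([4, 5, 1, 2, 5, 6, 0, 3], [2, 5, 1, 6, 7, 8, 0, 3, 4]),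
    ([0, 1, 3, 2, 4, 6, 0], [8, 0, 6, 1, 3, 2, 5, 7, 4]),
    ([4, 2, 6, 0, 3, 3, 5, 1, 0], [3, 4, 7, 8, 1, 2, 0, 5, 6]),
    ([2, 1, 5, 4, 1, 6, 3, 1, 0], [7, 2, 5, 8, 0, 1, 3, 4, 6]),
    ([0, 1, 2, 3, 4, 5, 6, 0], [8, 0, 7, 1, 2, 3, 4, 5, 6]),
    ([0, 3, 1, 4, 2, 6], [4, 8, 0, 2, 3, 1, 5, 7, 6]),
    ([3, 1, 0, 2, 6, 4, 5, 5], [7, 8, 5, 1, 3, 0, 4, 6, 2]),
    ([3, 4, 1, 0, 5, 6, 1, 2], [5, 4, 6, 7, 8, 0, 1, 3, 2]),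
    ([5, 2, 4, 0, 3, 6, 1], [8, 3, 4, 5, 1, 6, 7, 0, 2]),
    ([0, 5, 6, 2, 4, 3, 2, 1], [7, 3, 0, 5, 6, 4, 8, 1, 2]),
    ([3, 0, 4, 3], [6, 0, 1, 3, 4, 2, 5, 7, 8]),
    ([2, 2, 3], [0, 5, 2, 3, 1, 4, 6, 7, 8]),
    ([0, 1, 4, 2, 5, 3], [7, 5, 0, 1, 3, 4, 2, 6, 8]),
    ([3, 2, 4, 0, 5, 3], [7, 0, 4, 3, 1, 2, 5, 6, 8]),
    ([3, 4, 4, 5], [1, 7, 2, 3, 4, 0, 5, 6, 8]),
    ([0, 1, 6, 3, 5, 2, 4, 1], [6, 1, 0, 4, 5, 3, 7, 8, 2]),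
    ([4, 5, 3, 0, 2, 6, 1, 4, 0], [0, 7, 3, 4, 5, 6, 8, 1, 2]),
    ([5, 0, 3, 6, 1, 4, 0, 2], [1, 4, 3, 5, 6, 7, 8, 0, 2]),
    ([2, 1, 0, 3, 6, 4, 5, 5], [7, 8, 4, 1, 0, 3, 5, 6, 2]),
    ([3, 5, 0, 1, 6, 4, 2, 0, 0], [5, 6, 4, 7, 8, 0, 3, 1, 2]),
    ([1, 5, 2, 4, 0, 3, 6, 1], [8, 0, 4, 5, 3, 6, 7, 1, 2]),
    ([4, 5, 1, 0, 0, 6, 2], [8, 4, 3, 6, 7, 5, 0, 1, 2]),
    ([1, 5, 2, 6, 3, 5], [5, 1, 2, 0, 3, 4, 6, 8, 7]),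
    ([1, 0, 3, 1, 5, 2, 6, 4, 0], [6, 1, 8, 2, 0, 3, 4, 5, 7]),
    ([5, 1, 6, 4, 0, 5, 2, 3], [4, 5, 8, 1, 2, 0, 3, 6, 7]),
    ([6, 3, 0, 4, 1, 5, 2, 6], [4, 0, 8, 2, 3, 1, 5, 6, 7]),
    ([2, 4, 4, 5, 3, 6, 0], [8, 2, 5, 3, 0, 1, 4, 6, 7]),
    ([0, 4, 2, 0, 5, 1, 6, 3, 0], [5, 6, 8, 0, 2, 3, 1, 4, 7]),
    ([3, 1, 4, 2, 0, 6, 1], [8, 1, 6, 2, 3, 0, 5, 7, 4]),
    ([4, 5, 2, 3, 6, 0], [8, 2, 5, 3, 6, 7, 0, 1, 4]),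
    ([1, 4, 6, 1, 2, 3, 5, 0, 1], [2, 6, 5, 7, 8, 0, 1, 4, 3]),
    ([0, 2, 1, 4, 2, 6, 3, 0], [5, 0, 8, 2, 3, 1, 4, 7, 6]),
    ([6, 4, 5, 6], [7, 0, 2, 3, 4, 5, 1, 8, 6]),
    ([4, 0, 6, 1, 3, 2, 5, 3], [7, 8, 1, 2, 3, 4, 0, 5, 6]),
    ([1, 2, 4, 0, 6, 3, 0, 5], [4, 7, 8, 0, 1, 2, 3, 5, 6]),
    ([0, 2, 3, 6, 0], [8, 0, 5, 3, 1, 2, 6, 7, 4]),
    ([4, 2, 0, 6, 3, 1, 5, 0, 0], [6, 3, 7, 8, 1, 2, 0, 5, 4]),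
    ([2, 1, 6, 0, 5, 2], [7, 0, 3, 1, 2, 5, 6, 8, 4]),
    ([0, 3, 1, 4, 6, 3, 5, 0], [7, 0, 1, 2, 4, 6, 5, 8, 3])]

def a1reps_10 : List (List ℕ × List ℕ) :=
  [([1, 0, 6, 5, 4, 3, 2, 1], [4, 0, 1, 5, 6, 7, 8, 2, 3]),
    ([2, 1, 4, 6, 5, 0, 3, 3, 0], [7, 8, 5, 1, 0, 2, 4, 6, 3]),
    ([1, 0, 6, 3, 0, 4, 2, 5], [4, 7, 8, 0, 1, 2, 5, 6, 3]),
    ([1, 3, 6, 0, 2, 4, 5, 0, 1], [5, 0, 6, 7, 8, 1, 2, 4, 3]),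
    ([3, 1, 0, 4, 2, 5, 6], [7, 8, 5, 1, 2, 0, 3, 6, 4]),
    ([1, 3, 2, 0, 6, 1, 0], [0, 5, 8, 2, 3, 1, 6, 7, 4]),
    ([5, 0, 2, 4, 6, 1, 3, 5], [5, 0, 1, 6, 7, 8, 2, 3, 4]),
    ([1, 2, 4, 6, 3, 0, 5, 3], [7, 6, 8, 0, 1, 2, 3, 5, 4]),
    ([3, 4, 2, 1, 6, 5, 2, 1], [5, 6, 2, 7, 8, 0, 1, 3, 4]),
    ([2, 3, 4, 6, 5, 0, 0, 1], [8, 3, 7, 2, 0, 1, 4, 6, 5]),
    ([0, 2, 3, 4, 6, 0], [8, 0, 6, 3, 1, 2, 4, 7, 5]),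
    ([3, 2, 6, 0, 1, 3, 5, 4, 0], [6, 4, 7, 8, 1, 2, 0, 3, 5]),
    ([2, 3, 5, 6, 1, 2, 4], [0, 6, 2, 7, 8, 1, 3, 4, 5]),
    ([3, 6, 6, 2, 0, 5, 4, 1, 0], [3, 1, 6, 7, 8, 0, 2, 4, 5]),
    ([2, 1, 4, 3, 0, 6, 1], [8, 1, 6, 2, 0, 3, 4, 7, 5]),
    ([0, 1, 2, 6, 3], [8, 5, 0, 1, 2, 4, 6, 7, 3]),
    ([0, 1, 2, 3, 4, 5, 0], [7, 0, 6, 1, 2, 3, 4, 5, 8]),
    ([2, 3, 1, 4, 3], [6, 1, 2, 4, 0, 3, 5, 7, 8]),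
    ([0, 2, 2, 1], [1, 3, 0, 4, 2, 5, 6, 7, 8]),
    ([0, 3, 1, 4, 2, 5, 0], [7, 0, 4, 2, 3, 1, 5, 6, 8]),
    ([6, 0, 3, 3, 4], [8, 6, 1, 3, 4, 2, 5, 7, 0]),
    ([6, 0, 5, 4, 2, 3, 1, 2, 0], [7, 1, 3, 4, 5, 6, 2, 8, 0]),
    ([6, 0, 1, 4, 5, 1, 2, 3], [4, 5, 1, 6, 7, 8, 2, 3, 0]),
    ([0, 1, 2, 3, 6, 0], [8, 0, 5, 1, 2, 3, 6, 7, 4]),
    ([3, 1, 5, 4, 2, 0, 6, 2, 0], [7, 6, 8, 1, 2, 0, 3, 5, 4]),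
    ([2, 3, 6, 0, 4, 1, 5, 4], [7, 8, 5, 2, 0, 1, 3, 6, 4]),
    ([0, 2, 1, 6, 3, 4, 4, 0], [8, 0, 6, 2, 1, 3, 5, 7, 4]),
    ([4, 0, 1, 5, 6, 2], [8, 4, 1, 6, 7, 5, 0, 2, 3]),
    ([0, 4, 5, 1, 2, 6, 0, 3], [0, 5, 4, 6, 7, 8, 1, 2, 3]),
    ([1, 2, 6, 3, 4, 4, 0], [8, 2, 6, 0, 1, 4, 5, 7, 3]),
    ([2, 4, 5, 1, 0, 6, 3, 1], [5, 6, 7, 8, 0, 2, 1, 4, 3]),
    ([0, 2, 1, 3, 6], [5, 8, 0, 2, 1, 4, 6, 7, 3]),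
    ([1, 0, 6, 1, 5], [0, 7, 1, 2, 4, 5, 6, 8, 3]),
    ([0, 6, 2, 5, 3, 1, 1, 0], [7, 0, 3, 5, 2, 4, 6, 8, 1]),
    ([4, 6, 0, 3, 5, 0, 2, 1, 0], [3, 5, 4, 6, 7, 8, 0, 2, 1]),
    ([5, 6, 4, 2, 2, 3, 0, 1], [2, 3, 8, 5, 6, 4, 7, 0, 1]),
    ([3, 6, 5, 1, 2, 0, 4, 2], [6, 7, 3, 8, 2, 0, 4, 5, 1]),
    ([6, 6, 5, 0, 4], [2, 6, 0, 3, 4, 5, 7, 8, 1]),
    ([5, 6, 3, 4, 2, 3, 1], [7, 3, 2, 4, 5, 6, 8, 0, 1]),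
    ([3, 6, 4, 5, 6, 0], [1, 2, 7, 3, 4, 0, 5, 8, 6])]

def a1reps_11 : List (List ℕ × List ℕ) :=
  [([3, 1, 5, 4, 0, 6, 2, 0, 0], [7, 8, 4, 1, 2, 0, 3, 5, 6]),
    ([1, 2, 0, 4, 3, 6, 5, 0, 0], [3, 8, 7, 0, 1, 2, 4, 5, 6]),
    ([0, 5, 4, 2, 1, 6, 5, 3], [1, 5, 0, 6, 7, 8, 2, 3, 4]),
    ([2, 0, 6, 1, 0, 3], [1, 5, 8, 2, 0, 3, 6, 7, 4]),
    ([2, 0, 6, 3, 4, 4, 0], [8, 1, 6, 3, 0, 2, 5, 7, 4]),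
    ([3, 4, 6, 0, 2, 5, 1, 1], [3, 4, 6, 7, 8, 0, 1, 2, 5]),
    ([2, 3, 5, 6, 1, 1, 4, 0], [6, 2, 7, 8, 0, 1, 3, 4, 5]),
    ([0, 2, 3, 4, 6], [6, 8, 0, 3, 1, 2, 4, 7, 5]),
    ([5, 6, 4, 0, 2, 3, 1, 1], [3, 4, 8, 5, 6, 2, 7, 0, 1]),
    ([4, 6, 0, 2, 3, 5, 1, 1], [3, 5, 6, 7, 8, 2, 0, 4, 1]),
    ([2, 3, 4, 0, 0, 6, 5, 1], [7, 3, 6, 8, 0, 1, 4, 5, 2]),
    ([2, 3, 5, 0, 1, 6, 4, 2, 0], [0, 5, 6, 7, 8, 1, 3, 4, 2]),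
    ([4, 5, 0, 2, 6, 0, 3, 1], [5, 3, 4, 6, 7, 8, 0, 1, 2]),
    ([6, 1, 5, 0, 4, 6], [6, 0, 3, 1, 4, 5, 7, 8, 2]),
    ([3, 5, 1, 4, 0, 2, 6, 3, 0], [0, 3, 8, 5, 6, 4, 7, 1, 2]),
    ([0, 2, 6, 1, 5, 0], [7, 0, 3, 4, 1, 5, 6, 8, 2]),
    ([5, 0, 2, 6, 3, 4, 1, 2], [3, 7, 1, 5, 6, 4, 8, 0, 2]),
    ([1, 0, 4, 1, 5], [0, 7, 1, 2, 4, 5, 3, 6, 8]),
    ([0, 3, 3], [5, 1, 0, 3, 4, 2, 6, 7, 8]),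
    ([5, 6, 4, 0, 2, 3, 0, 1], [8, 3, 4, 5, 6, 2, 7, 0, 1]),
    ([5, 6, 4, 3, 1, 2, 3, 0], [8, 2, 4, 6, 5, 3, 7, 0, 1]),
    ([1, 6, 3, 5, 4, 0, 5, 2], [8, 4, 7, 0, 2, 3, 5, 6, 1]),
    ([1, 6, 2, 3, 3, 1], [8, 0, 2, 5, 3, 4, 6, 7, 1]),
    ([0, 6, 4, 1, 1, 5, 3, 2], [5, 4, 0, 6, 7, 8, 2, 3, 1]),
    ([4, 6, 3, 5, 2, 4, 1], [0, 3, 2, 4, 5, 6, 7, 8, 1]),
    ([4, 5, 0, 2, 6, 0, 3, 1, 0], [3, 4, 5, 6, 7, 8, 0, 1, 2]),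
    ([0, 2, 6, 3, 4, 4], [6, 8, 0, 3, 1, 4, 5, 7, 2]),
    ([5, 3, 4, 1, 2, 0, 3, 6], [1, 8, 3, 5, 6, 4, 7, 0, 2]),
    ([4, 5, 2, 0, 3, 6, 1, 4, 0], [0, 7, 3, 5, 6, 4, 8, 1, 2]),
    ([5, 6, 4, 5], [6, 0, 2, 3, 4, 5, 7, 8, 1]),
    ([2, 6, 1, 5, 0], [7, 2, 3, 4, 0, 5, 6, 8, 1]),
    ([2, 6, 1, 3, 3, 4], [8, 6, 2, 4, 0, 3, 5, 7, 1]),
    ([2, 3, 5, 0, 1, 6, 4, 2], [6, 0, 5, 7, 8, 1, 3, 4, 2]),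
    ([0, 3, 6], [5, 8, 0, 3, 4, 1, 6, 7, 2]),
    ([0, 5, 6, 4, 5], [6, 1, 0, 3, 4, 5, 7, 8, 2]),
    ([2, 0, 3, 1, 4, 6, 0], [8, 1, 6, 2, 0, 4, 5, 7, 3]),
    ([4, 5, 2, 3, 0, 1, 5, 6], [1, 8, 4, 5, 6, 7, 0, 2, 3]),
    ([0, 2, 1, 3, 6, 0, 0], [0, 5, 8, 2, 1, 4, 6, 7, 3]),
    ([2, 3, 0, 4, 1, 5, 6, 0], [8, 4, 7, 2, 0, 1, 5, 6, 3]),
    ([5, 1, 4, 6, 2, 4, 3, 0, 1], [2, 1, 7, 5, 6, 4, 8, 0, 3])]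

def a1reps_12 : List (List ℕ × List ℕ) :=
  [([4, 5, 1, 2, 6, 0, 3], [2, 5, 4, 6, 7, 8, 0, 1, 3]),
    ([2, 3, 5, 1, 0, 6, 4, 1], [6, 5, 7, 8, 0, 1, 2, 4, 3]),
    ([1, 2, 6, 0, 4, 3, 5, 4, 0], [8, 4, 7, 0, 1, 2, 5, 6, 3]),
    ([4, 5, 2, 3, 1, 1, 6], [4, 8, 2, 5, 6, 7, 0, 1, 3]),
    ([4, 0, 1, 6, 5, 3, 2, 0], [4, 1, 5, 6, 7, 8, 0, 3, 2]),
    ([1, 0, 2, 6, 3, 5, 1, 0], [0, 1, 7, 5, 3, 4, 6, 8, 2]),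
    ([4, 2, 0, 5, 1, 6, 3, 0], [5, 6, 8, 2, 1, 3, 0, 4, 7]),
    ([4, 3, 5, 4, 6, 2], [8, 4, 2, 3, 0, 1, 5, 6, 7]),
    ([3, 1, 5, 0, 6, 2, 4, 4, 0], [8, 3, 6, 1, 2, 0, 4, 5, 7]),
    ([3, 1, 0, 4, 2, 5, 0, 6], [5, 8, 4, 1, 2, 0, 3, 6, 7]),
    ([0, 3, 2, 4, 3, 6, 1], [8, 3, 0, 1, 2, 4, 5, 7, 6]),
    ([4, 2, 6, 5, 0, 0, 3, 1], [5, 3, 7, 8, 1, 2, 0, 4, 6]),
    ([5, 6, 3, 4, 1, 2], [3, 4, 2, 5, 6, 7, 8, 0, 1]),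
    ([5, 6, 4, 5, 0], [0, 2, 6, 3, 4, 5, 7, 8, 1]),
    ([4, 6, 1, 3, 5, 0, 2, 4], [4, 0, 5, 6, 7, 8, 2, 3, 1]),
    ([0, 6, 2, 5, 1], [7, 3, 0, 4, 2, 5, 6, 8, 1]),
    ([0, 6, 2, 3, 3], [5, 8, 0, 3, 2, 4, 6, 7, 1]),
    ([1, 6, 2, 5, 3, 1, 1, 0], [7, 2, 0, 5, 3, 4, 6, 8, 1]),
    ([6, 3, 2, 1, 5, 4, 1], [6, 5, 2, 7, 8, 1, 3, 4, 0]),
    ([6, 0, 1, 4, 5, 1, 2, 3, 0], [5, 1, 4, 6, 7, 8, 2, 3, 0]),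
    ([6, 5, 4, 3, 2, 1, 0], [3, 2, 4, 5, 6, 7, 8, 1, 0]),
    ([6, 1, 0, 2, 1, 3], [1, 5, 8, 2, 3, 4, 6, 7, 0]),
    ([0, 2, 1, 3, 4], [5, 6, 0, 2, 1, 4, 3, 7, 8]),
    ([3, 2, 4, 3, 0], [0, 2, 6, 3, 1, 4, 5, 7, 8]),
    ([2, 0, 4, 1, 3, 3, 0], [6, 1, 5, 2, 0, 3, 4, 7, 8]),
    ([5, 6, 0, 5], [2, 0, 7, 3, 4, 5, 6, 8, 1]),
    ([0, 6, 2, 3, 3, 4], [8, 6, 0, 3, 2, 4, 5, 7, 1]),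
    ([2, 4, 4, 5, 3, 6], [5, 8, 2, 3, 0, 1, 4, 6, 7]),
    ([1, 6, 3, 0, 4, 2, 5], [4, 7, 8, 0, 2, 3, 5, 6, 1]),
    ([0, 6, 2, 3, 3, 0], [8, 0, 5, 3, 2, 4, 6, 7, 1]),
    ([6, 6, 5, 0], [7, 2, 0, 3, 4, 5, 6, 8, 1]),
    ([5, 6, 4, 2, 3, 1, 2, 0], [8, 2, 3, 4, 5, 6, 7, 0, 1]),
    ([0, 6, 1, 3, 2, 4, 3, 0], [8, 0, 6, 2, 3, 4, 5, 7, 1]),
    ([1, 0, 0, 3, 2, 5, 4, 6], [6, 8, 3, 0, 1, 2, 4, 5, 7]),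
    ([5, 1, 6, 3, 0, 5, 4, 2], [6, 4, 8, 1, 0, 3, 2, 5, 7]),
    ([2, 3, 5, 0, 6, 1, 0, 4], [5, 6, 8, 2, 0, 1, 3, 4, 7]),
    ([4, 6, 1, 3, 5, 2, 2, 0], [5, 2, 4, 6, 7, 8, 0, 3, 1]),
    ([5, 6, 1, 4, 0, 1], [2, 7, 3, 6, 4, 5, 8, 0, 1]),
    ([1, 6, 2, 5, 3, 1, 1], [0, 7, 2, 5, 3, 4, 6, 8, 1]),
    ([2, 6, 1, 4, 3, 5, 4, 0], [8, 2, 7, 4, 0, 3, 5, 6, 1])]

def a1reps_13 : List (List ℕ × List ℕ) :=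
  [([3, 0, 4, 1, 5, 2, 6, 3], [8, 0, 1, 2, 3, 4, 5, 6, 7]),
    ([2, 4, 0, 1, 6, 5, 3, 2], [5, 0, 4, 6, 7, 8, 1, 3, 2]),
    ([3, 5, 1, 4, 0, 2, 6, 3], [8, 0, 3, 5, 6, 4, 7, 1, 2]),
    ([5, 1, 4, 3, 2, 0, 0, 6, 1, 0], [1, 4, 8, 5, 6, 3, 7, 0, 2]),
    ([0, 1, 6, 2, 4, 4], [6, 8, 0, 1, 3, 5, 4, 7, 2]),
    ([1, 2, 3, 0, 4, 6, 5, 0], [7, 4, 8, 0, 1, 3, 5, 6, 2]),
    ([1, 6, 4, 2, 0, 5, 3, 1, 0], [0, 6, 5, 7, 8, 2, 3, 4, 1]),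
    ([5, 6, 3, 4, 1, 2, 0, 3], [2, 7, 3, 5, 6, 4, 8, 0, 1]),
    ([0, 6, 5, 4, 3, 2, 1, 0, 0], [0, 4, 3, 5, 6, 7, 8, 2, 1]),
    ([1, 6, 3, 5, 2, 1, 1], [0, 7, 2, 4, 5, 3, 6, 8, 1]),
    ([5, 3, 1, 2, 0, 1, 6], [7, 8, 3, 4, 5, 1, 6, 0, 2]),
    ([4, 0, 3, 6, 2, 5, 1, 4], [3, 0, 1, 4, 5, 6, 7, 8, 2]),
    ([6, 5, 4, 1, 2, 0, 3, 6, 0], [0, 3, 5, 7, 6, 4, 8, 1, 2]),
    ([1, 5, 2, 4, 0, 3, 6, 1, 0], [0, 4, 8, 5, 3, 6, 7, 1, 2]),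
    ([0, 1, 1, 4, 2, 5, 3], [7, 5, 0, 2, 1, 4, 3, 6, 8]),
    ([0, 1, 2, 3, 1], [5, 1, 0, 4, 2, 3, 6, 7, 8]),
    ([0], [1, 2, 0, 3, 4, 5, 6, 7, 8]),
    ([2, 0, 5, 3, 1, 6, 4, 2], [6, 0, 1, 7, 8, 2, 3, 4, 5]),
    ([3, 1, 6, 4, 0, 5, 2, 0], [4, 8, 7, 1, 2, 0, 3, 6, 5]),
    ([0, 3, 1, 6, 2, 4, 4, 5], [8, 7, 0, 2, 3, 1, 4, 6, 5]),
    ([3, 4, 6, 1, 2, 5, 1, 1, 0], [4, 2, 6, 7, 8, 0, 1, 3, 5]),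
    ([3, 6, 6, 5], [1, 7, 2, 3, 4, 0, 6, 8, 5]),
    ([4, 2, 3, 0, 5, 1, 6, 3, 0], [6, 4, 8, 2, 1, 3, 0, 5, 7]),
    ([3, 6, 4, 0, 5, 2, 6], [4, 1, 8, 3, 2, 0, 5, 6, 7]),
    ([2, 1, 5, 3, 6, 0, 0, 4], [5, 6, 8, 1, 0, 3, 2, 4, 7]),
    ([0, 2, 3, 4, 5, 0, 6, 1], [8, 3, 6, 0, 1, 2, 4, 5, 7]),
    ([1, 4, 3, 5, 0, 6, 2, 0], [4, 5, 8, 0, 2, 3, 1, 6, 7]),
    ([0, 2, 1, 4, 2, 5, 3, 6], [5, 8, 0, 2, 3, 1, 4, 6, 7]),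
    ([1, 1, 3, 0, 5, 2, 6, 4], [8, 6, 0, 1, 2, 3, 4, 5, 7]),
    ([3, 2, 4, 0, 5, 3, 6, 1, 0], [3, 4, 8, 0, 1, 2, 5, 6, 7]),
    ([6, 3, 5, 2, 4, 1, 3], [3, 1, 2, 4, 5, 6, 7, 8, 0]),
    ([6, 2, 0, 3], [2, 5, 8, 3, 1, 4, 6, 7, 0]),
    ([6, 0, 1, 2, 3, 1, 0], [8, 1, 5, 4, 2, 3, 6, 7, 0]),
    ([6, 1, 5, 2, 4, 3, 1, 1, 0], [6, 2, 1, 5, 3, 4, 7, 8, 0]),
    ([6, 4, 0, 1, 5, 0, 2, 3], [4, 5, 3, 6, 7, 8, 1, 2, 0]),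
    ([4, 2, 5, 3, 6, 4], [8, 0, 2, 3, 1, 4, 5, 6, 7]),
    ([2, 4, 1, 5, 3, 6, 4], [8, 1, 2, 4, 0, 3, 5, 6, 7]),
    ([2, 0, 4, 2, 5, 3, 6], [5, 8, 1, 3, 2, 0, 4, 6, 7]),
    ([6, 1, 0, 3, 2, 5, 4, 6], [6, 0, 8, 1, 2, 3, 4, 5, 7]),
    ([3, 2, 6, 4, 5, 3], [7, 0, 2, 3, 1, 6, 4, 8, 5])]

def a1reps_14 : List (List ℕ × List ℕ) :=
  [([2, 3, 4, 6], [6, 8, 2, 3, 0, 1, 4, 7, 5]),
    ([1, 6, 3, 0, 4, 2, 5, 0], [7, 8, 4, 0, 2, 3, 5, 6, 1]),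
    ([1, 6, 3, 5, 2, 4, 1], [6, 0, 2, 4, 5, 3, 7, 8, 1]),
    ([3, 6, 1, 2, 5, 0, 1, 4, 0], [6, 4, 5, 7, 8, 0, 2, 3, 1]),
    ([5, 6, 4, 1, 3, 2, 1, 0], [8, 2, 4, 5, 3, 6, 7, 0, 1]),
    ([3, 6, 4], [8, 6, 2, 3, 4, 0, 5, 7, 1]),
    ([3, 6, 1, 2, 5, 0, 1, 4, 0, 0], [4, 5, 6, 7, 8, 0, 2, 3, 1]),
    ([1, 6, 2, 5, 3, 0, 1], [2, 0, 7, 5, 3, 4, 6, 8, 1]),
    ([2, 3, 0, 5, 6, 0, 1, 4, 0], [6, 7, 3, 8, 0, 1, 4, 5, 2]),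
    ([5, 4, 0, 3, 6, 2, 4, 1], [1, 3, 7, 4, 5, 6, 8, 0, 2]),
    ([4, 5, 2, 3, 0, 1, 6], [3, 8, 4, 5, 6, 7, 0, 1, 2]),
    ([2, 1, 4, 3, 0, 0, 6, 5, 0], [7, 5, 8, 1, 0, 3, 4, 6, 2]),
    ([1, 2, 4, 5, 0, 3, 3, 6], [7, 8, 6, 0, 1, 2, 3, 4, 5]),
    ([3, 5, 6, 1, 2, 4, 5], [6, 1, 2, 7, 8, 0, 3, 4, 5]),
    ([3, 0, 6, 4, 5, 3], [7, 0, 1, 3, 4, 6, 2, 8, 5]),
    ([3, 4, 6, 0, 2, 5, 1, 1, 0], [4, 6, 3, 7, 8, 0, 1, 2, 5]),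
    ([2, 1, 0, 3, 4, 6, 5, 0], [7, 4, 8, 1, 0, 3, 2, 6, 5]),
    ([6, 1, 5, 4, 3, 3, 1], [7, 1, 2, 5, 4, 6, 3, 8, 0]),
    ([6, 2, 5, 3, 4, 4], [6, 7, 2, 3, 1, 4, 5, 8, 0]),
    ([6, 3, 1, 4, 2, 5, 1], [7, 8, 2, 4, 3, 1, 5, 6, 0]),
    ([6, 1, 5, 3, 4, 2, 1, 1, 0], [6, 2, 1, 4, 5, 3, 7, 8, 0]),
    ([2, 0, 5, 3, 1, 6, 4, 2, 0], [0, 1, 6, 7, 8, 2, 3, 4, 5]),
    ([0, 4, 1, 5, 2, 3, 3, 6], [7, 8, 0, 2, 3, 4, 1, 6, 5]),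
    ([5, 3, 1, 6, 0, 2, 4, 5, 0], [0, 3, 6, 7, 8, 1, 2, 4, 5]),
    ([3, 0, 6, 2, 0, 4, 1, 5], [3, 7, 8, 1, 2, 0, 4, 6, 5]),
    ([1, 0, 3, 2, 6, 1, 5], [0, 7, 1, 4, 2, 3, 6, 8, 5]),
    ([0, 2, 2, 4, 1, 5, 3], [7, 5, 0, 1, 2, 3, 4, 6, 8]),
    ([2, 3, 0, 5, 1, 6, 4, 0, 0], [4, 8, 6, 2, 0, 1, 3, 5, 7]),
    ([6, 0, 2, 1, 3, 2], [5, 8, 1, 2, 3, 4, 6, 7, 0]),
    ([6, 2, 2, 5, 3, 1, 0, 4], [2, 6, 5, 7, 8, 1, 3, 4, 0]),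
    ([2, 0, 5, 6, 1, 2, 4, 3, 0], [5, 1, 6, 7, 8, 0, 3, 4, 2]),
    ([2, 4, 1, 0, 3, 6, 5, 1, 0], [4, 6, 7, 8, 0, 3, 1, 5, 2]),
    ([5, 0, 4, 6, 1, 0], [3, 1, 8, 6, 4, 5, 7, 0, 2]),
    ([0, 1, 6, 2, 5, 1, 4, 0], [6, 0, 1, 4, 3, 5, 7, 8, 2]),
    ([5, 6, 3, 4, 1, 2, 0, 0], [2, 3, 4, 5, 6, 7, 8, 0, 1]),
    ([0, 6, 3, 5, 2, 0, 1], [0, 3, 7, 4, 5, 2, 6, 8, 1]),
    ([3, 4, 4, 5, 0, 6, 2], [8, 4, 1, 3, 2, 0, 5, 6, 7]),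
    ([3, 0, 4, 1, 5, 2, 6, 3, 0], [0, 1, 8, 2, 3, 4, 5, 6, 7]),
    ([1, 6, 3, 5, 2, 1, 1, 0], [7, 2, 0, 4, 5, 3, 6, 8, 1]),
    ([2, 6, 4, 0, 5, 1, 3, 3, 0], [7, 8, 5, 2, 0, 3, 4, 6, 1])]

def a1reps_15 : List (List ℕ × List ℕ) :=
  [([1, 6, 2, 5, 3, 4, 1, 0, 0], [2, 6, 0, 5, 3, 4, 7, 8, 1]),
    ([2, 6, 0, 1, 3, 4, 5], [6, 7, 4, 8, 0, 2, 3, 5, 1]),
    ([0, 6, 1, 3, 2, 4, 3], [6, 8, 0, 2, 3, 4, 5, 7, 1]),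
    ([6, 0, 5, 3, 4, 4, 0], [7, 1, 6, 3, 4, 2, 5, 8, 0]),
    ([6, 0, 1, 1, 4], [8, 6, 1, 2, 4, 5, 3, 7, 0]),
    ([6, 0, 3, 3, 0], [8, 1, 5, 3, 4, 2, 6, 7, 0]),
    ([0, 3, 4, 5, 6, 0, 1, 2], [3, 4, 7, 8, 0, 1, 2, 5, 6]),
    ([3, 1, 5, 4, 6, 0, 2, 2], [4, 8, 6, 1, 2, 0, 3, 5, 7]),
    ([0, 4, 3, 5, 4, 6, 2, 0], [4, 0, 8, 3, 1, 2, 5, 6, 7]),
    ([0, 5, 3, 6, 4, 5], [6, 1, 0, 3, 4, 2, 5, 8, 7]),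
    ([2, 3, 4, 5, 0, 6, 1], [8, 3, 6, 2, 0, 1, 4, 5, 7]),
    ([3, 0, 4, 1, 6, 2, 5, 3], [7, 0, 1, 2, 3, 4, 5, 8, 6]),
    ([2, 3, 1, 5, 4, 0, 6, 1, 0], [4, 7, 8, 2, 0, 1, 3, 5, 6]),
    ([1, 2, 0, 4, 3, 6, 5, 0], [7, 3, 8, 0, 1, 2, 4, 5, 6]),
    ([6, 2, 5, 6], [7, 0, 2, 3, 1, 5, 6, 8, 4]),
    ([5, 6, 2, 4, 3, 2, 1], [7, 3, 2, 5, 6, 4, 8, 0, 1]),
    ([2, 6, 1, 4, 3, 5, 4], [7, 8, 2, 4, 0, 3, 5, 6, 1]),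
    ([3, 6, 1, 2, 5, 0, 1, 4], [5, 6, 4, 7, 8, 0, 2, 3, 1]),
    ([6, 3, 2, 0, 5, 4, 1, 0], [3, 5, 6, 7, 8, 1, 2, 4, 0]),
    ([6, 3, 5, 4, 2, 3, 1, 2, 0], [7, 2, 3, 4, 1, 6, 5, 8, 0]),
    ([6, 1, 5, 2, 3, 3, 1, 0], [1, 2, 7, 5, 3, 4, 6, 8, 0]),
    ([6, 2, 3, 3, 4], [8, 6, 2, 3, 1, 4, 5, 7, 0]),
    ([6, 3, 2, 0, 5, 4, 1], [6, 3, 5, 7, 8, 1, 2, 4, 0]),
    ([6, 5, 5, 0], [1, 2, 7, 3, 4, 5, 6, 8, 0]),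
    ([6, 0, 5, 2, 4, 1], [6, 3, 1, 4, 2, 5, 7, 8, 0]),
    ([6, 0, 0, 3], [1, 5, 8, 3, 4, 2, 6, 7, 0]),
    ([6, 3, 5, 2, 0, 1], [2, 3, 7, 4, 5, 1, 6, 8, 0]),
    ([1, 6, 4, 2, 0, 5, 3, 1], [5, 0, 6, 7, 8, 2, 3, 4, 1]),
    ([2, 0, 1, 1, 6, 3], [8, 5, 1, 2, 0, 4, 6, 7, 3]),
    ([6, 0, 2, 3, 5, 1, 1, 4], [5, 6, 1, 7, 8, 2, 3, 4, 0]),
    ([6, 1, 5, 3, 4, 2, 1, 0], [1, 2, 4, 6, 5, 3, 7, 8, 0]),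
    ([0, 3, 1, 5, 2, 4, 4, 6], [7, 8, 0, 2, 3, 1, 4, 5, 6]),
    ([3, 1, 5, 4, 0, 6, 2, 0], [4, 7, 8, 1, 2, 0, 3, 5, 6]),
    ([4, 6, 6], [8, 1, 2, 3, 4, 5, 0, 7, 6]),
    ([3, 2, 4, 0, 6, 3], [8, 0, 4, 3, 1, 2, 5, 7, 6]),
    ([0, 1, 4, 2, 6, 3], [8, 5, 0, 1, 3, 4, 2, 7, 6]),
    ([2, 1, 4, 3, 5, 0, 6, 2], [8, 0, 5, 1, 2, 3, 4, 6, 7]),
    ([3, 1, 5, 0, 6, 2, 0, 4], [3, 6, 8, 1, 2, 0, 4, 5, 7]),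
    ([5, 6, 6, 5], [1, 0, 2, 3, 4, 5, 6, 8, 7]),
    ([5, 4, 0, 2, 6, 3, 4, 1], [1, 3, 7, 5, 6, 4, 8, 0, 2])]

def a1reps_16 : List (List ℕ × List ℕ) :=
  [([0, 4, 6, 3, 5, 2, 4, 1], [1, 3, 0, 4, 5, 6, 7, 8, 2]),
    ([3, 1, 0, 2, 6, 3], [8, 0, 5, 1, 3, 4, 6, 7, 2]),
    ([6, 2, 3, 3], [5, 8, 2, 3, 1, 4, 6, 7, 0]),
    ([6, 0, 2, 1, 3, 2, 4], [8, 6, 1, 2, 3, 4, 5, 7, 0]),
    ([6, 5, 5], [7, 1, 2, 3, 4, 5, 6, 8, 0]),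
    ([2, 3, 6, 5, 0, 0, 4, 1, 0], [3, 7, 6, 8, 0, 1, 2, 5, 4]),
    ([3, 2, 0, 6, 2], [8, 1, 5, 3, 2, 0, 6, 7, 4]),
    ([2, 0, 6, 1, 3, 3, 4], [8, 6, 1, 2, 0, 3, 5, 7, 4]),
    ([2, 6, 6, 5, 0], [7, 2, 1, 3, 0, 5, 6, 8, 4]),
    ([4, 2, 5, 6, 1, 0, 3, 1], [5, 7, 8, 2, 1, 3, 0, 6, 4]),
    ([3, 0, 2, 4, 6, 1, 2, 5, 0, 1], [1, 6, 5, 7, 8, 0, 2, 3, 4]),
    ([3, 4, 2, 0, 6, 5, 2, 1], [5, 3, 6, 7, 8, 0, 1, 2, 4]),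
    ([5, 2, 4, 6, 3, 4, 2], [7, 1, 2, 3, 5, 6, 8, 0, 4]),
    ([3, 0, 2, 2, 6, 4], [8, 6, 1, 3, 2, 0, 5, 7, 4]),
    ([6, 0, 3, 3], [5, 8, 1, 3, 4, 2, 6, 7, 0]),
    ([6, 4, 5, 3, 4, 2, 0, 1], [2, 3, 1, 4, 5, 6, 7, 8, 0]),
    ([5, 0, 3, 6, 2, 4, 1, 3], [3, 7, 1, 4, 5, 6, 8, 0, 2]),
    ([3, 2, 0, 5, 6, 1, 2, 4], [1, 6, 5, 7, 8, 0, 3, 4, 2]),
    ([4, 5, 1, 0, 0, 6, 2, 3], [4, 5, 3, 6, 7, 8, 0, 1, 2]),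
    ([4, 6, 1, 3, 5, 0, 2], [2, 4, 5, 6, 7, 8, 0, 3, 1]),
    ([2, 3, 4, 5, 6, 0, 1], [2, 3, 7, 8, 0, 1, 4, 5, 6]),
    ([2, 1, 5, 4, 0, 6, 3, 1], [5, 1, 7, 8, 0, 2, 3, 4, 6]),
    ([5, 0, 4, 2, 6, 1, 0, 0], [1, 8, 3, 4, 2, 5, 7, 0, 6]),
    ([4, 0, 6, 3, 5, 4], [7, 0, 1, 3, 4, 2, 5, 8, 6]),
    ([2, 0, 3, 1, 4, 2, 6], [0, 8, 1, 2, 3, 4, 5, 7, 6]),
    ([4, 0, 2, 5, 6, 2, 3, 1, 0], [3, 1, 5, 6, 7, 8, 0, 2, 4]),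
    ([2, 1, 6, 0, 0, 4, 3, 5], [5, 7, 8, 1, 0, 3, 2, 6, 4]),
    ([1, 0, 3, 6, 2, 5, 1, 0], [0, 1, 7, 4, 5, 3, 6, 8, 2]),
    ([0, 4, 6, 1, 3, 5, 0, 2], [0, 4, 5, 6, 7, 8, 1, 3, 2]),
    ([0, 0, 6, 5, 4, 3, 2, 1, 0], [3, 1, 4, 5, 6, 7, 8, 0, 2]),
    ([0, 1, 6, 2, 3, 3], [5, 8, 0, 1, 3, 4, 6, 7, 2]),
    ([3, 0, 2, 4, 6, 1, 2, 5, 1, 1, 0], [5, 1, 6, 7, 8, 0, 2, 3, 4]),
    ([1, 6, 2, 5, 6], [7, 1, 2, 0, 3, 5, 6, 8, 4]),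
    ([2, 4, 6, 1, 3, 5, 0, 2], [2, 0, 5, 6, 7, 8, 1, 3, 4]),
    ([2, 0, 6, 1, 3, 3, 0], [8, 1, 5, 2, 0, 3, 6, 7, 4]),
    ([1, 5, 3, 6, 5, 0, 4, 2], [6, 4, 8, 0, 2, 3, 1, 5, 7]),
    ([4, 2, 5, 3, 6, 4, 0], [0, 2, 8, 3, 1, 4, 5, 6, 7]),
    ([2, 0, 3, 1, 4, 2, 5], [0, 7, 1, 2, 3, 4, 5, 6, 8]),
    ([5, 2, 3, 4, 1, 2, 0], [1, 2, 3, 5, 6, 7, 4, 0, 8]),
    ([0, 3, 1, 2, 2, 4], [5, 6, 0, 2, 3, 1, 4, 7, 8])]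

def a1reps_17 : List (List ℕ × List ℕ) :=
  [([3, 0, 4, 3, 0], [0, 1, 6, 3, 4, 2, 5, 7, 8]),
    ([5, 1, 4, 2, 3, 0, 1, 6], [1, 8, 4, 5, 3, 6, 7, 0, 2]),
    ([1, 0, 3, 6, 2, 5, 1], [7, 0, 1, 4, 5, 3, 6, 8, 2]),
    ([5, 0, 2, 6, 3, 4, 1, 2, 0], [7, 1, 3, 5, 6, 4, 8, 0, 2]),
    ([1, 2, 3, 4, 0, 5, 6], [7, 8, 5, 0, 1, 3, 4, 6, 2]),
    ([1, 2, 3, 4, 6, 5, 0], [7, 2, 8, 0, 1, 3, 4, 6, 5]),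
    ([2, 6, 5, 2, 1, 3, 4], [5, 6, 2, 7, 8, 0, 3, 4, 1]),
    ([1, 6, 2, 3, 3, 0], [8, 2, 5, 0, 3, 4, 6, 7, 1]),
    ([1, 6, 3, 5, 2, 4, 1, 0], [0, 2, 6, 4, 5, 3, 7, 8, 1]),
    ([6, 1, 2, 4, 5, 0, 1, 3], [1, 5, 6, 7, 8, 2, 3, 4, 0]),
    ([6, 5, 5, 4, 0], [6, 2, 1, 3, 4, 5, 7, 8, 0]),
    ([6, 4, 3, 0, 0, 5, 1, 2], [3, 4, 5, 6, 7, 8, 1, 2, 0]),
    ([6, 0, 1, 2, 3, 1, 4], [8, 6, 1, 4, 2, 3, 5, 7, 0]),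
    ([2, 1, 0, 3, 4, 5, 6, 0, 0], [4, 7, 8, 1, 0, 3, 2, 5, 6]),
    ([3, 6, 4, 5, 6], [7, 1, 2, 3, 4, 0, 5, 8, 6]),
    ([5, 0, 6, 1, 5, 4], [0, 6, 1, 2, 4, 5, 3, 8, 7]),
    ([2, 3, 4, 6, 5, 0, 1, 1, 0], [7, 8, 3, 2, 0, 1, 4, 6, 5]),
    ([3, 0, 6, 2, 4, 4], [6, 8, 1, 3, 2, 0, 4, 7, 5]),
    ([3, 0, 6, 2, 5, 3, 0], [0, 1, 7, 3, 2, 4, 6, 8, 5]),
    ([5, 4, 1, 3, 6, 2, 4, 1, 0], [7, 2, 1, 4, 5, 6, 8, 0, 3]),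
    ([0, 2, 3, 6], [5, 8, 0, 3, 1, 2, 6, 7, 4]),
    ([3, 4, 0, 2, 5, 6, 1, 2, 0], [6, 5, 3, 7, 8, 0, 1, 2, 4]),
    ([1, 2, 5, 6, 3, 0, 4, 3, 0], [7, 8, 6, 0, 1, 2, 5, 3, 4]),
    ([2, 3, 6, 4], [8, 6, 2, 3, 0, 1, 5, 7, 4]),
    ([3, 3, 4, 1, 6, 2, 5, 1], [7, 0, 2, 4, 3, 1, 5, 8, 6]),
    ([6, 4, 0, 1, 5, 0, 2, 3, 0], [5, 3, 4, 6, 7, 8, 1, 2, 0]),
    ([3, 4, 1, 0, 6, 5, 2, 1], [4, 5, 6, 7, 8, 0, 1, 2, 3]),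
    ([1, 5, 6, 3, 4, 1, 2, 0], [4, 2, 0, 5, 6, 7, 8, 1, 3]),
    ([3, 2, 0, 4, 1, 5, 6], [7, 8, 5, 2, 1, 0, 4, 6, 3]),
    ([6, 0, 2, 3, 5, 1, 1, 4, 0], [6, 1, 5, 7, 8, 2, 3, 4, 0]),
    ([6, 0, 3, 2, 4, 1, 5, 3, 0], [8, 1, 7, 4, 2, 3, 5, 6, 0]),
    ([3, 4, 0, 2, 6, 5, 2, 1], [6, 3, 5, 7, 8, 0, 1, 4, 2]),
    ([2, 5, 1, 0, 0, 6], [7, 8, 3, 4, 0, 5, 6, 1, 2]),
    ([4, 5, 3, 0, 1, 6, 2, 4, 0], [0, 7, 4, 5, 3, 6, 8, 1, 2]),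
    ([0, 4, 1, 2, 2, 6], [6, 8, 0, 2, 3, 5, 1, 7, 4]),
    ([1, 4, 3, 5, 2, 0, 6, 2, 0], [5, 7, 8, 0, 2, 3, 1, 6, 4]),
    ([2, 3, 6], [5, 8, 2, 3, 0, 1, 6, 7, 4]),
    ([2, 2, 6, 0, 5], [2, 7, 0, 3, 1, 5, 6, 8, 4]),
    ([0, 3, 1, 2, 2, 6, 4], [8, 6, 0, 2, 3, 1, 5, 7, 4]),
    ([4, 4, 5], [0, 7, 2, 3, 4, 5, 1, 6, 8])]

def a1reps_18 : List (List ℕ × List ℕ) :=
  [([3, 0, 5, 2, 4, 4, 0], [7, 1, 6, 3, 2, 0, 4, 5, 8]),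
    ([0, 2, 2, 4, 1, 5, 3, 0], [5, 0, 7, 1, 2, 3, 4, 6, 8]),
    ([2, 0, 1, 2, 0], [0, 1, 3, 4, 2, 5, 6, 7, 8]),
    ([2, 0, 3, 1, 4, 2], [6, 0, 1, 2, 3, 4, 5, 7, 8]),
    ([0, 2, 1, 3, 6, 2, 5, 0, 0], [0, 1, 7, 2, 5, 4, 6, 8, 3]),
    ([3, 4, 0, 5, 2, 6, 4], [8, 1, 5, 3, 2, 0, 4, 6, 7]),
    ([2, 0, 5, 4, 0, 6, 3, 1], [5, 3, 7, 8, 0, 1, 2, 4, 6]),
    ([4, 4, 1, 0, 6, 5, 3, 2], [5, 4, 0, 6, 7, 8, 1, 2, 3]),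
    ([1, 3, 3, 5, 2, 6, 4, 0], [6, 2, 8, 0, 1, 3, 4, 5, 7]),
    ([5, 4, 6, 5, 4, 0], [1, 2, 0, 3, 4, 5, 8, 6, 7]),
    ([3, 2, 4, 3, 6], [0, 8, 2, 3, 1, 4, 5, 7, 6]),
    ([0, 2, 2, 4, 1, 6, 3], [8, 5, 0, 1, 2, 3, 4, 7, 6]),
    ([4, 0, 6, 1, 5, 4], [7, 0, 1, 2, 4, 5, 3, 8, 6]),
    ([1, 0, 3, 1, 4, 2, 6], [4, 8, 1, 2, 0, 3, 5, 7, 6]),
    ([6, 3, 2, 6, 5, 0, 1, 4], [3, 6, 0, 7, 8, 1, 2, 4, 5]),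
    ([2, 3, 5, 6, 0, 1, 3, 4], [1, 6, 7, 8, 0, 2, 3, 4, 5]),
    ([3, 6, 4, 5, 0], [7, 2, 6, 3, 4, 0, 5, 8, 1]),
    ([0, 6, 2, 5, 1, 0, 0], [0, 7, 3, 4, 2, 5, 6, 8, 1]),
    ([5, 6, 0, 3, 4, 0, 1, 2, 0], [4, 5, 3, 6, 7, 8, 2, 0, 1]),
    ([2, 6, 5, 2, 1, 3, 4, 0], [6, 2, 5, 7, 8, 0, 3, 4, 1]),
    ([0, 3, 4, 2, 1, 6, 5, 2, 1], [5, 6, 0, 7, 8, 1, 2, 3, 4]),
    ([1, 3, 5, 6, 0, 1, 4, 2], [6, 4, 7, 8, 0, 1, 2, 3, 5]),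
    ([3, 1, 6, 0, 4, 2, 5, 4, 0], [8, 3, 7, 1, 2, 0, 4, 6, 5]),
    ([6, 2, 3, 3, 4, 0], [6, 2, 8, 3, 1, 4, 5, 7, 0]),
    ([6, 0, 5, 2, 4, 0, 1], [1, 3, 4, 6, 2, 5, 7, 8, 0]),
    ([6, 5, 4, 3, 2, 1], [4, 3, 2, 5, 6, 7, 8, 1, 0]),
    ([1, 0, 2, 1], [4, 0, 1, 2, 3, 5, 6, 7, 8]),
    ([0, 0, 3], [0, 5, 1, 3, 4, 2, 6, 7, 8]),
    ([3, 2, 4, 3, 5], [0, 7, 2, 3, 1, 4, 5, 6, 8]),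
    ([4, 0, 5, 1, 2, 2, 3], [7, 5, 1, 2, 3, 4, 0, 6, 8]),
    ([6, 3, 5, 4, 1, 3, 2, 1, 1], [7, 1, 2, 4, 3, 6, 5, 8, 0]),
    ([6, 4, 1, 1, 5, 3, 2, 0], [4, 2, 5, 6, 7, 8, 1, 3, 0]),
    ([3, 6, 4, 5], [6, 7, 2, 3, 4, 0, 5, 8, 1]),
    ([2, 1, 5, 4, 1, 6, 3, 1], [5, 7, 2, 8, 0, 1, 3, 4, 6]),
    ([2, 3, 0, 4, 1, 6, 3], [8, 1, 4, 2, 0, 3, 5, 7, 6]),
    ([6, 2, 4, 1, 5, 4], [7, 8, 2, 4, 1, 5, 3, 6, 0]),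
    ([6, 0, 5, 2, 0, 1], [1, 3, 7, 4, 2, 5, 6, 8, 0]),
    ([5, 0, 2, 4, 6, 1, 3, 5, 0], [0, 1, 5, 6, 7, 8, 2, 3, 4]),
    ([0, 3, 4, 1, 2, 6, 5, 2, 1], [6, 5, 0, 7, 8, 1, 2, 4, 3]),
    ([0, 2, 6, 5, 2, 1, 3, 4], [5, 6, 0, 7, 8, 1, 3, 4, 2])]

def a1reps_19 : List (List ℕ × List ℕ) :=
  [([0, 1, 2, 3, 4, 6], [6, 8, 0, 1, 2, 3, 4, 7, 5]),
    ([3, 4, 0, 2, 5, 6, 1, 2], [3, 6, 5, 7, 8, 0, 1, 2, 4]),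
    ([0, 6, 2, 5, 6], [7, 1, 0, 3, 2, 5, 6, 8, 4]),
    ([0, 1, 4, 2, 6, 3, 5, 5], [7, 8, 0, 1, 3, 4, 2, 5, 6]),
    ([2, 6, 4, 5, 6], [7, 1, 2, 3, 0, 5, 4, 8, 6]),
    ([3, 0, 4, 2, 6], [4, 8, 1, 3, 2, 0, 5, 7, 6]),
    ([4, 0, 6, 1, 2, 2, 3], [8, 5, 1, 2, 3, 4, 0, 7, 6]),
    ([4, 0, 2, 2, 6], [6, 8, 1, 3, 2, 5, 0, 7, 4]),
    ([4, 5, 2, 2, 6, 1, 3], [3, 5, 2, 6, 7, 8, 0, 1, 4]),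
    ([6, 2, 0, 6, 3], [0, 5, 8, 3, 1, 2, 6, 7, 4]),
    ([3, 4, 2, 1, 6, 5, 2, 1, 0, 0], [2, 5, 6, 7, 8, 0, 1, 3, 4]),
    ([2, 0, 4, 1, 5, 3], [7, 5, 1, 2, 0, 3, 4, 6, 8]),
    ([0, 1, 2, 3], [4, 5, 0, 1, 2, 3, 6, 7, 8]),
    ([1, 0, 4, 1], [6, 0, 1, 2, 4, 5, 3, 7, 8]),
    ([5, 3, 0, 4, 1, 5, 2], [0, 4, 7, 2, 3, 1, 5, 6, 8]),
    ([2, 2, 3, 0], [5, 2, 0, 3, 1, 4, 6, 7, 8]),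
    ([0, 1, 2, 3, 4, 5], [6, 7, 0, 1, 2, 3, 4, 5, 8]),
    ([0, 3, 6, 5, 1, 0, 4, 2], [6, 4, 7, 8, 0, 1, 3, 5, 2]),
    ([0, 6, 6, 5], [1, 7, 0, 3, 4, 5, 6, 8, 2]),
    ([0, 2, 6, 3, 0, 4], [0, 6, 8, 3, 1, 4, 5, 7, 2]),
    ([1, 4, 3, 5, 4, 0, 2, 6], [4, 8, 7, 0, 1, 3, 5, 6, 2]),
    ([0, 1, 6, 2, 0, 3], [0, 5, 8, 1, 3, 4, 6, 7, 2]),
    ([3, 4, 2, 0, 5, 6, 1, 2, 0], [5, 6, 3, 7, 8, 0, 1, 4, 2]),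
    ([3, 4, 4, 6], [1, 8, 2, 3, 4, 0, 5, 7, 6]),
    ([6, 5, 5, 4], [1, 6, 2, 3, 4, 5, 7, 8, 0]),
    ([4, 3, 6, 0, 1, 4, 5, 2, 0], [4, 5, 7, 8, 0, 1, 2, 3, 6]),
    ([0, 6, 2, 0, 3], [0, 5, 8, 3, 2, 4, 6, 7, 1]),
    ([5, 6, 2, 4, 3, 2, 0, 1], [2, 3, 5, 7, 6, 4, 8, 0, 1]),
    ([2, 3, 4, 5, 0, 6, 1, 0, 0], [6, 8, 3, 2, 0, 1, 4, 5, 7]),
    ([2, 0, 4, 1, 6, 3], [8, 5, 1, 2, 0, 3, 4, 7, 6]),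
    ([2, 4, 0, 6, 4, 1, 3, 5], [5, 7, 4, 8, 0, 1, 2, 3, 6]),
    ([3, 0, 5, 2, 4, 4, 6], [7, 8, 1, 3, 2, 0, 4, 5, 6]),
    ([3, 4, 6, 0, 2, 5, 0, 1], [6, 3, 4, 7, 8, 0, 1, 2, 5]),
    ([3, 2, 6, 5, 2, 1, 0, 4], [2, 6, 1, 7, 8, 0, 3, 4, 5]),
    ([3, 4, 1, 2, 6, 5, 2, 1], [6, 5, 2, 7, 8, 0, 1, 4, 3]),
    ([4, 5, 1, 2, 6, 0, 0], [2, 4, 8, 6, 7, 5, 0, 1, 3]),
    ([2, 1, 1, 0], [1, 2, 3, 4, 0, 5, 6, 7, 8]),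
    ([3, 2, 1, 3, 0], [0, 2, 3, 5, 1, 4, 6, 7, 8]),
    ([1, 3, 6, 0, 4, 2, 5, 4], [7, 8, 5, 0, 2, 1, 4, 6, 3]),
    ([6, 5, 4, 3, 2, 1, 0, 6], [2, 0, 4, 5, 6, 7, 8, 1, 3])]

def a1reps_20 : List (List ℕ × List ℕ) :=
  [([4, 0, 1, 5, 6, 2, 3], [4, 5, 1, 6, 7, 8, 0, 2, 3]),
    ([0, 1, 2, 6, 3, 4, 4, 0], [8, 0, 6, 1, 2, 4, 5, 7, 3]),
    ([4, 5, 1, 2, 6, 0], [8, 2, 4, 6, 7, 5, 0, 1, 3]),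
    ([1, 6, 2, 3, 3], [5, 8, 2, 0, 3, 4, 6, 7, 1]),
    ([1, 6, 3, 5, 2, 0, 1], [2, 0, 7, 4, 5, 3, 6, 8, 1]),
    ([0, 2, 3, 4, 5], [6, 7, 0, 3, 1, 2, 4, 5, 8]),
    ([1, 3, 2, 4, 1, 0], [0, 2, 6, 4, 3, 1, 5, 7, 8]),
    ([1, 2, 4, 6, 5, 0, 3, 3, 0], [7, 8, 5, 0, 1, 2, 3, 6, 4]),
    ([2, 0, 6, 1, 5, 2], [7, 0, 1, 2, 3, 5, 6, 8, 4]),
    ([3, 0, 2, 4, 6, 1, 2, 5, 1, 1], [6, 5, 1, 7, 8, 0, 2, 3, 4]),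
    ([0, 3, 4, 6, 1, 2, 5, 1, 1, 0], [4, 0, 6, 7, 8, 1, 2, 3, 5]),
    ([3, 6, 6, 2, 0, 5, 4, 1], [6, 3, 1, 7, 8, 0, 2, 4, 5]),
    ([3, 1, 6, 4, 0, 5, 2], [7, 4, 8, 1, 2, 0, 3, 6, 5]),
    ([1, 2, 0, 4, 3, 5, 6, 0, 0], [3, 7, 8, 0, 1, 2, 4, 6, 5]),
    ([2, 3, 0, 4, 1, 6, 3, 0], [1, 4, 8, 2, 0, 3, 5, 7, 6]),
    ([2, 3, 4, 5, 6, 0, 1, 1], [3, 8, 7, 2, 0, 1, 4, 5, 6]),
    ([0, 0, 4, 2, 6, 3], [8, 5, 1, 3, 0, 4, 2, 7, 6]),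
    ([3, 2, 4, 0, 6, 3, 0], [0, 4, 8, 3, 1, 2, 5, 7, 6]),
    ([3, 1, 4, 6, 5, 0, 2, 2, 0], [7, 8, 4, 1, 2, 0, 5, 6, 3]),
    ([6, 4], [8, 6, 2, 3, 4, 5, 1, 7, 0]),
    ([6, 3, 1, 5, 3, 0, 2, 4], [4, 6, 7, 8, 1, 3, 2, 5, 0]),
    ([6, 3, 2, 1, 5, 4, 1, 0], [5, 2, 6, 7, 8, 1, 3, 4, 0]),
    ([2, 4, 6], [6, 8, 2, 3, 0, 5, 1, 7, 4]),
    ([1, 5, 3, 6, 2, 5, 1], [1, 0, 2, 4, 5, 3, 6, 8, 7]),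
    ([4, 0, 5, 1, 6, 2, 3, 3], [5, 8, 1, 2, 3, 4, 0, 6, 7]),
    ([0, 1, 2, 6, 1, 5], [1, 7, 0, 4, 2, 5, 6, 8, 3]),
    ([1, 2, 6, 4, 0, 5, 3], [7, 5, 8, 0, 1, 2, 4, 6, 3]),
    ([0, 1, 2, 6, 3, 0, 4], [0, 6, 8, 1, 2, 4, 5, 7, 3]),
    ([6, 5, 4, 1, 3, 6, 1, 0], [7, 2, 0, 5, 4, 6, 8, 1, 3]),
    ([2, 0, 3, 6, 4], [8, 6, 1, 3, 0, 4, 5, 7, 2]),
    ([2, 3, 3, 4, 0, 5, 1, 6], [3, 8, 1, 2, 0, 4, 5, 6, 7]),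
    ([0, 3, 1, 5, 2, 6, 4], [8, 6, 0, 2, 3, 1, 4, 5, 7]),
    ([3, 1, 4, 3, 5, 0, 6, 2], [8, 4, 0, 1, 2, 3, 5, 6, 7]),
    ([2, 2, 4, 0, 5, 3, 6, 0], [8, 0, 5, 3, 1, 2, 4, 6, 7]),
    ([2, 0, 6, 1, 3, 3], [5, 8, 1, 2, 0, 3, 6, 7, 4]),
    ([5, 3, 4, 1, 2, 6, 3], [8, 1, 2, 5, 6, 4, 7, 0, 3]),
    ([6, 3, 0, 4, 1, 6, 2], [0, 4, 8, 2, 3, 1, 5, 7, 6]),
    ([0, 2, 2, 4, 1, 6, 3, 0], [5, 0, 8, 1, 2, 3, 4, 7, 6]),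
    ([3, 0, 2, 4, 1, 3, 0], [0, 1, 3, 4, 5, 6, 2, 7, 8]),
    ([6, 1, 5, 3, 4, 2, 1, 1], [1, 6, 2, 4, 5, 3, 7, 8, 0])]

def a1reps_21 : List (List ℕ × List ℕ) :=
  [([3, 4, 2, 1, 6, 5, 2, 1, 0], [6, 2, 5, 7, 8, 0, 1, 3, 4]),
    ([0, 5, 1, 6, 2, 5, 3, 0], [5, 0, 1, 2, 3, 4, 6, 8, 7]),
    ([5, 3, 6, 4, 5, 3], [0, 1, 2, 3, 4, 6, 5, 8, 7]),
    ([4, 0, 3, 1, 5, 2, 6, 3], [8, 6, 1, 2, 3, 4, 0, 5, 7]),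
    ([5, 1, 6, 3, 0, 4, 2, 5], [4, 0, 8, 1, 2, 3, 5, 6, 7]),
    ([3, 0, 4, 2, 6, 0], [8, 1, 4, 3, 2, 0, 5, 7, 6]),
    ([2, 3, 5, 6, 1, 2, 4, 0], [6, 2, 0, 7, 8, 1, 3, 4, 5]),
    ([4, 5, 2, 3, 0, 1, 6, 4], [8, 0, 4, 5, 6, 7, 3, 1, 2]),
    ([6, 3, 1, 5, 4, 0, 2, 2, 0], [6, 7, 4, 8, 2, 1, 3, 5, 0]),
    ([5, 4, 6, 5], [8, 0, 2, 3, 4, 5, 1, 6, 7]),
    ([5, 1, 3, 6, 1, 4, 0, 2], [2, 4, 1, 5, 6, 7, 8, 0, 3]),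
    ([5, 0, 4, 6, 3, 1, 1, 2], [8, 4, 1, 5, 3, 6, 7, 0, 2]),
    ([0, 6, 2, 5, 6, 0], [1, 0, 7, 3, 2, 5, 6, 8, 4]),
    ([3, 5, 4, 6, 5, 0, 1, 2], [3, 4, 8, 1, 2, 0, 5, 6, 7]),
    ([6, 0, 5, 1, 3, 2, 4, 3, 0], [7, 1, 6, 2, 3, 4, 5, 8, 0]),
    ([1, 5, 6, 3, 4, 2, 3, 1], [7, 0, 2, 4, 5, 6, 8, 1, 3]),
    ([5, 1, 4, 6, 3, 4, 1], [7, 1, 2, 5, 4, 6, 8, 0, 3]),
    ([3, 4, 1, 0, 6, 5, 2, 1, 0], [5, 6, 4, 7, 8, 0, 1, 2, 3]),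
    ([6, 2, 5, 3, 4, 4, 0], [7, 2, 6, 3, 1, 4, 5, 8, 0]),
    ([1, 2, 4, 5, 0, 6, 3, 0, 0], [6, 8, 5, 0, 1, 2, 3, 4, 7]),
    ([6, 2, 5, 4, 3, 3, 2], [7, 1, 2, 3, 5, 6, 4, 8, 0]),
    ([5, 2, 0, 4, 3, 5], [5, 0, 7, 3, 1, 2, 4, 6, 8]),
    ([1, 1, 3, 0, 4, 2, 5, 0], [7, 0, 4, 1, 2, 3, 5, 6, 8]),
    ([2, 0, 3, 4, 5], [6, 7, 1, 3, 0, 4, 2, 5, 8]),
    ([6, 4, 1, 1, 5, 3, 2], [5, 4, 2, 6, 7, 8, 1, 3, 0]),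
    ([0, 0], [2, 0, 1, 3, 4, 5, 6, 7, 8]),
    ([0, 5, 6, 3, 4, 1, 2, 0], [4, 0, 3, 5, 6, 7, 8, 1, 2]),
    ([1, 2, 3, 4, 0, 5, 6, 0], [8, 5, 7, 0, 1, 3, 4, 6, 2]),
    ([3, 1, 0, 4, 2, 6, 5, 0, 0], [5, 8, 7, 1, 2, 0, 3, 4, 6]),
    ([3, 0, 4, 2, 6, 1, 5, 3, 0], [0, 1, 7, 4, 2, 3, 5, 8, 6]),
    ([3, 0, 5, 1, 4, 2, 6, 3, 0], [0, 1, 8, 2, 3, 4, 7, 5, 6]),
    ([3, 0, 4, 3, 6], [0, 8, 1, 3, 4, 2, 5, 7, 6]),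
    ([4, 0, 5, 3, 6, 4], [8, 0, 1, 3, 4, 2, 5, 6, 7]),
    ([4, 1, 5, 3, 0, 4, 2], [0, 4, 7, 1, 2, 3, 5, 6, 8]),
    ([0, 1, 2, 3, 4, 0], [6, 0, 5, 1, 2, 3, 4, 7, 8]),
    ([5, 6, 3, 4, 1, 2, 4, 0], [8, 2, 4, 5, 6, 7, 3, 0, 1]),
    ([1, 6, 4, 0, 5, 2, 3, 3], [5, 7, 8, 0, 2, 4, 3, 6, 1]),
    ([4, 0, 2, 1, 3, 2, 5], [6, 7, 1, 2, 3, 4, 0, 5, 8]),
    ([0, 4, 6, 1, 3, 5, 2, 2], [4, 5, 0, 6, 7, 8, 1, 3, 2]),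
    ([3, 0, 6, 1, 5, 2, 4, 3], [6, 0, 1, 2, 3, 4, 7, 8, 5])]

def a1reps_22 : List (List ℕ × List ℕ) :=
  [([2, 3, 5, 6, 1, 0, 4, 1], [6, 7, 8, 2, 0, 1, 3, 4, 5]),
    ([0, 3, 4, 6, 1, 2, 5, 1, 1], [6, 4, 0, 7, 8, 1, 2, 3, 5]),
    ([0, 1, 6, 3, 5, 2, 1, 1], [1, 7, 0, 4, 5, 3, 6, 8, 2]),
    ([4, 1, 0, 3, 6, 4], [8, 0, 6, 1, 4, 3, 5, 7, 2]),
    ([4, 5, 2, 3, 0, 1, 6, 0], [8, 4, 3, 5, 6, 7, 0, 1, 2]),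
    ([4, 0, 2, 1, 3, 2, 6], [6, 8, 1, 2, 3, 4, 0, 7, 5]),
    ([0, 4, 2, 3, 3, 6], [6, 8, 0, 3, 2, 4, 1, 7, 5]),
    ([0, 1, 3, 6, 0], [8, 0, 5, 1, 4, 2, 6, 7, 3]),
    ([6, 2, 3, 3, 0], [8, 2, 5, 3, 1, 4, 6, 7, 0]),
    ([0, 2, 1, 3, 4, 5, 6], [7, 8, 0, 2, 1, 4, 3, 5, 6]),
    ([0, 1, 2, 3, 4, 5, 6], [7, 8, 0, 1, 2, 3, 4, 5, 6]),
    ([0, 1, 4, 2, 5, 3, 6], [5, 8, 0, 1, 3, 4, 2, 6, 7]),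
    ([1, 3, 4, 0, 5, 1, 6, 2, 0], [4, 5, 8, 2, 0, 1, 3, 6, 7]),
    ([0, 1, 6, 2, 3, 3, 4], [8, 6, 0, 1, 3, 4, 5, 7, 2]),
    ([1, 0, 3, 1, 5, 2, 6, 4], [8, 6, 1, 2, 0, 3, 4, 5, 7]),
    ([4, 3, 0, 1, 6, 5, 2, 1], [4, 5, 6, 7, 8, 1, 0, 3, 2]),
    ([2, 3, 4, 5, 6, 0, 0, 1], [7, 3, 8, 2, 0, 1, 4, 5, 6]),
    ([6, 2, 0, 3, 1, 4, 2], [6, 1, 8, 2, 3, 4, 5, 7, 0]),
    ([6, 0, 5, 2, 4, 4], [6, 7, 1, 3, 2, 5, 4, 8, 0]),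
    ([3, 6, 2, 5, 1, 4, 0, 3], [2, 0, 3, 4, 5, 6, 7, 8, 1]),
    ([1, 6, 2, 0, 3, 1, 4], [0, 6, 8, 2, 3, 4, 5, 7, 1]),
    ([3, 2, 6, 5, 2, 1, 4, 0], [6, 2, 3, 7, 8, 0, 1, 4, 5]),
    ([2, 1, 5, 3, 0, 6, 4, 0], [6, 7, 8, 1, 0, 3, 2, 4, 5]),
    ([3, 0, 6, 2, 4, 4, 0], [8, 1, 6, 3, 2, 0, 4, 7, 5]),
    ([4, 6, 1, 3, 5, 0, 2, 4, 0], [0, 5, 4, 6, 7, 8, 2, 3, 1]),
    ([6, 2, 5, 3, 1, 1, 0], [7, 2, 3, 5, 1, 4, 6, 8, 0]),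
    ([2, 3, 0, 4, 1, 5, 6], [7, 8, 4, 2, 0, 1, 5, 6, 3]),
    ([6, 1, 5, 3, 2, 2, 1], [7, 1, 2, 4, 5, 3, 6, 8, 0]),
    ([2, 6, 4, 0, 0, 3, 1, 5], [3, 7, 6, 8, 0, 2, 4, 5, 1]),
    ([2, 3, 6, 1, 0, 4, 1, 5], [5, 7, 8, 2, 0, 1, 3, 6, 4]),
    ([0, 1, 2, 3, 6], [5, 8, 0, 1, 2, 3, 6, 7, 4]),
    ([2, 0, 6, 3, 1, 5, 4, 0], [6, 1, 7, 8, 0, 2, 3, 5, 4]),
    ([3, 0, 2, 2, 6], [5, 8, 1, 3, 2, 0, 6, 7, 4]),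
    ([6, 0, 5, 6], [7, 0, 1, 3, 4, 5, 6, 8, 2]),
    ([3, 4, 4, 5, 0], [7, 2, 1, 3, 4, 0, 5, 6, 8]),
    ([0, 3, 1, 4, 2, 6, 0], [8, 0, 4, 2, 3, 1, 5, 7, 6]),
    ([4, 6, 3, 5, 6], [7, 1, 2, 3, 4, 6, 0, 8, 5]),
    ([5, 4, 2, 1, 6, 0, 3, 5], [5, 0, 3, 6, 7, 8, 1, 2, 4]),
    ([4, 2, 1, 6, 5, 3, 2], [5, 1, 2, 6, 7, 8, 0, 3, 4]),
    ([3, 6], [5, 8, 2, 3, 4, 0, 6, 7, 1])]

def a1reps_23 : List (List ℕ × List ℕ) :=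
  [([0, 1, 2, 3, 4, 6, 0], [8, 0, 6, 1, 2, 3, 4, 7, 5]),
    ([0, 4, 5, 2, 3, 1, 1, 6], [4, 8, 0, 5, 6, 7, 1, 2, 3]),
    ([2, 1, 0, 3, 6, 4, 0, 5], [4, 7, 8, 1, 0, 3, 5, 6, 2]),
    ([3, 3, 4, 1, 5, 2, 6, 1], [8, 0, 2, 4, 3, 1, 5, 6, 7]),
    ([1, 2, 0, 4, 3, 5, 6], [7, 8, 3, 0, 1, 2, 4, 6, 5]),
    ([5, 1, 6, 2, 5, 3, 0, 4, 1], [6, 1, 0, 2, 3, 4, 5, 8, 7]),
    ([0, 5, 6, 3, 4, 2, 3, 1], [7, 3, 0, 4, 5, 6, 8, 1, 2]),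
    ([1, 2, 4, 5, 0, 6, 3, 0], [5, 6, 8, 0, 1, 2, 3, 4, 7]),
    ([4, 0, 6, 3, 5, 4, 0], [0, 1, 7, 3, 4, 2, 5, 8, 6]),
    ([2, 0, 6, 1, 5, 0], [7, 1, 3, 2, 0, 5, 6, 8, 4]),
    ([1, 4, 3, 6, 2, 0, 5, 2], [7, 5, 8, 0, 2, 3, 1, 4, 6]),
    ([4, 0, 3, 1, 6, 2, 5, 4], [7, 0, 1, 2, 3, 6, 4, 8, 5]),
    ([2, 0, 6, 1, 5, 2, 4], [0, 6, 1, 2, 3, 5, 7, 8, 4]),
    ([2, 0, 4, 1, 5, 3, 6, 0], [8, 1, 5, 2, 0, 3, 4, 6, 7]),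
    ([3, 1, 6, 5, 2, 0, 0, 4, 1], [6, 1, 4, 7, 8, 0, 2, 3, 5]),
    ([1, 2, 6, 1, 5], [0, 7, 2, 4, 1, 5, 6, 8, 3]),
    ([6, 0, 4, 5, 2, 3, 0, 1], [1, 3, 4, 5, 6, 7, 8, 2, 0]),
    ([0, 4, 2, 3, 3, 5], [6, 7, 0, 3, 2, 4, 1, 5, 8]),
    ([3, 1, 4, 6, 5, 0, 0, 2], [8, 4, 7, 1, 2, 0, 5, 6, 3]),
    ([0, 6, 4], [8, 6, 0, 3, 4, 5, 2, 7, 1]),
    ([1, 3, 2, 4, 1], [6, 0, 2, 4, 3, 1, 5, 7, 8])]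

def a1reps : List (List ℕ × List ℕ) :=
  a1reps_0 ++ a1reps_1 ++ a1reps_2 ++ a1reps_3 ++ a1reps_4 ++ a1reps_5 ++ a1reps_6 ++ a1reps_7 ++ a1reps_8 ++ a1reps_9 ++ a1reps_10 ++ a1reps_11 ++ a1reps_12 ++ a1reps_13 ++ a1reps_14 ++ a1reps_15 ++ a1reps_16 ++ a1reps_17 ++ a1reps_18 ++ a1reps_19 ++ a1reps_20 ++ a1reps_21 ++ a1reps_22 ++ a1reps_23

def a1stab_0 : List (List ℕ × List ℕ) :=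
  [([], [0, 1, 2, 3, 4, 5, 6, 7, 8]),
    ([3, 5, 0, 1, 4, 2, 1, 5, 4, 0, 1, 2, 3, 1, 0, 2, 3, 0, 1, 5, 4, 1, 0, 2, 3, 0, 1, 5, 4, 1, 0, 3, 5, 0, 1, 4, 2, 1, 3, 5, 0, 1, 4, 2, 1], [0, 2, 1, 3, 4, 6, 5, 7, 8]),
    ([2, 3, 0, 1, 5, 4, 1, 0, 2, 3, 0, 1, 5, 4, 1, 0, 3, 5, 0, 1, 4, 2, 1, 3, 5, 0, 1, 4, 2, 1, 2, 3, 0, 1, 5, 4, 1, 0, 3, 5, 0, 1, 4, 2, 1, 3, 5, 0, 1, 4, 2, 1], [6, 7, 5, 4, 3, 2, 0, 1, 8]),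
    ([5, 4, 0, 1, 2, 3, 1, 0, 2, 3, 0, 1, 5, 4, 1, 0, 2, 3, 0, 1, 5, 4, 1, 0, 3, 5, 0, 1, 4, 2, 1, 5, 4, 0, 1, 2, 3, 1, 0], [4, 6, 7, 5, 2, 0, 1, 3, 8]),
    ([3, 5, 0, 1, 4, 2, 1, 3, 5, 0, 1, 4, 2, 1, 3, 5, 0, 1, 4, 2, 1, 3, 5, 0, 1, 4, 2, 1, 5, 4, 0, 1, 2, 3, 1, 0, 3, 5, 0, 1, 4, 2, 1, 3, 5, 0, 1, 4, 2, 1], [5, 7, 4, 6, 1, 3, 0, 2, 8]),
    ([5, 4, 0, 1, 2, 3, 1, 0, 2, 3, 0, 1, 5, 4, 1, 0, 3, 5, 0, 1, 4, 2, 1, 5, 4, 0, 1, 2, 3, 1, 0, 2, 3, 0, 1, 5, 4, 1, 0], [4, 7, 5, 6, 1, 2, 0, 3, 8]),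
    ([3, 5, 0, 1, 4, 2, 1, 5, 4, 0, 1, 2, 3, 1, 0, 3, 5, 0, 1, 4, 2, 1, 3, 5, 0, 1, 4, 2, 1, 3, 5, 0, 1, 4, 2, 1], [7, 4, 5, 6, 0, 3, 2, 1, 8]),
    ([2, 3, 0, 1, 5, 4, 1, 0, 3, 5, 0, 1, 4, 2, 1, 3, 5, 0, 1, 4, 2, 1], [7, 4, 5, 6, 3, 0, 1, 2, 8]),
    ([5, 4, 0, 1, 2, 3, 1, 0, 3, 5, 0, 1, 4, 2, 1, 2, 3, 0, 1, 5, 4, 1, 0, 2, 3, 0, 1, 5, 4, 1, 0, 3, 5, 0, 1, 4, 2, 1, 3, 5, 0, 1, 4, 2, 1], [3, 2, 0, 1, 7, 6, 4, 5, 8]),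
    ([3, 5, 0, 1, 4, 2, 1, 2, 3, 0, 1, 5, 4, 1, 0, 3, 5, 0, 1, 4, 2, 1, 3, 5, 0, 1, 4, 2, 1, 3, 5, 0, 1, 4, 2, 1, 3, 5, 0, 1, 4, 2, 1], [2, 3, 1, 0, 7, 6, 4, 5, 8]),
    ([2, 3, 0, 1, 5, 4, 1, 0, 3, 5, 0, 1, 4, 2, 1, 3, 5, 0, 1, 4, 2, 1, 2, 3, 0, 1, 5, 4, 1, 0, 2, 3, 0, 1, 5, 4, 1, 0], [4, 7, 6, 5, 0, 3, 2, 1, 8]),
    ([5, 4, 0, 1, 2, 3, 1, 0, 2, 3, 0, 1, 5, 4, 1, 0, 3, 5, 0, 1, 4, 2, 1, 5, 4, 0, 1, 2, 3, 1, 0, 3, 5, 0, 1, 4, 2, 1], [7, 6, 4, 5, 0, 1, 3, 2, 8]),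
    ([3, 5, 0, 1, 4, 2, 1, 5, 4, 0, 1, 2, 3, 1, 0, 3, 5, 0, 1, 4, 2, 1, 3, 5, 0, 1, 4, 2, 1, 3, 5, 0, 1, 4, 2, 1, 3, 5, 0, 1, 4, 2, 1], [0, 1, 3, 2, 6, 7, 5, 4, 8]),
    ([2, 3, 0, 1, 5, 4, 1, 0, 3, 5, 0, 1, 4, 2, 1, 3, 5, 0, 1, 4, 2, 1, 5, 4, 0, 1, 2, 3, 1, 0, 2, 3, 0, 1, 5, 4, 1, 0, 2, 3, 0, 1, 5, 4, 1, 0, 3, 5, 0, 1, 4, 2, 1], [6, 4, 5, 7, 0, 2, 3, 1, 8]),
    ([2, 3, 0, 1, 5, 4, 1, 0, 2, 3, 0, 1, 5, 4, 1, 0, 3, 5, 0, 1, 4, 2, 1, 2, 3, 0, 1, 5, 4, 1, 0], [1, 2, 3, 0, 5, 6, 7, 4, 8]),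
    ([5, 4, 0, 1, 2, 3, 1, 0, 2, 3, 0, 1, 5, 4, 1, 0, 3, 5, 0, 1, 4, 2, 1, 3, 5, 0, 1, 4, 2, 1, 2, 3, 0, 1, 5, 4, 1, 0], [6, 4, 7, 5, 0, 2, 1, 3, 8]),
    ([3, 5, 0, 1, 4, 2, 1, 3, 5, 0, 1, 4, 2, 1, 2, 3, 0, 1, 5, 4, 1, 0, 3, 5, 0, 1, 4, 2, 1, 3, 5, 0, 1, 4, 2, 1, 2, 3, 0, 1, 5, 4, 1, 0], [3, 2, 1, 0, 7, 6, 5, 4, 8]),
    ([3, 5, 0, 1, 4, 2, 1, 3, 5, 0, 1, 4, 2, 1, 3, 5, 0, 1, 4, 2, 1, 3, 5, 0, 1, 4, 2, 1, 5, 4, 0, 1, 2, 3, 1, 0], [4, 7, 6, 5, 3, 0, 1, 2, 8]),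
    ([5, 4, 0, 1, 2, 3, 1, 0, 2, 3, 0, 1, 5, 4, 1, 0, 2, 3, 0, 1, 5, 4, 1, 0], [7, 6, 4, 5, 3, 2, 0, 1, 8]),
    ([5, 4, 0, 1, 2, 3, 1, 0, 2, 3, 0, 1, 5, 4, 1, 0, 3, 5, 0, 1, 4, 2, 1, 3, 5, 0, 1, 4, 2, 1, 3, 5, 0, 1, 4, 2, 1], [4, 5, 6, 7, 1, 0, 3, 2, 8]),
    ([3, 5, 0, 1, 4, 2, 1, 3, 5, 0, 1, 4, 2, 1, 2, 3, 0, 1, 5, 4, 1, 0], [4, 6, 5, 7, 3, 1, 2, 0, 8]),
    ([2, 3, 0, 1, 5, 4, 1, 0, 3, 5, 0, 1, 4, 2, 1, 3, 5, 0, 1, 4, 2, 1, 2, 3, 0, 1, 5, 4, 1, 0], [0, 3, 1, 2, 7, 4, 6, 5, 8]),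
    ([5, 4, 0, 1, 2, 3, 1, 0, 3, 5, 0, 1, 4, 2, 1, 5, 4, 0, 1, 2, 3, 1, 0, 3, 5, 0, 1, 4, 2, 1], [3, 2, 1, 0, 4, 5, 6, 7, 8]),
    ([2, 3, 0, 1, 5, 4, 1, 0, 3, 5, 0, 1, 4, 2, 1, 2, 3, 0, 1, 5, 4, 1, 0, 2, 3, 0, 1, 5, 4, 1, 0, 3, 5, 0, 1, 4, 2, 1], [5, 6, 7, 4, 1, 2, 3, 0, 8]),
    ([5, 4, 0, 1, 2, 3, 1, 0, 2, 3, 0, 1, 5, 4, 1, 0, 2, 3, 0, 1, 5, 4, 1, 0, 3, 5, 0, 1, 4, 2, 1, 3, 5, 0, 1, 4, 2, 1, 2, 3, 0, 1, 5, 4, 1, 0], [3, 0, 2, 1, 5, 6, 4, 7, 8]),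
    ([3, 5, 0, 1, 4, 2, 1, 5, 4, 0, 1, 2, 3, 1, 0, 3, 5, 0, 1, 4, 2, 1, 2, 3, 0, 1, 5, 4, 1, 0], [2, 3, 0, 1, 5, 4, 7, 6, 8]),
    ([3, 5, 0, 1, 4, 2, 1, 3, 5, 0, 1, 4, 2, 1], [3, 1, 0, 2, 6, 4, 5, 7, 8]),
    ([3, 5, 0, 1, 4, 2, 1, 5, 4, 0, 1, 2, 3, 1, 0, 2, 3, 0, 1, 5, 4, 1, 0, 3, 5, 0, 1, 4, 2, 1, 5, 4, 0, 1, 2, 3, 1, 0, 3, 5, 0, 1, 4, 2, 1], [1, 2, 3, 0, 4, 7, 6, 5, 8]),
    ([3, 5, 0, 1, 4, 2, 1, 5, 4, 0, 1, 2, 3, 1, 0, 3, 5, 0, 1, 4, 2, 1, 3, 5, 0, 1, 4, 2, 1], [3, 1, 2, 0, 7, 5, 6, 4, 8]),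
    ([5, 4, 0, 1, 2, 3, 1, 0, 2, 3, 0, 1, 5, 4, 1, 0, 3, 5, 0, 1, 4, 2, 1, 3, 5, 0, 1, 4, 2, 1, 5, 4, 0, 1, 2, 3, 1, 0], [7, 5, 6, 4, 3, 1, 2, 0, 8]),
    ([3, 5, 0, 1, 4, 2, 1, 5, 4, 0, 1, 2, 3, 1, 0, 2, 3, 0, 1, 5, 4, 1, 0, 3, 5, 0, 1, 4, 2, 1, 5, 4, 0, 1, 2, 3, 1, 0, 3, 5, 0, 1, 4, 2, 1, 3, 5, 0, 1, 4, 2, 1], [4, 5, 7, 6, 0, 1, 3, 2, 8]),
    ([3, 5, 0, 1, 4, 2, 1, 3, 5, 0, 1, 4, 2, 1, 2, 3, 0, 1, 5, 4, 1, 0, 3, 5, 0, 1, 4, 2, 1, 3, 5, 0, 1, 4, 2, 1], [7, 6, 4, 5, 2, 3, 1, 0, 8]),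
    ([3, 5, 0, 1, 4, 2, 1, 2, 3, 0, 1, 5, 4, 1, 0, 2, 3, 0, 1, 5, 4, 1, 0, 3, 5, 0, 1, 4, 2, 1, 5, 4, 0, 1, 2, 3, 1, 0, 3, 5, 0, 1, 4, 2, 1, 3, 5, 0, 1, 4, 2, 1], [5, 4, 6, 7, 2, 3, 1, 0, 8]),
    ([3, 5, 0, 1, 4, 2, 1, 5, 4, 0, 1, 2, 3, 1, 0, 2, 3, 0, 1, 5, 4, 1, 0, 3, 5, 0, 1, 4, 2, 1, 3, 5, 0, 1, 4, 2, 1, 3, 5, 0, 1, 4, 2, 1], [3, 0, 2, 1, 7, 4, 6, 5, 8]),
    ([3, 5, 0, 1, 4, 2, 1, 2, 3, 0, 1, 5, 4, 1, 0, 3, 5, 0, 1, 4, 2, 1, 3, 5, 0, 1, 4, 2, 1, 5, 4, 0, 1, 2, 3, 1, 0], [7, 5, 4, 6, 0, 2, 3, 1, 8]),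
    ([3, 5, 0, 1, 4, 2, 1, 3, 5, 0, 1, 4, 2, 1, 3, 5, 0, 1, 4, 2, 1], [6, 7, 4, 5, 2, 3, 0, 1, 8]),
    ([3, 5, 0, 1, 4, 2, 1, 2, 3, 0, 1, 5, 4, 1, 0, 2, 3, 0, 1, 5, 4, 1, 0], [7, 4, 6, 5, 0, 3, 1, 2, 8]),
    ([3, 5, 0, 1, 4, 2, 1, 5, 4, 0, 1, 2, 3, 1, 0, 2, 3, 0, 1, 5, 4, 1, 0, 3, 5, 0, 1, 4, 2, 1], [2, 0, 1, 3, 4, 6, 7, 5, 8]),
    ([5, 4, 0, 1, 2, 3, 1, 0, 3, 5, 0, 1, 4, 2, 1, 3, 5, 0, 1, 4, 2, 1, 2, 3, 0, 1, 5, 4, 1, 0], [2, 1, 3, 0, 4, 7, 5, 6, 8]),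
    ([3, 5, 0, 1, 4, 2, 1, 3, 5, 0, 1, 4, 2, 1, 5, 4, 0, 1, 2, 3, 1, 0, 3, 5, 0, 1, 4, 2, 1, 3, 5, 0, 1, 4, 2, 1, 3, 5, 0, 1, 4, 2, 1, 3, 5, 0, 1, 4, 2, 1], [4, 7, 6, 5, 2, 1, 0, 3, 8])]

def a1stab_1 : List (List ℕ × List ℕ) :=
  [([2, 3, 0, 1, 5, 4, 1, 0, 2, 3, 0, 1, 5, 4, 1, 0, 3, 5, 0, 1, 4, 2, 1, 3, 5, 0, 1, 4, 2, 1, 5, 4, 0, 1, 2, 3, 1, 0], [4, 6, 5, 7, 1, 3, 0, 2, 8]),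
    ([5, 4, 0, 1, 2, 3, 1, 0, 3, 5, 0, 1, 4, 2, 1, 3, 5, 0, 1, 4, 2, 1, 5, 4, 0, 1, 2, 3, 1, 0, 2, 3, 0, 1, 5, 4, 1, 0, 2, 3, 0, 1, 5, 4, 1, 0, 3, 5, 0, 1, 4, 2, 1, 3, 5, 0, 1, 4, 2, 1], [2, 3, 0, 1, 4, 5, 6, 7, 8]),
    ([3, 5, 0, 1, 4, 2, 1, 2, 3, 0, 1, 5, 4, 1, 0, 2, 3, 0, 1, 5, 4, 1, 0, 3, 5, 0, 1, 4, 2, 1, 2, 3, 0, 1, 5, 4, 1, 0], [7, 5, 6, 4, 0, 2, 1, 3, 8]),
    ([2, 3, 0, 1, 5, 4, 1, 0, 3, 5, 0, 1, 4, 2, 1, 5, 4, 0, 1, 2, 3, 1, 0], [6, 4, 5, 7, 1, 3, 2, 0, 8]),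
    ([5, 4, 0, 1, 2, 3, 1, 0, 2, 3, 0, 1, 5, 4, 1, 0, 3, 5, 0, 1, 4, 2, 1, 5, 4, 0, 1, 2, 3, 1, 0, 3, 5, 0, 1, 4, 2, 1, 3, 5, 0, 1, 4, 2, 1], [0, 2, 1, 3, 5, 7, 4, 6, 8]),
    ([3, 5, 0, 1, 4, 2, 1, 3, 5, 0, 1, 4, 2, 1, 5, 4, 0, 1, 2, 3, 1, 0, 3, 5, 0, 1, 4, 2, 1, 3, 5, 0, 1, 4, 2, 1], [6, 7, 5, 4, 1, 0, 2, 3, 8]),
    ([5, 4, 0, 1, 2, 3, 1, 0, 3, 5, 0, 1, 4, 2, 1, 2, 3, 0, 1, 5, 4, 1, 0, 3, 5, 0, 1, 4, 2, 1, 3, 5, 0, 1, 4, 2, 1], [7, 4, 6, 5, 1, 2, 0, 3, 8]),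
    ([5, 4, 0, 1, 2, 3, 1, 0, 2, 3, 0, 1, 5, 4, 1, 0, 2, 3, 0, 1, 5, 4, 1, 0, 3, 5, 0, 1, 4, 2, 1], [3, 1, 2, 0, 5, 7, 4, 6, 8]),
    ([5, 4, 0, 1, 2, 3, 1, 0, 2, 3, 0, 1, 5, 4, 1, 0], [3, 2, 1, 0, 6, 7, 4, 5, 8]),
    ([2, 3, 0, 1, 5, 4, 1, 0, 2, 3, 0, 1, 5, 4, 1, 0, 3, 5, 0, 1, 4, 2, 1, 3, 5, 0, 1, 4, 2, 1, 2, 3, 0, 1, 5, 4, 1, 0, 3, 5, 0, 1, 4, 2, 1], [2, 1, 0, 3, 6, 5, 4, 7, 8]),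
    ([3, 5, 0, 1, 4, 2, 1, 3, 5, 0, 1, 4, 2, 1, 5, 4, 0, 1, 2, 3, 1, 0, 3, 5, 0, 1, 4, 2, 1, 5, 4, 0, 1, 2, 3, 1, 0, 3, 5, 0, 1, 4, 2, 1, 3, 5, 0, 1, 4, 2, 1], [6, 7, 4, 5, 3, 2, 1, 0, 8]),
    ([3, 5, 0, 1, 4, 2, 1, 5, 4, 0, 1, 2, 3, 1, 0, 2, 3, 0, 1, 5, 4, 1, 0, 3, 5, 0, 1, 4, 2, 1, 2, 3, 0, 1, 5, 4, 1, 0], [6, 4, 7, 5, 2, 0, 3, 1, 8]),
    ([3, 5, 0, 1, 4, 2, 1, 2, 3, 0, 1, 5, 4, 1, 0, 3, 5, 0, 1, 4, 2, 1, 3, 5, 0, 1, 4, 2, 1, 2, 3, 0, 1, 5, 4, 1, 0], [4, 6, 7, 5, 1, 3, 2, 0, 8]),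
    ([3, 5, 0, 1, 4, 2, 1, 5, 4, 0, 1, 2, 3, 1, 0, 2, 3, 0, 1, 5, 4, 1, 0, 3, 5, 0, 1, 4, 2, 1, 3, 5, 0, 1, 4, 2, 1, 5, 4, 0, 1, 2, 3, 1, 0], [1, 0, 2, 3, 6, 7, 5, 4, 8]),
    ([3, 5, 0, 1, 4, 2, 1, 2, 3, 0, 1, 5, 4, 1, 0, 3, 5, 0, 1, 4, 2, 1, 3, 5, 0, 1, 4, 2, 1, 3, 5, 0, 1, 4, 2, 1], [6, 5, 4, 7, 2, 1, 0, 3, 8]),
    ([2, 3, 0, 1, 5, 4, 1, 0, 3, 5, 0, 1, 4, 2, 1, 3, 5, 0, 1, 4, 2, 1, 5, 4, 0, 1, 2, 3, 1, 0, 2, 3, 0, 1, 5, 4, 1, 0, 2, 3, 0, 1, 5, 4, 1, 0], [2, 1, 3, 0, 6, 5, 7, 4, 8]),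
    ([5, 4, 0, 1, 2, 3, 1, 0, 3, 5, 0, 1, 4, 2, 1, 3, 5, 0, 1, 4, 2, 1, 2, 3, 0, 1, 5, 4, 1, 0, 2, 3, 0, 1, 5, 4, 1, 0], [7, 4, 5, 6, 2, 1, 0, 3, 8]),
    ([3, 5, 0, 1, 4, 2, 1, 2, 3, 0, 1, 5, 4, 1, 0, 2, 3, 0, 1, 5, 4, 1, 0, 3, 5, 0, 1, 4, 2, 1, 5, 4, 0, 1, 2, 3, 1, 0, 3, 5, 0, 1, 4, 2, 1], [3, 0, 1, 2, 5, 6, 7, 4, 8]),
    ([2, 3, 0, 1, 5, 4, 1, 0, 3, 5, 0, 1, 4, 2, 1, 3, 5, 0, 1, 4, 2, 1, 2, 3, 0, 1, 5, 4, 1, 0, 3, 5, 0, 1, 4, 2, 1, 3, 5, 0, 1, 4, 2, 1], [2, 3, 0, 1, 6, 7, 4, 5, 8]),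
    ([3, 5, 0, 1, 4, 2, 1, 5, 4, 0, 1, 2, 3, 1, 0, 3, 5, 0, 1, 4, 2, 1, 5, 4, 0, 1, 2, 3, 1, 0], [0, 1, 2, 3, 6, 7, 4, 5, 8]),
    ([3, 5, 0, 1, 4, 2, 1, 2, 3, 0, 1, 5, 4, 1, 0, 2, 3, 0, 1, 5, 4, 1, 0, 3, 5, 0, 1, 4, 2, 1, 5, 4, 0, 1, 2, 3, 1, 0], [6, 4, 7, 5, 3, 1, 2, 0, 8]),
    ([3, 5, 0, 1, 4, 2, 1, 5, 4, 0, 1, 2, 3, 1, 0, 3, 5, 0, 1, 4, 2, 1, 2, 3, 0, 1, 5, 4, 1, 0, 3, 5, 0, 1, 4, 2, 1, 3, 5, 0, 1, 4, 2, 1, 3, 5, 0, 1, 4, 2, 1], [7, 6, 5, 4, 0, 1, 2, 3, 8]),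
    ([2, 3, 0, 1, 5, 4, 1, 0, 3, 5, 0, 1, 4, 2, 1, 5, 4, 0, 1, 2, 3, 1, 0, 2, 3, 0, 1, 5, 4, 1, 0, 3, 5, 0, 1, 4, 2, 1, 3, 5, 0, 1, 4, 2, 1], [0, 1, 3, 2, 7, 6, 4, 5, 8]),
    ([5, 4, 0, 1, 2, 3, 1, 0, 2, 3, 0, 1, 5, 4, 1, 0, 2, 3, 0, 1, 5, 4, 1, 0, 3, 5, 0, 1, 4, 2, 1, 2, 3, 0, 1, 5, 4, 1, 0, 2, 3, 0, 1, 5, 4, 1, 0], [1, 3, 0, 2, 7, 5, 6, 4, 8]),
    ([5, 4, 0, 1, 2, 3, 1, 0, 3, 5, 0, 1, 4, 2, 1, 5, 4, 0, 1, 2, 3, 1, 0, 3, 5, 0, 1, 4, 2, 1, 3, 5, 0, 1, 4, 2, 1, 3, 5, 0, 1, 4, 2, 1, 3, 5, 0, 1, 4, 2, 1], [6, 7, 4, 5, 1, 0, 3, 2, 8]),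
    ([2, 3, 0, 1, 5, 4, 1, 0, 2, 3, 0, 1, 5, 4, 1, 0, 3, 5, 0, 1, 4, 2, 1, 5, 4, 0, 1, 2, 3, 1, 0, 2, 3, 0, 1, 5, 4, 1, 0], [7, 4, 6, 5, 3, 0, 2, 1, 8]),
    ([2, 3, 0, 1, 5, 4, 1, 0, 3, 5, 0, 1, 4, 2, 1, 2, 3, 0, 1, 5, 4, 1, 0, 2, 3, 0, 1, 5, 4, 1, 0, 3, 5, 0, 1, 4, 2, 1, 3, 5, 0, 1, 4, 2, 1], [1, 0, 2, 3, 4, 5, 7, 6, 8]),
    ([5, 4, 0, 1, 2, 3, 1, 0, 3, 5, 0, 1, 4, 2, 1, 3, 5, 0, 1, 4, 2, 1, 5, 4, 0, 1, 2, 3, 1, 0, 2, 3, 0, 1, 5, 4, 1, 0, 2, 3, 0, 1, 5, 4, 1, 0, 3, 5, 0, 1, 4, 2, 1], [5, 7, 6, 4, 2, 0, 1, 3, 8]),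
    ([3, 5, 0, 1, 4, 2, 1, 2, 3, 0, 1, 5, 4, 1, 0, 3, 5, 0, 1, 4, 2, 1, 3, 5, 0, 1, 4, 2, 1, 2, 3, 0, 1, 5, 4, 1, 0, 2, 3, 0, 1, 5, 4, 1, 0], [3, 1, 2, 0, 4, 6, 5, 7, 8]),
    ([3, 5, 0, 1, 4, 2, 1, 3, 5, 0, 1, 4, 2, 1, 2, 3, 0, 1, 5, 4, 1, 0, 3, 5, 0, 1, 4, 2, 1], [3, 0, 1, 2, 7, 4, 5, 6, 8]),
    ([2, 3, 0, 1, 5, 4, 1, 0, 3, 5, 0, 1, 4, 2, 1, 3, 5, 0, 1, 4, 2, 1, 5, 4, 0, 1, 2, 3, 1, 0, 2, 3, 0, 1, 5, 4, 1, 0, 3, 5, 0, 1, 4, 2, 1], [1, 0, 2, 3, 7, 6, 4, 5, 8]),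
    ([5, 4, 0, 1, 2, 3, 1, 0, 2, 3, 0, 1, 5, 4, 1, 0, 3, 5, 0, 1, 4, 2, 1, 5, 4, 0, 1, 2, 3, 1, 0, 2, 3, 0, 1, 5, 4, 1, 0, 3, 5, 0, 1, 4, 2, 1, 3, 5, 0, 1, 4, 2, 1], [6, 7, 4, 5, 0, 1, 2, 3, 8]),
    ([3, 5, 0, 1, 4, 2, 1, 2, 3, 0, 1, 5, 4, 1, 0, 2, 3, 0, 1, 5, 4, 1, 0, 3, 5, 0, 1, 4, 2, 1], [0, 2, 3, 1, 5, 7, 6, 4, 8]),
    ([2, 3, 0, 1, 5, 4, 1, 0, 2, 3, 0, 1, 5, 4, 1, 0, 3, 5, 0, 1, 4, 2, 1, 5, 4, 0, 1, 2, 3, 1, 0, 2, 3, 0, 1, 5, 4, 1, 0, 3, 5, 0, 1, 4, 2, 1], [3, 1, 0, 2, 5, 7, 6, 4, 8]),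
    ([5, 4, 0, 1, 2, 3, 1, 0, 3, 5, 0, 1, 4, 2, 1], [2, 0, 3, 1, 4, 6, 5, 7, 8]),
    ([3, 5, 0, 1, 4, 2, 1, 5, 4, 0, 1, 2, 3, 1, 0, 3, 5, 0, 1, 4, 2, 1, 5, 4, 0, 1, 2, 3, 1, 0, 3, 5, 0, 1, 4, 2, 1, 3, 5, 0, 1, 4, 2, 1, 3, 5, 0, 1, 4, 2, 1], [4, 5, 6, 7, 2, 3, 0, 1, 8]),
    ([3, 5, 0, 1, 4, 2, 1, 3, 5, 0, 1, 4, 2, 1, 5, 4, 0, 1, 2, 3, 1, 0, 2, 3, 0, 1, 5, 4, 1, 0, 2, 3, 0, 1, 5, 4, 1, 0, 3, 5, 0, 1, 4, 2, 1], [2, 1, 0, 3, 4, 7, 6, 5, 8]),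
    ([2, 3, 0, 1, 5, 4, 1, 0, 2, 3, 0, 1, 5, 4, 1, 0, 3, 5, 0, 1, 4, 2, 1, 2, 3, 0, 1, 5, 4, 1, 0, 2, 3, 0, 1, 5, 4, 1, 0], [6, 5, 7, 4, 1, 2, 0, 3, 8]),
    ([2, 3, 0, 1, 5, 4, 1, 0, 2, 3, 0, 1, 5, 4, 1, 0, 3, 5, 0, 1, 4, 2, 1, 5, 4, 0, 1, 2, 3, 1, 0, 2, 3, 0, 1, 5, 4, 1, 0, 2, 3, 0, 1, 5, 4, 1, 0, 3, 5, 0, 1, 4, 2, 1], [7, 6, 4, 5, 1, 0, 2, 3, 8]),
    ([3, 5, 0, 1, 4, 2, 1, 3, 5, 0, 1, 4, 2, 1, 3, 5, 0, 1, 4, 2, 1, 5, 4, 0, 1, 2, 3, 1, 0, 3, 5, 0, 1, 4, 2, 1], [4, 6, 5, 7, 2, 0, 3, 1, 8])]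

def a1stab_2 : List (List ℕ × List ℕ) :=
  [([2, 3, 0, 1, 5, 4, 1, 0, 2, 3, 0, 1, 5, 4, 1, 0, 3, 5, 0, 1, 4, 2, 1, 5, 4, 0, 1, 2, 3, 1, 0, 2, 3, 0, 1, 5, 4, 1, 0, 2, 3, 0, 1, 5, 4, 1, 0], [0, 3, 2, 1, 7, 4, 5, 6, 8]),
    ([3, 5, 0, 1, 4, 2, 1, 2, 3, 0, 1, 5, 4, 1, 0, 3, 5, 0, 1, 4, 2, 1], [4, 5, 7, 6, 1, 0, 2, 3, 8]),
    ([2, 3, 0, 1, 5, 4, 1, 0, 2, 3, 0, 1, 5, 4, 1, 0, 3, 5, 0, 1, 4, 2, 1, 3, 5, 0, 1, 4, 2, 1], [2, 0, 1, 3, 7, 5, 4, 6, 8]),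
    ([3, 5, 0, 1, 4, 2, 1, 2, 3, 0, 1, 5, 4, 1, 0, 3, 5, 0, 1, 4, 2, 1, 3, 5, 0, 1, 4, 2, 1], [1, 3, 0, 2, 6, 4, 7, 5, 8]),
    ([3, 5, 0, 1, 4, 2, 1, 3, 5, 0, 1, 4, 2, 1, 2, 3, 0, 1, 5, 4, 1, 0, 3, 5, 0, 1, 4, 2, 1, 3, 5, 0, 1, 4, 2, 1, 5, 4, 0, 1, 2, 3, 1, 0], [1, 0, 3, 2, 4, 5, 6, 7, 8]),
    ([5, 4, 0, 1, 2, 3, 1, 0, 3, 5, 0, 1, 4, 2, 1, 3, 5, 0, 1, 4, 2, 1, 3, 5, 0, 1, 4, 2, 1], [1, 0, 2, 3, 5, 4, 6, 7, 8]),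
    ([3, 5, 0, 1, 4, 2, 1, 3, 5, 0, 1, 4, 2, 1, 5, 4, 0, 1, 2, 3, 1, 0, 2, 3, 0, 1, 5, 4, 1, 0, 2, 3, 0, 1, 5, 4, 1, 0], [7, 5, 6, 4, 2, 0, 3, 1, 8]),
    ([3, 5, 0, 1, 4, 2, 1, 3, 5, 0, 1, 4, 2, 1, 3, 5, 0, 1, 4, 2, 1, 3, 5, 0, 1, 4, 2, 1, 5, 4, 0, 1, 2, 3, 1, 0, 2, 3, 0, 1, 5, 4, 1, 0], [0, 3, 1, 2, 4, 7, 5, 6, 8]),
    ([3, 5, 0, 1, 4, 2, 1, 5, 4, 0, 1, 2, 3, 1, 0, 2, 3, 0, 1, 5, 4, 1, 0, 2, 3, 0, 1, 5, 4, 1, 0, 3, 5, 0, 1, 4, 2, 1], [6, 7, 5, 4, 0, 1, 3, 2, 8]),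
    ([5, 4, 0, 1, 2, 3, 1, 0, 2, 3, 0, 1, 5, 4, 1, 0, 3, 5, 0, 1, 4, 2, 1, 2, 3, 0, 1, 5, 4, 1, 0], [3, 0, 1, 2, 6, 5, 4, 7, 8]),
    ([3, 5, 0, 1, 4, 2, 1, 5, 4, 0, 1, 2, 3, 1, 0, 2, 3, 0, 1, 5, 4, 1, 0, 3, 5, 0, 1, 4, 2, 1, 5, 4, 0, 1, 2, 3, 1, 0], [7, 5, 6, 4, 1, 3, 0, 2, 8]),
    ([2, 3, 0, 1, 5, 4, 1, 0], [5, 4, 6, 7, 0, 1, 3, 2, 8]),
    ([2, 3, 0, 1, 5, 4, 1, 0, 3, 5, 0, 1, 4, 2, 1, 3, 5, 0, 1, 4, 2, 1, 3, 5, 0, 1, 4, 2, 1, 3, 5, 0, 1, 4, 2, 1], [6, 4, 7, 5, 1, 3, 0, 2, 8]),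
    ([5, 4, 0, 1, 2, 3, 1, 0, 2, 3, 0, 1, 5, 4, 1, 0, 3, 5, 0, 1, 4, 2, 1], [6, 5, 7, 4, 0, 3, 1, 2, 8]),
    ([5, 4, 0, 1, 2, 3, 1, 0, 3, 5, 0, 1, 4, 2, 1, 5, 4, 0, 1, 2, 3, 1, 0, 2, 3, 0, 1, 5, 4, 1, 0, 2, 3, 0, 1, 5, 4, 1, 0, 3, 5, 0, 1, 4, 2, 1], [1, 0, 3, 2, 6, 7, 4, 5, 8]),
    ([2, 3, 0, 1, 5, 4, 1, 0, 2, 3, 0, 1, 5, 4, 1, 0, 3, 5, 0, 1, 4, 2, 1, 5, 4, 0, 1, 2, 3, 1, 0], [3, 0, 1, 2, 4, 7, 6, 5, 8]),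
    ([3, 5, 0, 1, 4, 2, 1, 3, 5, 0, 1, 4, 2, 1, 5, 4, 0, 1, 2, 3, 1, 0, 3, 5, 0, 1, 4, 2, 1, 2, 3, 0, 1, 5, 4, 1, 0, 3, 5, 0, 1, 4, 2, 1, 3, 5, 0, 1, 4, 2, 1], [7, 6, 5, 4, 1, 0, 3, 2, 8]),
    ([3, 5, 0, 1, 4, 2, 1, 2, 3, 0, 1, 5, 4, 1, 0, 3, 5, 0, 1, 4, 2, 1, 3, 5, 0, 1, 4, 2, 1, 5, 4, 0, 1, 2, 3, 1, 0, 2, 3, 0, 1, 5, 4, 1, 0, 3, 5, 0, 1, 4, 2, 1], [7, 4, 5, 6, 1, 2, 3, 0, 8]),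
    ([3, 5, 0, 1, 4, 2, 1, 3, 5, 0, 1, 4, 2, 1, 5, 4, 0, 1, 2, 3, 1, 0, 3, 5, 0, 1, 4, 2, 1, 2, 3, 0, 1, 5, 4, 1, 0, 3, 5, 0, 1, 4, 2, 1], [0, 2, 3, 1, 7, 5, 4, 6, 8]),
    ([5, 4, 0, 1, 2, 3, 1, 0, 2, 3, 0, 1, 5, 4, 1, 0, 2, 3, 0, 1, 5, 4, 1, 0, 3, 5, 0, 1, 4, 2, 1, 3, 5, 0, 1, 4, 2, 1, 2, 3, 0, 1, 5, 4, 1, 0, 3, 5, 0, 1, 4, 2, 1], [5, 7, 6, 4, 1, 3, 2, 0, 8]),
    ([2, 3, 0, 1, 5, 4, 1, 0, 3, 5, 0, 1, 4, 2, 1], [0, 2, 1, 3, 7, 5, 6, 4, 8]),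
    ([3, 5, 0, 1, 4, 2, 1, 3, 5, 0, 1, 4, 2, 1, 5, 4, 0, 1, 2, 3, 1, 0, 3, 5, 0, 1, 4, 2, 1, 5, 4, 0, 1, 2, 3, 1, 0], [4, 7, 5, 6, 2, 1, 3, 0, 8]),
    ([2, 3, 0, 1, 5, 4, 1, 0, 2, 3, 0, 1, 5, 4, 1, 0, 3, 5, 0, 1, 4, 2, 1, 3, 5, 0, 1, 4, 2, 1, 3, 5, 0, 1, 4, 2, 1, 3, 5, 0, 1, 4, 2, 1], [3, 0, 2, 1, 4, 7, 5, 6, 8]),
    ([2, 3, 0, 1, 5, 4, 1, 0, 2, 3, 0, 1, 5, 4, 1, 0, 3, 5, 0, 1, 4, 2, 1, 5, 4, 0, 1, 2, 3, 1, 0, 3, 5, 0, 1, 4, 2, 1], [4, 5, 7, 6, 2, 3, 1, 0, 8]),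
    ([2, 3, 0, 1, 5, 4, 1, 0, 3, 5, 0, 1, 4, 2, 1, 3, 5, 0, 1, 4, 2, 1, 5, 4, 0, 1, 2, 3, 1, 0, 2, 3, 0, 1, 5, 4, 1, 0], [6, 5, 4, 7, 1, 2, 3, 0, 8]),
    ([3, 5, 0, 1, 4, 2, 1, 5, 4, 0, 1, 2, 3, 1, 0, 3, 5, 0, 1, 4, 2, 1, 2, 3, 0, 1, 5, 4, 1, 0, 3, 5, 0, 1, 4, 2, 1, 3, 5, 0, 1, 4, 2, 1], [1, 3, 2, 0, 7, 5, 4, 6, 8]),
    ([5, 4, 0, 1, 2, 3, 1, 0, 3, 5, 0, 1, 4, 2, 1, 5, 4, 0, 1, 2, 3, 1, 0, 3, 5, 0, 1, 4, 2, 1, 3, 5, 0, 1, 4, 2, 1, 3, 5, 0, 1, 4, 2, 1], [0, 2, 3, 1, 6, 4, 5, 7, 8]),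
    ([2, 3, 0, 1, 5, 4, 1, 0, 2, 3, 0, 1, 5, 4, 1, 0], [1, 0, 3, 2, 5, 4, 7, 6, 8]),
    ([2, 3, 0, 1, 5, 4, 1, 0, 3, 5, 0, 1, 4, 2, 1, 5, 4, 0, 1, 2, 3, 1, 0, 3, 5, 0, 1, 4, 2, 1, 3, 5, 0, 1, 4, 2, 1], [7, 4, 6, 5, 2, 1, 3, 0, 8]),
    ([3, 5, 0, 1, 4, 2, 1, 2, 3, 0, 1, 5, 4, 1, 0, 2, 3, 0, 1, 5, 4, 1, 0, 3, 5, 0, 1, 4, 2, 1, 3, 5, 0, 1, 4, 2, 1, 3, 5, 0, 1, 4, 2, 1, 3, 5, 0, 1, 4, 2, 1], [6, 4, 5, 7, 3, 1, 0, 2, 8]),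
    ([3, 5, 0, 1, 4, 2, 1, 3, 5, 0, 1, 4, 2, 1, 5, 4, 0, 1, 2, 3, 1, 0, 2, 3, 0, 1, 5, 4, 1, 0, 2, 3, 0, 1, 5, 4, 1, 0, 3, 5, 0, 1, 4, 2, 1, 3, 5, 0, 1, 4, 2, 1], [4, 5, 7, 6, 3, 2, 0, 1, 8]),
    ([3, 5, 0, 1, 4, 2, 1, 3, 5, 0, 1, 4, 2, 1, 5, 4, 0, 1, 2, 3, 1, 0, 3, 5, 0, 1, 4, 2, 1, 3, 5, 0, 1, 4, 2, 1, 3, 5, 0, 1, 4, 2, 1], [1, 3, 0, 2, 4, 6, 5, 7, 8]),
    ([3, 5, 0, 1, 4, 2, 1, 3, 5, 0, 1, 4, 2, 1, 2, 3, 0, 1, 5, 4, 1, 0, 2, 3, 0, 1, 5, 4, 1, 0, 3, 5, 0, 1, 4, 2, 1], [4, 5, 6, 7, 0, 1, 2, 3, 8]),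
    ([2, 3, 0, 1, 5, 4, 1, 0, 2, 3, 0, 1, 5, 4, 1, 0, 3, 5, 0, 1, 4, 2, 1, 3, 5, 0, 1, 4, 2, 1, 2, 3, 0, 1, 5, 4, 1, 0], [5, 7, 4, 6, 2, 0, 3, 1, 8]),
    ([3, 5, 0, 1, 4, 2, 1, 5, 4, 0, 1, 2, 3, 1, 0, 2, 3, 0, 1, 5, 4, 1, 0, 3, 5, 0, 1, 4, 2, 1, 3, 5, 0, 1, 4, 2, 1], [4, 5, 6, 7, 3, 2, 1, 0, 8]),
    ([5, 4, 0, 1, 2, 3, 1, 0, 3, 5, 0, 1, 4, 2, 1, 3, 5, 0, 1, 4, 2, 1, 2, 3, 0, 1, 5, 4, 1, 0, 3, 5, 0, 1, 4, 2, 1], [4, 6, 7, 5, 0, 2, 3, 1, 8]),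
    ([3, 5, 0, 1, 4, 2, 1, 2, 3, 0, 1, 5, 4, 1, 0, 2, 3, 0, 1, 5, 4, 1, 0, 3, 5, 0, 1, 4, 2, 1, 3, 5, 0, 1, 4, 2, 1], [5, 4, 7, 6, 1, 0, 3, 2, 8]),
    ([5, 4, 0, 1, 2, 3, 1, 0, 2, 3, 0, 1, 5, 4, 1, 0, 3, 5, 0, 1, 4, 2, 1, 3, 5, 0, 1, 4, 2, 1, 3, 5, 0, 1, 4, 2, 1, 3, 5, 0, 1, 4, 2, 1], [1, 2, 0, 3, 7, 4, 6, 5, 8]),
    ([5, 4, 0, 1, 2, 3, 1, 0, 3, 5, 0, 1, 4, 2, 1, 3, 5, 0, 1, 4, 2, 1], [4, 7, 6, 5, 1, 2, 3, 0, 8]),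
    ([3, 5, 0, 1, 4, 2, 1, 3, 5, 0, 1, 4, 2, 1, 5, 4, 0, 1, 2, 3, 1, 0], [5, 7, 4, 6, 0, 2, 1, 3, 8])]

def a1stab_3 : List (List ℕ × List ℕ) :=
  [([5, 4, 0, 1, 2, 3, 1, 0, 2, 3, 0, 1, 5, 4, 1, 0, 2, 3, 0, 1, 5, 4, 1, 0, 3, 5, 0, 1, 4, 2, 1, 3, 5, 0, 1, 4, 2, 1], [5, 6, 7, 4, 0, 3, 2, 1, 8]),
    ([3, 5, 0, 1, 4, 2, 1, 5, 4, 0, 1, 2, 3, 1, 0, 3, 5, 0, 1, 4, 2, 1, 5, 4, 0, 1, 2, 3, 1, 0, 3, 5, 0, 1, 4, 2, 1, 3, 5, 0, 1, 4, 2, 1], [3, 1, 0, 2, 4, 6, 7, 5, 8]),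
    ([5, 4, 0, 1, 2, 3, 1, 0, 2, 3, 0, 1, 5, 4, 1, 0, 3, 5, 0, 1, 4, 2, 1, 5, 4, 0, 1, 2, 3, 1, 0], [1, 2, 3, 0, 7, 4, 5, 6, 8]),
    ([2, 3, 0, 1, 5, 4, 1, 0, 3, 5, 0, 1, 4, 2, 1, 5, 4, 0, 1, 2, 3, 1, 0, 2, 3, 0, 1, 5, 4, 1, 0, 2, 3, 0, 1, 5, 4, 1, 0], [4, 6, 7, 5, 3, 1, 0, 2, 8]),
    ([3, 5, 0, 1, 4, 2, 1, 3, 5, 0, 1, 4, 2, 1, 3, 5, 0, 1, 4, 2, 1, 3, 5, 0, 1, 4, 2, 1, 5, 4, 0, 1, 2, 3, 1, 0, 3, 5, 0, 1, 4, 2, 1], [3, 2, 0, 1, 5, 4, 6, 7, 8]),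
    ([3, 5, 0, 1, 4, 2, 1, 3, 5, 0, 1, 4, 2, 1, 2, 3, 0, 1, 5, 4, 1, 0, 2, 3, 0, 1, 5, 4, 1, 0], [1, 3, 2, 0, 4, 6, 7, 5, 8]),
    ([5, 4, 0, 1, 2, 3, 1, 0, 3, 5, 0, 1, 4, 2, 1, 5, 4, 0, 1, 2, 3, 1, 0, 2, 3, 0, 1, 5, 4, 1, 0, 3, 5, 0, 1, 4, 2, 1], [5, 6, 7, 4, 2, 1, 0, 3, 8]),
    ([5, 4, 0, 1, 2, 3, 1, 0, 3, 5, 0, 1, 4, 2, 1, 3, 5, 0, 1, 4, 2, 1, 5, 4, 0, 1, 2, 3, 1, 0], [3, 0, 2, 1, 6, 5, 7, 4, 8]),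
    ([5, 4, 0, 1, 2, 3, 1, 0, 3, 5, 0, 1, 4, 2, 1, 2, 3, 0, 1, 5, 4, 1, 0, 3, 5, 0, 1, 4, 2, 1], [2, 3, 0, 1, 7, 6, 5, 4, 8]),
    ([3, 5, 0, 1, 4, 2, 1, 3, 5, 0, 1, 4, 2, 1, 5, 4, 0, 1, 2, 3, 1, 0, 3, 5, 0, 1, 4, 2, 1, 5, 4, 0, 1, 2, 3, 1, 0, 3, 5, 0, 1, 4, 2, 1], [2, 0, 1, 3, 6, 4, 5, 7, 8]),
    ([3, 5, 0, 1, 4, 2, 1, 5, 4, 0, 1, 2, 3, 1, 0, 2, 3, 0, 1, 5, 4, 1, 0, 2, 3, 0, 1, 5, 4, 1, 0], [1, 2, 3, 0, 6, 5, 4, 7, 8]),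
    ([3, 5, 0, 1, 4, 2, 1, 5, 4, 0, 1, 2, 3, 1, 0, 3, 5, 0, 1, 4, 2, 1, 5, 4, 0, 1, 2, 3, 1, 0, 3, 5, 0, 1, 4, 2, 1], [6, 5, 7, 4, 3, 0, 2, 1, 8]),
    ([3, 5, 0, 1, 4, 2, 1, 3, 5, 0, 1, 4, 2, 1, 3, 5, 0, 1, 4, 2, 1, 5, 4, 0, 1, 2, 3, 1, 0, 2, 3, 0, 1, 5, 4, 1, 0], [5, 4, 7, 6, 0, 1, 2, 3, 8]),
    ([5, 4, 0, 1, 2, 3, 1, 0, 2, 3, 0, 1, 5, 4, 1, 0, 2, 3, 0, 1, 5, 4, 1, 0, 3, 5, 0, 1, 4, 2, 1, 3, 5, 0, 1, 4, 2, 1, 5, 4, 0, 1, 2, 3, 1, 0], [2, 1, 3, 0, 7, 4, 6, 5, 8]),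
    ([2, 3, 0, 1, 5, 4, 1, 0, 2, 3, 0, 1, 5, 4, 1, 0, 3, 5, 0, 1, 4, 2, 1, 5, 4, 0, 1, 2, 3, 1, 0, 2, 3, 0, 1, 5, 4, 1, 0, 3, 5, 0, 1, 4, 2, 1, 3, 5, 0, 1, 4, 2, 1], [5, 4, 7, 6, 2, 3, 0, 1, 8]),
    ([3, 5, 0, 1, 4, 2, 1, 3, 5, 0, 1, 4, 2, 1, 3, 5, 0, 1, 4, 2, 1, 5, 4, 0, 1, 2, 3, 1, 0, 3, 5, 0, 1, 4, 2, 1, 3, 5, 0, 1, 4, 2, 1], [2, 1, 0, 3, 7, 4, 5, 6, 8]),
    ([2, 3, 0, 1, 5, 4, 1, 0, 2, 3, 0, 1, 5, 4, 1, 0, 3, 5, 0, 1, 4, 2, 1], [5, 6, 4, 7, 2, 1, 3, 0, 8]),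
    ([2, 3, 0, 1, 5, 4, 1, 0, 3, 5, 0, 1, 4, 2, 1, 3, 5, 0, 1, 4, 2, 1, 5, 4, 0, 1, 2, 3, 1, 0], [1, 2, 0, 3, 5, 6, 4, 7, 8]),
    ([3, 5, 0, 1, 4, 2, 1, 3, 5, 0, 1, 4, 2, 1, 3, 5, 0, 1, 4, 2, 1, 5, 4, 0, 1, 2, 3, 1, 0, 2, 3, 0, 1, 5, 4, 1, 0, 3, 5, 0, 1, 4, 2, 1], [0, 3, 1, 2, 6, 5, 7, 4, 8]),
    ([5, 4, 0, 1, 2, 3, 1, 0, 3, 5, 0, 1, 4, 2, 1, 2, 3, 0, 1, 5, 4, 1, 0, 2, 3, 0, 1, 5, 4, 1, 0, 3, 5, 0, 1, 4, 2, 1, 5, 4, 0, 1, 2, 3, 1, 0], [1, 2, 0, 3, 4, 7, 5, 6, 8]),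
    ([5, 4, 0, 1, 2, 3, 1, 0, 2, 3, 0, 1, 5, 4, 1, 0, 3, 5, 0, 1, 4, 2, 1, 3, 5, 0, 1, 4, 2, 1, 2, 3, 0, 1, 5, 4, 1, 0, 3, 5, 0, 1, 4, 2, 1], [0, 3, 2, 1, 5, 6, 7, 4, 8]),
    ([5, 4, 0, 1, 2, 3, 1, 0, 3, 5, 0, 1, 4, 2, 1, 3, 5, 0, 1, 4, 2, 1, 2, 3, 0, 1, 5, 4, 1, 0, 3, 5, 0, 1, 4, 2, 1, 3, 5, 0, 1, 4, 2, 1], [0, 1, 2, 3, 5, 4, 7, 6, 8]),
    ([5, 4, 0, 1, 2, 3, 1, 0, 2, 3, 0, 1, 5, 4, 1, 0, 3, 5, 0, 1, 4, 2, 1, 2, 3, 0, 1, 5, 4, 1, 0, 2, 3, 0, 1, 5, 4, 1, 0], [5, 6, 4, 7, 3, 0, 2, 1, 8]),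
    ([5, 4, 0, 1, 2, 3, 1, 0, 2, 3, 0, 1, 5, 4, 1, 0, 3, 5, 0, 1, 4, 2, 1, 3, 5, 0, 1, 4, 2, 1], [0, 2, 3, 1, 4, 6, 7, 5, 8]),
    ([2, 3, 0, 1, 5, 4, 1, 0, 3, 5, 0, 1, 4, 2, 1, 3, 5, 0, 1, 4, 2, 1, 3, 5, 0, 1, 4, 2, 1], [3, 2, 0, 1, 6, 7, 5, 4, 8]),
    ([3, 5, 0, 1, 4, 2, 1, 2, 3, 0, 1, 5, 4, 1, 0], [0, 3, 2, 1, 4, 7, 6, 5, 8]),
    ([5, 4, 0, 1, 2, 3, 1, 0, 2, 3, 0, 1, 5, 4, 1, 0, 3, 5, 0, 1, 4, 2, 1, 5, 4, 0, 1, 2, 3, 1, 0, 2, 3, 0, 1, 5, 4, 1, 0, 3, 5, 0, 1, 4, 2, 1], [1, 3, 2, 0, 6, 4, 5, 7, 8]),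
    ([2, 3, 0, 1, 5, 4, 1, 0, 3, 5, 0, 1, 4, 2, 1, 3, 5, 0, 1, 4, 2, 1, 2, 3, 0, 1, 5, 4, 1, 0, 3, 5, 0, 1, 4, 2, 1], [7, 5, 4, 6, 2, 0, 1, 3, 8]),
    ([3, 5, 0, 1, 4, 2, 1, 3, 5, 0, 1, 4, 2, 1, 3, 5, 0, 1, 4, 2, 1, 5, 4, 0, 1, 2, 3, 1, 0], [0, 1, 3, 2, 4, 5, 7, 6, 8]),
    ([3, 5, 0, 1, 4, 2, 1, 3, 5, 0, 1, 4, 2, 1, 5, 4, 0, 1, 2, 3, 1, 0, 3, 5, 0, 1, 4, 2, 1], [0, 3, 2, 1, 6, 5, 4, 7, 8]),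
    ([5, 4, 0, 1, 2, 3, 1, 0, 3, 5, 0, 1, 4, 2, 1, 3, 5, 0, 1, 4, 2, 1, 5, 4, 0, 1, 2, 3, 1, 0, 2, 3, 0, 1, 5, 4, 1, 0], [5, 6, 7, 4, 3, 0, 1, 2, 8]),
    ([5, 4, 0, 1, 2, 3, 1, 0, 3, 5, 0, 1, 4, 2, 1, 2, 3, 0, 1, 5, 4, 1, 0, 2, 3, 0, 1, 5, 4, 1, 0, 3, 5, 0, 1, 4, 2, 1], [6, 5, 4, 7, 3, 0, 1, 2, 8]),
    ([5, 4, 0, 1, 2, 3, 1, 0, 3, 5, 0, 1, 4, 2, 1, 3, 5, 0, 1, 4, 2, 1, 5, 4, 0, 1, 2, 3, 1, 0, 2, 3, 0, 1, 5, 4, 1, 0, 3, 5, 0, 1, 4, 2, 1], [3, 2, 0, 1, 4, 5, 7, 6, 8]),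
    ([3, 5, 0, 1, 4, 2, 1, 5, 4, 0, 1, 2, 3, 1, 0, 2, 3, 0, 1, 5, 4, 1, 0], [6, 5, 7, 4, 2, 1, 3, 0, 8]),
    ([5, 4, 0, 1, 2, 3, 1, 0, 2, 3, 0, 1, 5, 4, 1, 0, 2, 3, 0, 1, 5, 4, 1, 0, 3, 5, 0, 1, 4, 2, 1, 2, 3, 0, 1, 5, 4, 1, 0], [7, 5, 4, 6, 3, 1, 0, 2, 8]),
    ([3, 5, 0, 1, 4, 2, 1], [4, 7, 5, 6, 3, 0, 2, 1, 8]),
    ([3, 5, 0, 1, 4, 2, 1, 3, 5, 0, 1, 4, 2, 1, 3, 5, 0, 1, 4, 2, 1, 3, 5, 0, 1, 4, 2, 1], [2, 1, 3, 0, 5, 6, 4, 7, 8]),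
    ([2, 3, 0, 1, 5, 4, 1, 0, 3, 5, 0, 1, 4, 2, 1, 2, 3, 0, 1, 5, 4, 1, 0], [5, 7, 6, 4, 0, 2, 3, 1, 8]),
    ([5, 4, 0, 1, 2, 3, 1, 0, 3, 5, 0, 1, 4, 2, 1, 5, 4, 0, 1, 2, 3, 1, 0, 2, 3, 0, 1, 5, 4, 1, 0, 3, 5, 0, 1, 4, 2, 1, 3, 5, 0, 1, 4, 2, 1, 3, 5, 0, 1, 4, 2, 1], [4, 6, 5, 7, 0, 2, 1, 3, 8]),
    ([2, 3, 0, 1, 5, 4, 1, 0, 3, 5, 0, 1, 4, 2, 1, 3, 5, 0, 1, 4, 2, 1, 2, 3, 0, 1, 5, 4, 1, 0, 2, 3, 0, 1, 5, 4, 1, 0, 3, 5, 0, 1, 4, 2, 1], [0, 1, 3, 2, 5, 4, 6, 7, 8])]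

def a1stab_4 : List (List ℕ × List ℕ) :=
  [([2, 3, 0, 1, 5, 4, 1, 0, 3, 5, 0, 1, 4, 2, 1, 5, 4, 0, 1, 2, 3, 1, 0, 2, 3, 0, 1, 5, 4, 1, 0, 2, 3, 0, 1, 5, 4, 1, 0, 3, 5, 0, 1, 4, 2, 1], [3, 2, 1, 0, 5, 4, 7, 6, 8]),
    ([2, 3, 0, 1, 5, 4, 1, 0, 2, 3, 0, 1, 5, 4, 1, 0, 3, 5, 0, 1, 4, 2, 1, 3, 5, 0, 1, 4, 2, 1, 3, 5, 0, 1, 4, 2, 1], [7, 6, 5, 4, 3, 2, 1, 0, 8]),
    ([5, 4, 0, 1, 2, 3, 1, 0, 3, 5, 0, 1, 4, 2, 1, 2, 3, 0, 1, 5, 4, 1, 0], [6, 4, 5, 7, 2, 0, 1, 3, 8]),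
    ([3, 5, 0, 1, 4, 2, 1, 5, 4, 0, 1, 2, 3, 1, 0], [2, 1, 0, 3, 5, 6, 7, 4, 8]),
    ([5, 4, 0, 1, 2, 3, 1, 0, 3, 5, 0, 1, 4, 2, 1, 3, 5, 0, 1, 4, 2, 1, 3, 5, 0, 1, 4, 2, 1, 3, 5, 0, 1, 4, 2, 1], [5, 7, 4, 6, 3, 1, 2, 0, 8]),
    ([5, 4, 0, 1, 2, 3, 1, 0], [6, 7, 5, 4, 2, 3, 1, 0, 8]),
    ([5, 4, 0, 1, 2, 3, 1, 0, 3, 5, 0, 1, 4, 2, 1, 5, 4, 0, 1, 2, 3, 1, 0], [5, 7, 6, 4, 3, 1, 0, 2, 8]),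
    ([3, 5, 0, 1, 4, 2, 1, 3, 5, 0, 1, 4, 2, 1, 5, 4, 0, 1, 2, 3, 1, 0, 2, 3, 0, 1, 5, 4, 1, 0, 3, 5, 0, 1, 4, 2, 1, 2, 3, 0, 1, 5, 4, 1, 0], [2, 3, 1, 0, 5, 4, 6, 7, 8]),
    ([3, 5, 0, 1, 4, 2, 1, 5, 4, 0, 1, 2, 3, 1, 0, 3, 5, 0, 1, 4, 2, 1, 2, 3, 0, 1, 5, 4, 1, 0, 3, 5, 0, 1, 4, 2, 1], [5, 6, 4, 7, 1, 2, 0, 3, 8]),
    ([3, 5, 0, 1, 4, 2, 1, 2, 3, 0, 1, 5, 4, 1, 0, 3, 5, 0, 1, 4, 2, 1, 3, 5, 0, 1, 4, 2, 1, 5, 4, 0, 1, 2, 3, 1, 0, 2, 3, 0, 1, 5, 4, 1, 0], [2, 0, 3, 1, 7, 5, 6, 4, 8]),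
    ([2, 3, 0, 1, 5, 4, 1, 0, 3, 5, 0, 1, 4, 2, 1, 2, 3, 0, 1, 5, 4, 1, 0, 2, 3, 0, 1, 5, 4, 1, 0], [2, 0, 3, 1, 5, 7, 4, 6, 8]),
    ([2, 3, 0, 1, 5, 4, 1, 0, 3, 5, 0, 1, 4, 2, 1, 5, 4, 0, 1, 2, 3, 1, 0, 2, 3, 0, 1, 5, 4, 1, 0], [3, 1, 2, 0, 6, 4, 7, 5, 8]),
    ([3, 5, 0, 1, 4, 2, 1, 3, 5, 0, 1, 4, 2, 1, 5, 4, 0, 1, 2, 3, 1, 0, 2, 3, 0, 1, 5, 4, 1, 0, 3, 5, 0, 1, 4, 2, 1], [5, 4, 7, 6, 3, 2, 1, 0, 8]),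
    ([5, 4, 0, 1, 2, 3, 1, 0, 2, 3, 0, 1, 5, 4, 1, 0, 3, 5, 0, 1, 4, 2, 1, 2, 3, 0, 1, 5, 4, 1, 0, 2, 3, 0, 1, 5, 4, 1, 0, 3, 5, 0, 1, 4, 2, 1], [3, 1, 0, 2, 7, 5, 4, 6, 8]),
    ([3, 5, 0, 1, 4, 2, 1, 3, 5, 0, 1, 4, 2, 1, 5, 4, 0, 1, 2, 3, 1, 0, 3, 5, 0, 1, 4, 2, 1, 2, 3, 0, 1, 5, 4, 1, 0], [5, 6, 4, 7, 0, 3, 1, 2, 8]),
    ([3, 5, 0, 1, 4, 2, 1, 3, 5, 0, 1, 4, 2, 1, 5, 4, 0, 1, 2, 3, 1, 0, 2, 3, 0, 1, 5, 4, 1, 0], [2, 0, 1, 3, 5, 7, 6, 4, 8]),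
    ([5, 4, 0, 1, 2, 3, 1, 0, 3, 5, 0, 1, 4, 2, 1, 5, 4, 0, 1, 2, 3, 1, 0, 2, 3, 0, 1, 5, 4, 1, 0, 2, 3, 0, 1, 5, 4, 1, 0], [7, 5, 4, 6, 1, 3, 2, 0, 8]),
    ([5, 4, 0, 1, 2, 3, 1, 0, 3, 5, 0, 1, 4, 2, 1, 5, 4, 0, 1, 2, 3, 1, 0, 2, 3, 0, 1, 5, 4, 1, 0, 3, 5, 0, 1, 4, 2, 1, 3, 5, 0, 1, 4, 2, 1], [2, 3, 1, 0, 4, 5, 7, 6, 8]),
    ([2, 3, 0, 1, 5, 4, 1, 0, 3, 5, 0, 1, 4, 2, 1, 5, 4, 0, 1, 2, 3, 1, 0, 2, 3, 0, 1, 5, 4, 1, 0, 3, 5, 0, 1, 4, 2, 1], [6, 5, 4, 7, 0, 3, 2, 1, 8]),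
    ([2, 3, 0, 1, 5, 4, 1, 0, 3, 5, 0, 1, 4, 2, 1, 3, 5, 0, 1, 4, 2, 1, 5, 4, 0, 1, 2, 3, 1, 0, 2, 3, 0, 1, 5, 4, 1, 0, 2, 3, 0, 1, 5, 4, 1, 0, 3, 5, 0, 1, 4, 2, 1, 3, 5, 0, 1, 4, 2, 1], [0, 1, 2, 3, 7, 6, 5, 4, 8]),
    ([3, 5, 0, 1, 4, 2, 1, 5, 4, 0, 1, 2, 3, 1, 0, 3, 5, 0, 1, 4, 2, 1], [5, 4, 6, 7, 3, 2, 0, 1, 8]),
    ([5, 4, 0, 1, 2, 3, 1, 0, 3, 5, 0, 1, 4, 2, 1, 2, 3, 0, 1, 5, 4, 1, 0, 3, 5, 0, 1, 4, 2, 1, 3, 5, 0, 1, 4, 2, 1, 3, 5, 0, 1, 4, 2, 1], [1, 3, 2, 0, 5, 7, 6, 4, 8]),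
    ([5, 4, 0, 1, 2, 3, 1, 0, 2, 3, 0, 1, 5, 4, 1, 0, 3, 5, 0, 1, 4, 2, 1, 2, 3, 0, 1, 5, 4, 1, 0, 2, 3, 0, 1, 5, 4, 1, 0, 3, 5, 0, 1, 4, 2, 1, 3, 5, 0, 1, 4, 2, 1], [7, 6, 5, 4, 2, 3, 0, 1, 8]),
    ([5, 4, 0, 1, 2, 3, 1, 0, 3, 5, 0, 1, 4, 2, 1, 5, 4, 0, 1, 2, 3, 1, 0, 3, 5, 0, 1, 4, 2, 1, 3, 5, 0, 1, 4, 2, 1], [4, 7, 5, 6, 0, 3, 1, 2, 8]),
    ([5, 4, 0, 1, 2, 3, 1, 0, 2, 3, 0, 1, 5, 4, 1, 0, 3, 5, 0, 1, 4, 2, 1, 3, 5, 0, 1, 4, 2, 1, 2, 3, 0, 1, 5, 4, 1, 0, 3, 5, 0, 1, 4, 2, 1, 3, 5, 0, 1, 4, 2, 1], [5, 4, 6, 7, 1, 0, 2, 3, 8]),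
    ([2, 3, 0, 1, 5, 4, 1, 0, 2, 3, 0, 1, 5, 4, 1, 0, 3, 5, 0, 1, 4, 2, 1, 5, 4, 0, 1, 2, 3, 1, 0, 3, 5, 0, 1, 4, 2, 1, 3, 5, 0, 1, 4, 2, 1], [2, 0, 3, 1, 6, 4, 7, 5, 8]),
    ([5, 4, 0, 1, 2, 3, 1, 0, 3, 5, 0, 1, 4, 2, 1, 3, 5, 0, 1, 4, 2, 1, 5, 4, 0, 1, 2, 3, 1, 0, 2, 3, 0, 1, 5, 4, 1, 0, 2, 3, 0, 1, 5, 4, 1, 0], [0, 3, 1, 2, 5, 6, 4, 7, 8]),
    ([5, 4, 0, 1, 2, 3, 1, 0, 3, 5, 0, 1, 4, 2, 1, 2, 3, 0, 1, 5, 4, 1, 0, 2, 3, 0, 1, 5, 4, 1, 0], [0, 2, 1, 3, 6, 4, 7, 5, 8]),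
    ([2, 3, 0, 1, 5, 4, 1, 0, 3, 5, 0, 1, 4, 2, 1, 5, 4, 0, 1, 2, 3, 1, 0, 3, 5, 0, 1, 4, 2, 1], [1, 0, 3, 2, 7, 6, 5, 4, 8]),
    ([3, 5, 0, 1, 4, 2, 1, 2, 3, 0, 1, 5, 4, 1, 0, 2, 3, 0, 1, 5, 4, 1, 0, 3, 5, 0, 1, 4, 2, 1, 3, 5, 0, 1, 4, 2, 1, 3, 5, 0, 1, 4, 2, 1], [1, 2, 0, 3, 6, 5, 7, 4, 8]),
    ([5, 4, 0, 1, 2, 3, 1, 0, 3, 5, 0, 1, 4, 2, 1, 3, 5, 0, 1, 4, 2, 1, 2, 3, 0, 1, 5, 4, 1, 0, 2, 3, 0, 1, 5, 4, 1, 0, 3, 5, 0, 1, 4, 2, 1], [2, 3, 1, 0, 6, 7, 5, 4, 8]),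
    ([5, 4, 0, 1, 2, 3, 1, 0, 3, 5, 0, 1, 4, 2, 1, 5, 4, 0, 1, 2, 3, 1, 0, 2, 3, 0, 1, 5, 4, 1, 0], [1, 3, 0, 2, 5, 7, 4, 6, 8])]

def a1stab : List (List ℕ × List ℕ) :=
  a1stab_0 ++ a1stab_1 ++ a1stab_2 ++ a1stab_3 ++ a1stab_4

def a1exps_0 : List (List ℕ) :=
  [[],
    [0, 2, 1, 1, 0, 0],
    [1, 1, 0, 0, 1, 0, 0],
    [2, 1, 1, 0, 2],
    [0, 0, 0, 0, 2, 0, 0],
    [2, 1, 0, 2, 1],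
    [0, 2, 0, 0, 0],
    [1, 0, 0],
    [2, 0, 1, 1, 0, 0],
    [0, 1, 0, 0, 0, 0],
    [1, 0, 0, 1, 1],
    [2, 1, 0, 2, 0],
    [0, 2, 0, 0, 0, 0],
    [1, 0, 0, 2, 1, 1, 0],
    [1, 1, 0, 1],
    [2, 1, 0, 0, 1],
    [0, 0, 1, 0, 0, 1],
    [0, 0, 0, 0, 2],
    [2, 1, 1],
    [2, 1, 0, 0, 0],
    [0, 0, 1],
    [1, 0, 0, 1],
    [2, 0, 2, 0],
    [1, 0, 1, 1, 0],
    [2, 1, 1, 0, 0, 1],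
    [0, 2, 0, 1],
    [0, 0],
    [0, 2, 1, 0, 2, 0],
    [0, 2, 0, 0],
    [2, 1, 0, 0, 2],
    [0, 2, 1, 0, 2, 0, 0],
    [0, 0, 1, 0, 0],
    [0, 1, 1, 0, 2, 0, 0],
    [0, 2, 1, 0, 0, 0],
    [0, 1, 0, 0, 2],
    [0, 0, 0],
    [0, 1, 1],
    [0, 2, 1, 0],
    [2, 0, 0, 1],
    [0, 0, 2, 0, 0, 0, 0]]

def a1exps_1 : List (List ℕ) :=
  [[1, 1, 0, 0, 2],
    [2, 0, 0, 2, 1, 1, 0, 0],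
    [0, 1, 1, 0, 1],
    [1, 0, 2],
    [2, 1, 0, 2, 0, 0],
    [0, 0, 2, 0, 0],
    [2, 0, 1, 0, 0],
    [2, 1, 1, 0],
    [2, 1],
    [1, 1, 0, 0, 1, 0],
    [0, 0, 2, 0, 2, 0, 0],
    [0, 2, 1, 0, 1],
    [0, 1, 0, 0, 1],
    [0, 2, 1, 0, 0, 2],
    [0, 1, 0, 0, 0],
    [1, 0, 0, 2, 1, 1],
    [2, 0, 0, 1, 1],
    [0, 1, 1, 0, 2, 0],
    [1, 0, 0, 1, 0, 0],
    [0, 2, 0, 2],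
    [0, 1, 1, 0, 2],
    [0, 2, 0, 1, 0, 0, 0],
    [1, 0, 2, 1, 0, 0],
    [2, 1, 1, 0, 1, 1],
    [2, 0, 2, 0, 0, 0, 0],
    [1, 1, 0, 2, 1],
    [1, 0, 1, 1, 0, 0],
    [2, 0, 0, 2, 1, 1, 0],
    [0, 1, 0, 0, 1, 1],
    [0, 0, 1, 0],
    [1, 0, 0, 2, 1, 0],
    [2, 1, 0, 2, 1, 0, 0],
    [0, 1, 1, 0],
    [1, 1, 0, 2, 1, 0],
    [2, 0],
    [0, 2, 0, 2, 0, 0, 0],
    [0, 0, 2, 1, 1, 0],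
    [1, 1, 0, 1, 1],
    [1, 1, 0, 2, 1, 1, 0],
    [0, 0, 0, 2, 0]]

def a1exps_2 : List (List ℕ) :=
  [[1, 1, 0, 2, 1, 1],
    [0, 1, 0],
    [1, 1, 0, 0],
    [0, 1, 0, 0],
    [0, 0, 1, 0, 0, 2],
    [2, 0, 0, 0],
    [0, 0, 2, 1, 1],
    [0, 0, 0, 0, 2, 1],
    [0, 2, 1, 1, 0],
    [2, 1, 0, 1],
    [0, 2, 1, 0, 2],
    [1],
    [1, 0, 0, 0, 0],
    [2, 1, 0],
    [2, 0, 2, 1, 1, 0],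
    [1, 1, 0, 2],
    [0, 0, 2, 0, 1, 0, 0],
    [0, 1, 0, 0, 2, 1, 0],
    [0, 0, 2, 0, 1, 0],
    [2, 1, 1, 0, 0, 1, 0],
    [1, 0],
    [0, 0, 2, 0, 2],
    [1, 1, 0, 0, 0, 0],
    [1, 1, 0, 2, 0],
    [1, 0, 0, 2, 1],
    [0, 2, 0, 1, 0, 0],
    [2, 0, 2, 0, 0, 0],
    [1, 1],
    [1, 0, 2, 0, 0],
    [0, 1, 1, 0, 0, 0, 0],
    [0, 0, 2, 1, 1, 0, 0],
    [0, 0, 2, 0, 0, 0],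
    [0, 0, 1, 1, 0],
    [1, 1, 0, 0, 1],
    [0, 2, 1, 0, 0],
    [2, 0, 0, 1, 0],
    [0, 1, 1, 0, 0],
    [2, 1, 0, 0, 0, 0],
    [2, 0, 0],
    [0, 0, 2]]

def a1exps_3 : List (List ℕ) :=
  [[2, 1, 1, 0, 0],
    [0, 2, 0, 2, 0, 0],
    [2, 1, 0, 2],
    [1, 0, 2, 1, 1],
    [0, 0, 0, 0, 2, 0],
    [0, 0, 1, 1],
    [2, 0, 2, 1, 0],
    [2, 0, 0, 2],
    [2, 0, 1, 0],
    [0, 0, 2, 0, 2, 0],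
    [0, 2, 1, 1],
    [0, 2, 0, 2, 0],
    [0, 0, 0, 2, 1],
    [2, 1, 1, 0, 0, 2],
    [1, 1, 0, 2, 1, 0, 0],
    [0, 0, 0, 2, 0, 0],
    [1, 1, 0],
    [1, 0, 0, 2],
    [0, 0, 0, 2, 1, 0],
    [2, 0, 1, 1, 0, 2],
    [2, 1, 0, 0, 1, 0],
    [2, 0, 0, 1, 0, 0],
    [2, 1, 0, 1, 1],
    [2, 1, 0, 0],
    [1, 0, 0, 0],
    [0, 1],
    [2, 1, 0, 2, 1, 0],
    [1, 0, 0, 1, 0],
    [0, 0, 0, 2],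
    [0, 0, 2, 0],
    [2, 0, 0, 2, 1],
    [2, 0, 1, 1, 0],
    [2, 0, 0, 2, 1, 0],
    [0, 2, 1],
    [2, 1, 1, 0, 1],
    [0],
    [0, 0, 0, 0],
    [1, 0, 1],
    [2, 0, 2, 1, 0, 0, 0],
    [1, 0, 0, 1, 1, 0]]

def a1exps_4 : List (List ℕ) :=
  [[1, 0, 2, 1, 1, 0],
    [1, 1, 0, 0, 0],
    [2, 0, 1],
    [0, 2],
    [2, 0, 0, 0, 0],
    [2],
    [2, 0, 2],
    [0, 0, 2, 1, 0, 1],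
    [0, 2, 0, 1, 0],
    [0, 1, 0, 0, 2, 1],
    [1, 0, 1, 1],
    [1, 0, 2, 1],
    [0, 0, 2, 1, 0],
    [2, 1, 0, 1, 1, 0],
    [0, 0, 2, 0, 1],
    [0, 0, 2, 1],
    [2, 0, 2, 1, 1],
    [2, 0, 2, 1, 0, 0],
    [1, 0, 2, 1, 0],
    [1, 0, 0, 2, 1, 1, 0, 0],
    [0, 2, 0],
    [2, 0, 1, 0, 0, 0],
    [2, 1, 0, 1, 1, 0, 0],
    [2, 0, 2, 0, 0],
    [2, 1, 0, 0, 1, 0, 0],
    [1, 1, 0, 2, 0, 0],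
    [2, 0, 0, 2, 1, 1],
    [2, 0, 1, 1],
    [1, 0, 2, 0],
    [0, 1, 1, 0, 0, 0],
    [2, 0, 0, 1, 1, 0],
    [2, 0, 2, 1]]

def a1exps : List (List ℕ) :=
  a1exps_0 ++ a1exps_1 ++ a1exps_2 ++ a1exps_3 ++ a1exps_4

def a1rels_0 : List (List (ℕ × ℕ × ℕ)) :=
  [[(1, 0, 1), (1, 0, 2), (1, 0, 3), (1, 0, 4), (1, 0, 5), (1, 0, 6), (1, 0, 7), (1, 0, 8), (1, 0, 9), (1, 0, 10), (1, 0, 11), (1, 0, 12), (1, 0, 13), (1, 0, 14), (1, 0, 15), (1, 0, 16), (1, 0, 17), (1, 0, 18), (1, 0, 19), (1, 0, 20), (1, 0, 21), (1, 0, 22), (1, 0, 23), (1, 0, 24), (1, 0, 25), (1, 0, 26), (1, 0, 27), (1, 0, 28), (1, 0, 29), (1, 0, 30)],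
    [(1, 0, 31), (1, 0, 32), (1, 0, 33), (1, 0, 34), (1, 0, 35), (1, 0, 36), (1, 0, 37), (1, 0, 38), (1, 0, 39), (1, 0, 40), (1, 0, 41), (1, 0, 42), (1, 0, 43), (1, 0, 44), (1, 0, 45), (1, 0, 46), (1, 0, 47), (1, 0, 48), (1, 0, 49), (1, 0, 50), (1, 0, 51), (1, 0, 52), (1, 0, 53), (1, 0, 54), (1, 0, 55), (1, 0, 56), (1, 0, 57), (1, 0, 58), (1, 0, 59), (1, 0, 60)],
    [(1, 0, 61), (1, 0, 62), (1, 0, 63), (1, 0, 64), (1, 0, 65), (1, 0, 66), (1, 0, 67), (1, 0, 68), (1, 0, 69), (1, 0, 70)],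
    [(1, 0, 71), (1, 0, 72), (1, 0, 73), (1, 0, 74), (1, 0, 75), (1, 0, 76), (1, 0, 77)],
    [(1, 0, 78), (1, 0, 79), (1, 0, 80), (1, 0, 81), (1, 0, 82), (1, 0, 83), (1, 0, 84)],
    [(1, 0, 85), (1, 0, 86), (1, 0, 87), (1, 0, 88), (1, 0, 89), (1, 0, 90), (1, 0, 91)],
    [(1, 0, 0), (1, 0, 1), (1, 0, 92), (1, 0, 93), (1, 0, 94), (1, 0, 95), (1, 0, 96), (1, 0, 97), (1, 0, 98), (1, 0, 99), (1, 0, 36), (1, 0, 100), (1, 0, 101), (1, 0, 102), (1, 0, 103), (1, 0, 104), (1, 0, 105), (1, 0, 21), (1, 0, 106), (1, 0, 107), (1, 0, 108), (1, 0, 109), (1, 0, 110), (1, 0, 111), (1, 0, 112), (1, 0, 113), (1, 0, 114), (1, 0, 115), (1, 0, 116), (1, 0, 117), (1, 0, 118), (1, 0, 119), (1, 0, 120), (1, 0, 121), (1, 0, 122), (1, 0, 123), (1, 0, 124), (1, 0, 125), (1,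 0, 126), (1, 0, 127), (1, 0, 128), (1, 0, 129), (1, 0, 130), (1, 0, 131), (1, 0, 132), (1, 0, 133), (1, 0, 134), (1, 0, 135), (1, 0, 136), (1, 0, 137), (1, 0, 138), (1, 0, 139), (1, 0, 140), (1, 0, 141), (1, 0, 142), (1, 0, 143), (1, 0, 144), (1, 0, 145), (1, 0, 146), (1, 0, 147), (1, 0, 148), (1, 0, 149), (1, 0, 150)]]

def a1rels : List (List (ℕ × ℕ × ℕ)) :=
  a1rels_0

def a1invs_0 : List (ℕ × List (ℕ × List (ℕ × ℕ))) :=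
  [(1, [(1, [(4, 84), (19, 67), (13, 0), (2, 22), (3, 0), (26, 112), (12, 0), (10, 0), (30, 13), (25, 104), (1, 112), (24, 91), (20, 13), (16, 26), (14, 163), (17, 59), (18, 55), (15, 163), (11, 137), (28, 0), (7, 56), (23, 89), (8, 112), (29, 0), (22, 0), (9, 112), (6, 81), (5, 5), (21, 137), (27, 1), (1, 0), (2, 0), (3, 0), (4, 0), (5, 0), (6, 0), (7, 0), (8, 0), (9, 0), (10, 0), (11, 0), (12, 0), (13, 0), (14, 0), (15, 0), (16, 0), (17, 0), (18, 0), (19, 0), (20, 0), (21, 0), (22, 0), (23, 0), (24, 0), (25, 0), (26, 0), (27, 0), (28, 0), (29, 0), (30, 0)]), (2, [(16, 7), (7, 69), (27, 11), (23, 150), (11, 23), (19, 88), (2, 14), (14, 153), (18, 153), (24, 88), (5, 7), (22, 97), (13, 84), (8, 154), (29, 179), (1, 23), (28, 72), (9, 154), (6, 110),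 (30, 179), (26, 69), (12, 97), (4, 150), (10, 110), (25, 179), (21, 14), (3, 103), (17, 21), (15, 179), (20, 179), (1, 0), (2, 0), (3, 0), (4, 0), (5, 0), (6, 0), (7, 0), (8, 0), (9, 0), (10, 0), (11, 0), (12, 0), (13, 0), (14, 0), (15, 0), (16, 0), (17, 0), (18, 0), (19, 0), (20, 0), (21, 0), (22, 0), (23, 0), (24, 0), (25, 0), (26, 0), (27, 0), (28, 0), (29, 0), (30, 0)])])]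

def a1invs_1 : List (ℕ × List (ℕ × List (ℕ × ℕ))) :=
  [(1, [(1, [(34, 0), (42, 0), (56, 79), (36, 0), (38, 0), (58, 94), (45, 104), (57, 132), (44, 0), (41, 1), (43, 85), (53, 104), (46, 156), (51, 137), (35, 162), (55, 23), (49, 137), (60, 92), (48, 85), (47, 180), (59, 36), (31, 112), (33, 162), (39, 7), (40, 90), (32, 168), (37, 30), (52, 134), (54, 124), (50, 159), (31, 0), (32, 0), (33, 0), (34, 0), (35, 0), (36, 0), (37, 0), (38, 0), (39, 0), (40, 0), (41, 0), (42, 0), (43, 0), (44, 0), (45, 0), (46, 0), (47, 0), (48, 0), (49, 0), (50, 0), (51, 0), (52, 0), (53, 0), (54, 0), (55, 0), (56, 0), (57, 0), (58, 0), (59, 0), (60, 0)]), (2, [(54, 190), (48, 158), (60, 94), (57, 30), (51, 162), (46, 104), (59, 94), (55, 190), (47, 89), (44, 146),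 (50, 45), (58, 12), (53, 49), (40, 24), (45, 68), (36, 56), (39, 130), (32, 158), (52, 89), (41, 180), (35, 168), (49, 130), (43, 49), (31, 8), (38, 8), (56, 149), (34, 30), (42, 62), (37, 94), (33, 94), (31, 0), (32, 0), (33, 0), (34, 0), (35, 0), (36, 0), (37, 0), (38, 0), (39, 0), (40, 0), (41, 0), (42, 0), (43, 0), (44, 0), (45, 0), (46, 0), (47, 0), (48, 0), (49, 0), (50, 0), (51, 0), (52, 0), (53, 0), (54, 0), (55, 0), (56, 0), (57, 0), (58, 0), (59, 0), (60, 0)])])]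

def a1invs_2 : List (ℕ × List (ℕ × List (ℕ × ℕ))) :=
  [(1, [(1, [(66, 0), (68, 137), (67, 130), (61, 106), (64, 0), (70, 141), (62, 137), (69, 159), (63, 0), (65, 138), (61, 0), (62, 0), (63, 0), (64, 0), (65, 0), (66, 0), (67, 0), (68, 0), (69, 0), (70, 0)]), (2, [(69, 85), (62, 1), (63, 49), (67, 49), (68, 137), (70, 87), (64, 49), (65, 129), (61, 85), (66, 143), (61, 0), (62, 0), (63, 0), (64, 0), (65, 0), (66, 0), (67, 0), (68, 0), (69, 0), (70, 0)])])]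

def a1invs_3 : List (ℕ × List (ℕ × List (ℕ × ℕ))) :=
  [(2, [(3, [(73, 0), (74, 1), (76, 138), (75, 0), (71, 32), (77, 182), (72, 156), (71, 0), (72, 0), (73, 0), (74, 0), (75, 0), (76, 0), (77, 0)]), (4, [(71, 141), (75, 124), (73, 149), (74, 149), (72, 167), (77, 97), (76, 97), (71, 0), (72, 0), (73, 0), (74, 0), (75, 0), (76, 0), (77, 0)])])]

def a1invs_4 : List (ℕ × List (ℕ × List (ℕ × ℕ))) :=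
  [(3, [(3, [(79, 0), (80, 55), (81, 35), (82, 0), (83, 130), (84, 0), (78, 180), (78, 0), (79, 0), (80, 0), (81, 0), (82, 0), (83, 0), (84, 0)]), (5, [(79, 175), (78, 117), (80, 92), (84, 101), (82, 31), (83, 188), (81, 34), (78, 0), (79, 0), (80, 0), (81, 0), (82, 0), (83, 0), (84, 0)])])]

def a1invs_5 : List (ℕ × List (ℕ × List (ℕ × ℕ))) :=
  [(3, [(3, [(90, 1), (91, 163), (86, 74), (87, 65), (85, 41), (88, 167), (89, 52), (85, 0), (86, 0), (87, 0), (88, 0), (89, 0), (90, 0), (91, 0)]), (5, [(85, 29), (87, 190), (86, 8), (89, 165), (88, 18), (90, 58), (91, 31), (85, 0), (86, 0), (87, 0), (88, 0), (89, 0), (90, 0), (91, 0)])])]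

def a1invs_6 : List (ℕ × List (ℕ × List (ℕ × ℕ))) :=
  [(6, [(6, [(0, 107), (21, 158), (95, 167), (137, 184), (134, 162), (92, 124), (142, 103), (99, 148), (114, 112), (97, 148), (145, 19), (141, 42), (105, 1), (106, 137), (124, 19), (123, 30), (101, 1), (1, 158), (102, 129), (149, 190), (148, 150), (110, 152), (109, 177), (120, 83), (112, 94), (129, 0), (98, 112), (116, 1), (115, 1), (121, 99), (133, 30), (119, 2), (111, 170), (117, 65), (122, 92), (104, 30), (103, 132), (128, 123), (136, 93), (127, 31), (125, 93), (113, 0), (130, 25), (138, 17), (132, 29), (118, 30), (94, 168), (143, 85), (126, 123), (93, 184), (131, 120), (147, 164), (146, 129), (100, 20), (96, 11), (135, 85), (150, 99), (36, 132), (140, 137), (139, 86), (108, 150), (107, 8),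 (144, 65), (0, 0), (1, 0), (92, 0), (93, 0), (94, 0), (95, 0), (96, 0), (97, 0), (98, 0), (99, 0), (36, 0), (100, 0), (101, 0), (102, 0), (103, 0), (104, 0), (105, 0), (21, 0), (106, 0), (107, 0), (108, 0), (109, 0), (110, 0), (111, 0), (112, 0), (113, 0), (114, 0), (115, 0), (116, 0), (117, 0), (118, 0), (119, 0), (120, 0), (121, 0), (122, 0), (123, 0), (124, 0), (125, 0), (126, 0), (127, 0), (128, 0), (129, 0), (130, 0), (131, 0), (132, 0), (133, 0), (134, 0), (135, 0), (136, 0), (137, 0), (138, 0), (139, 0), (140, 0), (141, 0), (142, 0), (143, 0), (144, 0), (145, 0), (146, 0), (147, 0), (148, 0), (149, 0), (150, 0)]), (7, [(127, 180), (107, 123), (108, 78), (136, 110), (121, 48), (103, 153), (97, 74), (149, 78), (144, 191), (146, 117), (135, 191),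 (147, 132), (1, 174), (139, 165), (117, 25), (145, 15), (143, 20), (140, 174), (111, 117), (133, 137), (142, 85), (106, 117), (128, 80), (123, 140), (122, 169), (118, 158), (138, 59), (113, 80), (114, 146), (99, 132), (137, 15), (112, 10), (94, 30), (116, 32), (130, 1), (96, 79), (101, 184), (95, 38), (134, 31), (132, 156), (126, 51), (110, 156), (0, 37), (93, 106), (119, 105), (100, 79), (105, 24), (98, 70), (104, 31), (92, 77), (141, 102), (148, 137), (131, 173), (120, 188), (115, 83), (129, 172), (102, 134), (21, 124), (150, 114), (124, 154), (36, 59), (109, 173), (125, 61), (0, 0), (1, 0), (92, 0), (93, 0), (94, 0), (95, 0), (96, 0), (97, 0), (98, 0), (99, 0), (36, 0), (100, 0), (101, 0), (102, 0), (103, 0), (104, 0), (105, 0), (21, 0), (106,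 0), (107, 0), (108, 0), (109, 0), (110, 0), (111, 0), (112, 0), (113, 0), (114, 0), (115, 0), (116, 0), (117, 0), (118, 0), (119, 0), (120, 0), (121, 0), (122, 0), (123, 0), (124, 0), (125, 0), (126, 0), (127, 0), (128, 0), (129, 0), (130, 0), (131, 0), (132, 0), (133, 0), (134, 0), (135, 0), (136, 0), (137, 0), (138, 0), (139, 0), (140, 0), (141, 0), (142, 0), (143, 0), (144, 0), (145, 0), (146, 0), (147, 0), (148, 0), (149, 0), (150, 0)]), (8, [(131, 78), (1, 97), (118, 190), (130, 18), (121, 141), (103, 190), (111, 109), (106, 180), (139, 18), (150, 44), (36, 184), (147, 159), (107, 86), (144, 28), (95, 8), (112, 18), (110, 46), (132, 46), (97, 45), (101, 164), (113, 171), (149, 24), (105, 43), (96, 77), (104, 165), (108, 47), (141, 117), (142,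 171), (120, 160), (125, 28), (92, 8), (145, 78), (116, 160), (94, 141), (136, 100), (123, 94), (133, 94), (117, 28), (126, 30), (140, 33), (134, 119), (143, 63), (93, 165), (0, 32), (21, 43), (124, 94), (128, 79), (148, 101), (122, 100), (137, 25), (138, 16), (98, 165), (127, 181), (114, 175), (115, 47), (129, 169), (102, 28), (119, 32), (146, 2), (100, 159), (135, 34), (109, 146), (99, 187), (0, 0), (1, 0), (92, 0), (93, 0), (94, 0), (95, 0), (96, 0), (97, 0), (98, 0), (99, 0), (36, 0), (100, 0), (101, 0), (102, 0), (103, 0), (104, 0), (105, 0), (21, 0), (106, 0), (107, 0), (108, 0), (109, 0), (110, 0), (111, 0), (112, 0), (113, 0), (114, 0), (115, 0), (116, 0), (117, 0), (118, 0), (119, 0), (120, 0), (121, 0), (122, 0), (123, 0), (124, 0), (125,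 0), (126, 0), (127, 0), (128, 0), (129, 0), (130, 0), (131, 0), (132, 0), (133, 0), (134, 0), (135, 0), (136, 0), (137, 0), (138, 0), (139, 0), (140, 0), (141, 0), (142, 0), (143, 0), (144, 0), (145, 0), (146, 0), (147, 0), (148, 0), (149, 0), (150, 0)])])]

def a1invs : List (ℕ × List (ℕ × List (ℕ × ℕ))) :=
  a1invs_0 ++ a1invs_1 ++ a1invs_2 ++ a1invs_3 ++ a1invs_4 ++ a1invs_5 ++ a1invs_6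

def a1steps_0 : List (Step) :=
  [⟨1, [6, 3, 4, 6, 3, 0, 1, 2], 4, [(151, 1), (152, 2), (153, 2), (154, 3), (155, 4), (156, 5), (14, 6)]⟩,
    ⟨1, [1, 4, 0, 0, 5, 3], 5, [(157, 7), (158, 8), (159, 9), (160, 10), (161, 11), (162, 12), (73, 13)]⟩,
    ⟨1, [3, 6, 6, 5, 1, 4, 0, 2], 4, [(46, 14), (163, 15), (164, 2), (165, 16), (17, 17), (166, 18), (167, 19)]⟩,
    ⟨1, [5, 2, 6, 0, 5, 4, 0, 0], 5, [(168, 20), (65, 21), (169, 22), (62, 23), (170, 24), (67, 17), (171, 25)]⟩,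
    ⟨1, [2, 5, 3, 6, 0, 5, 4, 2], 4, [(172, 26), (173, 27), (174, 28), (175, 26), (168, 29), (176, 30), (177, 31)]⟩,
    ⟨1, [5, 5, 6, 0, 5, 4], 5, [(70, 32), (178, 14), (61, 33), (172, 34), (179, 35), (67, 36), (180, 37)]⟩,
    ⟨1, [3, 0, 1, 5, 6, 1, 2, 4, 0], 4, [(31, 38), (181, 39), (182, 40), (183, 41), (48, 42), (184, 43), (185, 44)]⟩,
    ⟨1, [3, 2, 6, 5, 2, 1, 0, 4], 4, [(186, 45), (187, 1), (188, 46), (189, 47), (190, 48), (191, 49), (192, 8)]⟩,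
    ⟨1, [4, 3, 3, 6, 0, 5, 1, 3, 2], 4, [(193, 49), (194, 50), (118, 51), (155, 52), (195, 53), (196, 5), (197, 6)]⟩,
    ⟨1, [5, 5, 2, 1, 6, 4, 3, 1, 0], 4, [(198, 54), (199, 55), (200, 56), (201, 57), (202, 58), (203, 49), (97, 59)]⟩,
    ⟨1, [1, 4, 0, 6, 5, 4, 2, 3], 5, [(204, 60), (205, 19), (147, 59), (206, 61), (207, 62), (208, 63), (209, 64)]⟩,
    ⟨1, [6, 1, 5, 3, 0, 5, 4], 4, [(210, 30), (211, 65), (212, 66), (213, 67), (214, 68), (126, 69), (138, 70)]⟩,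
    ⟨1, [2, 1, 3, 4, 6, 1, 5, 0, 2], 5, [(15, 71), (215, 72), (216, 36), (217, 73), (218, 74), (219, 75), (220, 76)]⟩,
    ⟨1, [6, 3, 5, 1, 2, 6, 4, 0, 1], 5, [(221, 77), (222, 78), (223, 36), (224, 60), (225, 79), (94, 76), (226, 59)]⟩,
    ⟨1, [5, 6, 3, 4, 1, 2, 6], 5, [(227, 57), (228, 80), (229, 81), (31, 69), (149, 82), (230, 83), (231, 84)]⟩,
    ⟨1, [5, 3, 3, 6, 4, 3, 2], 4, [(232, 85), (114, 36), (233, 42), (195, 58), (234, 12), (186, 5), (235, 8)]⟩,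
    ⟨1, [6, 0, 1, 2, 3, 4, 5, 6], 5, [(236, 21), (237, 0), (238, 77), (239, 22), (240, 86), (209, 87), (241, 52)]⟩,
    ⟨1, [2, 0, 1, 4, 3, 6, 5, 1, 0], 5, [(242, 13), (121, 88), (243, 54), (244, 89), (245, 90), (246, 74), (247, 91)]⟩,
    ⟨1, [6, 3, 2, 1, 0, 4, 5, 2], 4, [(211, 76), (210, 92), (248, 93), (249, 94), (250, 12), (126, 5), (251, 95)]⟩,
    ⟨1, [4, 1, 0, 5, 3, 6, 0, 2], 4, [(252, 81), (253, 96), (175, 97), (254, 69), (255, 29), (256, 52), (257, 98)]⟩,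
    ⟨1, [3, 6, 2, 1, 5, 3, 0], 4, [(258, 30), (259, 99), (260, 8), (261, 71), (262, 100), (263, 101), (264, 102)]⟩,
    ⟨1, [4, 0, 5, 1, 2, 2], 5, [(265, 103), (266, 104), (89, 98), (267, 105), (268, 35), (269, 0), (270, 83)]⟩,
    ⟨1, [5, 6, 2, 3, 6, 2, 0, 1], 4, [(199, 106), (201, 107), (24, 108), (271, 69), (272, 2), (202, 109), (273, 110)]⟩,
    ⟨1, [3, 4, 1, 2, 6, 0, 5, 5], 4, [(274, 111), (275, 105), (276, 22), (12, 90), (277, 59), (224, 53), (278, 68)]⟩,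
    ⟨1, [6, 3, 5, 4, 1, 5, 0], 5, [(279, 110), (9, 112), (280, 52), (281, 113), (282, 29), (283, 114), (284, 115)]⟩]

def a1steps_1 : List (Step) :=
  [⟨1, [4, 1, 6, 3, 0, 2, 2, 0], 5, [(285, 92), (286, 21), (287, 10), (288, 99), (289, 85), (290, 1), (291, 63)]⟩,
    ⟨1, [1, 0, 4, 2, 0, 5], 4, [(158, 79), (292, 95), (266, 116), (293, 117), (88, 118), (294, 102), (295, 117)]⟩,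
    ⟨1, [2, 1, 6, 5, 1, 0, 3], 4, [(296, 54), (297, 55), (298, 20), (299, 22), (300, 77), (301, 85), (302, 6)]⟩,
    ⟨1, [1, 0, 6, 4, 2, 3, 5, 1, 1], 5, [(303, 118), (304, 119), (19, 31), (305, 120), (306, 27), (307, 48), (308, 89)]⟩,
    ⟨1, [0, 4, 1, 6, 3, 5, 2, 2], 4, [(309, 121), (236, 88), (310, 100), (311, 30), (239, 50), (241, 119), (240, 104)]⟩,
    ⟨1, [4, 0, 2, 5, 1, 3, 6], 5, [(312, 53), (313, 122), (221, 123), (314, 124), (227, 4), (315, 79), (304, 55)]⟩,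
    ⟨1, [5, 1, 2, 6, 3, 4, 0, 0], 4, [(316, 125), (22, 126), (182, 127), (275, 128), (31, 122), (183, 122), (317, 65)]⟩,
    ⟨1, [6, 5, 4, 1, 2, 3, 1, 0], 4, [(318, 83), (280, 129), (319, 130), (320, 131), (283, 65), (282, 90), (279, 33)]⟩,
    ⟨1, [0, 6, 5, 3, 2, 2, 1], 5, [(33, 30), (131, 21), (321, 1), (322, 2), (323, 47), (324, 132), (325, 88)]⟩,
    ⟨1, [6, 3, 0, 4, 5, 0, 1], 5, [(326, 133), (36, 109), (327, 134), (28, 83), (328, 61), (329, 135), (44, 136)]⟩,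
    ⟨1, [3, 5, 4, 1, 1, 0], 5, [(330, 100), (331, 137), (332, 134), (82, 113), (333, 7), (292, 112), (334, 138)]⟩,
    ⟨1, [3, 5, 1, 4, 6, 2, 5, 1, 0], 5, [(22, 61), (335, 133), (336, 139), (314, 8), (315, 12), (227, 49), (337, 89)]⟩,
    ⟨1, [4, 5, 0, 6, 3, 1, 0, 2], 5, [(116, 36), (176, 8), (338, 29), (339, 40), (340, 11), (341, 12), (110, 13)]⟩,
    ⟨1, [0, 5, 2, 1, 1, 4, 3, 6], 5, [(237, 100), (342, 112), (343, 134), (109, 5), (344, 4), (345, 14), (115, 140)]⟩,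
    ⟨1, [0, 5, 6, 2, 4, 3, 1, 0], 4, [(346, 76), (347, 89), (348, 10), (349, 99), (3, 84), (350, 35), (96, 141)]⟩,
    ⟨1, [3, 5, 2, 1, 4, 2, 1, 0], 5, [(351, 133), (159, 82), (161, 134), (352, 113), (353, 61), (73, 142), (354, 128)]⟩,
    ⟨1, [2, 3, 1, 4, 5, 6, 0, 1], 4, [(209, 54), (355, 143), (206, 114), (109, 108), (356, 126), (207, 85), (204, 59)]⟩,
    ⟨1, [1, 4, 5, 1, 2, 3, 6, 0], 5, [(133, 12), (357, 144), (358, 145), (359, 146), (360, 99), (361, 0), (362, 119)]⟩,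
    ⟨1, [3, 5, 0, 2, 4, 1, 6, 0], 5, [(208, 44), (342, 110), (287, 144), (363, 128), (364, 48), (365, 147), (366, 45)]⟩,
    ⟨1, [0, 1, 6, 2, 5, 4, 3, 3, 1], 4, [(52, 49), (367, 148), (368, 65), (350, 69), (369, 60), (25, 54), (370, 98)]⟩,
    ⟨1, [2, 4, 5, 0, 1, 1, 3], 5, [(352, 147), (371, 30), (372, 81), (78, 135), (373, 62), (374, 64), (375, 104)]⟩,
    ⟨1, [3, 0, 2, 6, 5, 3, 1], 4, [(376, 149), (377, 145), (378, 28), (379, 7), (380, 150), (381, 116), (382, 35)]⟩,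
    ⟨1, [5, 2, 6, 5, 0, 1, 3], 4, [(383, 151), (384, 23), (385, 89), (386, 108), (387, 152), (388, 85), (255, 59)]⟩,
    ⟨1, [1, 2, 0, 6, 3, 4, 5, 0], 5, [(296, 6), (389, 153), (301, 33), (390, 154), (299, 155), (300, 95), (35, 37)]⟩,
    ⟨1, [1, 1, 6, 4, 2, 0, 5], 5, [(391, 106), (274, 156), (336, 104), (304, 9), (314, 65), (313, 91), (22, 25)]⟩]

def a1steps_2 : List (Step) :=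
  [⟨1, [4, 3, 6, 5, 1, 0, 3, 2], 5, [(392, 32), (393, 157), (247, 158), (394, 124), (245, 4), (395, 159), (243, 79)]⟩,
    ⟨1, [0, 3, 2, 5, 6, 3, 1, 0], 4, [(302, 57), (396, 160), (397, 99), (108, 161), (398, 133), (362, 38), (97, 34)]⟩,
    ⟨1, [3, 1, 4, 6, 1, 5, 0], 5, [(399, 159), (400, 162), (401, 163), (306, 164), (225, 65), (402, 91), (403, 50)]⟩,
    ⟨1, [2, 6, 5, 0, 1, 4, 6, 3], 5, [(183, 140), (316, 4), (403, 88), (31, 165), (185, 166), (275, 143), (181, 89)]⟩,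
    ⟨1, [2, 4, 6, 2, 3, 5, 1], 4, [(125, 85), (298, 36), (404, 42), (405, 164), (406, 10), (407, 158), (408, 8)]⟩,
    ⟨1, [3, 0, 6, 5, 1, 1, 4, 2, 0], 5, [(409, 162), (410, 67), (41, 109), (411, 121), (412, 90), (413, 139), (414, 94)]⟩,
    ⟨1, [1, 5, 6, 3, 5, 2, 0, 1], 4, [(337, 159), (223, 13), (415, 66), (45, 7), (399, 68), (48, 7), (95, 135)]⟩,
    ⟨1, [5, 4, 0, 0, 3], 4, [(416, 73), (417, 65), (293, 91), (161, 10), (418, 90), (419, 120), (72, 11)]⟩,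
    ⟨1, [4, 3, 0, 6, 1, 5, 2, 4], 4, [(14, 83), (191, 56), (410, 89), (414, 31), (409, 60), (118, 28), (41, 113)]⟩,
    ⟨1, [6, 1, 0, 5, 2, 3, 0, 4], 5, [(28, 152), (420, 152), (328, 120), (329, 92), (421, 154), (422, 89), (284, 6)]⟩,
    ⟨1, [0, 1, 4, 5, 1, 2, 3, 6], 5, [(423, 58), (125, 158), (424, 3), (272, 22), (425, 38), (426, 62), (98, 134)]⟩,
    ⟨1, [3, 4, 0, 1, 5, 6, 1, 2], 4, [(402, 81), (142, 162), (313, 0), (427, 167), (428, 22), (429, 75), (430, 70)]⟩,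
    ⟨1, [5, 4, 3, 2, 1, 0, 6, 5], 5, [(277, 94), (431, 57), (403, 168), (432, 71), (225, 14), (228, 1), (401, 5)]⟩,
    ⟨1, [4, 6, 2, 1, 0, 5, 3, 4, 0], 4, [(433, 100), (104, 126), (434, 127), (435, 2), (436, 150), (437, 162), (438, 65)]⟩,
    ⟨1, [4, 0, 6, 2, 5, 1, 3, 4], 4, [(240, 89), (439, 45), (115, 57), (440, 2), (247, 13), (364, 162), (441, 65)]⟩,
    ⟨1, [2, 3, 6, 2, 5, 0, 1], 4, [(426, 169), (442, 77), (396, 170), (203, 171), (301, 67), (443, 151), (444, 172)]⟩,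
    ⟨1, [1, 2, 4, 5, 0, 3, 3, 6], 4, [(445, 159), (167, 59), (218, 81), (233, 82), (446, 41), (447, 173), (154, 68)]⟩,
    ⟨1, [0, 6, 1, 5, 4, 3, 2, 0], 4, [(448, 44), (449, 108), (131, 150), (324, 174), (322, 19), (21, 15), (33, 59)]⟩,
    ⟨1, [4, 5, 3, 0, 2, 6, 1], 5, [(450, 48), (451, 164), (452, 45), (453, 67), (454, 49), (455, 175), (456, 149)]⟩,
    ⟨1, [3, 1, 5, 4, 2, 2, 1], 4, [(77, 110), (265, 42), (268, 70), (270, 68), (457, 27), (267, 117), (458, 176)]⟩,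
    ⟨1, [1, 6, 5, 0, 2, 3, 4, 0, 1], 4, [(459, 76), (260, 92), (460, 93), (461, 94), (462, 12), (463, 137), (464, 6)]⟩,
    ⟨1, [4, 2, 0, 5, 6, 3, 0], 3, [(381, 177), (2, 54), (465, 105), (466, 37), (467, 171), (468, 172), (150, 46)]⟩,
    ⟨1, [2, 6, 1, 0, 4, 2], 4, [(436, 49), (435, 115), (93, 65), (469, 69), (470, 60), (104, 54), (471, 84)]⟩,
    ⟨1, [5, 0, 4, 4, 0], 5, [(84, 31), (79, 21), (87, 22), (82, 99), (91, 169), (83, 53), (89, 63)]⟩,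
    ⟨1, [3, 0, 5, 6, 0, 0], 5, [(465, 11), (456, 127), (455, 178), (472, 154), (473, 99), (450, 149), (474, 43)]⟩]

def a1steps_3 : List (Step) :=
  [⟨1, [1, 0, 6, 4, 2, 3, 5, 1, 1], 4, [(430, 113), (475, 112), (476, 130), (477, 95), (478, 79), (479, 21), (480, 64)]⟩,
    ⟨1, [4, 3, 1, 2, 6, 1, 0, 5], 4, [(184, 73), (142, 115), (481, 53), (427, 71), (428, 56), (482, 124), (483, 163)]⟩,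
    ⟨1, [0, 5, 6, 3, 4, 2, 3], 5, [(467, 32), (350, 122), (96, 123), (3, 124), (347, 52), (484, 79), (485, 167)]⟩,
    ⟨1, [1, 2, 4, 5, 0, 6, 3, 0, 0], 5, [(486, 146), (180, 80), (61, 15), (487, 157), (488, 82), (179, 94), (489, 105)]⟩,
    ⟨1, [2, 0, 0, 4, 3, 6, 5, 1], 3, [(490, 71), (289, 115), (491, 59), (355, 143), (102, 1), (239, 147), (342, 122)]⟩,
    ⟨1, [5, 6, 3, 1, 4, 0, 2, 5], 4, [(492, 48), (449, 86), (493, 76), (494, 82), (495, 16), (496, 72), (497, 134)]⟩,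
    ⟨1, [6, 3, 5, 2, 4, 1, 3], 5, [(50, 41), (498, 39), (499, 81), (500, 69), (213, 85), (280, 0), (501, 0)]⟩,
    ⟨1, [0, 1, 2, 3, 4, 5, 0], 4, [(0, 81), (373, 59), (502, 33), (419, 82), (294, 0), (81, 173), (331, 1)]⟩,
    ⟨1, [2, 5, 1, 0, 4, 2], 5, [(267, 151), (77, 128), (270, 124), (266, 120), (503, 169), (504, 155), (457, 80)]⟩,
    ⟨1, [1, 6, 4, 2, 0, 3, 5, 1, 0], 4, [(505, 57), (58, 179), (263, 35), (506, 16), (258, 65), (259, 170), (47, 33)]⟩,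
    ⟨1, [3, 1, 5, 2, 6], 4, [(116, 86), (489, 129), (507, 89), (383, 153), (177, 107), (384, 106), (388, 108)]⟩,
    ⟨1, [4, 6, 0, 1, 2, 4, 5], 4, [(324, 136), (508, 95), (509, 81), (510, 144), (511, 61), (30, 139), (512, 117)]⟩,
    ⟨1, [1, 2, 5, 3, 6, 0, 1, 4], 5, [(168, 132), (513, 133), (514, 178), (174, 8), (175, 12), (515, 107), (177, 147)]⟩,
    ⟨1, [0, 6, 5, 3, 4, 4, 1], 5, [(516, 110), (517, 21), (518, 22), (435, 23), (512, 46), (519, 180), (4, 138)]⟩,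
    ⟨1, [1, 5, 2, 6, 3, 0, 1, 4], 4, [(520, 48), (70, 86), (488, 181), (489, 81), (180, 16), (172, 95), (179, 135)]⟩,
    ⟨1, [0, 2, 6, 4, 1, 3, 5, 2, 1], 4, [(2, 48), (521, 88), (522, 8), (523, 70), (524, 28), (525, 27), (382, 11)]⟩,
    ⟨1, [0, 6, 3, 1, 4, 0, 0], 5, [(469, 122), (516, 114), (526, 58), (527, 113), (528, 143), (529, 142), (462, 81)]⟩,
    ⟨1, [0, 3, 6, 5, 3, 3], 5, [(452, 97), (141, 28), (530, 43), (531, 16), (532, 11), (134, 141), (533, 133)]⟩,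
    ⟨1, [0, 2, 2, 3, 1, 5], 4, [(76, 96), (332, 153), (534, 26), (535, 153), (504, 4), (112, 0), (536, 8)]⟩,
    ⟨1, [3, 5, 6, 4, 5, 2, 0], 5, [(101, 61), (537, 3), (538, 76), (539, 161), (540, 12), (541, 129), (114, 89)]⟩,
    ⟨1, [4, 2, 5, 4, 6, 1, 0, 3], 4, [(542, 94), (543, 118), (544, 26), (545, 93), (139, 115), (546, 0), (520, 89)]⟩,
    ⟨1, [6, 0, 3, 2, 1, 5, 4, 6], 4, [(547, 115), (168, 56), (170, 25), (67, 164), (548, 122), (169, 13), (549, 65)]⟩,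
    ⟨1, [6, 2, 0, 4, 5, 3, 0], 5, [(550, 30), (551, 21), (137, 13), (146, 63), (552, 169), (553, 182), (554, 23)]⟩,
    ⟨1, [5, 0, 6, 4, 2, 3, 3], 5, [(555, 131), (556, 19), (383, 58), (557, 70), (486, 148), (341, 56), (558, 100)]⟩,
    ⟨1, [3, 4, 6, 0, 2, 5, 1, 1, 0], 5, [(192, 132), (187, 80), (16, 15), (190, 147), (559, 151), (191, 139), (560, 59)]⟩]

def a1steps_4 : List (Step) :=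
  [⟨1, [0, 6, 2, 1, 5, 4, 1, 0], 4, [(518, 81), (561, 27), (562, 9), (563, 6), (131, 45), (564, 183), (528, 13)]⟩,
    ⟨1, [5, 6, 1, 3, 0, 4, 3, 0], 4, [(131, 118), (33, 120), (51, 13), (321, 71), (565, 21), (449, 66), (325, 144)]⟩,
    ⟨1, [1, 6, 5, 0, 3, 4, 1, 2], 4, [(566, 45), (528, 1), (567, 43), (562, 133), (561, 48), (136, 179), (438, 18)]⟩,
    ⟨1, [4, 5, 3, 0, 2, 6, 1, 0], 3, [(380, 182), (568, 59), (569, 1), (525, 127), (570, 0), (571, 57), (532, 159)]⟩,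
    ⟨1, [5, 0, 4, 3, 2, 6, 1, 1], 5, [(572, 77), (573, 184), (574, 148), (153, 140), (575, 185), (576, 63), (409, 64)]⟩,
    ⟨1, [6, 2, 2, 4, 3, 5, 1, 2, 0], 4, [(577, 110), (421, 42), (578, 70), (579, 68), (279, 10), (8, 53), (580, 176)]⟩,
    ⟨1, [4, 0, 2, 3, 0, 6, 1, 0], 5, [(581, 77), (215, 34), (151, 48), (153, 186), (192, 104), (156, 56), (14, 100)]⟩,
    ⟨1, [3, 0, 6, 2, 3, 4, 1, 5], 4, [(582, 113), (583, 130), (217, 130), (193, 172), (584, 159), (585, 47), (411, 108)]⟩,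
    ⟨1, [1, 3, 2, 0, 4, 5, 1], 4, [(371, 30), (71, 87), (372, 8), (268, 71), (586, 100), (375, 19), (352, 36)]⟩,
    ⟨1, [0, 4, 1, 5, 2, 6, 3, 0], 4, [(544, 26), (543, 2), (513, 169), (587, 4), (117, 186), (520, 49), (507, 0)]⟩,
    ⟨1, [6, 0, 5, 1, 4, 2, 3, 0], 4, [(50, 45), (588, 0), (589, 162), (213, 41), (499, 59), (280, 74), (8, 173)]⟩,
    ⟨1, [4, 5, 2, 6, 3, 2], 5, [(116, 150), (386, 180), (124, 59), (507, 70), (388, 148), (385, 56), (384, 100)]⟩,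
    ⟨1, [5, 2, 0, 4, 6, 3, 2], 5, [(590, 187), (591, 103), (592, 5), (593, 86), (523, 89), (569, 106), (465, 86)]⟩,
    ⟨1, [5, 6, 3, 0, 1, 2, 4, 5], 4, [(497, 114), (494, 89), (259, 88), (437, 28), (594, 17), (496, 48), (595, 71)]⟩,
    ⟨1, [5, 3, 6, 2, 5, 1, 4, 0], 4, [(545, 127), (542, 98), (507, 179), (596, 164), (117, 86), (544, 40), (597, 7)]⟩,
    ⟨1, [1, 6, 5, 0, 3, 2, 4, 1], 4, [(598, 114), (599, 154), (563, 88), (600, 28), (492, 118), (517, 166), (460, 33)]⟩,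
    ⟨1, [5, 6, 0, 1, 3, 5, 2], 5, [(598, 133), (104, 109), (564, 134), (264, 83), (494, 84), (601, 135), (602, 136)]⟩,
    ⟨1, [6, 0, 5, 1, 4, 2, 3], 5, [(499, 58), (603, 176), (138, 159), (1, 41), (604, 103), (577, 26), (605, 41)]⟩,
    ⟨1, [4, 2, 6, 0, 4, 5, 3, 1], 4, [(236, 6), (209, 109), (310, 19), (240, 12), (246, 42), (606, 69), (238, 150)]⟩,
    ⟨1, [5, 6, 4, 3, 2, 1, 3], 5, [(511, 41), (496, 74), (262, 188), (508, 147), (30, 181), (599, 63), (512, 1)]⟩,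
    ⟨1, [2, 5, 1, 4, 3, 1, 6], 5, [(537, 11), (218, 79), (447, 46), (233, 168), (167, 139), (18, 95), (575, 112)]⟩,
    ⟨1, [1, 5, 3, 6, 0, 1, 4, 2], 5, [(61, 11), (607, 28), (608, 132), (388, 173), (557, 11), (609, 79), (610, 162)]⟩,
    ⟨1, [1, 0, 0, 5, 2, 4, 3, 6], 5, [(611, 77), (242, 22), (290, 36), (612, 67), (286, 189), (613, 76), (287, 106)]⟩,
    ⟨1, [2, 5, 6, 1, 0, 4, 5, 3], 4, [(272, 161), (273, 184), (133, 181), (198, 131), (614, 30), (199, 81), (203, 34)]⟩,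
    ⟨1, [1, 6, 2, 0, 5, 1, 3], 4, [(615, 103), (30, 52), (321, 114), (616, 46), (47, 160), (595, 15), (617, 91)]⟩]

def a1steps_5 : List (Step) :=
  [⟨1, [6, 5, 1, 3, 4, 2, 3, 1, 0], 5, [(9, 92), (618, 164), (38, 61), (50, 99), (551, 169), (619, 53), (620, 63)]⟩,
    ⟨1, [6, 5, 1, 4, 3, 2, 2, 1, 0], 5, [(621, 140), (622, 119), (500, 99), (623, 99), (624, 36), (625, 23), (553, 105)]⟩,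
    ⟨1, [6, 1, 3, 0, 5, 2, 3, 4], 5, [(214, 22), (626, 81), (126, 120), (251, 134), (213, 78), (210, 27), (250, 46)]⟩,
    ⟨1, [4, 6, 0, 1, 2, 4, 5], 5, [(627, 84), (561, 133), (599, 174), (602, 8), (262, 12), (436, 66), (496, 56)]⟩,
    ⟨1, [3, 1, 5, 6, 4, 1, 0], 4, [(100, 121), (628, 156), (31, 100), (227, 59), (231, 117), (13, 119), (149, 21)]⟩,
    ⟨1, [6, 1, 0, 5, 2, 4, 0], 4, [(588, 108), (137, 111), (629, 168), (320, 91), (623, 71), (250, 62), (630, 8)]⟩,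
    ⟨1, [1, 4, 0, 6, 5, 4, 2, 3, 0], 5, [(631, 147), (632, 30), (236, 7), (633, 154), (491, 62), (634, 8), (635, 118)]⟩,
    ⟨1, [3, 5, 4, 6, 3, 1, 2, 0], 5, [(636, 71), (556, 107), (110, 29), (549, 73), (637, 15), (387, 125), (638, 76)]⟩,
    ⟨1, [3, 5, 2, 0, 1, 6, 0], 4, [(592, 68), (56, 149), (639, 127), (640, 99), (37, 116), (641, 71), (570, 85)]⟩,
    ⟨1, [6, 1, 5, 2, 0, 3, 1, 4], 5, [(642, 75), (643, 80), (44, 98), (644, 26), (579, 157), (498, 138), (214, 84)]⟩,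
    ⟨1, [4, 6, 2, 3, 0, 1, 5, 4], 4, [(438, 139), (518, 189), (562, 187), (136, 52), (461, 190), (263, 137), (563, 47)]⟩,
    ⟨1, [2, 3, 6, 4, 1, 5], 4, [(271, 167), (645, 1), (646, 150), (647, 131), (648, 69), (649, 159), (650, 18)]⟩,
    ⟨1, [1, 4, 0, 5], 5, [(81, 52), (78, 143), (83, 70), (88, 98), (91, 124), (86, 159), (82, 86)]⟩,
    ⟨1, [4, 2, 5, 6, 4, 0, 1], 5, [(297, 190), (404, 176), (105, 49), (651, 64), (652, 58), (361, 147), (653, 22)]⟩,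
    ⟨1, [6, 0, 5, 3, 1, 4, 0, 2], 3, [(654, 117), (655, 149), (250, 105), (643, 104), (282, 167), (620, 42), (36, 37)]⟩,
    ⟨1, [2, 6, 4, 1, 0, 5, 6, 0], 4, [(656, 127), (592, 188), (523, 34), (593, 144), (657, 148), (591, 59), (658, 7)]⟩,
    ⟨1, [0, 6, 5, 3, 2, 2, 1], 4, [(448, 19), (470, 141), (21, 86), (449, 58), (659, 118), (51, 147), (565, 154)]⟩,
    ⟨1, [0, 6, 2, 1, 4, 3, 6, 5], 4, [(660, 2), (661, 85), (662, 112), (129, 51), (663, 82), (102, 74), (664, 82)]⟩,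
    ⟨1, [6, 2, 3, 6, 2, 1], 5, [(97, 132), (398, 148), (396, 50), (20, 90), (665, 188), (666, 120), (362, 123)]⟩,
    ⟨1, [5, 0, 1, 6, 3, 2, 4, 5, 0], 5, [(474, 190), (667, 144), (668, 49), (669, 64), (670, 58), (657, 0), (468, 61)]⟩,
    ⟨1, [2, 1, 6, 5, 1, 0, 3, 4], 5, [(671, 0), (672, 183), (120, 158), (39, 69), (673, 41), (105, 139), (674, 162)]⟩,
    ⟨1, [1, 2, 4, 0, 5, 3, 6, 0], 3, [(339, 71), (69, 22), (675, 59), (384, 23), (636, 1), (676, 147), (543, 124)]⟩,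
    ⟨1, [0, 4], 4, [(677, 38), (130, 17), (678, 104), (127, 103), (679, 68), (680, 137), (84, 85)]⟩,
    ⟨1, [2, 3, 4, 5, 0, 3, 6, 0], 4, [(681, 177), (682, 46), (530, 46), (683, 168), (92, 15), (684, 64), (380, 118)]⟩,
    ⟨1, [3, 2, 6, 5, 2, 1, 4, 0], 3, [(685, 71), (576, 115), (165, 139), (148, 62), (15, 1), (154, 176), (414, 122)]⟩]

def a1steps_6 : List (Step) :=
  [⟨1, [2, 6, 5, 3, 3, 4, 1, 2], 5, [(505, 16), (686, 108), (5, 33), (565, 181), (519, 184), (687, 171), (688, 72)]⟩,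
    ⟨1, [6, 3, 5, 2, 0, 1, 1], 4, [(29, 140), (689, 92), (690, 164), (691, 95), (327, 41), (605, 60), (692, 164)]⟩,
    ⟨1, [5, 2, 3, 1, 4, 5, 6, 0, 1], 4, [(693, 86), (247, 25), (103, 120), (441, 29), (240, 158), (694, 162), (664, 57)]⟩,
    ⟨1, [0, 5, 4, 3, 5, 6, 2, 0], 5, [(197, 106), (43, 42), (574, 104), (118, 4), (196, 65), (99, 91), (193, 25)]⟩,
    ⟨1, [0, 2, 4, 3, 5, 0, 6, 1, 0], 5, [(695, 13), (252, 56), (256, 173), (255, 89), (254, 165), (547, 159), (106, 138)]⟩,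
    ⟨1, [3, 2, 6, 5, 2, 1, 4], 5, [(538, 153), (575, 80), (572, 39), (696, 122), (697, 102), (573, 1), (698, 2)]⟩,
    ⟨1, [3, 4, 1, 0, 6, 5, 2, 0], 5, [(628, 184), (480, 0), (699, 156), (231, 36), (149, 41), (229, 87), (13, 52)]⟩,
    ⟨1, [0, 6, 1, 3, 4, 2, 5, 0, 0], 5, [(561, 68), (562, 187), (564, 103), (567, 47), (263, 175), (438, 95), (563, 137)]⟩,
    ⟨1, [3, 0, 0, 2, 1, 6], 5, [(700, 22), (673, 3), (701, 145), (702, 99), (703, 89), (201, 90), (649, 167)]⟩,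
    ⟨1, [0, 1, 2, 3, 4, 5, 6, 0, 0], 4, [(439, 158), (355, 112), (103, 0), (704, 173), (441, 22), (693, 0), (115, 70)]⟩,
    ⟨1, [6, 1, 0, 5, 2, 0, 4], 4, [(281, 132), (137, 87), (552, 112), (146, 88), (655, 86), (551, 126), (705, 180)]⟩,
    ⟨1, [2, 3, 5, 1, 4, 6, 1, 1, 0], 4, [(706, 102), (276, 127), (707, 37), (224, 151), (277, 90), (708, 80), (699, 184)]⟩,
    ⟨1, [6, 5, 0, 1, 3, 0, 2], 5, [(709, 110), (710, 137), (137, 189), (630, 101), (644, 65), (588, 91), (320, 138)]⟩,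
    ⟨1, [3, 1, 2, 5, 0, 1, 6, 0], 5, [(711, 110), (712, 82), (713, 32), (367, 55), (135, 46), (473, 112), (7, 138)]⟩,
    ⟨1, [3, 4, 1, 2, 0, 6, 4, 0], 4, [(34, 108), (714, 71), (20, 44), (715, 79), (408, 71), (716, 167), (717, 155)]⟩,
    ⟨1, [5, 5, 2, 0, 6, 1, 4], 5, [(34, 122), (715, 109), (408, 52), (614, 138), (645, 143), (718, 117), (716, 2)]⟩,
    ⟨1, [0, 3, 2, 5, 1, 3, 4, 1], 4, [(76, 23), (719, 147), (720, 39), (721, 99), (354, 13), (722, 58), (723, 141)]⟩,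
    ⟨1, [2, 6, 4, 1, 6, 3, 0, 5], 5, [(439, 105), (364, 167), (441, 165), (664, 80), (704, 170), (693, 111), (247, 108)]⟩,
    ⟨1, [5, 0, 3, 4, 1, 2, 6, 0], 4, [(229, 54), (142, 55), (48, 56), (475, 57), (45, 58), (95, 49), (724, 176)]⟩,
    ⟨1, [4, 5, 1, 6, 3, 1, 0], 4, [(338, 86), (384, 12), (545, 162), (725, 113), (64, 36), (253, 128), (638, 153)]⟩,
    ⟨1, [0, 4, 4, 6, 1, 3, 2, 5, 1], 3, [(662, 142), (365, 149), (311, 65), (726, 104), (206, 108), (291, 42), (439, 139)]⟩,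
    ⟨1, [5, 0, 2, 4, 3, 1, 1, 6, 0], 5, [(427, 141), (142, 53), (184, 145), (430, 190), (727, 150), (402, 5), (483, 90)]⟩,
    ⟨1, [3, 0, 5, 2, 6, 3, 1, 4], 4, [(587, 118), (339, 114), (65, 150), (67, 110), (62, 183), (548, 156), (168, 173)]⟩,
    ⟨1, [3, 5, 1, 6, 2, 3, 4, 0], 5, [(728, 100), (608, 52), (139, 22), (556, 113), (636, 46), (637, 112), (729, 63)]⟩,
    ⟨1, [2, 4, 0, 6, 1, 3, 3], 4, [(730, 39), (103, 27), (395, 28), (731, 26), (732, 164), (733, 49), (205, 31)]⟩]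

def a1steps_7 : List (Step) :=
  [⟨1, [4, 2, 0, 5, 3, 1, 6, 4], 4, [(164, 81), (40, 38), (46, 136), (165, 6), (152, 117), (734, 1), (735, 68)]⟩,
    ⟨1, [4, 6, 5, 0, 4, 1, 2, 2], 5, [(736, 40), (562, 98), (325, 1), (627, 64), (737, 69), (738, 147), (506, 167)]⟩,
    ⟨1, [1, 2, 4, 5, 0, 6, 3, 0, 0], 4, [(520, 81), (675, 59), (67, 33), (178, 82), (172, 0), (63, 173), (70, 15)]⟩,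
    ⟨1, [0, 6, 1, 3, 2, 4, 5, 0, 0], 5, [(594, 11), (140, 127), (565, 43), (510, 144), (519, 39), (739, 149), (687, 109)]⟩,
    ⟨1, [4, 2, 3, 6, 0, 2, 1, 0], 4, [(398, 66), (362, 10), (666, 163), (700, 41), (665, 100), (397, 64), (740, 42)]⟩,
    ⟨1, [3, 4, 6, 3, 0, 2, 5], 4, [(734, 120), (193, 126), (582, 25), (189, 120), (741, 122), (742, 144), (217, 65)]⟩,
    ⟨1, [1, 2, 0, 5, 3, 4, 6, 0], 5, [(189, 148), (217, 147), (411, 133), (193, 121), (584, 82), (734, 159), (685, 32)]⟩,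
    ⟨1, [6, 3, 1, 2, 5, 1, 1], 5, [(622, 110), (553, 52), (743, 140), (744, 113), (623, 46), (654, 112), (745, 138)]⟩,
    ⟨1, [2, 4, 5, 1, 0, 3, 1, 0], 5, [(746, 60), (747, 19), (748, 81), (679, 135), (112, 62), (749, 59), (74, 34)]⟩,
    ⟨1, [6, 5, 0, 2, 4, 1, 0, 3], 5, [(750, 65), (578, 30), (643, 144), (28, 128), (210, 176), (751, 177), (629, 145)]⟩,
    ⟨1, [5, 6, 0, 1, 1, 4, 2, 0], 4, [(51, 180), (598, 8), (5, 88), (600, 19), (563, 83), (752, 121), (471, 28)]⟩,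
    ⟨1, [2, 4, 0, 6, 5, 1, 1, 3], 5, [(732, 61), (753, 133), (754, 83), (395, 8), (731, 12), (311, 34), (205, 147)]⟩,
    ⟨1, [6, 4, 5, 3, 1, 2, 0, 1], 4, [(279, 134), (755, 163), (630, 118), (620, 0), (578, 156), (756, 1), (8, 44)]⟩,
    ⟨1, [2, 3, 6, 0, 1, 4, 5, 1, 0], 4, [(757, 2), (672, 7), (647, 112), (405, 16), (108, 82), (408, 74), (407, 82)]⟩,
    ⟨1, [5, 6, 3, 4, 1, 2, 0, 0], 3, [(259, 168), (438, 0), (601, 158), (459, 0), (516, 139), (599, 110), (145, 72)]⟩,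
    ⟨1, [6, 3, 4, 2, 5, 1, 0, 6], 4, [(228, 51), (401, 113), (758, 53), (431, 105), (399, 121), (402, 167), (225, 101)]⟩,
    ⟨1, [0, 1, 6, 2, 3, 1], 4, [(759, 63), (466, 50), (135, 160), (52, 161), (641, 167), (593, 44), (3, 33)]⟩,
    ⟨1, [5, 0, 2, 3, 4, 6, 1, 5, 0], 3, [(573, 30), (14, 54), (760, 105), (539, 104), (163, 189), (233, 191), (560, 13)]⟩,
    ⟨1, [4, 3, 2, 1, 6, 4], 3, [(406, 30), (761, 54), (39, 105), (424, 104), (762, 97), (646, 42), (273, 89)]⟩,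
    ⟨1, [2, 4, 0, 6, 4, 1, 3, 5], 5, [(238, 132), (245, 80), (763, 15), (764, 112), (765, 71), (343, 94), (766, 78)]⟩,
    ⟨1, [2, 3, 6, 2, 5, 0, 1], 5, [(359, 77), (406, 184), (714, 148), (767, 180), (768, 185), (674, 32), (769, 47)]⟩,
    ⟨1, [2, 4, 6, 3, 0, 5, 1, 0], 5, [(645, 106), (390, 156), (714, 104), (717, 9), (770, 65), (34, 91), (715, 25)]⟩,
    ⟨1, [4, 2, 5, 3, 6, 4, 0, 1], 5, [(70, 105), (489, 176), (486, 159), (520, 41), (675, 103), (179, 26), (178, 41)]⟩,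
    ⟨1, [3, 0, 4, 5, 1], 4, [(771, 63), (772, 6), (334, 127), (773, 67), (73, 21), (774, 162), (775, 65)]⟩,
    ⟨1, [1, 2, 3, 5, 0, 4, 4, 0], 4, [(747, 132), (83, 96), (748, 19), (771, 69), (157, 29), (679, 69), (112, 70)]⟩]

def a1steps_8 : List (Step) :=
  [⟨1, [1, 1, 4, 0, 3, 2], 5, [(293, 165), (161, 46), (127, 89), (72, 24), (776, 182), (418, 22), (119, 138)]⟩,
    ⟨1, [5, 2, 4, 1, 6, 0, 3, 4], 5, [(491, 80), (633, 109), (693, 92), (204, 5), (634, 2), (731, 154), (663, 187)]⟩,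
    ⟨1, [6, 5, 1, 0, 3, 6, 2], 5, [(377, 106), (96, 109), (369, 134), (107, 138), (668, 148), (777, 117), (466, 136)]⟩,
    ⟨1, [5, 1, 0, 4, 2, 3, 1], 5, [(75, 20), (130, 21), (127, 22), (680, 23), (678, 24), (502, 17), (457, 25)]⟩,
    ⟨1, [0, 5, 6, 4, 2, 3, 1, 2], 3, [(778, 87), (779, 14), (451, 184), (780, 55), (92, 1), (781, 22), (376, 131)]⟩,
    ⟨1, [0, 3, 6, 5, 4, 3, 0], 5, [(570, 42), (777, 61), (455, 176), (107, 60), (782, 104), (779, 141), (668, 59)]⟩,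
    ⟨1, [4, 6, 6, 4, 1, 3, 0], 4, [(491, 152), (634, 165), (635, 99), (663, 161), (632, 65), (783, 130), (204, 34)]⟩,
    ⟨1, [6, 4, 0, 3, 5, 2, 0, 1], 5, [(249, 48), (689, 164), (705, 45), (784, 166), (605, 21), (327, 175), (692, 174)]⟩,
    ⟨1, [], 4, [(78, 0), (79, 0), (80, 0), (81, 0), (82, 0), (83, 0), (84, 0)]⟩,
    ⟨1, [3, 0, 4, 2, 6, 5, 3, 1, 1], 5, [(109, 141), (206, 43), (204, 96), (785, 165), (290, 166), (147, 90), (356, 29)]⟩,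
    ⟨1, [5, 6, 0, 0, 4, 3, 2, 1, 0], 4, [(4, 139), (786, 127), (787, 118), (322, 125), (261, 156), (136, 1), (434, 44)]⟩,
    ⟨1, [5, 3, 6, 2, 5, 0, 4, 1], 4, [(675, 152), (788, 179), (695, 99), (252, 183), (547, 65), (257, 120), (255, 34)]⟩,
    ⟨1, [2, 6, 0, 5, 1, 3, 4, 2], 5, [(258, 52), (512, 140), (518, 10), (33, 83), (57, 2), (4, 41), (736, 126)]⟩,
    ⟨1, [2, 4, 4, 6, 5, 1, 0, 3], 3, [(129, 112), (309, 168), (789, 38), (790, 37), (631, 95), (247, 136), (791, 92)]⟩,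
    ⟨1, [3, 2, 6, 5, 1, 4, 2, 1, 0], 5, [(792, 30), (574, 103), (538, 37), (153, 171), (696, 191), (793, 106), (572, 23)]⟩,
    ⟨1, [1, 0, 6, 5, 2, 1, 3, 4, 1], 4, [(143, 140), (794, 143), (428, 164), (6, 6), (431, 71), (795, 60), (183, 24)]⟩,
    ⟨1, [5, 0, 3, 3, 0], 4, [(796, 51), (73, 1), (772, 98), (797, 50), (122, 163), (119, 90), (773, 86)]⟩,
    ⟨1, [6, 1, 4, 6, 5, 0, 2], 4, [(316, 66), (798, 10), (628, 161), (303, 41), (799, 100), (794, 101), (432, 102)]⟩,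
    ⟨1, [6, 3, 4, 0, 5, 1, 0, 0], 4, [(750, 86), (498, 188), (588, 120), (690, 29), (213, 160), (499, 132), (500, 57)]⟩,
    ⟨1, [3, 4, 2, 5, 1, 0, 6, 3, 0], 5, [(800, 71), (230, 13), (801, 16), (317, 73), (802, 15), (45, 130), (481, 76)]⟩,
    ⟨1, [0, 6, 3, 1, 4, 0, 0], 4, [(511, 115), (659, 92), (803, 164), (10, 121), (493, 80), (804, 19), (787, 46)]⟩,
    ⟨1, [5, 1, 0, 3, 2, 5, 4], 5, [(805, 41), (162, 80), (74, 158), (677, 69), (806, 98), (797, 45), (418, 162)]⟩,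
    ⟨1, [2, 3, 6, 5, 1, 4], 5, [(807, 92), (808, 164), (120, 42), (809, 157), (674, 150), (24, 1), (673, 28)]⟩,
    ⟨1, [1, 3, 0, 6, 3, 4, 2, 5], 4, [(164, 61), (810, 72), (811, 169), (812, 49), (760, 165), (813, 49), (446, 31)]⟩,
    ⟨1, [1, 5, 6, 2, 5, 4, 0, 1], 4, [(403, 108), (316, 133), (305, 75), (183, 10), (22, 168), (48, 109), (181, 11)]⟩]

def a1steps_9 : List (Step) :=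
  [⟨1, [1, 0, 0, 5, 2, 4, 3, 6], 4, [(309, 108), (289, 111), (633, 137), (661, 185), (285, 71), (288, 62), (291, 78)]⟩,
    ⟨1, [5, 4, 1, 6, 0, 2, 3, 0], 5, [(763, 11), (814, 118), (815, 132), (207, 173), (816, 181), (392, 79), (817, 144)]⟩,
    ⟨1, [2, 1, 5, 6, 3, 1, 4, 0, 2], 4, [(6, 48), (229, 88), (48, 18), (818, 109), (399, 28), (415, 27), (475, 121)]⟩,
    ⟨1, [6, 5, 1, 0, 2, 4, 3, 1, 1], 4, [(691, 182), (211, 86), (282, 8), (819, 82), (820, 28), (821, 27), (580, 11)]⟩,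
    ⟨1, [0, 5, 4, 2, 1, 6, 5, 3], 5, [(296, 48), (302, 146), (301, 119), (390, 67), (273, 168), (42, 1), (298, 67)]⟩,
    ⟨1, [2, 3, 6, 1, 1, 5, 4, 0], 4, [(701, 139), (822, 145), (717, 58), (673, 41), (700, 77), (649, 21), (23, 59)]⟩,
    ⟨1, [3, 2, 4, 3, 5, 1, 6, 0], 5, [(487, 0), (110, 0), (823, 3), (116, 74), (824, 111), (607, 123), (341, 134)]⟩,
    ⟨1, [6, 3, 5, 1, 2, 6, 4, 0, 1], 4, [(100, 108), (825, 5), (826, 44), (827, 91), (185, 71), (727, 70), (476, 18)]⟩,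
    ⟨1, [4, 2, 0, 6, 3, 2, 1, 1], 5, [(768, 100), (714, 11), (443, 5), (444, 149), (769, 26), (442, 181), (301, 80)]⟩,
    ⟨1, [3, 4, 6, 0, 2, 5, 1, 1, 0], 4, [(186, 81), (165, 139), (189, 59), (188, 180), (43, 45), (811, 82), (55, 91)]⟩,
    ⟨1, [3, 4, 1, 0, 6, 5, 2, 0], 4, [(227, 14), (31, 159), (228, 35), (828, 6), (230, 3), (100, 98), (54, 158)]⟩,
    ⟨1, [1, 5, 0, 3, 6, 2, 4, 1], 5, [(523, 52), (593, 41), (829, 1), (658, 146), (569, 99), (657, 136), (27, 119)]⟩,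
    ⟨1, [4, 3, 1, 6, 2, 5, 0, 4], 4, [(219, 133), (166, 68), (573, 162), (218, 137), (15, 15), (216, 127), (111, 118)]⟩,
    ⟨1, [1, 4, 2, 5, 4, 6, 3, 1, 0], 4, [(830, 4), (831, 38), (832, 113), (106, 34), (124, 80), (69, 41), (833, 137)]⟩,
    ⟨1, [3, 0, 1, 4, 2, 5, 6], 3, [(700, 88), (271, 54), (11, 105), (834, 47), (718, 86), (653, 188), (757, 162)]⟩,
    ⟨1, [2, 3, 1, 2, 6, 0, 5], 5, [(432, 22), (303, 74), (316, 179), (707, 47), (315, 181), (835, 50), (798, 1)]⟩,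
    ⟨1, [5, 6, 4, 3, 2, 1, 6], 5, [(97, 97), (198, 118), (201, 74), (271, 173), (133, 110), (273, 134), (199, 66)]⟩,
    ⟨1, [4, 1, 6, 0, 4, 2, 3, 0], 5, [(394, 31), (836, 90), (785, 16), (613, 99), (344, 172), (662, 177), (635, 52)]⟩,
    ⟨1, [4, 1, 6, 4, 3, 0, 5, 2], 4, [(754, 23), (311, 45), (205, 10), (837, 99), (395, 84), (103, 35), (611, 141)]⟩,
    ⟨1, [5, 4, 3, 2, 1, 0, 6, 5, 0], 4, [(706, 45), (12, 1), (795, 89), (275, 162), (277, 48), (308, 49), (699, 18)]⟩,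
    ⟨1, [2, 1, 5, 4, 0, 0], 4, [(586, 142), (80, 95), (678, 96), (719, 16), (838, 45), (720, 102), (723, 33)]⟩,
    ⟨1, [6, 0, 4, 1, 5, 2, 3, 3], 5, [(819, 134), (821, 163), (619, 42), (820, 113), (839, 115), (691, 158), (603, 149)]⟩,
    ⟨1, [2, 3, 4, 2, 1], 3, [(119, 117), (536, 149), (805, 105), (586, 104), (679, 167), (89, 42), (159, 13)]⟩,
    ⟨1, [0, 1, 4, 3, 2, 1, 6], 4, [(672, 175), (108, 28), (702, 37), (298, 22), (840, 162), (405, 124), (406, 163)]⟩,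
    ⟨1, [3, 0, 4, 1, 5, 2, 6, 3], 5, [(832, 0), (728, 0), (544, 0), (830, 0), (833, 0), (841, 139), (69, 52)]⟩]

def a1steps_10 : List (Step) :=
  [⟨1, [5, 1, 6, 2, 3, 4, 1], 4, [(725, 153), (338, 45), (842, 57), (62, 2), (843, 122), (545, 162), (844, 65)]⟩,
    ⟨1, [3, 4, 5, 6, 0, 1, 2, 3], 4, [(238, 112), (694, 79), (845, 79), (245, 4), (766, 120), (763, 124), (612, 0)]⟩,
    ⟨1, [3, 0, 6, 4, 2, 1, 5, 0], 4, [(193, 93), (195, 102), (846, 155), (43, 47), (574, 72), (197, 32), (15, 137)]⟩,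
    ⟨1, [2, 5, 4, 0, 3, 6], 5, [(531, 30), (346, 94), (134, 91), (532, 106), (847, 24), (712, 84), (658, 23)]⟩,
    ⟨1, [6, 1, 2, 4, 3, 0, 5, 2, 0], 5, [(848, 124), (211, 30), (580, 132), (691, 154), (819, 62), (603, 170), (589, 66)]⟩,
    ⟨1, [1, 4, 2, 5, 3, 6, 4], 3, [(172, 0), (252, 0), (171, 111), (124, 38), (849, 1), (546, 182), (68, 0)]⟩,
    ⟨1, [1, 6, 6, 4, 3, 5, 0, 2], 5, [(850, 100), (336, 11), (144, 18), (427, 5), (478, 26), (181, 181), (278, 63)]⟩,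
    ⟨1, [0, 1, 6, 2, 3, 4, 5, 1], 5, [(658, 110), (657, 156), (592, 19), (851, 3), (569, 169), (376, 14), (591, 153)]⟩,
    ⟨1, [3, 2, 5, 6, 3, 1, 0, 4], 4, [(26, 113), (852, 112), (757, 130), (715, 172), (358, 79), (200, 47), (701, 34)]⟩,
    ⟨1, [1, 4, 2, 5, 3, 6, 0, 0], 5, [(609, 32), (853, 147), (843, 133), (849, 124), (180, 4), (174, 159), (170, 79)]⟩,
    ⟨1, [6, 5, 3, 2, 1, 4], 5, [(743, 144), (53, 20), (1, 24), (283, 34), (501, 20), (38, 102), (854, 37)]⟩,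
    ⟨1, [1, 2, 6, 5, 3, 3, 4, 0, 3], 4, [(483, 127), (855, 128), (818, 152), (856, 144), (13, 86), (226, 59), (857, 7)]⟩,
    ⟨1, [6, 0, 1, 4, 5, 1, 2], 4, [(251, 113), (577, 11), (421, 98), (755, 38), (858, 147), (630, 117), (8, 64)]⟩,
    ⟨1, [1, 2, 3, 0, 4, 6, 0], 2, [(542, 22), (788, 68), (676, 47), (113, 69), (597, 47), (557, 52), (859, 40), (257, 92), (117, 104), (695, 26)]⟩,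
    ⟨1, [0, 5, 6, 2, 1, 1], 2, [(563, 50), (21, 120), (492, 144), (494, 45), (131, 59), (449, 91), (51, 156), (564, 121), (567, 102), (598, 27)]⟩,
    ⟨1, [3, 0, 2, 6, 1, 1, 5, 4], 2, [(317, 154), (724, 8), (800, 50), (315, 146), (48, 173), (337, 33), (45, 104), (316, 8), (22, 153), (835, 135)]⟩,
    ⟨1, [5, 4, 1, 6, 0, 3, 2, 0], 2, [(691, 173), (860, 120), (820, 73), (44, 61), (654, 151), (329, 117), (621, 175), (29, 127), (327, 18), (821, 74)]⟩,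
    ⟨1, [4, 6, 0, 5], 2, [(159, 190), (504, 181), (354, 70), (76, 63), (267, 128), (270, 76), (265, 75), (332, 134), (719, 136), (351, 119)]⟩,
    ⟨1, [0, 1, 2, 3, 6, 0, 0], 2, [(341, 186), (549, 111), (486, 157), (488, 93), (339, 191), (67, 0), (548, 75), (110, 52), (487, 68), (556, 57)]⟩,
    ⟨1, [6, 0, 2, 3, 5, 1, 1, 4, 0], 2, [(757, 186), (673, 111), (358, 112), (120, 170), (702, 68), (822, 158), (701, 183), (672, 190), (405, 127), (807, 124)]⟩,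
    ⟨1, [6, 2, 5, 3, 1, 2], 2, [(536, 25), (75, 98), (504, 43), (266, 44), (861, 84), (457, 106), (130, 191), (862, 156), (863, 172), (534, 25)]⟩,
    ⟨1, [6, 5, 2, 0, 4, 3, 1], 2, [(471, 158), (567, 83), (600, 143), (786, 62), (438, 78), (136, 65), (563, 79), (437, 72), (434, 96), (492, 147)]⟩,
    ⟨1, [5, 4, 2, 3, 6, 1, 0, 0], 2, [(629, 154), (44, 15), (864, 47), (53, 140), (420, 183), (328, 17), (28, 175), (644, 51), (123, 131), (643, 184)]⟩,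
    ⟨1, [1, 6, 3, 5, 2, 0, 4], 2, [(331, 105), (375, 72), (865, 144), (374, 30), (72, 94), (416, 152), (419, 109), (333, 152), (332, 162), (373, 102)]⟩,
    ⟨1, [3, 2, 0, 5, 2], 2, [(404, 84), (715, 156), (361, 54), (360, 184), (757, 168), (358, 82), (651, 154), (408, 180), (405, 98), (716, 84)]⟩]

def a1steps_11 : List (Step) :=
  [⟨1, [1, 0, 2, 5, 3, 4, 4, 6, 0], 2, [(866, 3), (591, 111), (683, 184), (592, 48), (466, 87), (570, 5), (867, 120), (593, 33), (641, 174), (851, 23)]⟩,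
    ⟨1, [4, 0, 5, 1, 2, 3, 0, 6], 2, [(393, 120), (631, 154), (244, 67), (868, 21), (345, 64), (663, 35), (726, 163), (869, 23), (870, 118), (871, 109)]⟩,
    ⟨1, [3, 2, 6, 4, 2, 5, 1], 2, [(290, 88), (765, 165), (147, 123), (245, 49), (661, 149), (244, 176), (356, 135), (612, 118), (242, 135), (766, 146)]⟩,
    ⟨1, [6, 4, 0, 1, 4], 2, [(872, 125), (179, 128), (113, 162), (486, 54), (824, 54), (558, 181), (256, 71), (487, 109), (341, 83), (675, 8)]⟩,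
    ⟨1, [6, 1, 5, 2, 0, 3, 1, 4], 2, [(112, 41), (873, 87), (746, 59), (333, 117), (536, 58), (71, 137), (749, 75), (332, 121), (374, 38), (330, 175)]⟩,
    ⟨1, [1, 3, 5, 2, 0, 0, 6, 4], 2, [(795, 72), (758, 162), (278, 71), (144, 17), (431, 89), (401, 99), (277, 43), (143, 105), (850, 185), (12, 135)]⟩,
    ⟨1, [0, 6, 4, 5, 3, 2, 1, 0, 0], 2, [(722, 188), (333, 163), (874, 138), (873, 57), (586, 127), (71, 168), (372, 11), (719, 11), (720, 163), (806, 32)]⟩,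
    ⟨1, [1, 5, 3, 0, 6], 2, [(324, 149), (615, 16), (21, 2), (875, 73), (30, 161), (876, 1), (321, 32), (509, 152), (602, 20), (322, 2)]⟩,
    ⟨1, [0, 3, 5, 6, 4, 3, 1, 2, 2, 1], 2, [(150, 19), (670, 186), (681, 191), (525, 60), (669, 95), (521, 138), (667, 4), (135, 90), (522, 80), (866, 26)]⟩,
    ⟨1, [4, 1, 0, 3, 6, 4, 5], 2, [(71, 26), (161, 38), (0, 8), (419, 173), (352, 128), (877, 26), (353, 32), (375, 160), (373, 79), (417, 175)]⟩,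
    ⟨1, [3, 4, 5, 2, 6, 0, 3], 2, [(153, 11), (128, 140), (409, 143), (412, 8), (235, 47), (414, 65), (572, 163), (151, 72), (14, 171), (792, 22)]⟩,
    ⟨1, [1, 0, 4, 5, 3, 2, 1, 6], 2, [(782, 154), (593, 73), (878, 24), (525, 125), (829, 119), (523, 117), (591, 76), (135, 15), (522, 19), (466, 91)]⟩,
    ⟨1, [0, 6, 5, 2, 6, 4, 1, 0], 2, [(681, 92), (96, 89), (683, 33), (349, 17), (878, 103), (570, 174), (867, 141), (348, 91), (2, 3), (92, 172)]⟩,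
    ⟨1, [3, 4, 0, 2, 6, 5, 2, 1], 2, [(271, 186), (673, 87), (646, 180), (822, 170), (24, 58), (120, 158), (671, 75), (201, 12), (133, 83), (649, 89)]⟩,
    ⟨1, [6, 3, 4, 5, 3, 3], 2, [(879, 137), (164, 1), (698, 129), (696, 110), (880, 183), (576, 17), (881, 181), (163, 73), (697, 86), (17, 184)]⟩,
    ⟨1, [0, 5, 5, 4, 1, 6, 3, 0], 2, [(350, 172), (882, 13), (780, 166), (521, 57), (484, 127), (883, 49), (49, 120), (347, 160), (348, 140), (468, 3)]⟩,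
    ⟨1, [5, 2, 4, 0, 3, 5, 1], 2, [(657, 112), (683, 50), (656, 120), (368, 81), (781, 41), (884, 187), (592, 105), (667, 88), (468, 115), (851, 159)]⟩,
    ⟨1, [4, 0, 3, 6, 5, 1, 0, 0], 2, [(541, 37), (167, 3), (885, 80), (886, 123), (163, 2), (46, 73), (540, 187), (18, 175), (41, 7), (537, 174)]⟩,
    ⟨1, [4, 2, 5, 6, 1, 3, 0], 2, [(763, 166), (611, 120), (790, 144), (613, 45), (730, 32), (837, 13), (754, 53), (612, 169), (845, 187), (289, 120)]⟩,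
    ⟨1, [6, 0, 2, 4, 1, 1, 5, 3, 0], 2, [(795, 153), (337, 158), (428, 129), (142, 188), (274, 78), (313, 2), (391, 101), (708, 54), (482, 83), (6, 147)]⟩,
    ⟨1, [6, 5, 3, 2, 0, 1, 5], 2, [(591, 75), (473, 177), (590, 19), (778, 25), (455, 66), (568, 103), (465, 112), (782, 75), (107, 167), (829, 158)]⟩,
    ⟨1, [3, 2, 1, 3, 5, 0], 2, [(314, 132), (402, 49), (143, 17), (428, 132), (312, 41), (431, 105), (758, 164), (313, 175), (391, 65), (887, 0)]⟩,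
    ⟨1, [5, 4, 0, 3, 1, 2, 4, 6], 2, [(250, 48), (888, 184), (630, 8), (858, 132), (214, 50), (579, 73), (644, 168), (248, 92), (251, 129), (137, 64)]⟩,
    ⟨1, [6, 1, 2, 2, 4, 0, 1], 2, [(520, 125), (62, 105), (543, 104), (842, 100), (67, 114), (171, 58), (587, 50), (70, 5), (179, 143), (545, 33)]⟩,
    ⟨1, [3, 2, 4, 0, 5, 3, 6, 1], 2, [(363, 41), (343, 130), (889, 89), (109, 49), (890, 186), (766, 6), (764, 117), (342, 122), (208, 10), (869, 41)]⟩]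

def a1steps_12 : List (Step) :=
  [⟨1, [2, 6, 5, 1, 4, 4, 1, 0], 2, [(360, 153), (666, 8), (717, 132), (761, 60), (362, 73), (700, 81), (20, 155), (361, 137), (822, 168), (716, 157)]⟩,
    ⟨1, [4, 2, 2, 6, 1, 2], 2, [(891, 116), (558, 131), (728, 61), (841, 180), (853, 117), (833, 2), (729, 151), (555, 131), (892, 53), (556, 48)]⟩,
    ⟨1, [6, 3, 4, 2, 5, 4, 2, 1], 2, [(632, 99), (606, 155), (731, 160), (733, 20), (310, 89), (311, 21), (236, 44), (490, 48), (732, 163), (631, 167)]⟩,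
    ⟨1, [3, 1, 0, 2, 5, 4, 0, 1], 2, [(49, 185), (684, 122), (350, 78), (467, 83), (682, 147), (92, 2), (368, 34), (893, 185), (484, 153), (25, 22)]⟩,
    ⟨1, [0, 1, 2, 0, 6], 2, [(65, 137), (894, 51), (610, 11), (386, 0), (170, 8), (853, 137), (609, 136), (385, 85), (171, 86), (388, 42)]⟩,
    ⟨1, [0, 6, 2, 5, 1, 4, 3, 0, 0], 2, [(162, 22), (747, 74), (722, 49), (723, 49), (157, 130), (748, 10), (74, 167), (158, 103), (354, 24), (805, 17)]⟩,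
    ⟨1, [0, 6, 5, 1, 2, 3, 1, 1], 2, [(711, 60), (895, 116), (467, 175), (379, 68), (367, 89), (25, 142), (350, 187), (7, 189), (778, 69), (485, 84)]⟩,
    ⟨1, [2, 0, 6, 4, 0, 1, 3, 5], 2, [(143, 112), (476, 41), (314, 0), (304, 126), (94, 0), (221, 98), (222, 14), (477, 81), (391, 165), (479, 168)]⟩,
    ⟨1, [3, 0, 1, 6, 2], 2, [(252, 124), (520, 89), (253, 167), (70, 107), (139, 110), (545, 174), (257, 104), (488, 91), (638, 122), (675, 123)]⟩,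
    ⟨1, [4, 1, 5, 6, 1, 3, 2, 0], 2, [(365, 142), (285, 103), (241, 144), (310, 45), (289, 109), (309, 91), (287, 175), (896, 55), (816, 140), (366, 52)]⟩,
    ⟨1, [3, 5, 1, 2, 4, 0, 1, 6, 0, 0], 2, [(136, 12), (259, 88), (562, 27), (506, 112), (786, 5), (495, 110), (567, 163), (261, 7), (738, 11), (263, 31)]⟩,
    ⟨1, [2, 0, 4, 2, 6, 3, 5, 1], 2, [(270, 148), (416, 82), (796, 3), (535, 45), (838, 126), (119, 97), (503, 70), (76, 183), (773, 188), (504, 0)]⟩,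
    ⟨1, [5, 2, 3, 6, 2, 1, 0], 2, [(655, 121), (421, 8), (553, 104), (745, 179), (328, 114), (329, 182), (326, 50), (755, 149), (743, 29), (858, 132)]⟩,
    ⟨1, [4, 3, 6, 5, 4, 1, 2, 2, 1], 2, [(118, 55), (55, 186), (46, 4), (163, 12), (43, 176), (165, 140), (191, 175), (99, 72), (40, 17), (41, 7)]⟩,
    ⟨1, [4, 5, 2, 2, 6, 1, 3, 0], 2, [(5, 186), (459, 41), (505, 6), (260, 41), (617, 58), (47, 54), (616, 12), (460, 1), (58, 29), (687, 91)]⟩,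
    ⟨1, [5, 1, 3, 6, 1, 4, 0, 2], 2, [(1, 156), (644, 124), (283, 154), (318, 180), (710, 164), (320, 82), (123, 50), (897, 7), (898, 111), (53, 184)]⟩,
    ⟨1, [2, 3, 0, 1, 4, 6, 1, 1], 2, [(61, 77), (728, 113), (557, 128), (556, 150), (63, 8), (841, 158), (69, 112), (488, 28), (486, 112), (608, 102)]⟩,
    ⟨1, [4, 0, 5, 3, 2, 2, 1], 2, [(109, 117), (394, 107), (343, 160), (245, 73), (785, 28), (845, 21), (344, 120), (147, 188), (766, 69), (393, 31)]⟩,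
    ⟨1, [2, 5, 6, 0, 4, 2, 0], 2, [(258, 99), (463, 117), (10, 160), (529, 89), (899, 89), (462, 99), (260, 80), (900, 93), (516, 187), (264, 45)]⟩,
    ⟨1, [2, 1, 6, 5, 1, 0, 3, 4], 2, [(278, 137), (184, 136), (224, 14), (727, 84), (181, 84), (185, 82), (275, 158), (427, 156), (825, 140), (482, 139)]⟩,
    ⟨1, [6, 0, 4, 6, 1, 3, 2], 2, [(545, 99), (841, 89), (543, 91), (558, 17), (64, 114), (833, 136), (544, 91), (725, 32), (842, 106), (117, 172)]⟩,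
    ⟨1, [4, 2, 2, 5, 0], 2, [(34, 172), (666, 163), (199, 166), (198, 57), (20, 127), (97, 20), (762, 93), (716, 179), (614, 157), (653, 106)]⟩,
    ⟨1, [3, 2, 5, 0, 1, 4, 0], 2, [(232, 78), (447, 70), (186, 8), (188, 18), (17, 128), (190, 147), (901, 178), (167, 16), (165, 91), (233, 137)]⟩,
    ⟨1, [1, 4, 6, 3, 5, 2, 1, 0, 0], 2, [(84, 55), (503, 28), (130, 151), (416, 184), (89, 142), (504, 142), (457, 166), (85, 109), (91, 29), (127, 8)]⟩,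
    ⟨1, [3, 0, 1, 6, 0, 2, 4], 2, [(891, 77), (544, 71), (637, 184), (542, 73), (892, 8), (832, 5), (728, 190), (596, 116), (849, 139), (139, 112)]⟩]

def a1steps_13 : List (Step) :=
  [⟨1, [0, 5, 4, 2, 3, 6, 1, 0, 0], 2, [(686, 154), (324, 15), (463, 47), (508, 140), (565, 183), (448, 117), (21, 76), (510, 51), (687, 131), (602, 91)]⟩,
    ⟨1, [2, 4, 3, 6, 0, 2], 2, [(853, 56), (872, 154), (891, 67), (110, 21), (256, 27), (252, 65), (254, 163), (824, 166), (729, 118), (823, 109)]⟩,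
    ⟨1, [1, 6, 3, 2, 4, 0], 2, [(833, 183), (62, 4), (892, 131), (843, 156), (171, 89), (170, 14), (66, 21), (842, 47), (853, 80), (64, 167)]⟩,
    ⟨1, [6, 1, 4, 5, 2, 0, 3, 6, 0], 2, [(149, 18), (12, 82), (430, 147), (308, 161), (54, 89), (479, 98), (887, 43), (699, 173), (480, 185), (482, 168)]⟩,
    ⟨1, [3, 0, 1, 2, 5, 6, 4, 1], 2, [(32, 128), (275, 113), (479, 154), (305, 63), (276, 72), (308, 125), (12, 37), (317, 27), (19, 115), (182, 34)]⟩,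
    ⟨1, [0, 1, 2, 3, 4, 5, 0, 6], 2, [(572, 186), (734, 124), (698, 8), (685, 80), (232, 128), (17, 137), (696, 152), (584, 141), (901, 167), (793, 171)]⟩,
    ⟨1, [6, 5, 0, 3, 4, 1, 2, 6], 2, [(104, 165), (600, 114), (602, 56), (599, 168), (434, 149), (509, 73), (875, 75), (471, 154), (436, 189), (598, 119)]⟩,
    ⟨1, [2, 1, 3, 5, 6, 4, 4, 2], 2, [(149, 180), (225, 2), (184, 150), (403, 138), (100, 14), (185, 46), (727, 121), (228, 25), (31, 143), (402, 178)]⟩,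
    ⟨1, [6, 0, 2, 5, 4, 2, 1, 3, 0], 2, [(27, 4), (454, 145), (569, 71), (348, 93), (451, 186), (453, 181), (465, 75), (883, 12), (484, 136), (523, 147)]⟩,
    ⟨1, [3, 0, 5, 6, 1, 4, 2], 2, [(151, 99), (879, 89), (412, 100), (41, 155), (156, 179), (410, 136), (902, 91), (903, 32), (14, 3), (148, 66)]⟩,
    ⟨1, [3, 5, 6, 3, 4, 0, 3], 2, [(567, 24), (58, 68), (461, 31), (260, 69), (492, 47), (460, 52), (563, 53), (259, 12), (904, 171), (263, 22)]⟩,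
    ⟨1, [3, 5, 0, 3], 2, [(462, 44), (324, 167), (904, 112), (449, 19), (511, 21), (496, 139), (508, 0), (659, 112), (493, 64), (448, 58)]⟩,
    ⟨1, [5, 2, 4, 3, 6, 4, 2], 2, [(854, 82), (654, 50), (501, 120), (500, 81), (249, 41), (690, 187), (905, 42), (744, 58), (213, 3), (743, 159)]⟩,
    ⟨1, [5, 6, 3, 5, 1, 0], 2, [(536, 87), (86, 26), (332, 108), (334, 117), (87, 114), (82, 139), (91, 137), (122, 156), (873, 167), (535, 117)]⟩,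
    ⟨1, [1, 5, 5, 6, 4, 3, 2, 1], 2, [(855, 186), (906, 187), (231, 18), (628, 154), (857, 47), (828, 1), (850, 40), (798, 94), (13, 104), (794, 22)]⟩,
    ⟨1, [0, 0, 6, 5, 4, 3, 2, 1], 2, [(655, 186), (907, 41), (326, 154), (284, 20), (864, 9), (28, 168), (552, 50), (283, 7), (328, 111), (281, 185)]⟩,
    ⟨1, [5, 6, 3, 4, 0, 0], 2, [(553, 156), (854, 111), (860, 0), (214, 81), (655, 41), (53, 123), (743, 4), (248, 159), (888, 97), (744, 138)]⟩,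
    ⟨1, [5, 2, 3, 0, 0, 4, 1, 6], 2, [(750, 116), (329, 122), (588, 78), (420, 83), (624, 100), (623, 2), (500, 34), (28, 185), (629, 171), (36, 22)]⟩,
    ⟨1, [2, 5, 1, 3, 6, 4, 0, 2], 2, [(566, 182), (494, 11), (438, 179), (437, 33), (876, 50), (104, 178), (564, 168), (595, 163), (908, 85), (567, 101)]⟩,
    ⟨1, [], 2, [(61, 0), (62, 0), (63, 0), (64, 0), (65, 0), (66, 0), (67, 0), (68, 0), (69, 0), (70, 0)]⟩,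
    ⟨1, [3, 4, 5, 0, 3, 6, 0, 2, 1, 0], 2, [(902, 54), (193, 15), (901, 47), (195, 88), (585, 183), (584, 112), (685, 175), (846, 171), (128, 140), (194, 184)]⟩,
    ⟨1, [3, 0, 4, 2, 5, 1], 2, [(791, 84), (763, 85), (102, 26), (815, 137), (343, 167), (765, 105), (730, 82), (817, 98), (870, 106), (754, 0)]⟩,
    ⟨1, [0, 3, 2, 4, 6, 1, 1, 5], 2, [(230, 123), (708, 64), (149, 143), (142, 23), (276, 143), (482, 122), (699, 14), (45, 69), (481, 157), (229, 176)]⟩,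
    ⟨1, [5, 0, 6, 4, 2, 2, 3, 1, 0], 2, [(248, 187), (897, 56), (281, 174), (898, 181), (214, 76), (318, 140), (888, 131), (138, 102), (212, 105), (550, 60)]⟩,
    ⟨1, [2, 4, 5, 0, 0, 6, 1], 2, [(442, 153), (909, 8), (852, 172), (650, 60), (426, 73), (910, 81), (911, 155), (768, 137), (444, 178), (912, 10)]⟩]

def a1steps_14 : List (Step) :=
  [⟨1, [1, 5, 4, 3, 2, 1], 2, [(259, 183), (616, 83), (493, 71), (527, 93), (505, 78), (803, 181), (594, 75), (47, 12), (10, 136), (595, 147)]⟩,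
    ⟨1, [0, 4, 1, 5, 2, 4, 3], 2, [(731, 186), (309, 111), (754, 129), (816, 1), (633, 186), (289, 0), (611, 103), (236, 165), (634, 74), (311, 175)]⟩,
    ⟨1, [3, 2, 6, 5, 0, 0, 4], 2, [(359, 25), (715, 72), (769, 59), (717, 99), (358, 53), (701, 84), (442, 44), (360, 156), (822, 19), (714, 113)]⟩,
    ⟨1, [0, 6, 5, 3, 1, 4, 2], 2, [(59, 72), (893, 173), (866, 71), (684, 17), (381, 56), (682, 190), (759, 43), (379, 105), (380, 118), (913, 135)]⟩,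
    ⟨1, [2, 4, 6, 5, 1], 2, [(837, 45), (243, 183), (785, 70), (206, 2), (395, 138), (147, 9), (394, 88), (732, 91), (205, 61), (836, 146)]⟩,
    ⟨1, [5, 4, 3, 2, 6, 0, 4], 2, [(249, 147), (137, 172), (692, 31), (281, 124), (250, 35), (320, 173), (709, 140), (248, 186), (212, 127), (705, 1)]⟩,
    ⟨1, [4, 1, 3, 4, 6, 0, 5, 2, 1], 2, [(130, 125), (914, 15), (865, 54), (294, 78), (371, 54), (373, 181), (374, 67), (75, 109), (502, 107), (534, 117)]⟩,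
    ⟨1, [6, 0, 5], 2, [(677, 186), (85, 87), (797, 69), (119, 167), (84, 21), (86, 74), (90, 40), (127, 137), (772, 139), (418, 175)]⟩,
    ⟨1, [1, 0, 4, 5, 6, 1, 3, 2, 0], 2, [(484, 89), (913, 15), (27, 102), (593, 140), (467, 183), (590, 135), (893, 175), (3, 51), (569, 131), (759, 84)]⟩,
    ⟨1, [6, 1, 4, 5, 2, 3, 1, 1, 0], 2, [(430, 5), (825, 167), (304, 7), (336, 151), (727, 9), (221, 158), (476, 75), (427, 52), (313, 136), (478, 75)]⟩,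
    ⟨1, [4, 1, 5, 2, 6, 3, 1, 1], 2, [(239, 163), (208, 96), (311, 136), (205, 145), (915, 6), (753, 181), (241, 175), (785, 72), (837, 2), (209, 46)]⟩,
    ⟨1, [2, 1, 6, 0, 5, 4, 3, 0, 2], 2, [(749, 184), (82, 116), (132, 78), (331, 54), (87, 67), (81, 73), (83, 166), (873, 163), (0, 7), (330, 119)]⟩,
    ⟨1, [1, 6, 3, 1, 5], 2, [(232, 66), (741, 172), (165, 161), (189, 116), (235, 2), (192, 74), (152, 136), (584, 186), (186, 60), (734, 174)]⟩,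
    ⟨1, [6, 0, 4, 5, 3, 2, 2, 1, 0], 2, [(135, 186), (851, 97), (571, 7), (27, 168), (866, 105), (682, 137), (150, 52), (593, 0), (759, 189), (829, 5)]⟩,
    ⟨1, [6, 3, 0, 5, 1, 4, 0, 2], 2, [(573, 132), (540, 184), (792, 54), (916, 50), (166, 129), (735, 17), (696, 176), (101, 123), (219, 116), (538, 142)]⟩,
    ⟨1, [5, 1, 0, 2, 3, 6, 4, 1, 0], 2, [(642, 172), (580, 16), (618, 2), (421, 73), (821, 161), (820, 1), (619, 38), (579, 25), (44, 20), (620, 23)]⟩,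
    ⟨1, [5, 4, 3, 1, 1, 6, 0, 2], 2, [(318, 184), (552, 134), (692, 154), (689, 153), (888, 57), (705, 122), (281, 31), (643, 7), (29, 14), (907, 174)]⟩,
    ⟨1, [1, 4, 6, 5, 2, 3, 0, 2], 2, [(247, 48), (635, 3), (393, 80), (344, 123), (693, 67), (345, 73), (726, 187), (441, 175), (115, 7), (394, 112)]⟩,
    ⟨1, [6, 2, 0, 5, 2, 3, 1], 2, [(700, 170), (715, 89), (703, 65), (26, 165), (20, 52), (770, 4), (717, 141), (398, 141), (665, 3), (701, 180)]⟩,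
    ⟨1, [5, 0, 6, 1, 5, 4, 3, 2, 0], 2, [(503, 147), (74, 56), (119, 163), (797, 154), (458, 78), (771, 187), (776, 187), (269, 175), (796, 17), (418, 147)]⟩,
    ⟨1, [6, 4, 3, 5, 0, 1, 4, 2], 2, [(815, 112), (731, 128), (365, 12), (753, 30), (663, 125), (783, 91), (634, 95), (102, 125), (129, 143), (754, 115)]⟩,
    ⟨1, [5, 3, 4, 6, 3, 0, 2, 1], 1, [(92, 31), (847, 52), (12, 36), (786, 91), (752, 24), (405, 112), (270, 72), (911, 95), (494, 28), (815, 30), (246, 118), (601, 145), (129, 130), (917, 73), (27, 110), (392, 26), (727, 169), (569, 154), (76, 108), (757, 90), (274, 103), (130, 0), (910, 124), (530, 140), (241, 130), (458, 0), (887, 189), (221, 149), (679, 52), (600, 184)]⟩,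
    ⟨1, [1, 1, 0], 1, [(93, 0), (516, 0), (658, 0), (757, 0), (361, 0), (751, 66), (305, 0), (705, 66), (715, 0), (167, 0), (582, 0), (360, 66), (696, 84), (624, 23), (519, 124), (742, 124), (684, 0), (140, 51), (275, 0), (784, 41), (376, 108), (277, 0), (553, 23), (469, 0), (538, 65), (478, 0), (530, 0), (379, 110), (401, 134), (404, 134)]⟩,
    ⟨1, [3, 5, 6, 3, 4, 0, 3], 1, [(479, 4), (22, 139), (675, 94), (357, 125), (20, 175), (27, 139), (848, 44), (639, 6), (918, 121), (288, 115), (345, 79), (718, 14), (355, 157), (590, 163), (316, 180), (291, 131), (608, 123), (303, 166), (689, 175), (37, 52), (487, 165), (29, 39), (568, 77), (314, 4), (204, 156), (819, 32), (788, 119), (110, 68), (53, 105), (665, 7)]⟩,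
    ⟨1, [2, 3, 4, 6, 0, 3, 5, 0, 1], 1, [(844, 125), (65, 140), (315, 184), (28, 72), (319, 17), (817, 24), (104, 112), (309, 68), (327, 56), (679, 152), (862, 123), (692, 1), (160, 12), (869, 46), (607, 172), (749, 21), (825, 81), (340, 173), (919, 189), (289, 51), (628, 94), (58, 83), (606, 115), (62, 64), (158, 13), (21, 97), (221, 2), (828, 119), (51, 157), (624, 62)]⟩]

def a1steps_15 : List (Step) :=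
  [⟨1, [5, 4, 3, 6, 0, 2, 4, 1], 1, [(425, 139), (757, 183), (275, 76), (76, 139), (353, 101), (494, 176), (46, 139), (51, 139), (112, 139), (548, 175), (892, 5), (749, 59), (113, 56), (564, 2), (200, 187), (66, 92), (335, 43), (272, 191), (734, 160), (492, 138), (182, 191), (920, 189), (131, 165), (702, 116), (254, 23), (410, 37), (274, 34), (856, 125), (881, 29), (354, 80)]⟩,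
    ⟨1, [2, 0, 4, 1, 3, 0, 5], 0, [(262, 146), (724, 130), (54, 177), (842, 167), (67, 112), (851, 92), (476, 165), (437, 152), (448, 99), (695, 152), (623, 13), (347, 148), (369, 35), (764, 19), (663, 79), (393, 110), (790, 169), (611, 79), (778, 112), (603, 19), (546, 89), (847, 14), (578, 23), (126, 136), (483, 169), (784, 110), (921, 140), (517, 5), (136, 83), (892, 186)]⟩,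
    ⟨1, [0, 3, 3, 2, 1, 5, 4, 0], 1, [(615, 24), (601, 134), (905, 73), (40, 97), (741, 40), (632, 119), (176, 5), (209, 46), (194, 132), (913, 81), (683, 174), (156, 80), (525, 133), (836, 28), (736, 15), (922, 33), (146, 64), (57, 48), (923, 128), (236, 85), (755, 122), (729, 158), (785, 84), (875, 60), (681, 10), (341, 135), (690, 118), (858, 74), (556, 101), (734, 189)]⟩,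
    ⟨1, [3, 2, 4, 6, 0, 2, 5, 1], 0, [(178, 170), (109, 170), (890, 21), (12, 6), (801, 106), (506, 26), (871, 130), (171, 188), (255, 26), (31, 56), (270, 4), (594, 142), (659, 147), (282, 90), (214, 147), (420, 104), (745, 152), (38, 95), (436, 97), (294, 6), (335, 25), (136, 41), (333, 180), (73, 93), (288, 183), (776, 36), (663, 131), (69, 12), (513, 147), (850, 124)]⟩,
    ⟨1, [1, 4, 0, 6, 5, 0, 2, 3], 0, [(39, 106), (74, 20), (504, 92), (197, 26), (924, 148), (580, 39), (417, 46), (98, 91), (389, 99), (414, 52), (117, 162), (553, 126), (643, 165), (181, 99), (54, 177), (826, 103), (482, 30), (475, 186), (50, 0), (925, 14), (217, 69), (854, 12), (179, 15), (894, 58), (723, 14), (549, 103), (159, 9), (769, 5), (199, 181), (55, 181)]⟩,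
    ⟨1, [0, 2, 3, 5, 6, 0, 0], 0, [(864, 103), (73, 170), (865, 146), (116, 95), (66, 188), (428, 114), (375, 21), (251, 3), (644, 26), (638, 26), (516, 146), (857, 168), (724, 49), (349, 106), (465, 26), (668, 47), (895, 37), (778, 108), (305, 171), (93, 26), (849, 64), (800, 41), (494, 102), (510, 51), (457, 71), (617, 139), (330, 34), (422, 152), (705, 22), (61, 78)]⟩,
    ⟨1, [0, 6, 4, 0, 3, 1, 5, 2, 0], 1, [(578, 26), (743, 106), (130, 23), (336, 120), (429, 106), (703, 138), (788, 100), (423, 182), (314, 124), (889, 78), (393, 174), (887, 35), (286, 28), (717, 104), (654, 33), (147, 79), (330, 51), (689, 117), (106, 188), (35, 32), (75, 142), (831, 147), (718, 158), (755, 190), (291, 121), (68, 25), (332, 132), (747, 183), (338, 58), (906, 133)]⟩,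
    ⟨1, [6, 2, 5, 0, 3, 6, 1, 4, 0], 1, [(574, 128), (189, 61), (398, 33), (511, 91), (322, 39), (344, 8), (144, 133), (236, 33), (528, 23), (384, 55), (542, 25), (136, 162), (338, 106), (291, 12), (734, 91), (507, 179), (24, 16), (696, 188), (478, 169), (239, 77), (442, 109), (475, 138), (633, 66), (43, 39), (340, 158), (182, 104), (97, 123), (674, 54), (48, 71), (324, 78)]⟩,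
    ⟨1, [2, 0, 5, 2, 4, 3, 1], 1, [(285, 73), (121, 181), (432, 102), (451, 117), (681, 101), (559, 48), (510, 38), (164, 170), (381, 139), (282, 110), (854, 99), (382, 45), (589, 39), (217, 119), (147, 137), (283, 149), (317, 37), (290, 49), (686, 119), (811, 189), (794, 81), (875, 37), (734, 71), (366, 18), (213, 49), (511, 148), (403, 97), (802, 164), (787, 122), (456, 69)]⟩,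
    ⟨1, [3, 5, 4, 2, 0, 1, 5], 1, [(740, 171), (357, 116), (511, 45), (894, 142), (256, 180), (276, 108), (247, 101), (758, 106), (555, 139), (499, 43), (251, 134), (113, 155), (897, 177), (706, 113), (360, 155), (213, 81), (566, 13), (718, 152), (664, 87), (32, 125), (512, 148), (660, 149), (400, 67), (665, 37), (579, 131), (394, 84), (528, 11), (57, 142), (836, 91), (386, 19)]⟩,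
    ⟨1, [5, 4, 3, 6, 0, 4, 1, 2, 0], 1, [(878, 35), (367, 72), (584, 73), (57, 8), (51, 27), (666, 87), (401, 145), (299, 36), (258, 50), (387, 103), (168, 164), (58, 13), (252, 36), (740, 16), (150, 99), (385, 30), (216, 12), (681, 182), (403, 28), (297, 28), (583, 128), (275, 17), (425, 134), (369, 143), (175, 18), (478, 176), (234, 10), (879, 172), (308, 73), (321, 23)]⟩,
    ⟨1, [0, 5, 1, 2, 3, 4, 5], 1, [(926, 1), (656, 1), (595, 76), (891, 11), (927, 158), (392, 119), (327, 175), (789, 81), (823, 132), (430, 106), (183, 55), (340, 132), (142, 185), (816, 121), (367, 44), (477, 171), (598, 5), (473, 138), (605, 144), (245, 184), (496, 83), (550, 39), (310, 0), (376, 89), (48, 151), (44, 135), (876, 106), (599, 65), (888, 20), (387, 29)]⟩,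
    ⟨1, [1, 6, 4, 2, 0, 0, 3], 1, [(689, 155), (888, 117), (537, 110), (265, 179), (372, 117), (344, 157), (297, 170), (247, 100), (877, 28), (866, 150), (657, 69), (373, 93), (134, 39), (345, 119), (318, 94), (667, 187), (573, 47), (907, 187), (300, 71), (394, 90), (886, 15), (911, 38), (693, 133), (705, 191), (658, 49), (404, 173), (538, 41), (111, 45), (125, 142), (269, 18)]⟩,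
    ⟨1, [5, 0, 3, 4, 1, 6, 2, 1, 0], 0, [(846, 164), (646, 135), (60, 155), (448, 55), (58, 81), (502, 114), (299, 86), (55, 134), (742, 148), (562, 56), (224, 60), (723, 109), (806, 184), (489, 178), (110, 28), (596, 81), (175, 57), (725, 54), (71, 173), (184, 106), (469, 160), (161, 22), (45, 110), (401, 32), (718, 149), (143, 102), (404, 114), (812, 20), (152, 22), (512, 89)]⟩,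
    ⟨1, [5, 1, 4, 6, 1], 0, [(127, 81), (532, 35), (913, 11), (460, 121), (33, 143), (441, 75), (37, 125), (79, 116), (330, 34), (262, 64), (389, 88), (236, 11), (121, 30), (885, 23), (734, 22), (813, 191), (574, 12), (559, 135), (733, 46), (674, 11), (495, 33), (789, 35), (918, 52), (717, 117), (523, 3), (762, 143), (377, 188), (268, 31), (294, 0), (875, 132)]⟩,
    ⟨1, [1, 6, 4, 3, 5, 0, 1, 2, 0, 0], 0, [(903, 120), (653, 93), (909, 12), (420, 36), (755, 58), (177, 38), (665, 36), (128, 191), (582, 145), (210, 54), (592, 170), (609, 151), (253, 58), (90, 130), (863, 69), (774, 5), (333, 127), (351, 71), (178, 82), (381, 20), (784, 167), (341, 150), (52, 155), (867, 99), (133, 108), (453, 74), (807, 2), (197, 131), (413, 72), (282, 26)]⟩,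
    ⟨1, [0, 4, 1, 6, 4, 3, 2, 5], 1, [(895, 168), (668, 32), (116, 175), (627, 34), (494, 75), (299, 40), (864, 174), (408, 91), (510, 42), (330, 15), (865, 168), (686, 30), (267, 131), (301, 89), (657, 44), (132, 144), (638, 126), (656, 20), (1, 7), (717, 139), (388, 117), (422, 146), (406, 74), (377, 9), (504, 164), (689, 82), (338, 3), (608, 159), (327, 80), (495, 69)]⟩,
    ⟨1, [1, 0, 4, 3, 2, 5, 0, 6], 1, [(44, 11), (819, 175), (373, 96), (790, 91), (238, 44), (565, 59), (822, 175), (876, 132), (817, 126), (657, 38), (571, 94), (237, 119), (474, 77), (51, 171), (655, 180), (829, 3), (122, 143), (326, 77), (649, 95), (686, 5), (333, 56), (650, 167), (617, 84), (821, 54), (451, 15), (359, 85), (0, 113), (334, 105), (444, 159), (845, 84)]⟩,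
    ⟨1, [6, 5, 0, 3, 1, 4, 2, 0], 1, [(782, 55), (59, 88), (746, 39), (225, 172), (708, 84), (199, 46), (245, 107), (701, 149), (825, 70), (515, 136), (844, 173), (278, 89), (558, 146), (271, 17), (895, 86), (925, 47), (873, 102), (369, 3), (890, 149), (852, 18), (112, 156), (753, 32), (649, 32), (135, 172), (842, 165), (243, 125), (333, 135), (536, 40), (732, 6), (399, 10)]⟩,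
    ⟨1, [0, 1, 2, 3, 4, 5, 0], 0, [(175, 0), (611, 0), (439, 37), (328, 129), (690, 66), (469, 66), (207, 91), (117, 147), (729, 0), (644, 66), (884, 156), (517, 84), (505, 66), (335, 186), (224, 190), (231, 30), (317, 41), (724, 162), (459, 190), (523, 94), (282, 184), (875, 122), (347, 81), (913, 112), (121, 112), (533, 181), (928, 158), (892, 87), (489, 170), (578, 184)]⟩,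
    ⟨1, [2, 3, 5, 0, 4, 6, 0, 1], 1, [(776, 185), (79, 41), (335, 64), (44, 106), (751, 61), (574, 68), (928, 84), (537, 100), (29, 79), (908, 13), (492, 27), (689, 100), (47, 136), (572, 101), (84, 186), (471, 149), (95, 187), (127, 43), (237, 183), (196, 148), (226, 13), (791, 43), (233, 136), (157, 154), (259, 152), (868, 30), (336, 172), (223, 148), (733, 126), (618, 107)]⟩,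
    ⟨1, [1, 2, 0, 6, 3, 4, 4, 5], 0, [(73, 140), (480, 91), (857, 112), (255, 37), (638, 186), (644, 186), (399, 49), (536, 24), (457, 44), (520, 53), (516, 107), (279, 112), (554, 40), (37, 25), (668, 25), (135, 142), (895, 117), (658, 167), (751, 167), (904, 107), (849, 93), (422, 38), (505, 136), (93, 167), (428, 159), (563, 82), (314, 41), (748, 92), (293, 71), (168, 93)]⟩,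
    ⟨1, [2, 5, 3, 6, 4, 2, 2, 1, 0], 1, [(644, 64), (38, 185), (913, 51), (394, 79), (791, 79), (480, 80), (79, 101), (432, 108), (242, 131), (133, 150), (929, 70), (611, 113), (360, 115), (699, 144), (854, 135), (271, 64), (350, 188), (250, 25), (80, 44), (306, 89), (922, 107), (720, 85), (707, 5), (642, 149), (716, 1), (159, 85), (3, 86), (884, 185), (873, 19), (344, 20)]⟩,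
    ⟨1, [3, 1, 2, 4, 5, 2, 6, 0, 2], 0, [(455, 104), (414, 22), (445, 11), (206, 84), (635, 148), (131, 32), (920, 140), (670, 148), (524, 121), (664, 177), (374, 181), (687, 66), (602, 148), (319, 154), (756, 111), (211, 41), (123, 103), (897, 151), (495, 125), (502, 109), (241, 144), (261, 130), (874, 120), (295, 114), (215, 180), (72, 30), (190, 103), (712, 55), (350, 167), (289, 109)]⟩,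
    ⟨1, [1, 2, 6, 0, 5, 3, 4, 1], 0, [(660, 115), (406, 26), (98, 152), (499, 106), (29, 52), (101, 35), (645, 4), (613, 15), (241, 176), (319, 59), (494, 109), (813, 46), (190, 59), (668, 151), (593, 88), (25, 58), (349, 103), (712, 26), (46, 122), (688, 51), (864, 109), (233, 57), (436, 181), (261, 12), (60, 3), (33, 30), (42, 75), (205, 140), (491, 58), (839, 92)]⟩]

def a1steps_16 : List (Step) :=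
  [⟨1, [3, 0, 2, 6, 1, 2, 5], 0, [(576, 87), (437, 136), (517, 180), (67, 87), (64, 98), (768, 155), (508, 82), (901, 15), (197, 179), (341, 179), (161, 94), (296, 130), (807, 179), (743, 58), (318, 86), (710, 176), (552, 104), (784, 186), (108, 61), (586, 96), (610, 100), (822, 188), (862, 34), (90, 58), (264, 45), (772, 151), (145, 63), (189, 169), (220, 90), (636, 182)]⟩,
    ⟨1, [2, 4, 6, 0, 5, 5, 3, 1], 0, [(447, 69), (356, 80), (237, 148), (227, 61), (95, 46), (294, 22), (613, 22), (572, 177), (813, 41), (226, 74), (907, 0), (796, 91), (127, 22), (170, 1), (556, 189), (513, 112), (927, 81), (179, 36), (91, 149), (618, 184), (481, 19), (157, 68), (29, 75), (630, 148), (733, 130), (655, 170), (491, 19), (196, 91), (583, 168), (758, 184)]⟩,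
    ⟨1, [4, 6, 2, 1, 3, 0, 2, 5, 0, 0], 1, [(90, 64), (914, 118), (783, 51), (793, 15), (541, 51), (94, 8), (66, 153), (475, 29), (572, 147), (23, 71), (39, 184), (114, 2), (769, 114), (226, 168), (374, 178), (34, 99), (930, 3), (91, 73), (63, 151), (6, 114), (208, 151), (675, 3), (307, 68), (805, 128), (674, 115), (549, 158), (345, 132), (206, 113), (252, 34), (583, 117)]⟩,
    ⟨1, [0, 6, 4, 5, 3, 1, 2, 2], 1, [(67, 134), (844, 182), (812, 165), (887, 10), (315, 143), (203, 72), (138, 97), (404, 99), (427, 24), (845, 138), (342, 6), (336, 182), (837, 144), (614, 64), (725, 57), (890, 12), (188, 86), (548, 12), (211, 2), (767, 150), (920, 144), (589, 114), (408, 36), (178, 3), (791, 183), (625, 145), (187, 40), (742, 54), (500, 22), (799, 41)]⟩,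
    ⟨1, [6, 5, 2, 4, 5, 3, 1, 2], 0, [(835, 1), (346, 1), (525, 91), (678, 0), (504, 9), (495, 6), (926, 10), (482, 136), (855, 36), (119, 184), (881, 21), (461, 136), (598, 6), (783, 60), (344, 145), (789, 18), (244, 84), (816, 131), (435, 104), (560, 29), (74, 50), (145, 157), (414, 11), (153, 29), (682, 170), (40, 159), (592, 162), (304, 182), (222, 80), (873, 167)]⟩,
    ⟨1, [4, 3, 3, 6, 5, 3, 2, 1, 0], 1, [(244, 53), (631, 191), (525, 1), (545, 139), (728, 139), (800, 56), (35, 132), (402, 1), (68, 189), (806, 99), (678, 149), (608, 74), (805, 7), (835, 159), (345, 36), (719, 161), (141, 41), (393, 2), (443, 175), (312, 115), (523, 124), (714, 93), (429, 46), (868, 136), (75, 12), (273, 2), (134, 158), (590, 165), (614, 9), (544, 136)]⟩,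
    ⟨1, [5, 6, 3, 1, 6, 0], 1, [(85, 132), (458, 147), (670, 113), (26, 48), (24, 38), (786, 30), (887, 97), (803, 155), (357, 90), (610, 123), (841, 66), (133, 97), (607, 154), (567, 38), (863, 172), (833, 0), (485, 80), (417, 118), (149, 158), (145, 58), (532, 128), (13, 190), (528, 188), (83, 59), (341, 86), (799, 16), (3, 186), (533, 56), (798, 30), (807, 30)]⟩,
    ⟨1, [1, 2, 6, 3, 4, 2, 5, 1], 1, [(875, 68), (736, 75), (898, 174), (538, 128), (901, 157), (546, 173), (381, 167), (69, 8), (792, 175), (651, 175), (834, 131), (128, 63), (666, 4), (340, 2), (57, 79), (807, 10), (123, 43), (876, 90), (571, 88), (597, 138), (318, 120), (782, 189), (832, 165), (738, 116), (665, 23), (379, 120), (710, 154), (53, 125), (107, 171), (539, 189)]⟩,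
    ⟨1, [0, 6, 1], 1, [(878, 1), (658, 139), (94, 1), (398, 6), (271, 139), (269, 112), (705, 1), (293, 158), (666, 159), (576, 159), (233, 186), (929, 132), (698, 122), (806, 88), (569, 8), (931, 33), (336, 111), (348, 81), (248, 69), (503, 57), (795, 147), (138, 106), (292, 159), (779, 14), (447, 140), (756, 80), (825, 85), (274, 2), (577, 2), (200, 138)]⟩,
    ⟨1, [6, 5, 1, 0, 3, 2, 1, 4], 1, [(193, 50), (41, 50), (731, 110), (369, 87), (658, 16), (373, 18), (174, 172), (874, 154), (368, 182), (706, 165), (827, 33), (530, 175), (335, 35), (371, 16), (879, 48), (276, 99), (490, 48), (194, 128), (609, 28), (0, 165), (236, 105), (597, 94), (677, 8), (411, 191), (221, 179), (925, 9), (732, 49), (606, 16), (542, 44), (591, 73)]⟩,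
    ⟨1, [6, 0, 4, 3, 5, 0, 2], 1, [(708, 98), (303, 69), (425, 80), (168, 105), (487, 122), (616, 33), (234, 69), (324, 21), (925, 24), (570, 75), (376, 1), (340, 33), (878, 58), (140, 0), (835, 60), (56, 164), (932, 84), (45, 7), (233, 155), (321, 168), (673, 94), (537, 12), (627, 16), (308, 44), (523, 156), (810, 181), (272, 59), (834, 175), (812, 125), (67, 127)]⟩,
    ⟨1, [0, 3, 1, 4, 2, 6, 3, 5], 0, [(262, 66), (644, 66), (550, 139), (842, 37), (257, 54), (926, 1), (211, 76), (899, 139), (131, 1), (388, 158), (399, 3), (2, 139), (350, 1), (125, 5), (852, 119), (717, 67), (359, 41), (652, 78), (913, 113), (825, 132), (823, 132), (682, 132), (855, 158), (699, 3), (327, 81), (481, 111), (750, 71), (529, 81), (495, 119), (172, 167)]⟩,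
    ⟨1, [2, 3, 4, 0, 5, 6, 3], 0, [(747, 133), (165, 123), (151, 12), (786, 28), (471, 20), (795, 90), (698, 186), (861, 12), (79, 102), (659, 90), (654, 46), (826, 190), (480, 182), (68, 5), (891, 4), (169, 188), (63, 88), (116, 157), (415, 120), (284, 93), (688, 80), (336, 131), (146, 104), (751, 140), (220, 120), (630, 177), (584, 2), (806, 24), (373, 164), (264, 153)]⟩,
    ⟨1, [1, 4, 3, 2, 6, 0, 1, 5, 0], 0, [(254, 146), (848, 130), (214, 177), (23, 167), (300, 1), (122, 92), (620, 88), (545, 152), (841, 182), (397, 152), (102, 13), (805, 66), (82, 23), (277, 34), (835, 189), (479, 188), (850, 169), (221, 79), (160, 133), (766, 169), (918, 68), (374, 56), (345, 112), (606, 136), (501, 169), (613, 110), (553, 163), (65, 5), (933, 83), (834, 133)]⟩,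
    ⟨1, [0, 1, 2, 0, 0], 1, [(659, 0), (508, 104), (480, 0), (150, 147), (780, 136), (250, 91), (203, 0), (864, 66), (867, 137), (539, 111), (813, 130), (878, 66), (190, 11), (630, 3), (904, 162), (812, 24), (826, 1), (493, 93), (932, 120), (210, 41), (231, 29), (665, 81), (755, 129), (324, 7), (192, 182), (406, 168), (303, 189), (94, 94), (108, 93), (367, 134)]⟩,
    ⟨1, [4, 5, 6, 2, 3, 0, 2], 1, [(181, 171), (226, 76), (341, 139), (934, 64), (813, 139), (867, 76), (807, 139), (381, 169), (414, 179), (374, 115), (877, 170), (413, 118), (775, 92), (92, 64), (100, 70), (351, 110), (894, 163), (828, 96), (911, 73), (377, 125), (176, 143), (98, 80), (484, 38), (935, 44), (774, 1), (809, 59), (555, 183), (177, 68), (653, 6), (903, 183)]⟩,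
    ⟨1, [2, 3, 4, 5, 1, 0, 6, 1], 0, [(87, 148), (728, 37), (520, 186), (631, 57), (732, 84), (570, 75), (175, 186), (457, 84), (295, 24), (115, 89), (936, 106), (465, 168), (893, 137), (10, 146), (492, 146), (321, 168), (738, 0), (602, 96), (378, 83), (745, 106), (239, 115), (866, 84), (126, 174), (604, 30), (558, 3), (691, 139), (894, 64), (331, 51), (776, 71), (365, 15)]⟩,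
    ⟨1, [2, 5, 4, 1, 3, 2, 0], 0, [(692, 52), (559, 137), (163, 105), (532, 152), (96, 62), (832, 40), (901, 9), (329, 98), (552, 154), (523, 45), (149, 144), (252, 112), (67, 178), (765, 124), (440, 25), (290, 58), (733, 187), (393, 168), (514, 111), (45, 159), (451, 88), (596, 68), (794, 31), (224, 133), (812, 159), (758, 176), (412, 86), (821, 96), (710, 68), (379, 74)]⟩,
    ⟨1, [1, 5, 2, 3, 4, 6, 3, 3, 0], 0, [(121, 82), (489, 97), (173, 83), (851, 61), (37, 46), (422, 15), (849, 68), (441, 185), (238, 146), (779, 159), (476, 139), (29, 187), (621, 167), (71, 75), (535, 171), (748, 184), (294, 15), (503, 56), (552, 26), (13, 139), (7, 66), (320, 82), (314, 70), (184, 116), (256, 40), (6, 170), (110, 151), (889, 142), (896, 151), (450, 162)]⟩,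
    ⟨1, [6, 0, 5, 2, 3, 5, 4, 1, 0], 0, [(304, 179), (633, 173), (815, 62), (565, 62), (263, 65), (877, 169), (394, 28), (400, 17), (94, 67), (494, 67), (829, 161), (772, 184), (375, 106), (488, 52), (117, 187), (894, 78), (256, 78), (830, 42), (74, 60), (381, 102), (908, 157), (720, 118), (3, 8), (878, 188), (764, 29), (450, 31), (791, 31), (799, 33), (181, 171), (736, 50)]⟩,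
    ⟨1, [2, 5, 6, 3, 4, 0, 2], 1, [(430, 53), (6, 119), (1, 174), (815, 24), (288, 74), (669, 97), (16, 94), (2, 40), (129, 108), (833, 118), (339, 156), (364, 44), (256, 151), (882, 84), (48, 90), (831, 114), (750, 111), (184, 183), (560, 86), (522, 125), (743, 4), (151, 52), (37, 48), (477, 58), (547, 139), (696, 2), (499, 139), (624, 81), (152, 9), (289, 8)]⟩,
    ⟨1, [0, 2, 1, 3, 5, 2, 4], 0, [(600, 137), (319, 156), (249, 30), (363, 168), (109, 147), (668, 102), (751, 38), (30, 101), (33, 38), (613, 132), (190, 168), (25, 113), (37, 102), (199, 184), (442, 10), (42, 101), (645, 84), (361, 35), (150, 156), (46, 191), (491, 1), (376, 158), (742, 135), (151, 38), (499, 92), (196, 74), (630, 151), (688, 162), (904, 17), (815, 25)]⟩,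
    ⟨1, [3, 1, 4, 6, 2, 5, 5], 1, [(600, 85), (131, 161), (502, 14), (355, 50), (837, 55), (859, 188), (569, 29), (853, 81), (766, 178), (123, 174), (553, 184), (845, 134), (629, 50), (608, 107), (518, 54), (655, 190), (374, 177), (4, 144), (657, 166), (933, 21), (75, 169), (781, 180), (891, 176), (51, 117), (624, 113), (348, 145), (373, 32), (534, 87), (2, 11), (103, 177)]⟩,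
    ⟨1, [0, 6, 4, 3, 2, 5, 1, 2], 0, [(230, 178), (588, 40), (281, 75), (766, 174), (395, 191), (407, 191), (848, 139), (277, 24), (22, 44), (606, 53), (340, 191), (98, 46), (397, 44), (122, 170), (937, 155), (160, 85), (504, 22), (72, 74), (834, 57), (545, 23), (634, 29), (273, 108), (180, 113), (383, 74), (249, 77), (65, 136), (620, 146), (856, 170), (850, 87), (441, 120)]⟩,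
    ⟨1, [0, 3, 1, 4, 2, 6], 0, [(671, 19), (709, 97), (1, 68), (75, 107), (865, 73), (895, 52), (251, 176), (359, 39), (272, 35), (796, 181), (229, 122), (640, 68), (451, 52), (449, 21), (686, 80), (617, 186), (899, 40), (526, 80), (590, 21), (794, 122), (746, 30), (96, 148), (857, 87), (403, 21), (498, 133), (19, 76), (329, 145), (651, 148), (840, 177), (418, 172)]⟩]

def a1steps_17 : List (Step) :=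
  [⟨1, [4, 5, 3, 6, 1, 3, 2, 0], 1, [(447, 95), (934, 52), (134, 102), (921, 138), (306, 102), (809, 35), (238, 145), (273, 170), (938, 145), (502, 123), (91, 100), (307, 162), (331, 12), (917, 142), (148, 127), (84, 60), (56, 144), (902, 16), (246, 189), (42, 63), (866, 120), (242, 4), (133, 110), (233, 136), (332, 137), (764, 138), (533, 182), (683, 172), (286, 101), (401, 104)]⟩,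
    ⟨1, [6, 3, 0, 4, 5, 2, 0], 1, [(229, 138), (183, 62), (84, 116), (204, 178), (816, 106), (201, 78), (544, 171), (650, 89), (491, 114), (140, 179), (259, 131), (238, 39), (93, 88), (701, 2), (316, 98), (505, 95), (352, 175), (724, 73), (597, 191), (199, 11), (457, 143), (68, 60), (912, 43), (231, 132), (437, 166), (728, 89), (78, 160), (265, 155), (638, 6), (207, 87)]⟩,
    ⟨1, [5, 6, 0, 2, 6, 3], 1, [(185, 68), (399, 52), (741, 68), (158, 32), (677, 178), (262, 119), (638, 5), (325, 148), (352, 102), (761, 134), (645, 40), (372, 119), (653, 75), (436, 104), (431, 122), (717, 152), (196, 115), (183, 15), (488, 151), (323, 87), (903, 40), (520, 111), (93, 126), (223, 139), (650, 122), (253, 68), (582, 25), (99, 80), (257, 128), (75, 180)]⟩,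
    ⟨1, [0, 2, 3, 5, 6, 1, 4, 4], 1, [(638, 0), (168, 37), (536, 0), (736, 37), (904, 136), (633, 0), (279, 147), (790, 79), (516, 137), (37, 137), (135, 112), (493, 66), (847, 152), (663, 184), (67, 95), (713, 14), (73, 158), (488, 51), (898, 158), (613, 41), (863, 61), (422, 0), (815, 23), (173, 0), (134, 69), (858, 162), (535, 102), (265, 62), (326, 170), (939, 94)]⟩,
    ⟨1, [5, 0, 4, 4, 1], 0, [(62, 103), (687, 108), (563, 89), (477, 92), (314, 188), (631, 114), (434, 128), (676, 81), (520, 154), (857, 105), (202, 80), (730, 147), (115, 123), (811, 29), (152, 8), (582, 48), (99, 178), (445, 131), (289, 16), (714, 33), (223, 161), (915, 177), (35, 182), (651, 29), (602, 80), (671, 104), (449, 120), (923, 177), (831, 22), (429, 122)]⟩,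
    ⟨1, [2, 6, 4, 0], 1, [(921, 156), (707, 47), (847, 191), (705, 121), (500, 191), (109, 103), (863, 46), (694, 61), (709, 167), (154, 124), (793, 22), (623, 67), (155, 130), (817, 35), (432, 179), (742, 122), (590, 26), (401, 98), (749, 70), (355, 0), (571, 173), (112, 125), (763, 185), (276, 149), (574, 123), (269, 117), (658, 5), (778, 50), (940, 185), (146, 180)]⟩,
    ⟨1, [0, 1, 2, 3, 6, 0, 0], 1, [(322, 122), (461, 136), (560, 9), (453, 146), (52, 13), (138, 174), (292, 184), (819, 80), (455, 170), (855, 143), (337, 176), (466, 28), (231, 20), (897, 101), (260, 59), (818, 24), (414, 96), (261, 98), (295, 183), (211, 5), (190, 91), (774, 156), (53, 26), (131, 119), (227, 77), (680, 30), (128, 141), (410, 66), (502, 187), (350, 56)]⟩,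
    ⟨1, [4, 5, 1, 6, 5, 2, 0, 1], 0, [(468, 155), (433, 20), (564, 117), (733, 106), (342, 6), (614, 92), (262, 36), (523, 100), (135, 10), (236, 92), (417, 162), (443, 152), (762, 35), (813, 170), (414, 114), (559, 111), (163, 14), (698, 111), (389, 180), (268, 20), (613, 167), (98, 150), (719, 21), (86, 38), (595, 57), (294, 111), (33, 2), (349, 131), (377, 72), (206, 20)]⟩,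
    ⟨1, [4, 0, 1, 5, 2, 6, 1, 3], 1, [(408, 31), (396, 72), (187, 36), (307, 19), (921, 173), (129, 191), (509, 145), (490, 95), (400, 2), (535, 30), (722, 118), (801, 145), (122, 128), (364, 73), (362, 110), (76, 128), (880, 28), (360, 154), (599, 63), (660, 90), (43, 188), (517, 0), (439, 171), (406, 63), (874, 130), (615, 0), (541, 135), (760, 149), (57, 52), (478, 11)]⟩,
    ⟨1, [2, 5, 4, 3, 2, 1, 0, 0], 1, [(445, 185), (881, 124), (123, 64), (871, 126), (633, 45), (346, 46), (230, 96), (641, 17), (394, 187), (384, 66), (597, 27), (635, 65), (255, 125), (658, 101), (920, 25), (68, 187), (554, 104), (742, 152), (480, 183), (3, 148), (38, 91), (304, 187), (592, 28), (902, 11), (257, 86), (801, 143), (137, 169), (619, 130), (312, 91), (286, 30)]⟩,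
    ⟨1, [2, 0, 6, 1, 3, 4, 5, 2], 1, [(829, 189), (466, 189), (326, 187), (815, 9), (311, 100), (545, 8), (939, 141), (637, 16), (207, 26), (865, 168), (90, 15), (205, 128), (535, 33), (117, 66), (878, 26), (937, 5), (50, 116), (523, 48), (752, 78), (638, 53), (552, 33), (563, 49), (676, 61), (135, 144), (86, 27), (463, 111), (36, 163), (751, 52), (564, 11), (928, 169)]⟩,
    ⟨1, [6, 0, 3, 1, 4, 2, 5, 3, 0], 1, [(893, 5), (669, 76), (900, 81), (335, 37), (850, 76), (87, 158), (728, 178), (295, 147), (856, 81), (300, 145), (362, 135), (143, 3), (297, 15), (81, 69), (347, 48), (358, 79), (787, 183), (467, 81), (139, 173), (122, 14), (435, 147), (545, 167), (294, 22), (571, 14), (666, 138), (69, 52), (875, 101), (469, 182), (68, 163), (336, 25)]⟩,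
    ⟨1, [1, 6, 3, 4, 5, 2, 0, 1], 1, [(20, 100), (300, 124), (249, 135), (147, 130), (634, 146), (466, 185), (545, 122), (25, 82), (244, 166), (482, 50), (22, 56), (815, 98), (276, 86), (591, 67), (442, 121), (184, 174), (28, 46), (714, 180), (587, 2), (52, 33), (213, 159), (549, 92), (590, 175), (302, 166), (800, 174), (338, 174), (689, 94), (36, 43), (110, 125), (204, 140)]⟩,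
    ⟨1, [6, 0, 3, 2, 1, 3, 4], 1, [(16, 52), (41, 119), (930, 10), (884, 186), (465, 68), (721, 108), (47, 93), (796, 21), (52, 169), (35, 17), (23, 125), (472, 154), (297, 178), (678, 93), (412, 25), (703, 71), (102, 80), (560, 78), (919, 5), (774, 29), (344, 63), (434, 52), (457, 173), (697, 121), (653, 171), (321, 16), (732, 0), (662, 85), (322, 143), (592, 41)]⟩,
    ⟨1, [5, 1, 6, 4, 5, 3, 0, 1, 2, 0], 0, [(20, 30), (908, 51), (516, 82), (249, 108), (553, 27), (879, 27), (600, 145), (361, 82), (673, 82), (751, 82), (568, 106), (924, 54), (742, 184), (815, 26), (245, 80), (363, 145), (288, 121), (791, 55), (196, 21), (376, 172), (36, 45), (696, 22), (530, 135), (878, 42), (140, 110), (37, 147), (904, 42), (757, 61), (199, 101), (580, 172)]⟩,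
    ⟨1, [6, 4, 0, 5, 2, 1, 4, 3], 0, [(599, 163), (771, 163), (293, 170), (155, 175), (46, 48), (507, 59), (81, 17), (494, 174), (527, 107), (916, 0), (49, 131), (168, 139), (180, 34), (336, 155), (628, 126), (708, 45), (94, 186), (479, 43), (824, 113), (467, 174), (233, 123), (725, 3), (593, 57), (456, 32), (678, 174), (521, 167), (940, 127), (140, 95), (435, 180), (216, 167)]⟩,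
    ⟨1, [2, 0, 5, 1, 3, 6, 4, 0, 3], 1, [(350, 161), (451, 128), (388, 28), (319, 167), (821, 16), (511, 2), (267, 60), (470, 18), (744, 48), (364, 36), (242, 13), (211, 2), (363, 0), (803, 104), (926, 190), (247, 170), (547, 60), (485, 168), (72, 104), (324, 27), (124, 40), (838, 144), (739, 166), (49, 87), (286, 66), (268, 32), (65, 63), (106, 152), (586, 21), (318, 33)]⟩,
    ⟨1, [2, 1, 5, 0, 6, 2, 0], 1, [(495, 155), (461, 104), (144, 110), (712, 155), (52, 79), (710, 180), (862, 162), (421, 65), (829, 131), (697, 60), (885, 99), (656, 123), (879, 104), (897, 153), (438, 58), (538, 24), (304, 157), (437, 75), (295, 93), (420, 24), (54, 104), (119, 159), (579, 41), (939, 130), (410, 41), (353, 182), (478, 189), (227, 118), (161, 26), (134, 146)]⟩,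
    ⟨1, [3, 0, 2, 6, 1, 4, 5, 3, 1], 0, [(621, 116), (565, 116), (627, 111), (822, 11), (809, 27), (676, 32), (617, 145), (629, 74), (212, 95), (97, 95), (189, 74), (338, 56), (66, 178), (869, 93), (660, 68), (238, 145), (355, 117), (633, 83), (256, 37), (409, 1), (716, 148), (139, 2), (195, 10), (881, 101), (494, 81), (581, 40), (258, 72), (642, 107), (422, 119), (757, 132)]⟩,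
    ⟨1, [6, 1, 3, 0, 2, 5, 4, 3, 0], 0, [(774, 101), (704, 6), (661, 173), (935, 52), (223, 179), (449, 100), (366, 178), (75, 109), (332, 114), (336, 124), (153, 90), (899, 7), (562, 172), (178, 46), (170, 16), (177, 105), (106, 97), (725, 36), (598, 173), (101, 7), (12, 171), (30, 96), (413, 61), (584, 51), (726, 166), (17, 6), (791, 60), (720, 50), (157, 1), (19, 131)]⟩,
    ⟨1, [6, 5, 3, 2, 4, 6, 2, 1, 0], 0, [(476, 90), (67, 136), (173, 21), (523, 182), (7, 110), (320, 154), (728, 21), (850, 172), (184, 26), (134, 146), (121, 18), (249, 117), (819, 156), (719, 161), (535, 141), (87, 97), (294, 36), (265, 161), (858, 60), (815, 6), (37, 33), (422, 171), (204, 36), (238, 172), (256, 183), (613, 36), (676, 92), (32, 21), (228, 173), (568, 56)]⟩,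
    ⟨1, [1, 2, 6, 4, 3, 3, 2], 6, [(278, 3), (82, 189), (350, 65), (494, 38), (860, 183), (281, 24), (467, 56), (411, 69), (813, 81), (730, 20), (748, 52), (642, 20), (206, 52), (199, 43), (910, 52), (496, 20), (760, 52), (512, 93), (253, 29), (568, 141), (191, 146), (398, 139), (487, 84), (109, 0), (938, 137), (254, 35), (310, 31), (740, 56), (116, 102), (170, 168), (343, 124), (48, 66), (846, 78), (35, 30), (181, 79), (90, 24), (384, 76), (192, 139), (76, 37), (6, 91), (309, 161), (273, 124), (855, 153), (518, 49), (276, 12), (585, 157), (657, 15), (658, 4), (461, 20), (418, 111), (332, 78), (67, 185), (875, 139), (474, 22), (137, 84), (329, 30), (284, 145), (464, 105), (776, 125), (26, 134), (611, 128), (936, 159), (370, 139)]⟩,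
    ⟨1, [3, 4, 2, 6, 5, 0, 1, 2], 6, [(245, 106), (275, 1), (330, 148), (931, 89), (842, 41), (547, 57), (873, 169), (531, 141), (781, 137), (29, 34), (221, 11), (610, 56), (551, 97), (876, 119), (527, 165), (235, 19), (468, 165), (151, 184), (442, 170), (122, 115), (878, 170), (563, 95), (653, 9), (554, 124), (631, 174), (398, 162), (626, 168), (804, 54), (761, 66), (108, 119), (821, 79), (355, 149), (52, 4), (261, 160), (694, 142), (699, 132), (769, 173), (570, 140), (476, 72), (206, 13), (213, 114), (875, 17), (632, 153), (219, 66), (871, 128), (134, 9), (270, 80), (723, 20), (166, 63), (229, 0), (305, 111), (407, 51), (881, 103), (796, 88), (252, 103), (725, 22), (548, 157), (17, 149), (337, 23), (263, 52), (690, 164), (608, 88), (747, 71)]⟩,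
    ⟨1, [6, 5, 0, 4, 5, 2, 3, 1], 6, [(126, 15), (164, 101), (719, 5), (477, 151), (650, 189), (767, 21), (80, 1), (634, 92), (109, 148), (752, 57), (191, 49), (648, 152), (529, 47), (543, 110), (520, 106), (94, 168), (889, 188), (224, 142), (913, 82), (85, 41), (790, 142), (106, 147), (867, 55), (21, 155), (283, 65), (134, 130), (516, 115), (63, 185), (92, 58), (712, 108), (51, 0), (756, 109), (733, 46), (609, 150), (251, 45), (540, 157), (467, 124), (344, 180), (409, 190), (29, 134), (512, 22), (610, 81), (53, 162), (276, 117), (284, 55), (731, 55), (74, 150), (112, 36), (801, 44), (114, 5), (576, 43), (782, 145), (430, 144), (418, 9), (105, 164), (199, 91), (203, 44), (402, 171), (186, 126), (254, 8), (627, 13), (834, 180), (332, 125)]⟩,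
    ⟨1, [0, 4, 5, 2, 1, 0, 6, 3, 0], 6, [(54, 132), (411, 146), (796, 61), (716, 35), (487, 31), (254, 0), (269, 1), (363, 11), (309, 0), (630, 25), (696, 50), (339, 66), (860, 59), (461, 81), (566, 19), (651, 19), (633, 141), (807, 56), (531, 117), (372, 72), (868, 184), (470, 100), (467, 149), (500, 138), (6, 159), (382, 167), (821, 120), (321, 40), (893, 158), (56, 81), (588, 66), (825, 43), (204, 103), (599, 48), (100, 99), (217, 2), (847, 160), (928, 162), (163, 150), (427, 96), (819, 38), (460, 113), (428, 85), (24, 22), (415, 28), (208, 28), (332, 151), (680, 162), (273, 98), (215, 112), (41, 158), (349, 85), (717, 56), (374, 102), (843, 71), (489, 98), (255, 104), (299, 96), (153, 77), (436, 128), (755, 47), (62, 60), (772, 113)]⟩]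

def a1steps_18 : List (Step) :=
  [⟨1, [1, 5, 4, 0, 2, 3, 5, 6], 6, [(220, 69), (5, 77), (175, 0), (265, 0), (784, 66), (320, 79), (257, 32), (237, 112), (660, 144), (348, 191), (322, 37), (689, 19), (866, 189), (800, 159), (801, 7), (162, 6), (664, 56), (677, 56), (390, 181), (545, 120), (236, 158), (181, 186), (426, 184), (851, 48), (412, 88), (11, 159), (59, 132), (401, 177), (910, 21), (361, 159), (569, 37), (195, 85), (704, 158), (222, 8), (234, 160), (599, 38), (34, 93), (632, 124), (261, 9), (196, 161), (895, 1), (221, 161), (885, 9), (678, 23), (148, 95), (817, 13), (169, 86), (832, 69), (838, 34), (496, 21), (505, 81), (767, 9), (863, 146), (62, 76), (588, 8), (38, 131), (283, 122), (417, 77), (449, 65), (182, 167), (780, 139), (750, 161),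 (830, 109)]⟩,
    ⟨1, [4, 5, 6, 4, 2, 3, 1, 0], 6, [(365, 132), (335, 138), (217, 65), (525, 38), (918, 99), (202, 63), (585, 89), (86, 117), (158, 47), (705, 154), (32, 90), (808, 26), (642, 113), (178, 95), (70, 101), (348, 142), (75, 101), (92, 93), (321, 26), (128, 60), (773, 137), (833, 35), (259, 8), (50, 124), (764, 12), (737, 35), (821, 48), (64, 154), (264, 176), (939, 49), (146, 124), (240, 106), (130, 96), (110, 172), (241, 79), (818, 56), (21, 178), (354, 152), (479, 163), (103, 91), (211, 99), (340, 7), (730, 127), (851, 16), (814, 176), (91, 176), (575, 122), (16, 32), (656, 20), (142, 71), (304, 159), (904, 46), (59, 40), (233, 11), (404, 126), (362, 30), (97, 96), (895, 9), (481, 23), (729, 29), (249, 4), (105, 159), (559, 168)]⟩]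

def a1steps : List (Step) :=
  a1steps_0 ++ a1steps_1 ++ a1steps_2 ++ a1steps_3 ++ a1steps_4 ++ a1steps_5 ++ a1steps_6 ++ a1steps_7 ++ a1steps_8 ++ a1steps_9 ++ a1steps_10 ++ a1steps_11 ++ a1steps_12 ++ a1steps_13 ++ a1steps_14 ++ a1steps_15 ++ a1steps_16 ++ a1steps_17 ++ a1steps_18

def a1Ctx : Ctx := ⟨9, gi, a1elts, a1reps, a1stab, []⟩

def a2elts_0 : List (List ℕ × List ℕ) :=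
  [([], [0, 1, 2, 3, 4, 5, 6, 7, 8]),
    ([2, 1, 1, 0], [1, 2, 3, 4, 0, 5, 6, 7, 8]),
    ([3, 2], [5, 4, 2, 3, 1, 0, 6, 7, 8]),
    ([4, 2, 3, 1, 2, 0], [1, 2, 3, 4, 5, 6, 0, 7, 8]),
    ([2, 3, 3, 2, 1], [0, 3, 2, 1, 5, 4, 6, 7, 8]),
    ([5, 4, 2, 0, 3, 1, 2, 0], [7, 6, 3, 2, 5, 4, 1, 0, 8]),
    ([4, 2, 5, 3, 4, 2, 0, 1, 1, 0], [1, 0, 3, 2, 5, 4, 7, 6, 8]),
    ([4, 3, 1, 5, 2, 4, 0], [0, 2, 4, 6, 3, 1, 7, 5, 8]),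
    ([6, 0, 2, 3, 5, 1, 2, 4, 1, 1, 0], [8, 1, 5, 6, 7, 2, 3, 4, 0])]

def a2elts : List (List ℕ × List ℕ) :=
  a2elts_0

def a2reps_0 : List (List ℕ × List ℕ) :=
  [([], [0, 1, 2, 3, 4, 5, 6, 7, 8]),
    ([6, 3, 5, 2, 4, 1, 3, 0], [1, 2, 3, 4, 5, 6, 7, 8, 0]),
    ([5, 6, 3, 4, 1, 2], [3, 4, 2, 5, 6, 7, 8, 0, 1]),
    ([4, 0, 3, 6, 2, 5, 1, 4, 0], [0, 1, 3, 4, 5, 6, 7, 8, 2]),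
    ([4, 6, 3, 5, 2, 4, 1, 0], [3, 2, 0, 4, 5, 6, 7, 8, 1]),
    ([5, 0, 3, 6, 1, 4, 0, 2], [1, 4, 3, 5, 6, 7, 8, 0, 2]),
    ([6, 5, 4, 3, 2, 1, 0], [3, 2, 4, 5, 6, 7, 8, 1, 0]),
    ([6, 0, 4, 5, 2, 3, 0, 1], [1, 3, 4, 5, 6, 7, 8, 2, 0]),
    ([0, 5, 6, 3, 4, 1, 2, 0], [4, 0, 3, 5, 6, 7, 8, 1, 2]),
    ([6, 5, 4, 3, 2, 1, 0, 6], [2, 0, 4, 5, 6, 7, 8, 1, 3]),
    ([2, 1, 6, 5, 1, 0, 3, 4], [5, 6, 7, 8, 0, 1, 2, 3, 4]),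
    ([5, 6, 3, 4, 1, 2, 6], [4, 1, 2, 5, 6, 7, 8, 0, 3]),
    ([1, 0, 6, 5, 4, 3, 2, 1, 0], [0, 1, 4, 5, 6, 7, 8, 2, 3]),
    ([1, 2, 4, 5, 3, 0, 6, 3, 0], [6, 7, 8, 0, 1, 2, 3, 4, 5]),
    ([0, 6, 5, 4, 3, 2, 1], [4, 3, 0, 5, 6, 7, 8, 2, 1]),
    ([3, 5, 6, 0, 1, 3, 4, 2], [6, 4, 7, 8, 0, 2, 3, 1, 5]),
    ([2, 3, 5, 6, 0, 1, 4, 0, 0], [7, 3, 6, 8, 0, 1, 2, 4, 5]),
    ([2, 3, 5, 1, 0, 6, 4, 1, 0], [5, 7, 6, 8, 0, 1, 2, 4, 3]),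
    ([2, 3, 1, 5, 6, 0, 1, 4, 0], [6, 7, 4, 8, 0, 1, 2, 5, 3]),
    ([2, 3, 6, 5, 0, 0, 4, 1], [6, 3, 7, 8, 0, 1, 2, 5, 4]),
    ([1, 2, 4, 6, 3, 0, 5, 3], [7, 6, 8, 0, 1, 2, 3, 5, 4]),
    ([2, 6, 0, 1, 3, 4, 5, 0, 0], [4, 6, 7, 8, 0, 2, 3, 5, 1]),
    ([2, 4, 5, 1, 3, 3, 6, 0, 1], [2, 6, 7, 8, 0, 3, 1, 4, 5]),
    ([5, 1, 0, 3, 2, 6, 4, 0], [6, 7, 8, 1, 2, 3, 4, 0, 5]),
    ([3, 1, 5, 4, 2, 0, 6, 2, 0], [7, 6, 8, 1, 2, 0, 3, 5, 4]),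
    ([2, 3, 0, 5, 6, 0, 1, 4], [3, 6, 7, 8, 0, 1, 4, 5, 2]),
    ([2, 3, 6, 5, 1, 4, 4, 0], [7, 2, 6, 8, 0, 1, 3, 5, 4]),
    ([0, 3, 6, 5, 1, 0, 4, 2, 0], [4, 7, 6, 8, 0, 1, 3, 5, 2]),
    ([6, 2, 0, 0, 3, 1, 5, 4, 0], [6, 4, 7, 8, 1, 2, 3, 5, 0]),
    ([2, 6, 4, 1, 3, 0, 5, 3, 0], [6, 3, 7, 8, 0, 2, 4, 5, 1]),
    ([6, 2, 0, 4, 3, 0, 5, 1], [7, 3, 6, 8, 1, 2, 4, 5, 0]),
    ([4, 1, 1, 6, 5, 3, 2, 0], [4, 2, 5, 6, 7, 8, 0, 1, 3]),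
    ([4, 0, 1, 5, 6, 2, 3, 0], [5, 1, 4, 6, 7, 8, 0, 2, 3]),
    ([4, 6, 1, 3, 5, 2, 2], [4, 5, 2, 6, 7, 8, 0, 3, 1]),
    ([5, 4, 2, 1, 6, 0, 3, 5, 0], [0, 3, 5, 6, 7, 8, 1, 2, 4]),
    ([4, 5, 1, 2, 0, 6, 5, 3], [1, 5, 3, 6, 7, 8, 0, 2, 4]),
    ([6, 4, 3, 1, 0, 5, 4, 2], [1, 4, 5, 6, 7, 8, 2, 3, 0]),
    ([4, 0, 1, 6, 5, 3, 2], [5, 4, 1, 6, 7, 8, 0, 3, 2]),
    ([6, 4, 3, 1, 2, 5, 0, 2], [2, 5, 4, 6, 7, 8, 1, 3, 0]),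
    ([0, 1, 2, 4, 3, 5, 6], [7, 8, 0, 1, 2, 4, 3, 6, 5])]

def a2reps_1 : List (List ℕ × List ℕ) :=
  [([5, 4, 2, 1, 6, 5, 3, 0], [5, 2, 0, 6, 7, 8, 1, 3, 4]),
    ([1, 2, 4, 6, 5, 0, 0, 3], [8, 5, 7, 0, 1, 2, 3, 6, 4]),
    ([1, 2, 4, 0, 5, 3, 0, 6], [4, 8, 7, 0, 1, 2, 3, 6, 5]),
    ([2, 0, 4, 1, 3, 3, 6, 5], [8, 7, 1, 2, 0, 3, 4, 6, 5]),
    ([1, 6, 4, 0, 5, 2, 3, 3], [5, 7, 8, 0, 2, 4, 3, 6, 1]),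
    ([2, 6, 4, 0, 5, 1, 3, 3], [5, 7, 8, 2, 0, 3, 4, 6, 1]),
    ([6, 1, 2, 3, 4, 0, 5, 2, 0], [8, 5, 7, 1, 2, 3, 4, 6, 0]),
    ([2, 1, 4, 3, 0, 0, 6, 5, 0], [7, 5, 8, 1, 0, 3, 4, 6, 2]),
    ([2, 1, 0, 3, 6, 4, 0, 5], [4, 7, 8, 1, 0, 3, 5, 6, 2]),
    ([6, 3, 5, 4, 3], [6, 1, 2, 3, 4, 7, 5, 8, 0]),
    ([3, 1, 4, 6, 5, 0, 0, 2], [8, 4, 7, 1, 2, 0, 5, 6, 3]),
    ([2, 3, 4, 6, 5, 0, 0, 1], [8, 3, 7, 2, 0, 1, 4, 6, 5]),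
    ([2, 3, 4, 0, 5, 1, 0, 6], [5, 8, 7, 2, 0, 1, 4, 6, 3]),
    ([1, 3, 2, 4, 0, 5, 6], [7, 8, 4, 0, 3, 1, 5, 6, 2]),
    ([6, 0, 5, 1, 4, 6], [6, 0, 1, 2, 4, 5, 7, 8, 3]),
    ([1, 6, 2, 5, 3, 4, 6], [6, 1, 2, 0, 3, 4, 7, 8, 5]),
    ([2, 6, 1, 4, 3, 5, 4, 0], [8, 2, 7, 4, 0, 3, 5, 6, 1]),
    ([6, 5, 1, 2, 2, 1], [7, 8, 2, 4, 3, 5, 6, 1, 0]),
    ([5, 6, 0, 2, 2, 1], [8, 3, 7, 4, 2, 5, 6, 0, 1]),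
    ([0, 1, 6, 3, 5, 2, 4, 1, 0], [1, 0, 6, 4, 5, 3, 7, 8, 2]),
    ([2, 0, 6, 1, 5, 3, 4, 2, 0], [0, 1, 6, 2, 5, 3, 7, 8, 4]),
    ([0, 3, 2, 4, 3, 5, 1, 6], [3, 8, 0, 1, 2, 4, 5, 6, 7]),
    ([2, 0, 4, 1, 5, 3, 6], [5, 8, 1, 2, 0, 3, 4, 6, 7]),
    ([4, 2, 5, 3, 6, 4], [8, 0, 2, 3, 1, 4, 5, 6, 7]),
    ([2, 1, 4, 3, 5, 0, 6, 2, 0], [0, 5, 8, 1, 2, 3, 4, 6, 7]),
    ([1, 5, 4, 6, 5, 0, 2, 3], [4, 5, 8, 0, 1, 2, 3, 6, 7]),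
    ([3, 0, 4, 1, 5, 3, 6, 2], [8, 4, 1, 2, 0, 3, 5, 6, 7]),
    ([6, 3, 0, 4, 1, 5, 2, 6], [4, 0, 8, 2, 3, 1, 5, 6, 7]),
    ([5, 1, 6, 2, 5, 3, 0, 4, 1], [6, 1, 0, 2, 3, 4, 5, 8, 7]),
    ([5, 0, 6, 2, 0, 1], [1, 3, 8, 4, 2, 5, 6, 0, 7]),
    ([2, 4, 4, 5, 3, 6, 0], [8, 2, 5, 3, 0, 1, 4, 6, 7]),
    ([3, 0, 0, 2, 1, 5, 4, 6], [6, 8, 5, 1, 2, 0, 3, 4, 7]),
    ([1, 3, 3, 5, 2, 6, 4, 0], [6, 2, 8, 0, 1, 3, 4, 5, 7]),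
    ([5, 0, 6, 5], [8, 0, 1, 3, 4, 5, 6, 2, 7]),
    ([1, 0, 4, 1, 5, 2, 6], [4, 8, 1, 2, 0, 5, 3, 6, 7]),
    ([1, 2, 4, 0, 5, 3, 6, 0], [8, 4, 5, 0, 1, 2, 3, 6, 7]),
    ([1, 5, 2, 6, 3, 5], [5, 1, 2, 0, 3, 4, 6, 8, 7]),
    ([2, 5, 4, 6, 5, 0, 3], [2, 5, 8, 3, 0, 1, 4, 6, 7]),
    ([0, 2, 2, 4, 1, 5, 3], [7, 5, 0, 1, 2, 3, 4, 6, 8]),
    ([2, 1, 4, 3, 0, 5, 1], [7, 1, 6, 2, 0, 3, 4, 5, 8])]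

def a2reps_2 : List (List ℕ × List ℕ) :=
  [([3, 2, 4, 3, 5, 0], [7, 2, 0, 3, 1, 4, 5, 6, 8]),
    ([1, 2, 2], [4, 1, 2, 0, 3, 5, 6, 7, 8]),
    ([0, 3, 2, 4, 3], [6, 1, 0, 3, 2, 4, 5, 7, 8]),
    ([3], [1, 5, 2, 3, 4, 0, 6, 7, 8]),
    ([1, 3, 2, 0, 4, 1, 0], [0, 5, 6, 2, 3, 1, 4, 7, 8]),
    ([2, 0, 4, 1, 3, 3, 5], [6, 7, 1, 2, 0, 3, 4, 5, 8]),
    ([3, 2, 4, 3, 5], [0, 7, 2, 3, 1, 4, 5, 6, 8]),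
    ([3, 0, 4, 3], [6, 0, 1, 3, 4, 2, 5, 7, 8]),
    ([3, 1, 2, 3, 1], [0, 1, 2, 4, 5, 3, 6, 7, 8]),
    ([0, 2, 2, 4, 1, 5, 3, 0], [5, 0, 7, 1, 2, 3, 4, 6, 8]),
    ([0, 3, 1, 2, 2, 4], [5, 6, 0, 2, 3, 1, 4, 7, 8]),
    ([3, 0], [5, 2, 1, 3, 4, 0, 6, 7, 8]),
    ([3, 6, 2, 5, 1, 4, 0, 3], [2, 0, 3, 4, 5, 6, 7, 8, 1]),
    ([4, 3, 1, 0, 6, 5, 3, 2], [1, 4, 5, 6, 7, 8, 0, 2, 3]),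
    ([6, 4, 3, 0, 0, 5, 1, 2], [3, 4, 5, 6, 7, 8, 1, 2, 0]),
    ([0, 0, 6, 5, 4, 3, 2, 1], [4, 3, 1, 5, 6, 7, 8, 0, 2]),
    ([1, 5, 6, 3, 4, 1, 2], [0, 4, 2, 5, 6, 7, 8, 1, 3]),
    ([3, 0, 2, 4, 6, 1, 2, 5, 1, 1, 0], [5, 1, 6, 7, 8, 0, 2, 3, 4]),
    ([3, 4, 0, 2, 6, 5, 2, 1], [6, 3, 5, 7, 8, 0, 1, 4, 2]),
    ([2, 4, 6, 1, 3, 5, 0, 2], [2, 0, 5, 6, 7, 8, 1, 3, 4]),
    ([0, 3, 4, 6, 1, 2, 5, 1, 1, 0], [4, 0, 6, 7, 8, 1, 2, 3, 5]),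
    ([2, 3, 5, 1, 4, 4, 6, 0, 1], [2, 5, 7, 8, 0, 1, 3, 4, 6]),
    ([1, 2, 4, 5, 0, 6, 3, 0], [5, 6, 8, 0, 1, 2, 3, 4, 7]),
    ([4, 6, 1, 3, 5, 0, 2, 4], [4, 0, 5, 6, 7, 8, 2, 3, 1]),
    ([1, 3, 6, 0, 2, 4, 5, 0, 1], [5, 0, 6, 7, 8, 1, 2, 4, 3]),
    ([2, 3, 6, 5, 1, 0, 4], [2, 6, 7, 8, 0, 1, 3, 5, 4]),
    ([1, 2, 4, 6, 5, 0, 3, 3], [5, 7, 8, 0, 1, 2, 3, 6, 4]),
    ([1, 2, 0, 4, 3, 6, 5, 0, 0], [3, 8, 7, 0, 1, 2, 4, 5, 6]),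
    ([3, 1, 5, 4, 0, 6, 2, 0, 0], [7, 8, 4, 1, 2, 0, 3, 5, 6]),
    ([4, 0, 5, 3, 6, 4], [8, 0, 1, 3, 4, 2, 5, 6, 7]),
    ([0, 1, 2, 3, 4, 5, 0], [7, 0, 6, 1, 2, 3, 4, 5, 8]),
    ([0, 1, 2, 3, 4, 6, 5, 0], [7, 0, 8, 1, 2, 3, 4, 6, 5]),
    ([1, 0, 3, 1, 5, 2, 6, 4, 0], [6, 1, 8, 2, 0, 3, 4, 5, 7]),
    ([3, 5, 6, 1, 2, 4, 5, 0], [1, 2, 6, 7, 8, 0, 3, 4, 5]),
    ([6, 3, 2, 1, 5, 4, 1, 0], [5, 2, 6, 7, 8, 1, 3, 4, 0]),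
    ([2, 0, 3, 1, 4, 2, 6], [0, 8, 1, 2, 3, 4, 5, 7, 6]),
    ([3, 3, 4, 0, 5, 1, 6, 2], [8, 4, 0, 2, 3, 1, 5, 6, 7]),
    ([0, 3, 1, 6, 2, 4, 4], [6, 8, 0, 2, 3, 1, 4, 7, 5]),
    ([1, 0, 3, 1, 4, 2, 5], [4, 7, 1, 2, 0, 3, 5, 6, 8]),
    ([0, 1, 2, 4, 6], [6, 8, 0, 1, 2, 5, 3, 7, 4])]

def a2reps_3 : List (List ℕ × List ℕ) :=
  [([3, 1, 0, 4, 2, 5, 0, 6], [5, 8, 4, 1, 2, 0, 3, 6, 7]),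
    ([0, 2, 1, 4, 2, 5, 3, 0], [5, 0, 7, 2, 3, 1, 4, 6, 8]),
    ([0, 5, 1, 6, 2, 5, 3, 0, 0], [0, 1, 5, 2, 3, 4, 6, 8, 7]),
    ([2, 0, 6, 1, 5, 2, 0], [0, 1, 7, 2, 3, 5, 6, 8, 4]),
    ([2, 4, 1, 5, 3, 0, 6, 1, 0], [4, 7, 8, 2, 0, 3, 1, 6, 5]),
    ([3, 6, 4, 5, 6], [7, 1, 2, 3, 4, 0, 5, 8, 6]),
    ([1, 6, 3, 5, 4, 0, 5, 2], [8, 4, 7, 0, 2, 3, 5, 6, 1]),
    ([2, 0, 4, 1, 3, 3, 0], [6, 1, 5, 2, 0, 3, 4, 7, 8]),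
    ([0, 1, 2, 3, 1], [5, 1, 0, 4, 2, 3, 6, 7, 8]),
    ([6, 1, 5, 3, 4, 2, 1, 1, 0], [6, 2, 1, 4, 5, 3, 7, 8, 0]),
    ([2, 0, 6, 1, 3, 3, 0], [8, 1, 5, 2, 0, 3, 6, 7, 4]),
    ([6, 0, 5, 6, 0], [0, 1, 7, 3, 4, 5, 6, 8, 2]),
    ([1, 3, 2, 4, 1, 0], [0, 2, 6, 4, 3, 1, 5, 7, 8]),
    ([1, 6, 2, 5, 3, 4, 4], [6, 7, 2, 0, 3, 4, 5, 8, 1]),
    ([6, 2, 4, 4], [6, 8, 2, 3, 1, 5, 4, 7, 0]),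
    ([1, 6, 2, 3, 3, 1], [8, 0, 2, 5, 3, 4, 6, 7, 1]),
    ([2, 0, 4, 2, 6, 3], [8, 5, 1, 3, 2, 0, 4, 7, 6]),
    ([6, 5, 4, 2, 3, 1, 2, 0], [7, 2, 3, 4, 5, 6, 8, 1, 0]),
    ([3, 2, 6, 4, 5, 3], [7, 0, 2, 3, 1, 6, 4, 8, 5]),
    ([6, 0, 5, 3, 4, 4, 0], [7, 1, 6, 3, 4, 2, 5, 8, 0]),
    ([0, 1, 3, 6, 0], [8, 0, 5, 1, 4, 2, 6, 7, 3]),
    ([6, 0, 5, 1, 4, 6, 0], [0, 1, 6, 2, 4, 5, 7, 8, 3]),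
    ([1, 0, 6, 2, 5, 1, 0], [0, 1, 7, 4, 2, 5, 6, 8, 3]),
    ([0, 6, 2, 4, 4], [6, 8, 0, 3, 2, 5, 4, 7, 1]),
    ([1, 2, 0, 3, 6, 1], [8, 0, 3, 5, 1, 4, 6, 7, 2]),
    ([5, 0, 4, 6, 1], [8, 3, 1, 6, 4, 5, 7, 0, 2]),
    ([3, 3, 4, 2, 6, 0], [8, 2, 4, 3, 0, 1, 5, 7, 6]),
    ([2, 6, 1, 4, 4], [6, 8, 2, 4, 0, 5, 3, 7, 1]),
    ([2, 5, 0, 0, 6, 1], [8, 3, 7, 4, 0, 5, 6, 1, 2]),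
    ([5, 1, 4, 6, 2, 4, 3, 0, 1], [2, 1, 7, 5, 6, 4, 8, 0, 3]),
    ([4, 6, 0, 3, 5, 0, 2, 1, 0], [3, 5, 4, 6, 7, 8, 0, 2, 1]),
    ([2, 6, 3, 0, 4, 2], [6, 0, 8, 3, 2, 4, 5, 7, 1]),
    ([5, 6, 4, 3, 3, 1], [8, 3, 2, 5, 4, 6, 7, 0, 1]),
    ([5, 6, 4, 4], [6, 7, 2, 3, 4, 5, 8, 0, 1]),
    ([1, 6, 2, 5, 3, 4, 1, 0, 0], [2, 6, 0, 5, 3, 4, 7, 8, 1]),
    ([3, 1, 5, 0, 6, 2, 4, 4], [6, 8, 3, 1, 2, 0, 4, 5, 7]),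
    ([1, 5, 3, 6, 5, 0, 2, 4], [4, 6, 8, 0, 1, 3, 2, 5, 7]),
    ([0, 5, 1, 6, 2, 5, 3, 0, 4], [0, 6, 1, 2, 3, 4, 5, 8, 7]),
    ([2, 3, 5, 0, 6, 1, 4, 4], [6, 8, 5, 2, 0, 1, 3, 4, 7]),
    ([0, 3, 1, 4, 2, 6, 3], [8, 1, 0, 2, 3, 4, 5, 7, 6])]

def a2reps_4 : List (List ℕ × List ℕ) :=
  [([4, 0, 6, 2, 0, 3, 1, 5], [3, 7, 8, 1, 2, 4, 0, 5, 6]),
    ([4, 2, 6, 3, 5, 4, 0], [0, 2, 7, 3, 1, 4, 5, 8, 6]),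
    ([2, 2, 4, 0, 6, 3], [8, 5, 0, 3, 1, 2, 4, 7, 6]),
    ([2, 1, 5, 4, 1, 6, 3, 1, 0], [7, 2, 5, 8, 0, 1, 3, 4, 6]),
    ([5, 3, 4, 2, 6, 1, 0, 0], [2, 8, 3, 4, 5, 1, 7, 0, 6]),
    ([1, 2, 4, 0, 6, 3, 5, 5, 0], [8, 4, 7, 0, 1, 2, 3, 5, 6]),
    ([0, 3, 1, 5, 2, 6, 4], [8, 6, 0, 2, 3, 1, 4, 5, 7]),
    ([1, 5, 3, 6, 2, 5, 1], [1, 0, 2, 4, 5, 3, 6, 8, 7]),
    ([0, 4, 3, 5, 4, 6, 2], [8, 4, 0, 3, 1, 2, 5, 6, 7]),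
    ([1, 3, 4, 0, 5, 1, 6, 2, 0], [4, 5, 8, 2, 0, 1, 3, 6, 7]),
    ([5, 6, 6], [8, 1, 2, 3, 4, 5, 6, 0, 7]),
    ([0, 2, 2, 4, 1, 5, 3, 6], [5, 8, 0, 1, 2, 3, 4, 6, 7]),
    ([3, 1, 5, 4, 6, 0, 2, 2], [4, 8, 6, 1, 2, 0, 3, 5, 7]),
    ([0, 3, 4, 2, 1, 6, 5, 2, 1, 0, 0], [0, 5, 6, 7, 8, 1, 2, 3, 4]),
    ([1, 3, 2, 0, 6, 1], [8, 0, 5, 2, 3, 1, 6, 7, 4]),
    ([2, 3, 6, 5, 1, 4, 4], [6, 7, 2, 8, 0, 1, 3, 5, 4]),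
    ([2, 0, 6, 1, 5, 2], [7, 0, 1, 2, 3, 5, 6, 8, 4]),
    ([3, 1, 0, 4, 2, 5, 6], [7, 8, 5, 1, 2, 0, 3, 6, 4]),
    ([4, 5, 1, 2, 5, 6, 0, 3], [2, 5, 1, 6, 7, 8, 0, 3, 4]),
    ([2, 1, 1, 0], [1, 2, 3, 4, 0, 5, 6, 7, 8]),
    ([1, 0, 2, 1, 5], [0, 7, 1, 2, 3, 5, 6, 4, 8]),
    ([2, 0, 4, 1, 0, 3], [1, 5, 6, 2, 0, 3, 4, 7, 8]),
    ([3, 0, 4, 3, 0], [0, 1, 6, 3, 4, 2, 5, 7, 8]),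
    ([4, 2, 3, 4], [5, 0, 2, 3, 1, 6, 4, 7, 8]),
    ([1, 1, 4, 0, 5, 2, 6], [4, 8, 0, 1, 2, 5, 3, 6, 7]),
    ([2, 2, 4, 0, 5, 3, 6, 0], [8, 0, 5, 3, 1, 2, 4, 6, 7]),
    ([2, 5, 1, 6, 0], [8, 2, 3, 4, 0, 5, 6, 1, 7]),
    ([2, 6, 4, 0, 5, 1, 6, 3], [1, 5, 8, 2, 0, 3, 4, 6, 7]),
    ([3, 1, 5, 0, 6, 2, 0, 4], [3, 6, 8, 1, 2, 0, 4, 5, 7]),
    ([5, 6, 6, 5], [1, 0, 2, 3, 4, 5, 6, 8, 7]),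
    ([1, 2, 4, 6, 3, 0, 5, 3, 0], [6, 8, 7, 0, 1, 2, 3, 5, 4]),
    ([2, 2, 6, 0, 5], [2, 7, 0, 3, 1, 5, 6, 8, 4]),
    ([2, 4, 6], [6, 8, 2, 3, 0, 5, 1, 7, 4]),
    ([0, 6, 1, 5, 2, 4, 6], [6, 1, 0, 2, 3, 5, 7, 8, 4]),
    ([3, 4, 2, 1, 6, 5, 2, 1], [5, 6, 2, 7, 8, 0, 1, 3, 4]),
    ([1, 3, 2, 0, 6, 1, 0], [0, 5, 8, 2, 3, 1, 6, 7, 4]),
    ([5, 4, 2, 1, 6, 0, 3, 5], [5, 0, 3, 6, 7, 8, 1, 2, 4]),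
    ([5, 6, 6, 5, 0], [0, 2, 1, 3, 4, 5, 6, 8, 7]),
    ([0, 1, 2, 5, 3, 6, 4], [8, 6, 0, 1, 2, 4, 5, 3, 7]),
    ([3, 0, 4, 1, 5, 3, 6, 2, 0], [4, 1, 8, 2, 0, 3, 5, 6, 7])]

def a2reps_5 : List (List ℕ × List ℕ) :=
  [([2, 3, 4, 0, 5, 1, 6, 2, 0], [0, 5, 8, 2, 3, 1, 4, 6, 7]),
    ([3, 4, 0, 5, 2, 6, 4, 0], [1, 5, 8, 3, 2, 0, 4, 6, 7]),
    ([3, 2, 4, 0, 5, 3, 6, 1, 0], [3, 4, 8, 0, 1, 2, 5, 6, 7]),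
    ([2, 3, 4, 5, 0, 6, 1], [8, 3, 6, 2, 0, 1, 4, 5, 7]),
    ([3, 1, 5, 4, 6, 0, 0, 2], [6, 4, 8, 1, 2, 0, 3, 5, 7]),
    ([1, 2, 4, 5, 0, 6, 3, 0, 0], [6, 8, 5, 0, 1, 2, 3, 4, 7]),
    ([2, 3, 4, 5, 0, 6, 1, 0], [3, 6, 8, 2, 0, 1, 4, 5, 7]),
    ([3, 5, 4, 6, 5], [8, 1, 2, 3, 4, 0, 5, 6, 7]),
    ([2, 1, 4, 3, 5, 0, 6, 2], [8, 0, 5, 1, 2, 3, 4, 6, 7]),
    ([2, 3, 5, 1, 0, 6, 4, 1], [6, 5, 7, 8, 0, 1, 2, 4, 3]),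
    ([0, 1, 2, 6, 3, 4, 4, 0], [8, 0, 6, 1, 2, 4, 5, 7, 3]),
    ([4, 5, 1, 2, 6, 0], [8, 2, 4, 6, 7, 5, 0, 1, 3]),
    ([5, 0, 4, 2, 3, 1, 1, 6, 0], [8, 1, 4, 5, 2, 6, 7, 0, 3]),
    ([1, 0, 6, 3, 0, 4, 2, 5], [4, 7, 8, 0, 1, 2, 5, 6, 3]),
    ([0, 4, 5, 1, 2, 6, 0, 3], [0, 5, 4, 6, 7, 8, 1, 2, 3]),
    ([0, 2, 1, 3, 6, 0], [8, 0, 5, 2, 1, 4, 6, 7, 3]),
    ([3, 1, 5, 4, 0, 6, 2, 0], [4, 7, 8, 1, 2, 0, 3, 5, 6]),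
    ([2, 3, 3, 4, 0, 6, 1], [8, 3, 1, 2, 0, 4, 5, 7, 6]),
    ([0, 1, 2, 4, 3, 6], [5, 8, 0, 1, 2, 4, 3, 7, 6]),
    ([1, 2, 0, 4, 3, 6, 5, 0], [7, 3, 8, 0, 1, 2, 4, 5, 6]),
    ([0, 3, 1, 4, 2, 6, 0], [8, 0, 4, 2, 3, 1, 5, 7, 6]),
    ([1, 4, 2, 6, 3, 5, 4], [7, 1, 2, 0, 3, 4, 5, 8, 6]),
    ([0, 3, 1, 5, 2, 4, 4, 0], [7, 0, 6, 2, 3, 1, 4, 5, 8]),
    ([0, 3, 2, 4, 3, 5, 1], [7, 3, 0, 1, 2, 4, 5, 6, 8]),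
    ([0, 1, 2, 3, 4, 0, 0], [0, 5, 6, 1, 2, 3, 4, 7, 8]),
    ([3, 4, 4, 0], [1, 2, 6, 3, 4, 0, 5, 7, 8]),
    ([2, 0, 1, 1, 4, 3, 5], [5, 7, 1, 2, 0, 4, 3, 6, 8]),
    ([6, 3, 5, 2, 4, 1, 3], [3, 1, 2, 4, 5, 6, 7, 8, 0]),
    ([6, 0, 5, 2, 3, 3, 1], [7, 3, 1, 5, 2, 4, 6, 8, 0]),
    ([6, 3, 0, 4, 3], [6, 1, 8, 3, 4, 2, 5, 7, 0]),
    ([6, 0, 1, 4, 5, 1, 2, 3, 0], [5, 1, 4, 6, 7, 8, 2, 3, 0]),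
    ([6, 0, 5, 1, 3, 2, 4, 3, 0], [7, 1, 6, 2, 3, 4, 5, 8, 0]),
    ([6, 1, 0, 2, 1, 3], [1, 5, 8, 2, 3, 4, 6, 7, 0]),
    ([6, 0, 3, 2, 4, 1, 5, 3, 0], [8, 1, 7, 4, 2, 3, 5, 6, 0]),
    ([3, 0, 4, 2, 6, 1, 5, 3], [7, 0, 1, 4, 2, 3, 5, 8, 6]),
    ([3, 1, 0, 4, 2, 6, 5, 0, 0], [5, 8, 7, 1, 2, 0, 3, 4, 6]),
    ([4, 4, 6, 5, 4], [7, 1, 2, 3, 4, 5, 8, 0, 6]),
    ([5, 0, 3, 2, 4, 1, 6, 0], [8, 1, 3, 4, 2, 7, 5, 0, 6]),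
    ([2, 3, 0, 5, 1, 4, 4, 6], [7, 8, 4, 2, 0, 1, 3, 5, 6]),
    ([3, 6, 1, 2, 5, 0, 1, 4, 0, 0], [4, 5, 6, 7, 8, 0, 2, 3, 1])]

def a2reps_6 : List (List ℕ × List ℕ) :=
  [([2, 6, 1, 3, 3, 4], [8, 6, 2, 4, 0, 3, 5, 7, 1]),
    ([2, 6, 1, 5, 0], [7, 2, 3, 4, 0, 5, 6, 8, 1]),
    ([2, 6, 4, 0, 5, 1, 0, 3], [8, 5, 7, 2, 0, 3, 4, 6, 1]),
    ([3, 4, 1, 0, 5, 6, 1, 2], [5, 4, 6, 7, 8, 0, 1, 3, 2]),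
    ([1, 2, 3, 4, 0, 5, 6, 0], [8, 5, 7, 0, 1, 3, 4, 6, 2]),
    ([5, 0, 2, 6, 3, 4, 1, 2], [3, 7, 1, 5, 6, 4, 8, 0, 2]),
    ([2, 1, 0, 3, 6, 4, 5, 5], [7, 8, 4, 1, 0, 3, 5, 6, 2]),
    ([0, 1, 6, 2, 5, 3, 4, 4], [6, 7, 0, 1, 3, 4, 5, 8, 2]),
    ([2, 3, 4, 0, 0, 6, 5, 1], [7, 3, 6, 8, 0, 1, 4, 5, 2]),
    ([0, 2, 6, 1, 5, 0], [7, 0, 3, 4, 1, 5, 6, 8, 2]),
    ([0, 4, 1, 5, 2, 3, 3], [5, 7, 0, 2, 3, 4, 1, 6, 8]),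
    ([1, 2, 3, 1, 4, 0], [6, 2, 0, 4, 1, 3, 5, 7, 8]),
    ([0, 2, 5, 3, 4, 4], [6, 7, 0, 3, 1, 4, 5, 2, 8]),
    ([4, 1, 5, 3, 0, 4, 2], [0, 4, 7, 1, 2, 3, 5, 6, 8]),
    ([2, 0, 3, 1, 4, 5], [6, 7, 1, 2, 0, 4, 5, 3, 8]),
    ([3, 5, 1, 4, 0, 2, 6, 3, 0], [0, 3, 8, 5, 6, 4, 7, 1, 2]),
    ([4, 5, 1, 0, 0, 6, 2, 3], [4, 5, 3, 6, 7, 8, 0, 1, 2]),
    ([2, 0, 3, 6, 4, 0], [6, 1, 8, 3, 0, 4, 5, 7, 2]),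
    ([4, 0, 3, 6, 2, 5, 1, 4], [3, 0, 1, 4, 5, 6, 7, 8, 2]),
    ([5, 0, 4, 6, 3, 1, 1, 2], [8, 4, 1, 5, 3, 6, 7, 0, 2]),
    ([5, 3, 1, 2, 0, 1, 6], [7, 8, 3, 4, 5, 1, 6, 0, 2]),
    ([3, 6, 4, 5, 0], [7, 2, 6, 3, 4, 0, 5, 8, 1]),
    ([4, 6, 3, 5, 2, 4, 1], [0, 3, 2, 4, 5, 6, 7, 8, 1]),
    ([5, 6, 2, 0, 1, 2, 0], [7, 8, 3, 4, 2, 5, 6, 0, 1]),
    ([4, 0, 1, 5, 6, 2, 3], [4, 5, 1, 6, 7, 8, 0, 2, 3]),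
    ([0, 1, 2, 6, 3, 0], [5, 0, 8, 1, 2, 4, 6, 7, 3]),
    ([2, 0, 3, 1, 4, 6, 0], [8, 1, 6, 2, 0, 4, 5, 7, 3]),
    ([4, 5, 2, 3, 1, 1, 6], [4, 8, 2, 5, 6, 7, 0, 1, 3]),
    ([5, 6, 3, 4, 1, 2, 6, 0], [1, 2, 4, 5, 6, 7, 8, 0, 3]),
    ([0, 1, 2, 6, 3], [8, 5, 0, 1, 2, 4, 6, 7, 3]),
    ([1, 0, 6, 4, 2, 1, 5, 3, 1], [5, 6, 1, 7, 8, 0, 2, 4, 3]),
    ([5, 0, 4, 2, 1, 0, 6], [1, 8, 4, 6, 2, 5, 7, 0, 3]),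
    ([1, 5, 6, 4, 5], [6, 1, 2, 0, 4, 5, 7, 8, 3]),
    ([0, 1, 2, 6, 1, 5], [1, 7, 0, 4, 2, 5, 6, 8, 3]),
    ([6, 4, 2, 0, 1, 3, 5, 6, 1], [0, 4, 6, 7, 8, 2, 1, 3, 5]),
    ([1, 2, 0, 4, 3, 5, 6, 0, 0], [3, 7, 8, 0, 1, 2, 4, 6, 5]),
    ([2, 0, 3, 1, 6, 2, 5], [0, 7, 1, 2, 3, 4, 6, 8, 5]),
    ([3, 4, 6, 2, 2, 5, 0, 1], [2, 3, 6, 7, 8, 0, 1, 4, 5]),
    ([3, 1, 6, 4, 0, 2, 2, 5], [6, 7, 8, 1, 2, 0, 3, 4, 5]),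
    ([0, 3, 1, 6, 2, 4, 4, 0], [8, 0, 6, 2, 3, 1, 4, 7, 5])]

def a2reps_7 : List (List ℕ × List ℕ) :=
  [([6, 3, 2, 0, 5, 4, 1], [6, 3, 5, 7, 8, 1, 2, 4, 0]),
    ([6, 0, 5, 2, 4, 1], [6, 3, 1, 4, 2, 5, 7, 8, 0]),
    ([6, 2, 3, 3, 4], [8, 6, 2, 3, 1, 4, 5, 7, 0]),
    ([6, 4, 1, 1, 5, 3, 2], [5, 4, 2, 6, 7, 8, 1, 3, 0]),
    ([6, 0, 5, 1, 3, 2, 4, 3], [6, 7, 1, 2, 3, 4, 5, 8, 0]),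
    ([6, 2, 1, 0, 4, 3, 0, 5], [4, 7, 6, 8, 1, 2, 3, 5, 0]),
    ([2, 1, 5, 4, 0, 6, 3, 1], [5, 1, 7, 8, 0, 2, 3, 4, 6]),
    ([3, 0, 4, 2, 6], [4, 8, 1, 3, 2, 0, 5, 7, 6]),
    ([2, 3, 1, 5, 4, 0, 6, 1], [8, 4, 7, 2, 0, 1, 3, 5, 6]),
    ([3, 0, 4, 2, 6, 1, 5, 3, 0], [0, 1, 7, 4, 2, 3, 5, 8, 6]),
    ([1, 2, 4, 0, 3, 3, 6, 5, 0], [7, 4, 8, 0, 1, 2, 3, 6, 5]),
    ([6, 1, 0, 3, 2, 6, 4], [0, 6, 8, 1, 2, 3, 4, 7, 5]),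
    ([3, 0, 6, 4, 1, 1, 5, 2, 1], [4, 6, 1, 7, 8, 0, 2, 3, 5]),
    ([0, 3, 1, 6, 2, 5, 3], [7, 1, 0, 2, 3, 4, 6, 8, 5]),
    ([3, 1, 6, 0, 4, 2, 5, 4], [7, 8, 3, 1, 2, 0, 4, 6, 5]),
    ([6, 3, 2, 6, 5, 0, 1, 4], [3, 6, 0, 7, 8, 1, 2, 4, 5]),
    ([5, 0, 3, 2, 4, 3], [6, 7, 1, 3, 2, 4, 5, 0, 8]),
    ([2, 3, 1, 4, 3], [6, 1, 2, 4, 0, 3, 5, 7, 8]),
    ([5, 4, 4, 3], [1, 5, 2, 3, 4, 6, 7, 0, 8]),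
    ([3, 2, 4, 3], [6, 0, 2, 3, 1, 4, 5, 7, 8]),
    ([0, 3, 1, 4, 2, 5, 3], [7, 1, 0, 2, 3, 4, 5, 6, 8]),
    ([3, 0, 5, 2, 4, 1, 3, 0], [0, 1, 3, 4, 2, 6, 7, 5, 8]),
    ([0, 2, 3, 0, 5, 1, 6, 4, 0], [6, 4, 8, 0, 1, 2, 3, 5, 7]),
    ([4, 2, 5, 3, 6, 4, 0], [0, 2, 8, 3, 1, 4, 5, 6, 7]),
    ([6, 1, 5, 2, 3, 3, 1, 0], [1, 2, 7, 5, 3, 4, 6, 8, 0]),
    ([6, 0, 1, 2, 5, 1], [7, 8, 1, 4, 2, 5, 6, 3, 0]),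
    ([6, 3, 2, 1, 0, 5, 4, 1, 0], [5, 4, 6, 7, 8, 1, 2, 3, 0]),
    ([6, 0, 4, 5, 2, 3, 1, 1], [3, 4, 1, 5, 6, 7, 8, 2, 0]),
    ([6, 3, 5, 2, 0, 1], [2, 3, 7, 4, 5, 1, 6, 8, 0]),
    ([6, 2, 5, 1, 3, 4, 2], [6, 1, 2, 4, 5, 7, 3, 8, 0]),
    ([6, 5, 5], [7, 1, 2, 3, 4, 5, 6, 8, 0]),
    ([6, 2, 0, 1, 1, 4, 3, 5], [5, 7, 8, 2, 1, 4, 3, 6, 0]),
    ([6, 0, 3, 3, 0], [8, 1, 5, 3, 4, 2, 6, 7, 0]),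
    ([6, 2, 1, 4, 0, 3, 3, 5], [6, 7, 3, 8, 1, 2, 4, 5, 0]),
    ([6, 1, 2, 4, 5, 0, 1, 3], [1, 5, 6, 7, 8, 2, 3, 4, 0]),
    ([6, 0, 2, 1, 4, 2], [6, 8, 1, 2, 3, 5, 4, 7, 0]),
    ([0, 1, 2, 5, 3, 4, 4], [6, 7, 0, 1, 2, 4, 5, 3, 8]),
    ([0, 3, 1, 4, 2, 5, 0], [7, 0, 4, 2, 3, 1, 5, 6, 8]),
    ([2, 0, 4, 1, 5, 3, 0], [5, 1, 7, 2, 0, 3, 4, 6, 8]),
    ([0, 0], [2, 0, 1, 3, 4, 5, 6, 7, 8])]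

def a2reps_8 : List (List ℕ × List ℕ) :=
  [([1, 3, 2, 0, 4, 1], [6, 0, 5, 2, 3, 1, 4, 7, 8]),
    ([3, 3, 4, 2, 6], [4, 8, 2, 3, 0, 1, 5, 7, 6]),
    ([1, 2, 4, 0, 6, 3, 5, 5], [7, 8, 4, 0, 1, 2, 3, 5, 6]),
    ([3, 0, 5, 2, 0, 4, 1, 6], [3, 8, 7, 1, 2, 0, 4, 5, 6]),
    ([0, 1, 2, 6, 3, 0, 4], [0, 6, 8, 1, 2, 4, 5, 7, 3]),
    ([1, 0, 6, 1, 5], [0, 7, 1, 2, 4, 5, 6, 8, 3]),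
    ([0, 1, 5, 6, 3, 4, 1, 2], [1, 4, 0, 5, 6, 7, 8, 2, 3]),
    ([3, 1, 4, 6, 5, 0, 2, 2, 0], [7, 8, 4, 1, 2, 0, 5, 6, 3]),
    ([1, 2, 6, 0, 0, 4, 3, 5], [5, 7, 8, 0, 1, 4, 2, 6, 3]),
    ([1, 1, 6, 3, 2, 0, 5, 4, 1, 0], [1, 5, 6, 7, 8, 0, 2, 4, 3]),
    ([2, 0, 1, 1, 6, 3], [8, 5, 1, 2, 0, 4, 6, 7, 3]),
    ([6, 4, 0, 1, 5, 0, 2, 3], [4, 5, 3, 6, 7, 8, 1, 2, 0]),
    ([6, 0, 5, 3, 0, 4], [1, 6, 7, 3, 4, 2, 5, 8, 0]),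
    ([6, 2, 5, 3, 1, 1, 0], [7, 2, 3, 5, 1, 4, 6, 8, 0]),
    ([6, 1, 5, 2, 4, 3, 1, 1, 0], [6, 2, 1, 5, 3, 4, 7, 8, 0]),
    ([1, 0, 3, 6, 2, 5, 1, 0], [0, 1, 7, 4, 5, 3, 6, 8, 2]),
    ([2, 5, 1, 0, 0, 6], [7, 8, 3, 4, 0, 5, 6, 1, 2]),
    ([2, 1, 3, 4, 0, 5, 6, 0, 0], [5, 7, 8, 1, 0, 4, 3, 6, 2]),
    ([0, 5, 6, 2, 4, 3, 2, 1], [7, 3, 0, 5, 6, 4, 8, 1, 2]),
    ([1, 5, 2, 4, 0, 3, 6, 1], [8, 0, 4, 5, 3, 6, 7, 1, 2]),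
    ([3, 4, 0, 1, 6, 5, 2, 1], [4, 6, 5, 7, 8, 0, 1, 3, 2]),
    ([6, 2, 0, 4, 3, 6], [5, 0, 8, 3, 1, 2, 4, 7, 6]),
    ([4, 2, 6, 3, 5, 4], [7, 0, 2, 3, 1, 4, 5, 8, 6]),
    ([4, 3, 5, 4, 6, 2], [8, 4, 2, 3, 0, 1, 5, 6, 7]),
    ([1, 0, 4, 3, 0, 5, 2, 6], [4, 8, 6, 0, 1, 2, 3, 5, 7]),
    ([5, 1, 6, 4, 0, 5, 2, 3], [4, 5, 8, 1, 2, 0, 3, 6, 7]),
    ([0, 1, 2, 5, 3, 4, 4, 6], [7, 8, 0, 1, 2, 4, 5, 3, 6]),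
    ([6, 3, 0, 4, 1, 6, 2], [0, 4, 8, 2, 3, 1, 5, 7, 6]),
    ([0, 2, 4, 3, 6], [5, 8, 0, 3, 1, 4, 2, 7, 6]),
    ([2, 3, 4, 5, 6, 0, 0, 1], [7, 3, 8, 2, 0, 1, 4, 5, 6]),
    ([2, 0, 4, 1, 6, 3, 0], [5, 1, 8, 2, 0, 3, 4, 7, 6]),
    ([2, 4, 0, 6, 4, 1, 3, 5], [5, 7, 4, 8, 0, 1, 2, 3, 6]),
    ([4, 6, 0, 3, 5, 0, 2, 1], [4, 3, 5, 6, 7, 8, 0, 2, 1]),
    ([2, 6, 0, 1, 3, 4, 5, 0], [7, 4, 6, 8, 0, 2, 3, 5, 1]),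
    ([3, 6, 4], [8, 6, 2, 3, 4, 0, 5, 7, 1]),
    ([2, 6, 5, 2, 1, 3, 4, 0], [6, 2, 5, 7, 8, 0, 3, 4, 1]),
    ([5, 6, 4, 1, 3, 2, 1], [4, 8, 2, 5, 3, 6, 7, 0, 1]),
    ([1, 6, 3, 5, 2, 4, 1], [6, 0, 2, 4, 5, 3, 7, 8, 1]),
    ([0, 1, 6, 3, 5, 2, 4, 1], [6, 1, 0, 4, 5, 3, 7, 8, 2]),
    ([3, 2, 0, 5, 6, 1, 2, 4], [1, 6, 5, 7, 8, 0, 3, 4, 2])]

def a2reps_9 : List (List ℕ × List ℕ) :=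
  [([0, 1, 6, 2, 0, 3], [0, 5, 8, 1, 3, 4, 6, 7, 2]),
    ([3, 6, 1, 2, 5, 0, 1, 4, 0], [6, 4, 5, 7, 8, 0, 2, 3, 1]),
    ([5, 6, 4, 0, 2, 3, 1, 1], [3, 4, 8, 5, 6, 2, 7, 0, 1]),
    ([2, 6, 4, 0, 0, 3, 1, 5], [3, 7, 6, 8, 0, 2, 4, 5, 1]),
    ([0, 4, 3, 5, 4, 6, 2, 0], [4, 0, 8, 3, 1, 2, 5, 6, 7]),
    ([5, 3, 6, 4, 5, 3], [0, 1, 2, 3, 4, 6, 5, 8, 7]),
    ([2, 2, 3, 0, 4], [2, 6, 0, 3, 1, 4, 5, 7, 8]),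
    ([5, 3, 0, 4, 1, 5, 2], [0, 4, 7, 2, 3, 1, 5, 6, 8]),
    ([0, 2, 1, 3, 2], [5, 1, 0, 2, 3, 4, 6, 7, 8]),
    ([0, 1, 2, 3, 1, 4], [1, 6, 0, 4, 2, 3, 5, 7, 8]),
    ([5, 2, 3, 1, 2, 0], [1, 2, 3, 4, 5, 7, 6, 0, 8]),
    ([4, 5, 2, 3, 0, 1, 5, 6], [1, 8, 4, 5, 6, 7, 0, 2, 3]),
    ([5, 4, 1, 3, 6, 2, 4, 1, 0], [7, 2, 1, 4, 5, 6, 8, 0, 3]),
    ([1, 1, 6, 3, 2, 0, 5, 4, 1], [6, 1, 5, 7, 8, 0, 2, 4, 3]),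
    ([5, 2, 4, 0, 3, 6, 1], [8, 3, 4, 5, 1, 6, 7, 0, 2]),
    ([4, 1, 5, 3, 0, 4, 6, 2], [8, 4, 7, 1, 0, 3, 5, 6, 2]),
    ([5, 0, 2, 6, 3, 4, 1, 2, 0], [7, 1, 3, 5, 6, 4, 8, 0, 2]),
    ([5, 0, 3, 6, 2, 4, 1, 3, 0], [7, 1, 3, 4, 5, 6, 8, 0, 2]),
    ([0, 1, 6, 2, 5, 1, 4, 0], [6, 0, 1, 4, 3, 5, 7, 8, 2]),
    ([1, 4, 3, 5, 4, 0, 2, 6], [4, 8, 7, 0, 1, 3, 5, 6, 2]),
    ([1, 0, 2, 6, 3, 5, 1, 0], [0, 1, 7, 5, 3, 4, 6, 8, 2]),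
    ([5, 1, 4, 3, 2, 0, 0, 6, 1, 0], [1, 4, 8, 5, 6, 3, 7, 0, 2]),
    ([4, 0, 2, 5, 6, 2, 3, 1], [5, 3, 1, 6, 7, 8, 0, 2, 4]),
    ([6, 2, 0, 6, 3], [0, 5, 8, 3, 1, 2, 6, 7, 4]),
    ([2, 3, 6, 4, 0], [6, 2, 8, 3, 0, 1, 5, 7, 4]),
    ([5, 0, 6, 3, 5, 4], [0, 6, 1, 3, 4, 2, 5, 8, 7]),
    ([0, 6, 5, 4, 3, 2, 1, 0], [3, 0, 4, 5, 6, 7, 8, 2, 1]),
    ([5, 6, 4, 3, 3, 1, 0, 2], [2, 4, 8, 5, 3, 6, 7, 0, 1]),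
    ([1, 6, 3, 5, 2, 1, 1, 0], [7, 2, 0, 4, 5, 3, 6, 8, 1]),
    ([5, 6, 2, 3, 4, 1, 2, 0], [7, 2, 3, 5, 6, 8, 4, 0, 1]),
    ([0, 6, 2, 0, 4, 1, 5, 3], [7, 5, 8, 0, 2, 3, 4, 6, 1]),
    ([1, 1, 3, 0, 5, 2, 6, 4], [8, 6, 0, 1, 2, 3, 4, 5, 7]),
    ([2, 3, 0, 5, 1, 6, 4, 0], [6, 4, 8, 2, 0, 1, 3, 5, 7]),
    ([3, 4, 4, 5, 0, 6, 2], [8, 4, 1, 3, 2, 0, 5, 6, 7]),
    ([0, 5, 1, 6, 2, 5], [4, 1, 0, 2, 3, 5, 6, 8, 7]),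
    ([5, 2, 6, 5], [8, 0, 2, 3, 1, 5, 6, 4, 7]),
    ([1, 0, 2, 1, 3], [0, 5, 1, 2, 3, 4, 6, 7, 8]),
    ([2, 2, 4, 0, 5, 3], [7, 5, 0, 3, 1, 2, 4, 6, 8]),
    ([2, 3, 3, 4, 0, 5, 1], [7, 3, 1, 2, 0, 4, 5, 6, 8]),
    ([1, 1, 3, 0, 4, 2, 5], [4, 7, 0, 1, 2, 3, 5, 6, 8])]

def a2reps_10 : List (List ℕ × List ℕ) :=
  [([3, 5, 2, 4, 1, 3, 0], [0, 2, 3, 4, 5, 6, 7, 1, 8]),
    ([0, 3, 4, 0, 6, 2, 1, 5], [3, 7, 5, 8, 0, 1, 2, 4, 6]),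
    ([0, 3, 2, 4, 3, 6, 1, 0], [3, 0, 8, 1, 2, 4, 5, 7, 6]),
    ([0, 3, 1, 5, 2, 4, 4, 6], [7, 8, 0, 2, 3, 1, 4, 5, 6]),
    ([4, 5, 1, 2, 6], [4, 8, 2, 6, 7, 5, 0, 1, 3]),
    ([1, 5, 6, 3, 4, 2, 3, 1], [7, 0, 2, 4, 5, 6, 8, 1, 3]),
    ([2, 4, 3, 5, 1, 0, 6, 1, 0], [5, 7, 8, 2, 0, 4, 1, 6, 3]),
    ([0, 4, 5, 2, 3, 1, 1, 6], [4, 8, 0, 5, 6, 7, 1, 2, 3]),
    ([5, 3, 1, 0, 6, 4, 2, 0], [4, 5, 6, 7, 8, 1, 2, 0, 3]),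
    ([0, 3, 1, 2, 2, 6], [5, 8, 0, 2, 3, 1, 6, 7, 4]),
    ([0, 2, 3, 6, 4], [8, 6, 0, 3, 1, 2, 5, 7, 4]),
    ([2, 0, 6, 1, 3, 3, 4], [8, 6, 1, 2, 0, 3, 5, 7, 4]),
    ([5, 0, 2, 4, 6, 1, 3, 5, 0], [0, 1, 5, 6, 7, 8, 2, 3, 4]),
    ([2, 5, 6, 2, 3, 4, 0, 1], [2, 3, 5, 6, 7, 8, 0, 1, 4]),
    ([3, 0, 2, 2, 6], [5, 8, 1, 3, 2, 0, 6, 7, 4]),
    ([6, 2, 0, 3, 1, 4, 2], [6, 1, 8, 2, 3, 4, 5, 7, 0]),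
    ([6, 2, 5, 3, 4, 4, 0], [7, 2, 6, 3, 1, 4, 5, 8, 0]),
    ([6, 1, 0, 3, 1, 4, 2, 5], [4, 7, 8, 2, 1, 3, 5, 6, 0]),
    ([6, 1, 5, 2, 3, 3, 1], [7, 1, 2, 5, 3, 4, 6, 8, 0]),
    ([6, 4, 5, 3, 4, 2, 0, 1], [2, 3, 1, 4, 5, 6, 7, 8, 0]),
    ([6, 2, 3, 3, 0], [8, 2, 5, 3, 1, 4, 6, 7, 0]),
    ([5, 6, 4, 5], [6, 0, 2, 3, 4, 5, 7, 8, 1]),
    ([5, 6, 2, 4, 3, 2, 1], [7, 3, 2, 5, 6, 4, 8, 0, 1]),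
    ([0, 6, 3, 5, 2, 0, 1], [0, 3, 7, 4, 5, 2, 6, 8, 1]),
    ([0, 6, 2, 3, 3], [5, 8, 0, 3, 2, 4, 6, 7, 1]),
    ([1, 6, 4, 2, 0, 5, 3, 1], [5, 0, 6, 7, 8, 2, 3, 4, 1]),
    ([3, 6, 5, 1, 2, 0, 4, 2], [6, 7, 3, 8, 2, 0, 4, 5, 1]),
    ([5, 0, 4, 6, 2, 3, 3, 1, 0], [3, 1, 8, 5, 6, 4, 7, 0, 2]),
    ([0, 1, 6, 2, 4, 4], [6, 8, 0, 1, 3, 5, 4, 7, 2]),
    ([4, 5, 1, 2, 0, 0, 6], [3, 8, 4, 6, 7, 5, 0, 1, 2]),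
    ([1, 5, 2, 4, 0, 3, 6, 1, 0], [0, 4, 8, 5, 3, 6, 7, 1, 2]),
    ([2, 5, 1, 0, 4, 3, 6, 1, 1], [4, 5, 7, 8, 0, 2, 3, 1, 6]),
    ([0, 2, 1, 4, 2, 6, 3, 0], [5, 0, 8, 2, 3, 1, 4, 7, 6]),
    ([3, 3, 4, 1, 6, 2, 5, 1], [7, 0, 2, 4, 3, 1, 5, 8, 6]),
    ([1, 1, 3, 0, 4, 2, 6, 0], [8, 0, 4, 1, 2, 3, 5, 7, 6]),
    ([2, 0, 4, 1, 6, 3, 5, 5, 0], [8, 1, 7, 2, 0, 3, 4, 5, 6]),
    ([0, 6, 1, 3, 2, 4, 3], [6, 8, 0, 2, 3, 4, 5, 7, 1]),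
    ([3, 6, 1, 2, 4, 5, 0, 1], [2, 5, 6, 7, 8, 0, 3, 4, 1]),
    ([2, 6, 1, 4, 3, 5, 4], [7, 8, 2, 4, 0, 3, 5, 6, 1]),
    ([6, 6, 5], [0, 7, 2, 3, 4, 5, 6, 8, 1])]

def a2reps_11 : List (List ℕ × List ℕ) :=
  [([0, 2, 3, 4, 6, 0], [8, 0, 6, 3, 1, 2, 4, 7, 5]),
    ([3, 5, 6, 1, 2, 0, 5, 4], [1, 6, 3, 7, 8, 0, 2, 4, 5]),
    ([3, 2, 6, 3, 5], [0, 7, 2, 3, 1, 4, 6, 8, 5]),
    ([2, 0, 4, 1, 3, 2], [5, 0, 1, 2, 3, 6, 4, 7, 8]),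
    ([1, 1, 3, 0, 4, 2, 5, 0], [7, 0, 4, 1, 2, 3, 5, 6, 8]),
    ([3, 4, 4, 5, 0], [7, 2, 1, 3, 4, 0, 5, 6, 8]),
    ([0, 3, 1, 5, 2, 4, 4], [6, 7, 0, 2, 3, 1, 4, 5, 8]),
    ([0, 1, 2, 3, 4, 0], [6, 0, 5, 1, 2, 3, 4, 7, 8]),
    ([0, 6, 2, 5, 3, 1, 1, 0], [7, 0, 3, 5, 2, 4, 6, 8, 1]),
    ([5, 6, 0, 3, 4, 0, 1, 2, 0], [4, 5, 3, 6, 7, 8, 2, 0, 1]),
    ([2, 6, 0, 1, 3, 4, 5], [6, 7, 4, 8, 0, 2, 3, 5, 1]),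
    ([1, 6, 2, 5, 6], [7, 1, 2, 0, 3, 5, 6, 8, 4]),
    ([5, 4, 2, 1, 6, 5, 3], [0, 5, 2, 6, 7, 8, 1, 3, 4]),
    ([0, 1, 2, 3, 6, 0, 0], [0, 5, 8, 1, 2, 3, 6, 7, 4]),
    ([3, 0, 2, 4, 6, 1, 2, 5, 0, 1], [1, 6, 5, 7, 8, 0, 2, 3, 4]),
    ([2, 3, 6, 1, 0, 4, 1, 5], [5, 7, 8, 2, 0, 1, 3, 6, 4]),
    ([2, 0, 3, 1, 4, 6], [6, 8, 1, 2, 0, 4, 5, 7, 3]),
    ([2, 3, 1, 5, 6, 0, 1, 4, 0, 0], [7, 4, 6, 8, 0, 1, 2, 5, 3]),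
    ([4, 1, 1, 6, 5, 3, 2], [5, 4, 2, 6, 7, 8, 0, 1, 3]),
    ([5, 1, 6, 3, 0, 5, 2, 4], [4, 6, 8, 1, 2, 3, 0, 5, 7]),
    ([2, 3, 4, 5, 0, 6, 1, 0, 0], [6, 8, 3, 2, 0, 1, 4, 5, 7]),
    ([6, 0, 5, 2, 4, 1, 0, 0], [1, 6, 3, 4, 2, 5, 7, 8, 0]),
    ([6, 0, 2, 1, 3, 2, 4], [8, 6, 1, 2, 3, 4, 5, 7, 0]),
    ([6, 0, 3, 3], [5, 8, 1, 3, 4, 2, 6, 7, 0]),
    ([6, 2, 0, 4, 3, 0, 5, 1, 0], [3, 6, 7, 8, 1, 2, 4, 5, 0]),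
    ([2, 0, 3, 1, 4, 5, 6], [7, 8, 1, 2, 0, 4, 5, 3, 6]),
    ([4, 3, 6, 0, 1, 4, 5, 2, 0], [4, 5, 7, 8, 0, 1, 2, 3, 6]),
    ([2, 0, 4, 2, 6, 3, 0], [5, 1, 8, 3, 2, 0, 4, 7, 6]),
    ([1, 5, 6, 3, 4, 1, 2, 0], [4, 2, 0, 5, 6, 7, 8, 1, 3]),
    ([1, 2, 6, 4, 0, 5, 3, 0], [5, 8, 7, 0, 1, 2, 4, 6, 3]),
    ([5, 4, 1, 2, 6, 3, 4, 1, 0], [7, 2, 1, 5, 6, 4, 8, 0, 3]),
    ([2, 3, 0, 4, 1, 5, 6, 0], [8, 4, 7, 2, 0, 1, 5, 6, 3]),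
    ([1, 0, 6, 2, 5, 1], [7, 0, 1, 4, 2, 5, 6, 8, 3]),
    ([3, 4, 1, 0, 6, 5, 2, 1], [4, 5, 6, 7, 8, 0, 1, 2, 3]),
    ([4, 3, 1, 6, 5, 2, 1, 0, 0], [2, 4, 6, 7, 8, 1, 0, 3, 5]),
    ([0, 2, 3, 5, 6, 1, 2, 4], [1, 6, 0, 7, 8, 2, 3, 4, 5]),
    ([2, 0, 5, 1, 6, 2], [8, 0, 1, 2, 3, 5, 6, 4, 7]),
    ([1, 2, 0, 4, 5, 0, 6, 3, 0], [5, 6, 8, 0, 1, 3, 4, 2, 7]),
    ([1, 4, 3, 0, 5, 1, 6, 2, 0], [4, 6, 8, 2, 0, 3, 1, 5, 7]),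
    ([1, 1, 4, 3, 5, 0, 6, 2], [8, 4, 5, 1, 2, 0, 3, 6, 7])]

def a2reps_12 : List (List ℕ × List ℕ) :=
  [([2, 4, 4, 5, 3, 6], [5, 8, 2, 3, 0, 1, 4, 6, 7]),
    ([6, 5, 5, 4], [1, 6, 2, 3, 4, 5, 7, 8, 0]),
    ([6, 0, 1, 2, 3, 1, 4], [8, 6, 1, 4, 2, 3, 5, 7, 0]),
    ([6, 0, 2, 3, 5, 1, 1, 4], [5, 6, 1, 7, 8, 2, 3, 4, 0]),
    ([6, 1, 5, 3, 2, 2, 1], [7, 1, 2, 4, 5, 3, 6, 8, 0]),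
    ([6, 0, 2, 1, 3, 2], [5, 8, 1, 2, 3, 4, 6, 7, 0]),
    ([6, 3, 5, 2, 1, 1, 0], [7, 2, 3, 4, 5, 1, 6, 8, 0]),
    ([6, 0, 5, 3, 0, 1], [1, 3, 7, 5, 4, 2, 6, 8, 0]),
    ([4, 5, 1, 3, 6, 1, 0, 2], [2, 4, 8, 5, 6, 7, 0, 1, 3]),
    ([3, 1, 2, 6, 4, 0, 5, 2, 0], [5, 8, 7, 1, 2, 0, 4, 6, 3]),
    ([1, 2, 6, 0, 4, 3, 5, 4, 0], [8, 4, 7, 0, 1, 2, 5, 6, 3]),
    ([1, 6, 3, 0, 4, 2, 5, 0], [7, 8, 4, 0, 2, 3, 5, 6, 1]),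
    ([2, 0, 4, 1, 3, 3, 6, 5, 0], [7, 1, 8, 2, 0, 3, 4, 6, 5]),
    ([3, 1, 6, 5, 2, 0, 0, 4, 1, 0], [1, 4, 6, 7, 8, 0, 2, 3, 5]),
    ([1, 2, 4, 5, 0, 3, 3, 6], [7, 8, 6, 0, 1, 2, 3, 4, 5]),
    ([3, 0, 6, 1, 5, 2, 4, 3], [6, 0, 1, 2, 3, 4, 7, 8, 5]),
    ([3, 0, 6, 3, 5], [0, 7, 1, 3, 4, 2, 6, 8, 5]),
    ([3, 0, 6, 2, 0, 4], [1, 6, 8, 3, 2, 0, 4, 7, 5]),
    ([2, 3, 5, 6, 0, 1, 4, 0], [6, 7, 3, 8, 0, 1, 2, 4, 5]),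
    ([3, 6, 6, 5], [1, 7, 2, 3, 4, 0, 6, 8, 5]),
    ([5, 3, 1, 6, 4, 2, 0, 5], [2, 0, 6, 7, 8, 1, 3, 4, 5]),
    ([0, 1, 2, 3, 4, 6, 5], [8, 7, 0, 1, 2, 3, 4, 6, 5]),
    ([2, 3, 1, 6, 4, 0, 5, 1, 0], [4, 8, 7, 2, 0, 1, 3, 6, 5]),
    ([3, 1, 6, 5, 2, 0, 0, 4, 1], [6, 1, 4, 7, 8, 0, 2, 3, 5]),
    ([2, 1, 4, 3, 0, 6, 1], [8, 1, 6, 2, 0, 3, 4, 7, 5]),
    ([5, 6, 2, 3, 1, 2, 0], [7, 2, 3, 4, 5, 8, 6, 0, 1]),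
    ([1, 2, 3, 6, 5, 0, 4, 4], [6, 7, 8, 0, 1, 3, 2, 5, 4]),
    ([2, 0, 6, 1, 4, 4], [6, 8, 1, 2, 0, 5, 3, 7, 4]),
    ([4, 0, 2, 3, 6, 1, 2, 5, 0, 1], [1, 5, 6, 7, 8, 2, 0, 3, 4]),
    ([0, 2, 1, 4, 6], [6, 8, 0, 2, 1, 5, 4, 7, 3]),
    ([3, 1, 0, 6, 1], [8, 1, 5, 2, 4, 0, 6, 7, 3]),
    ([4, 0, 1, 5, 6, 2, 0, 0], [1, 8, 4, 6, 7, 5, 0, 2, 3]),
    ([2, 4, 5, 1, 0, 6, 3, 1], [5, 6, 7, 8, 0, 2, 1, 4, 3]),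
    ([4, 5, 1, 2, 6, 0, 3], [2, 5, 4, 6, 7, 8, 0, 1, 3]),
    ([2, 6, 5, 2, 1, 3, 4], [5, 6, 2, 7, 8, 0, 3, 4, 1]),
    ([5, 6, 4, 5, 0], [0, 2, 6, 3, 4, 5, 7, 8, 1]),
    ([4, 6, 1, 3, 5, 0, 2, 4, 0], [0, 5, 4, 6, 7, 8, 2, 3, 1]),
    ([5, 6, 3, 4, 1, 2, 0], [4, 2, 3, 5, 6, 7, 8, 0, 1]),
    ([1, 6, 2, 3, 3, 0], [8, 2, 5, 0, 3, 4, 6, 7, 1]),
    ([2, 3, 5, 0, 1, 6, 4, 2, 0], [0, 5, 6, 7, 8, 1, 3, 4, 2])]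

def a2reps_13 : List (List ℕ × List ℕ) :=
  [([2, 3, 0, 5, 6, 0, 1, 4, 0], [6, 7, 3, 8, 0, 1, 4, 5, 2]),
    ([6, 0, 5, 6], [7, 0, 1, 3, 4, 5, 6, 8, 2]),
    ([1, 2, 3, 0, 4, 6, 5, 0], [7, 4, 8, 0, 1, 3, 5, 6, 2]),
    ([2, 0, 6, 1, 3, 3], [5, 8, 1, 2, 0, 3, 6, 7, 4]),
    ([2, 0, 6, 3, 1, 5, 4, 0], [6, 1, 7, 8, 0, 2, 3, 5, 4]),
    ([0, 5, 4, 2, 1, 6, 5, 3], [1, 5, 0, 6, 7, 8, 2, 3, 4]),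
    ([0, 3, 1, 2, 2, 6, 4], [8, 6, 0, 2, 3, 1, 5, 7, 4]),
    ([3, 4, 2, 1, 6, 5, 2, 1, 0, 0], [2, 5, 6, 7, 8, 0, 1, 3, 4]),
    ([6, 2, 3, 3, 4, 0], [6, 2, 8, 3, 1, 4, 5, 7, 0]),
    ([0, 4, 6, 3, 5, 2, 4, 1], [1, 3, 0, 4, 5, 6, 7, 8, 2]),
    ([5, 3, 4, 1, 2, 0, 3, 6], [1, 8, 3, 5, 6, 4, 7, 0, 2]),
    ([1, 0, 2, 6, 3, 5, 1], [7, 0, 1, 5, 3, 4, 6, 8, 2]),
    ([1, 2, 4, 0, 6, 3, 0, 5], [4, 7, 8, 0, 1, 2, 3, 5, 6]),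
    ([0, 3, 2, 4, 3, 6, 1], [8, 3, 0, 1, 2, 4, 5, 7, 6]),
    ([3, 0, 4, 1, 6, 2, 5, 3], [7, 0, 1, 2, 3, 4, 5, 8, 6]),
    ([1, 0, 3, 1, 4, 2, 6], [4, 8, 1, 2, 0, 3, 5, 7, 6]),
    ([0, 2, 1, 4, 2, 6, 3], [8, 5, 0, 2, 3, 1, 4, 7, 6]),
    ([2, 3, 4, 5, 6, 0, 1], [2, 3, 7, 8, 0, 1, 4, 5, 6]),
    ([6, 4, 1, 1, 5, 3, 2, 0], [4, 2, 5, 6, 7, 8, 1, 3, 0]),
    ([6, 3, 2, 0, 5, 4, 1, 0], [3, 5, 6, 7, 8, 1, 2, 4, 0]),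
    ([6, 1, 5, 2, 1, 1, 0], [7, 2, 1, 4, 3, 5, 6, 8, 0]),
    ([6, 0, 1, 4, 5, 1, 2, 3], [4, 5, 1, 6, 7, 8, 2, 3, 0]),
    ([6, 0, 5, 3, 4, 4], [6, 7, 1, 3, 4, 2, 5, 8, 0]),
    ([0, 5, 1, 3, 2, 4, 3, 6], [7, 8, 0, 2, 3, 4, 5, 1, 6]),
    ([2, 0, 5, 4, 0, 6, 3, 1], [5, 3, 7, 8, 0, 1, 2, 4, 6]),
    ([2, 0, 0, 4, 3, 6, 5, 1], [7, 3, 4, 8, 0, 1, 2, 5, 6]),
    ([3, 2, 4, 3, 6, 0, 5], [2, 7, 0, 3, 1, 4, 5, 8, 6]),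
    ([1, 2, 4, 5, 6, 0, 0, 3], [7, 5, 8, 0, 1, 2, 3, 4, 6]),
    ([2, 0, 4, 1, 6, 3, 5, 5], [7, 8, 1, 2, 0, 3, 4, 5, 6]),
    ([2, 0, 3, 1, 4, 2], [6, 0, 1, 2, 3, 4, 5, 7, 8]),
    ([0, 2, 2, 1], [1, 3, 0, 4, 2, 5, 6, 7, 8]),
    ([3, 4, 4, 5], [1, 7, 2, 3, 4, 0, 5, 6, 8]),
    ([0, 2, 3, 4, 5, 0], [7, 0, 6, 3, 1, 2, 4, 5, 8]),
    ([0, 1, 2, 4, 3, 5], [5, 7, 0, 1, 2, 4, 3, 6, 8]),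
    ([0, 2, 2, 4, 1, 6, 3, 0], [5, 0, 8, 1, 2, 3, 4, 7, 6]),
    ([2, 3, 0, 4, 1, 6, 3], [8, 1, 4, 2, 0, 3, 5, 7, 6]),
    ([0, 3, 2, 4, 1, 6, 3, 5], [1, 7, 0, 4, 2, 3, 5, 8, 6]),
    ([3, 2, 4, 0, 6, 3, 0], [0, 4, 8, 3, 1, 2, 5, 7, 6]),
    ([2, 3, 4, 5, 6, 0, 1, 1], [3, 8, 7, 2, 0, 1, 4, 5, 6]),
    ([1, 4, 6, 1, 2, 3, 5, 0, 1], [2, 6, 5, 7, 8, 0, 1, 4, 3])]

def a2reps_14 : List (List ℕ × List ℕ) :=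
  [([4, 1, 5, 6, 2, 0, 3, 2], [5, 7, 8, 1, 2, 4, 0, 6, 3]),
    ([0, 6, 1, 5, 6], [7, 1, 0, 2, 4, 5, 6, 8, 3]),
    ([0, 2, 1, 3, 6], [5, 8, 0, 2, 1, 4, 6, 7, 3]),
    ([2, 3, 0, 4, 1, 5, 6, 0, 0], [4, 7, 8, 2, 0, 1, 5, 6, 3]),
    ([1, 2, 3, 4, 0, 5, 6], [7, 8, 5, 0, 1, 3, 4, 6, 2]),
    ([5, 0, 4, 6, 2, 3, 3, 1], [8, 3, 1, 5, 6, 4, 7, 0, 2]),
    ([3, 4, 2, 0, 5, 6, 1, 2, 0], [5, 6, 3, 7, 8, 0, 1, 4, 2]),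
    ([0, 5, 6, 3, 4, 1, 2, 0, 0], [0, 3, 4, 5, 6, 7, 8, 1, 2]),
    ([0, 2, 6, 3, 4, 4], [6, 8, 0, 3, 1, 4, 5, 7, 2]),
    ([1, 2, 6, 1, 5], [0, 7, 2, 4, 1, 5, 6, 8, 3]),
    ([1, 3, 6, 1, 2, 4, 5, 0, 1], [2, 5, 6, 7, 8, 1, 0, 4, 3]),
    ([1, 2, 6, 3, 4, 4], [6, 8, 2, 0, 1, 4, 5, 7, 3]),
    ([3, 4, 0, 1, 5, 6, 2, 3], [4, 0, 5, 6, 7, 8, 1, 2, 3]),
    ([2, 0, 6, 1, 0, 3], [1, 5, 8, 2, 0, 3, 6, 7, 4]),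
    ([1, 2, 4, 6, 5, 0, 3, 3, 0], [7, 8, 5, 0, 1, 2, 3, 6, 4]),
    ([0, 3, 1, 2, 2, 6, 4, 0], [6, 0, 8, 2, 3, 1, 5, 7, 4]),
    ([3, 0, 5, 2, 4, 4, 0], [7, 1, 6, 3, 2, 0, 4, 5, 8]),
    ([2, 3, 0, 4, 1, 5, 3, 0], [1, 4, 7, 2, 0, 3, 5, 6, 8]),
    ([1, 0, 3, 2, 4, 1], [6, 0, 1, 4, 2, 3, 5, 7, 8]),
    ([3, 4, 6, 0, 2, 5, 1, 1], [3, 4, 6, 7, 8, 0, 1, 2, 5]),
    ([1, 2, 3, 0, 6, 4, 0, 5], [4, 7, 8, 0, 1, 3, 2, 6, 5]),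
    ([3, 0, 6, 4, 5, 3], [7, 0, 1, 3, 4, 6, 2, 8, 5]),
    ([2, 3, 5, 6, 1, 2, 4, 0], [6, 2, 0, 7, 8, 1, 3, 4, 5]),
    ([2, 3, 4, 6, 5, 0, 1, 1, 0], [7, 8, 3, 2, 0, 1, 4, 6, 5]),
    ([0, 2, 3, 4, 6, 0, 0], [0, 6, 8, 3, 1, 2, 4, 7, 5]),
    ([3, 1, 2, 6, 4, 0, 5, 2], [7, 5, 8, 1, 2, 0, 4, 6, 3]),
    ([5, 4, 3, 2, 1, 0, 6, 5, 0], [0, 4, 8, 5, 6, 7, 1, 2, 3]),
    ([2, 3, 1, 5, 6, 0, 1, 4], [4, 6, 7, 8, 0, 1, 2, 5, 3]),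
    ([1, 4, 6, 0, 2, 3, 5, 1, 1], [0, 5, 6, 7, 8, 2, 1, 4, 3]),
    ([2, 5, 6, 0, 1, 3, 4], [5, 6, 7, 8, 0, 2, 3, 1, 4]),
    ([4, 5, 2, 2, 6, 1, 3], [3, 5, 2, 6, 7, 8, 0, 1, 4]),
    ([3, 2, 0, 6, 2], [8, 1, 5, 3, 2, 0, 6, 7, 4]),
    ([0, 2, 3, 6, 4, 0], [6, 0, 8, 3, 1, 2, 5, 7, 4]),
    ([2, 1, 6, 3, 0, 4, 1], [6, 1, 8, 2, 0, 3, 5, 7, 4]),
    ([3, 0, 4, 1, 5, 2, 6, 3], [8, 0, 1, 2, 3, 4, 5, 6, 7]),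
    ([5, 1, 6, 3, 0, 2, 2, 4], [5, 6, 8, 1, 2, 3, 4, 0, 7]),
    ([2, 1, 0, 4, 1, 5, 3, 6], [5, 8, 4, 2, 0, 1, 3, 6, 7]),
    ([5, 2, 6, 4, 0, 5, 3], [0, 5, 8, 3, 1, 2, 4, 6, 7]),
    ([5, 0, 6, 2, 1, 1, 0], [8, 1, 3, 4, 2, 5, 6, 0, 7]),
    ([2, 3, 6, 0, 1, 4, 5], [6, 7, 5, 8, 0, 1, 2, 3, 4])]

def a2reps_15 : List (List ℕ × List ℕ) :=
  [([4, 5, 2, 2, 6, 1, 3, 0], [5, 2, 3, 6, 7, 8, 0, 1, 4]),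
    ([0, 2, 4, 6], [6, 8, 0, 3, 1, 5, 2, 7, 4]),
    ([3, 2, 0, 6, 2, 0], [1, 5, 8, 3, 2, 0, 6, 7, 4]),
    ([3, 1, 0, 4, 2, 5, 6, 0], [8, 5, 7, 1, 2, 0, 3, 6, 4]),
    ([2, 0, 6, 1, 5, 0], [7, 1, 3, 2, 0, 5, 6, 8, 4]),
    ([2, 3, 6, 5, 0, 0, 4, 1, 0], [3, 7, 6, 8, 0, 1, 2, 5, 4]),
    ([4, 5, 2, 3, 6, 0], [8, 2, 5, 3, 6, 7, 0, 1, 4]),
    ([2, 0, 5, 6, 1, 2, 4, 3, 0], [5, 1, 6, 7, 8, 0, 3, 4, 2]),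
    ([0, 5, 6, 4, 5], [6, 1, 0, 3, 4, 5, 7, 8, 2]),
    ([4, 5, 0, 2, 6, 0, 3, 1, 0], [3, 4, 5, 6, 7, 8, 0, 1, 2]),
    ([5, 0, 3, 6, 2, 4, 1, 3], [3, 7, 1, 4, 5, 6, 8, 0, 2]),
    ([3, 0, 4, 1, 5, 2, 6, 3, 0], [0, 1, 8, 2, 3, 4, 5, 6, 7]),
    ([0, 3, 4, 6, 1, 2, 5, 0, 1], [0, 6, 4, 7, 8, 1, 2, 3, 5]),
    ([3, 6, 6, 2, 0, 5, 4, 1, 0], [3, 1, 6, 7, 8, 0, 2, 4, 5]),
    ([2, 3, 5, 6, 4, 1, 0, 4], [2, 7, 6, 8, 0, 1, 3, 4, 5]),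
    ([1, 6, 4, 2, 0, 5, 3, 1, 0], [0, 6, 5, 7, 8, 2, 3, 4, 1]),
    ([2, 0, 4, 1, 5, 3, 6, 0], [8, 1, 5, 2, 0, 3, 4, 6, 7]),
    ([6, 1, 0, 3, 2, 5, 4, 6], [6, 0, 8, 1, 2, 3, 4, 5, 7]),
    ([3, 4, 0, 5, 2, 6, 4], [8, 1, 5, 3, 2, 0, 4, 6, 7]),
    ([2, 3, 4, 0, 5, 1, 6, 2], [8, 0, 5, 2, 3, 1, 4, 6, 7]),
    ([3, 4, 6, 1, 2, 5, 1, 1, 0], [4, 2, 6, 7, 8, 0, 1, 3, 5]),
    ([3, 2, 6, 3, 5, 0], [7, 2, 0, 3, 1, 4, 6, 8, 5]),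
    ([5, 0, 4, 1, 3, 6, 2, 4, 0], [7, 1, 4, 2, 5, 6, 8, 0, 3]),
    ([2, 0, 1, 1, 6, 3, 0], [5, 1, 8, 2, 0, 4, 6, 7, 3]),
    ([4, 5, 1, 2, 6, 0, 0], [2, 4, 8, 6, 7, 5, 0, 1, 3]),
    ([0, 6, 2, 0, 4, 1, 5, 3, 0], [5, 8, 7, 0, 2, 3, 4, 6, 1]),
    ([0, 6, 2, 5, 1], [7, 3, 0, 4, 2, 5, 6, 8, 1]),
    ([4, 6, 0, 2, 3, 5, 1, 1], [3, 5, 6, 7, 8, 2, 0, 4, 1]),
    ([5, 6, 4, 3, 2, 1, 3, 0], [8, 2, 3, 5, 6, 4, 7, 0, 1]),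
    ([3, 6, 0, 2, 4, 5, 0, 1], [5, 3, 6, 7, 8, 0, 2, 4, 1]),
    ([4, 6, 1, 3, 5, 2, 2, 0], [5, 2, 4, 6, 7, 8, 0, 3, 1]),
    ([1, 6, 2, 5, 3, 1, 1], [0, 7, 2, 5, 3, 4, 6, 8, 1]),
    ([2, 3, 0, 6, 4, 1, 0, 5], [4, 7, 6, 8, 0, 1, 2, 3, 5]),
    ([3, 0, 6, 2, 4, 4, 0], [8, 1, 6, 3, 2, 0, 4, 7, 5]),
    ([0, 3, 1, 6, 2, 0, 4], [0, 6, 8, 2, 3, 1, 4, 7, 5]),
    ([5, 3, 1, 6, 0, 2, 4, 5, 0], [0, 3, 6, 7, 8, 1, 2, 4, 5]),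
    ([2, 3, 4, 6, 5, 0, 1, 1], [3, 7, 8, 2, 0, 1, 4, 6, 5]),
    ([3, 0, 4, 3, 6], [0, 8, 1, 3, 4, 2, 5, 7, 6]),
    ([2, 0, 4, 1, 6, 3], [8, 5, 1, 2, 0, 3, 4, 7, 6]),
    ([1, 6, 3, 5, 2, 1, 1], [0, 7, 2, 4, 5, 3, 6, 8, 1])]

def a2reps_16 : List (List ℕ × List ℕ) :=
  [([5, 6, 4, 2, 3, 1, 2, 0], [8, 2, 3, 4, 5, 6, 7, 0, 1]),
    ([0, 1, 2, 3, 4, 5, 6, 0], [8, 0, 7, 1, 2, 3, 4, 5, 6]),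
    ([3, 0, 4, 2, 6, 0], [8, 1, 4, 3, 2, 0, 5, 7, 6]),
    ([1, 6, 3, 5, 2, 4, 1, 0], [0, 2, 6, 4, 5, 3, 7, 8, 1]),
    ([1, 6, 2, 5, 3, 1, 1, 0], [7, 2, 0, 5, 3, 4, 6, 8, 1]),
    ([2, 6, 1, 5, 5], [7, 8, 2, 4, 0, 5, 6, 3, 1]),
    ([1, 2, 6, 4, 0, 5, 3], [7, 5, 8, 0, 1, 2, 4, 6, 3]),
    ([3, 4, 1, 2, 6, 5, 2, 1, 0], [5, 2, 6, 7, 8, 0, 1, 4, 3]),
    ([5, 3, 1, 6, 0, 2, 4, 5], [6, 0, 3, 7, 8, 1, 2, 4, 5]),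
    ([2, 3, 0, 4, 1, 5, 6], [7, 8, 4, 2, 0, 1, 5, 6, 3]),
    ([0, 3, 1, 4, 6, 3, 5, 0], [7, 0, 1, 2, 4, 6, 5, 8, 3]),
    ([2, 0, 3, 1, 4, 6, 0, 0], [1, 6, 8, 2, 0, 4, 5, 7, 3]),
    ([5, 6, 4, 1, 1, 0], [8, 2, 3, 6, 4, 5, 7, 0, 1]),
    ([4, 3, 0, 1, 6, 5, 2, 1], [4, 5, 6, 7, 8, 1, 0, 3, 2]),
    ([0, 1, 2, 6, 3, 4, 4], [6, 8, 0, 1, 2, 4, 5, 7, 3]),
    ([4, 2, 6, 4], [8, 0, 2, 3, 1, 5, 4, 7, 6]),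
    ([3, 0, 4, 1, 6, 2, 5, 3, 0], [0, 1, 7, 2, 3, 4, 5, 8, 6]),
    ([4, 1, 6, 3, 0, 4, 2], [0, 4, 8, 1, 2, 3, 5, 7, 6]),
    ([2, 0, 1, 1, 4, 3, 6], [5, 8, 1, 2, 0, 4, 3, 7, 6]),
    ([1, 2, 3, 4, 6, 0, 0, 5], [6, 7, 8, 0, 1, 3, 4, 2, 5]),
    ([3, 2, 6, 5, 2, 1, 4], [3, 6, 2, 7, 8, 0, 1, 4, 5]),
    ([2, 0, 3, 1, 6, 4, 5, 5], [7, 8, 1, 2, 0, 4, 3, 6, 5]),
    ([3, 1, 0, 4, 2, 5, 6, 0, 0], [5, 7, 8, 1, 2, 0, 3, 6, 4]),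
    ([0, 1, 2, 3, 6, 4], [8, 6, 0, 1, 2, 3, 5, 7, 4]),
    ([4, 5, 0, 2, 6, 0, 3, 1], [5, 3, 4, 6, 7, 8, 0, 1, 2]),
    ([5, 4, 0, 3, 6, 2, 4, 1], [1, 3, 7, 4, 5, 6, 8, 0, 2]),
    ([0, 6, 6, 5], [1, 7, 0, 3, 4, 5, 6, 8, 2]),
    ([0, 2, 6, 5, 2, 1, 3, 4], [5, 6, 0, 7, 8, 1, 3, 4, 2]),
    ([0, 1, 6, 2, 3, 3, 4], [8, 6, 0, 1, 3, 4, 5, 7, 2]),
    ([3, 5, 1, 4, 0, 2, 6, 3], [8, 0, 3, 5, 6, 4, 7, 1, 2]),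
    ([3, 4, 4, 6], [1, 8, 2, 3, 4, 0, 5, 7, 6]),
    ([0, 1, 2, 3, 4, 5, 6], [7, 8, 0, 1, 2, 3, 4, 5, 6]),
    ([2, 4, 5, 6, 0, 1, 3], [3, 5, 7, 8, 0, 2, 1, 4, 6]),
    ([3, 2, 4, 0, 6, 3], [8, 0, 4, 3, 1, 2, 5, 7, 6]),
    ([2, 3, 1, 5, 4, 0, 6, 1, 0], [4, 7, 8, 2, 0, 1, 3, 5, 6]),
    ([3, 4, 6, 1, 2, 5, 0, 1], [2, 6, 4, 7, 8, 0, 1, 3, 5]),
    ([1, 2, 3, 4, 6, 5, 0, 0], [2, 8, 7, 0, 1, 3, 4, 6, 5]),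
    ([2, 3, 4, 6], [6, 8, 2, 3, 0, 1, 4, 7, 5]),
    ([4, 6, 3, 5, 6], [7, 1, 2, 3, 4, 6, 0, 8, 5]),
    ([1, 2, 0, 3, 4, 5, 6, 0, 0], [3, 7, 8, 0, 1, 4, 2, 5, 6])]

def a2reps_17 : List (List ℕ × List ℕ) :=
  [([3, 6, 4, 5, 6, 0], [1, 2, 7, 3, 4, 0, 5, 8, 6]),
    ([5, 6, 3, 4, 1, 2, 0, 3], [2, 7, 3, 5, 6, 4, 8, 0, 1]),
    ([2, 3, 0, 5, 1, 6, 4, 0, 0], [4, 8, 6, 2, 0, 1, 3, 5, 7]),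
    ([3, 1, 5, 0, 6, 2, 4, 4, 0], [8, 3, 6, 1, 2, 0, 4, 5, 7]),
    ([2, 0, 6, 1, 5, 2, 4], [0, 6, 1, 2, 3, 5, 7, 8, 4]),
    ([3, 0, 2, 2, 6, 4], [8, 6, 1, 3, 2, 0, 5, 7, 4]),
    ([6, 2, 0, 3], [2, 5, 8, 3, 1, 4, 6, 7, 0]),
    ([6, 3, 2, 1, 5, 4, 1], [6, 5, 2, 7, 8, 1, 3, 4, 0]),
    ([3, 1, 4, 3, 5, 0, 6, 2], [8, 4, 0, 1, 2, 3, 5, 6, 7]),
    ([0, 2, 1, 4, 2, 5, 3, 6], [5, 8, 0, 2, 3, 1, 4, 6, 7]),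
    ([0, 2, 3, 4, 5, 0, 6, 1, 0], [3, 6, 8, 0, 1, 2, 4, 5, 7]),
    ([6, 3, 1, 5, 3, 0, 2, 4], [4, 6, 7, 8, 1, 3, 2, 5, 0]),
    ([6, 0, 5, 2, 1, 1, 0], [7, 1, 3, 4, 2, 5, 6, 8, 0]),
    ([6, 3, 1, 4, 2, 5, 1], [7, 8, 2, 4, 3, 1, 5, 6, 0]),
    ([2, 1, 5, 4, 1, 6, 3, 1], [5, 7, 2, 8, 0, 1, 3, 4, 6]),
    ([0, 3, 1, 4, 2, 6], [4, 8, 0, 2, 3, 1, 5, 7, 6]),
    ([0, 2, 1, 3, 6, 0, 0], [0, 5, 8, 2, 1, 4, 6, 7, 3]),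
    ([0, 1, 6, 2, 3, 3, 4, 0], [6, 0, 8, 1, 3, 4, 5, 7, 2]),
    ([0, 3, 6, 5, 1, 0, 4, 2], [6, 4, 7, 8, 0, 1, 3, 5, 2]),
    ([0, 4, 6, 1, 3, 5, 0, 2], [0, 4, 5, 6, 7, 8, 1, 3, 2]),
    ([0, 1, 6, 3, 5, 2, 1, 1], [1, 7, 0, 4, 5, 3, 6, 8, 2]),
    ([4, 5, 2, 3, 6, 1], [8, 3, 2, 5, 6, 7, 0, 1, 4]),
    ([6, 2, 5, 6], [7, 0, 2, 3, 1, 5, 6, 8, 4]),
    ([5, 3, 1, 2, 0, 6, 4, 2, 0], [5, 3, 6, 7, 8, 1, 2, 0, 4]),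
    ([5, 2, 4, 6, 3, 4, 2], [7, 1, 2, 3, 5, 6, 8, 0, 4]),
    ([2, 3, 6], [5, 8, 2, 3, 0, 1, 6, 7, 4]),
    ([6, 5, 5, 0], [1, 2, 7, 3, 4, 5, 6, 8, 0]),
    ([6, 2, 2, 5, 3, 1, 0, 4], [2, 6, 5, 7, 8, 1, 3, 4, 0]),
    ([2, 3, 4, 0, 1, 1, 6, 5, 0], [7, 5, 8, 2, 0, 1, 4, 6, 3]),
    ([5, 1, 6, 3, 0, 4, 2, 5], [4, 0, 8, 1, 2, 3, 5, 6, 7]),
    ([1, 2, 0, 4, 3, 5, 6], [7, 8, 3, 0, 1, 2, 4, 6, 5]),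
    ([2, 3, 1, 6, 4, 0, 5, 1], [7, 4, 8, 2, 0, 1, 3, 6, 5]),
    ([1, 5, 6, 3, 4, 2, 3, 0], [7, 2, 4, 0, 5, 6, 8, 1, 3]),
    ([3, 4, 6, 0, 2, 5, 1, 1, 0], [4, 6, 3, 7, 8, 0, 1, 2, 5]),
    ([2, 3, 4, 6, 0, 0], [2, 6, 8, 3, 0, 1, 4, 7, 5]),
    ([3, 5, 6, 1, 2, 4, 5], [6, 1, 2, 7, 8, 0, 3, 4, 5]),
    ([6, 6, 5, 0], [7, 2, 0, 3, 4, 5, 6, 8, 1]),
    ([0, 1, 2, 3, 6, 0], [8, 0, 5, 1, 2, 3, 6, 7, 4]),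
    ([0, 3, 4, 2, 1, 6, 5, 2, 1, 0], [6, 0, 5, 7, 8, 1, 2, 3, 4]),
    ([0, 6, 2, 5, 6, 0], [1, 0, 7, 3, 2, 5, 6, 8, 4])]

def a2reps_18 : List (List ℕ × List ℕ) :=
  [([5, 3, 1, 6, 0, 2, 4, 0, 0], [3, 4, 6, 7, 8, 1, 2, 0, 5]),
    ([2, 3, 5, 0, 6, 1, 0, 4], [5, 6, 8, 2, 0, 1, 3, 4, 7]),
    ([0, 5, 1, 6, 2, 5, 3, 0], [5, 0, 1, 2, 3, 4, 6, 8, 7]),
    ([2, 3, 3, 4, 0, 5, 1, 6], [3, 8, 1, 2, 0, 4, 5, 6, 7]),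
    ([2, 2, 4, 0, 5, 3, 6], [5, 8, 0, 3, 1, 2, 4, 6, 7]),
    ([0, 1, 2, 3, 4, 5], [6, 7, 0, 1, 2, 3, 4, 5, 8]),
    ([0, 2, 1, 4, 2, 5, 3], [7, 5, 0, 2, 3, 1, 4, 6, 8]),
    ([0, 3, 3], [5, 1, 0, 3, 4, 2, 6, 7, 8]),
    ([0, 6, 2, 5, 1, 0, 0], [0, 7, 3, 4, 2, 5, 6, 8, 1]),
    ([1, 6, 2, 5, 3, 4, 4, 0], [7, 2, 6, 0, 3, 4, 5, 8, 1]),
    ([6, 5, 5, 4, 0], [6, 2, 1, 3, 4, 5, 7, 8, 0]),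
    ([6, 4, 0, 1, 5, 0, 2, 3, 0], [5, 3, 4, 6, 7, 8, 1, 2, 0]),
    ([6, 0, 5, 3, 1, 1, 0], [7, 1, 3, 5, 4, 2, 6, 8, 0]),
    ([6, 2, 3, 3], [5, 8, 2, 3, 1, 4, 6, 7, 0]),
    ([1, 2, 0, 3, 6, 1, 5], [0, 7, 3, 5, 1, 4, 6, 8, 2]),
    ([6, 1, 5, 0, 4, 6], [6, 0, 3, 1, 4, 5, 7, 8, 2]),
    ([1, 0, 6, 5, 4, 3, 2, 1], [4, 0, 1, 5, 6, 7, 8, 2, 3]),
    ([0, 1, 2, 3], [4, 5, 0, 1, 2, 3, 6, 7, 8]),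
    ([2, 2, 3, 0], [5, 2, 0, 3, 1, 4, 6, 7, 8]),
    ([0, 3, 1, 4, 2, 5], [4, 7, 0, 2, 3, 1, 5, 6, 8]),
    ([0, 2, 3, 4, 5], [6, 7, 0, 3, 1, 2, 4, 5, 8]),
    ([2, 0, 4, 1, 6, 2], [8, 0, 1, 2, 3, 5, 4, 7, 6]),
    ([0, 1, 2, 3, 6, 4, 0], [6, 0, 8, 1, 2, 3, 5, 7, 4]),
    ([0, 2, 3, 6, 0], [8, 0, 5, 3, 1, 2, 6, 7, 4]),
    ([1, 6, 3, 0, 4, 2, 5], [4, 7, 8, 0, 2, 3, 5, 6, 1]),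
    ([0, 6, 2, 3, 3, 0], [8, 0, 5, 3, 2, 4, 6, 7, 1]),
    ([5, 6, 4, 1, 3, 2, 1, 0], [8, 2, 4, 5, 3, 6, 7, 0, 1]),
    ([1, 6, 2, 0, 3, 1, 4], [0, 6, 8, 2, 3, 4, 5, 7, 1]),
    ([3, 4, 2, 1, 6, 5, 2, 1, 0], [6, 2, 5, 7, 8, 0, 1, 3, 4]),
    ([4, 2, 1, 0, 5, 6, 2, 3], [1, 5, 4, 6, 7, 8, 0, 3, 2]),
    ([0, 4, 6, 1, 3, 5, 2, 2], [4, 5, 0, 6, 7, 8, 1, 3, 2]),
    ([0, 2, 6, 3, 0, 4], [0, 6, 8, 3, 1, 4, 5, 7, 2]),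
    ([0, 2, 4, 3, 5], [5, 7, 0, 3, 1, 4, 2, 6, 8]),
    ([2, 2], [4, 0, 2, 3, 1, 5, 6, 7, 8]),
    ([2, 3, 5, 6, 1, 1, 4, 0], [6, 2, 7, 8, 0, 1, 3, 4, 5]),
    ([1, 2, 0, 4, 3, 5, 6, 0], [8, 3, 7, 0, 1, 2, 4, 6, 5]),
    ([3, 0, 6, 2, 4, 4], [6, 8, 1, 3, 2, 0, 4, 7, 5]),
    ([2, 0, 5, 3, 1, 6, 4, 2], [6, 0, 1, 7, 8, 2, 3, 4, 5]),
    ([4, 1, 5, 3, 0, 6, 2, 0], [4, 7, 8, 1, 2, 3, 0, 6, 5]),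
    ([3, 1, 4, 6, 5, 0, 2, 2], [4, 7, 8, 1, 2, 0, 5, 6, 3])]

def a2reps_19 : List (List ℕ × List ℕ) :=
  [([3, 2, 6, 5, 2, 1, 0, 4], [2, 6, 1, 7, 8, 0, 3, 4, 5]),
    ([1, 2, 6, 0, 4, 3, 5, 4], [7, 8, 4, 0, 1, 2, 5, 6, 3]),
    ([6, 0, 2, 1, 3, 2, 0], [8, 1, 5, 2, 3, 4, 6, 7, 0]),
    ([6, 0, 1, 2, 4, 1], [6, 8, 1, 4, 2, 5, 3, 7, 0]),
    ([6, 1, 5, 3, 2, 2, 1, 0], [1, 2, 7, 4, 5, 3, 6, 8, 0]),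
    ([6, 0, 2, 3, 5, 1, 1, 4, 0], [6, 1, 5, 7, 8, 2, 3, 4, 0]),
    ([6, 3, 2, 1, 5, 0, 1, 4], [5, 6, 3, 7, 8, 1, 2, 4, 0]),
    ([6, 0, 5, 2, 0, 1], [1, 3, 7, 4, 2, 5, 6, 8, 0]),
    ([6, 0, 0, 3], [1, 5, 8, 3, 4, 2, 6, 7, 0]),
    ([5, 4, 3, 2, 1, 0, 6, 5], [8, 0, 4, 5, 6, 7, 1, 2, 3]),
    ([1, 2, 6, 3, 4, 4, 0], [8, 2, 6, 0, 1, 4, 5, 7, 3]),
    ([5, 4, 0, 2, 6, 3, 4, 1], [1, 3, 7, 5, 6, 4, 8, 0, 2]),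
    ([3, 1, 0, 4, 2, 6, 5, 0], [7, 5, 8, 1, 2, 0, 3, 4, 6]),
    ([1, 1, 3, 0, 4, 2, 6], [4, 8, 0, 1, 2, 3, 5, 7, 6]),
    ([0, 3, 4, 5, 6, 0, 1, 2], [3, 4, 7, 8, 0, 1, 2, 5, 6]),
    ([4, 0, 6, 3, 5, 4, 0], [0, 1, 7, 3, 4, 2, 5, 8, 6]),
    ([0, 6, 2, 3, 3, 4], [8, 6, 0, 3, 2, 4, 5, 7, 1]),
    ([0, 6, 5, 4, 3, 2, 1, 0, 0], [0, 4, 3, 5, 6, 7, 8, 2, 1]),
    ([1, 6, 2, 3, 3], [5, 8, 2, 0, 3, 4, 6, 7, 1]),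
    ([0, 5, 6, 2, 3, 1, 2, 0], [7, 0, 3, 4, 5, 8, 6, 1, 2]),
    ([0, 5, 6, 4, 1, 3, 2, 1], [4, 8, 0, 5, 3, 6, 7, 1, 2]),
    ([2, 3, 5, 0, 1, 6, 4, 2], [6, 0, 5, 7, 8, 1, 3, 4, 2]),
    ([4, 2, 0, 3, 6, 4], [8, 0, 6, 3, 1, 4, 5, 7, 2]),
    ([5, 1, 4, 2, 3, 0, 1, 6], [1, 8, 4, 5, 3, 6, 7, 0, 2]),
    ([2, 4, 1, 0, 3, 6, 5, 1, 0], [4, 6, 7, 8, 0, 3, 1, 5, 2]),
    ([2, 0, 5, 6, 1, 2, 4, 3], [6, 5, 1, 7, 8, 0, 3, 4, 2]),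
    ([0, 1, 2, 3, 6], [5, 8, 0, 1, 2, 3, 6, 7, 4]),
    ([3, 2, 4, 3, 6, 0], [8, 2, 0, 3, 1, 4, 5, 7, 6]),
    ([4, 0, 6, 3, 5, 4], [7, 0, 1, 3, 4, 2, 5, 8, 6]),
    ([1, 0, 2, 1], [4, 0, 1, 2, 3, 5, 6, 7, 8]),
    ([5, 1, 3, 6, 1, 4, 0, 2], [2, 4, 1, 5, 6, 7, 8, 0, 3]),
    ([3, 1, 2, 4, 5, 0, 6, 2, 0], [5, 6, 8, 1, 2, 0, 3, 4, 7]),
    ([2, 3, 1, 2, 0], [0, 2, 3, 4, 5, 1, 6, 7, 8]),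
    ([0, 0, 3], [0, 5, 1, 3, 4, 2, 6, 7, 8]),
    ([1, 0, 3, 2, 4, 1, 0], [0, 1, 6, 4, 2, 3, 5, 7, 8]),
    ([2, 0, 3, 1, 4, 2, 5], [0, 7, 1, 2, 3, 4, 5, 6, 8]),
    ([5, 4, 4], [6, 1, 2, 3, 4, 5, 7, 0, 8]),
    ([3, 0, 4, 3, 5], [0, 7, 1, 3, 4, 2, 5, 6, 8]),
    ([2, 0, 3, 1, 4, 2, 0], [0, 1, 6, 2, 3, 4, 5, 7, 8]),
    ([2, 0, 1, 2, 3], [0, 5, 1, 4, 2, 3, 6, 7, 8])]

def a2reps_20 : List (List ℕ × List ℕ) :=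
  [([3, 0, 1, 5, 6, 4, 2, 2, 0], [8, 1, 4, 5, 6, 0, 7, 2, 3]),
    ([4, 0, 3, 1, 6, 2, 5, 4], [7, 0, 1, 2, 3, 6, 4, 8, 5]),
    ([2, 1, 4, 3, 0, 6, 1, 0], [1, 6, 8, 2, 0, 3, 4, 7, 5]),
    ([0, 6, 2, 5, 6], [7, 1, 0, 3, 2, 5, 6, 8, 4]),
    ([2, 0, 4, 1, 3, 3, 6], [6, 8, 1, 2, 0, 3, 4, 7, 5]),
    ([1, 6, 3, 5, 2, 4, 1, 0, 0], [2, 6, 0, 4, 5, 3, 7, 8, 1]),
    ([3, 6, 4, 5], [6, 7, 2, 3, 4, 0, 5, 8, 1]),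
    ([3, 4, 2, 0, 5, 6, 1, 2], [3, 5, 6, 7, 8, 0, 1, 4, 2]),
    ([0, 5, 6, 3, 4, 1, 2], [3, 4, 0, 5, 6, 7, 8, 1, 2]),
    ([0, 5, 1, 6, 2, 5, 4, 0], [6, 0, 1, 2, 3, 5, 4, 8, 7]),
    ([1, 0, 0, 3, 2, 5, 4, 6], [6, 8, 3, 0, 1, 2, 4, 5, 7]),
    ([5, 1, 4, 6, 3, 4, 2, 0, 1], [2, 1, 7, 4, 5, 6, 8, 0, 3]),
    ([6, 0, 5, 2, 1, 1], [3, 7, 1, 4, 2, 5, 6, 8, 0]),
    ([6, 5, 4, 3, 2, 1], [4, 3, 2, 5, 6, 7, 8, 1, 0]),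
    ([6, 1, 5, 2, 1, 3, 0, 1], [2, 7, 1, 5, 3, 4, 6, 8, 0]),
    ([4, 0, 2, 2, 6], [6, 8, 1, 3, 2, 5, 0, 7, 4]),
    ([2, 5, 6, 0, 5], [2, 1, 7, 3, 0, 5, 6, 8, 4]),
    ([3, 4, 1, 0, 6, 5, 2, 1, 0], [5, 6, 4, 7, 8, 0, 1, 2, 3]),
    ([3, 1, 5, 4, 0, 6, 2], [8, 4, 7, 1, 2, 0, 3, 5, 6]),
    ([4, 2, 1, 6, 5, 3, 2], [5, 1, 2, 6, 7, 8, 0, 3, 4]),
    ([4, 6, 1, 3, 5, 0, 2], [2, 4, 5, 6, 7, 8, 0, 3, 1]),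
    ([1, 6, 2, 5, 3, 0, 1], [2, 0, 7, 5, 3, 4, 6, 8, 1]),
    ([5, 6, 2, 4, 1, 3, 0, 2], [2, 7, 3, 4, 5, 6, 8, 0, 1]),
    ([3, 1, 5, 0, 4, 2, 6, 4, 0], [7, 3, 8, 1, 2, 0, 4, 5, 6]),
    ([0, 6, 2, 0, 3], [0, 5, 8, 3, 2, 4, 6, 7, 1]),
    ([4, 5, 2, 3, 1, 1, 6, 0], [8, 2, 4, 5, 6, 7, 0, 1, 3]),
    ([0, 1, 2, 3, 4, 6], [6, 8, 0, 1, 2, 3, 4, 7, 5]),
    ([1, 0, 3, 1, 5, 2, 6, 4], [8, 6, 1, 2, 0, 3, 4, 5, 7]),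
    ([1, 2, 4, 0, 5, 3, 6], [5, 8, 4, 0, 1, 2, 3, 6, 7]),
    ([6, 5, 4, 3, 2, 1, 0, 0], [2, 4, 3, 5, 6, 7, 8, 1, 0]),
    ([6, 1, 5, 0], [7, 2, 3, 1, 4, 5, 6, 8, 0]),
    ([6, 1, 5, 2, 0, 3, 1, 4], [1, 6, 7, 2, 3, 4, 5, 8, 0]),
    ([3, 4, 2, 0, 6, 5, 2, 1], [5, 3, 6, 7, 8, 0, 1, 2, 4]),
    ([6, 2, 5, 6, 0], [0, 2, 7, 3, 1, 5, 6, 8, 4]),
    ([0, 1, 2, 3, 4, 6, 0], [8, 0, 6, 1, 2, 3, 4, 7, 5]),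
    ([4, 6, 0, 2, 3, 5, 6, 1], [1, 3, 6, 7, 8, 2, 0, 4, 5]),
    ([0, 0, 6, 5, 4, 3, 2, 1, 0], [3, 1, 4, 5, 6, 7, 8, 0, 2]),
    ([2, 3, 6, 0, 4, 1, 5, 4, 0], [8, 5, 7, 2, 0, 1, 3, 6, 4]),
    ([0, 2, 3, 6], [5, 8, 0, 3, 1, 2, 6, 7, 4]),
    ([2, 4, 6, 0, 3, 3, 5, 1, 0], [3, 6, 7, 8, 0, 2, 1, 5, 4])]

def a2reps_21 : List (List ℕ × List ℕ) :=
  [([2, 3, 0, 4, 1, 5, 3], [7, 1, 4, 2, 0, 3, 5, 6, 8]),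
    ([2, 2, 5], [0, 7, 2, 3, 1, 5, 6, 4, 8]),
    ([0, 3, 1, 6, 2, 4, 4, 5], [8, 7, 0, 2, 3, 1, 4, 6, 5]),
    ([3, 6, 6, 5, 0], [7, 2, 1, 3, 4, 0, 6, 8, 5]),
    ([2, 3, 0, 4, 1, 6, 3, 0], [1, 4, 8, 2, 0, 3, 5, 7, 6]),
    ([0, 4, 1, 2, 2, 6], [6, 8, 0, 2, 3, 5, 1, 7, 4]),
    ([2, 3, 6, 4], [8, 6, 2, 3, 0, 1, 5, 7, 4]),
    ([2, 0, 3, 6, 4], [8, 6, 1, 3, 0, 4, 5, 7, 2]),
    ([0, 1, 6, 2, 3, 3], [5, 8, 0, 1, 3, 4, 6, 7, 2]),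
    ([2, 4, 0, 1, 6, 5, 3, 2], [5, 0, 4, 6, 7, 8, 1, 3, 2]),
    ([6, 0, 5, 1, 4, 2, 3, 3], [5, 6, 1, 2, 3, 4, 7, 8, 0]),
    ([6, 3, 2, 0, 1, 4, 5, 1, 1], [4, 6, 5, 7, 8, 1, 2, 3, 0]),
    ([6, 2, 5, 3, 4, 4], [6, 7, 2, 3, 1, 4, 5, 8, 0]),
    ([3, 4, 4], [6, 1, 2, 3, 4, 0, 5, 7, 8]),
    ([3, 1, 6, 4, 0, 5, 2], [7, 4, 8, 1, 2, 0, 3, 6, 5]),
    ([3, 4, 0, 2, 5, 6, 1, 2], [3, 6, 5, 7, 8, 0, 1, 2, 4]),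
    ([1, 3, 2, 4, 3], [6, 1, 2, 0, 3, 4, 5, 7, 8]),
    ([2, 0, 1], [2, 3, 1, 4, 0, 5, 6, 7, 8]),
    ([4, 0, 3, 4], [5, 0, 1, 3, 4, 6, 2, 7, 8]),
    ([3, 0, 5, 2, 4, 4], [6, 7, 1, 3, 2, 0, 4, 5, 8]),
    ([2, 0, 4, 1, 5, 3], [7, 5, 1, 2, 0, 3, 4, 6, 8]),
    ([0, 5, 6, 4, 5, 0], [1, 0, 6, 3, 4, 5, 7, 8, 2]),
    ([2, 1, 6, 0, 5, 2], [7, 0, 3, 1, 2, 5, 6, 8, 4]),
    ([6, 1, 2, 3, 4, 0, 5, 2], [7, 8, 5, 1, 2, 3, 4, 6, 0]),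
    ([0, 6, 1, 3, 2, 4, 3, 0], [8, 0, 6, 2, 3, 4, 5, 7, 1]),
    ([4, 5, 2, 3, 0, 1, 6], [3, 8, 4, 5, 6, 7, 0, 1, 2]),
    ([4, 0, 1, 6, 5, 3, 2, 0], [4, 1, 5, 6, 7, 8, 0, 3, 2]),
    ([2, 6, 4, 0, 5, 1, 3, 3, 0], [7, 8, 5, 2, 0, 3, 4, 6, 1]),
    ([5, 6, 4, 0, 1], [2, 3, 8, 6, 4, 5, 7, 0, 1]),
    ([0, 6, 4, 1, 1, 5, 3, 2], [5, 4, 0, 6, 7, 8, 2, 3, 1]),
    ([3, 6, 1, 2, 5, 0, 1, 4], [5, 6, 4, 7, 8, 0, 2, 3, 1]),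
    ([1, 6, 3, 5, 2, 0, 1], [2, 0, 7, 4, 5, 3, 6, 8, 1]),
    ([2, 3, 6, 0, 4, 1, 5, 4], [7, 8, 5, 2, 0, 1, 3, 6, 4]),
    ([6, 0, 0, 2, 1, 4, 3, 5], [5, 7, 8, 1, 2, 3, 4, 6, 0]),
    ([6, 1, 5, 2, 4, 3, 1, 1], [1, 6, 2, 5, 3, 4, 7, 8, 0]),
    ([6, 0, 3, 3, 4], [8, 6, 1, 3, 4, 2, 5, 7, 0]),
    ([5, 6, 0, 5], [2, 0, 7, 3, 4, 5, 6, 8, 1]),
    ([4, 5, 3, 0, 2, 6, 1, 4, 0], [0, 7, 3, 4, 5, 6, 8, 1, 2]),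
    ([5, 0, 2, 4, 6, 1, 3, 5], [5, 0, 1, 6, 7, 8, 2, 3, 4]),
    ([4, 5, 2, 0, 3, 6, 1, 4, 0], [0, 7, 3, 5, 6, 4, 8, 1, 2])]

def a2reps_22 : List (List ℕ × List ℕ) :=
  [([2, 1, 4, 3, 5, 0, 0, 6], [5, 8, 7, 1, 0, 3, 4, 6, 2]),
    ([1, 2, 3, 4, 0, 6, 5, 0], [7, 5, 8, 0, 1, 3, 4, 2, 6]),
    ([0, 4, 2, 6, 3, 5, 4], [7, 1, 0, 3, 2, 4, 5, 8, 6]),
    ([0, 3, 3, 4, 2, 6], [4, 8, 0, 3, 1, 2, 5, 7, 6]),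
    ([4, 0, 1, 5, 6, 2], [8, 4, 1, 6, 7, 5, 0, 2, 3]),
    ([5, 1, 4, 6, 3, 4, 1], [7, 1, 2, 5, 4, 6, 8, 0, 3]),
    ([2, 5, 1, 6, 0, 0], [2, 3, 8, 4, 0, 5, 6, 1, 7]),
    ([0, 2, 3, 4, 6], [6, 8, 0, 3, 1, 2, 4, 7, 5]),
    ([0, 3, 4, 5, 6, 0, 1, 2, 0], [4, 7, 3, 8, 0, 1, 2, 5, 6]),
    ([2, 3, 5, 6, 0, 1, 4], [3, 6, 7, 8, 0, 1, 2, 4, 5]),
    ([1, 2, 3, 4, 6, 5, 0], [7, 2, 8, 0, 1, 3, 4, 6, 5]),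
    ([2, 3, 4, 6, 0], [8, 2, 6, 3, 0, 1, 4, 7, 5]),
    ([6, 6, 5, 0, 4], [2, 6, 0, 3, 4, 5, 7, 8, 1]),
    ([6, 0, 4, 4], [6, 8, 1, 3, 4, 5, 2, 7, 0]),
    ([2, 6, 3, 0, 4, 1, 6], [3, 1, 8, 2, 0, 4, 5, 7, 6]),
    ([3, 1, 6, 4, 0, 5, 2, 0], [4, 8, 7, 1, 2, 0, 3, 6, 5]),
    ([1, 3, 5, 6, 0, 1, 4, 2], [6, 4, 7, 8, 0, 1, 2, 3, 5]),
    ([2, 5, 4, 6, 1, 0, 3, 1], [5, 6, 8, 2, 0, 3, 4, 1, 7]),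
    ([3, 1, 0, 2, 6, 3], [8, 0, 5, 1, 3, 4, 6, 7, 2]),
    ([1, 3, 2, 4, 1], [6, 0, 2, 4, 3, 1, 5, 7, 8]),
    ([3, 2, 4, 3, 0], [0, 2, 6, 3, 1, 4, 5, 7, 8]),
    ([4, 2, 1, 6, 5, 3, 2, 0], [1, 2, 5, 6, 7, 8, 0, 3, 4]),
    ([0, 3, 4, 2, 1, 6, 5, 2, 1], [5, 6, 0, 7, 8, 1, 2, 3, 4]),
    ([3, 0, 2, 2, 6, 4, 0], [6, 1, 8, 3, 2, 0, 5, 7, 4]),
    ([1, 2, 3, 4, 5, 6, 0, 0], [2, 7, 8, 0, 1, 3, 4, 5, 6]),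
    ([5, 0, 6, 1, 5, 2], [0, 4, 1, 2, 3, 5, 6, 8, 7]),
    ([5, 6, 4, 2, 2, 3, 0, 1], [2, 3, 8, 5, 6, 4, 7, 0, 1]),
    ([3, 0, 6, 1, 5, 2, 4, 3, 0], [0, 1, 6, 2, 3, 4, 7, 8, 5]),
    ([0], [1, 2, 0, 3, 4, 5, 6, 7, 8]),
    ([6, 0, 3, 2, 4, 1, 5, 3], [7, 8, 1, 4, 2, 3, 5, 6, 0]),
    ([6, 4, 2, 0, 1, 3, 5, 1, 1], [4, 5, 6, 7, 8, 2, 1, 3, 0]),
    ([0, 3, 1, 5, 2, 6, 4, 0], [6, 0, 8, 2, 3, 1, 4, 5, 7]),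
    ([6, 0, 4, 5, 2, 3, 1, 1, 0], [4, 1, 3, 5, 6, 7, 8, 2, 0]),
    ([6, 1, 5, 3, 4, 2, 1, 1], [1, 6, 2, 4, 5, 3, 7, 8, 0]),
    ([0, 5, 1, 3, 2, 4, 3], [6, 7, 0, 2, 3, 4, 5, 1, 8]),
    ([0, 1, 2, 3, 4], [5, 6, 0, 1, 2, 3, 4, 7, 8]),
    ([2, 3, 5, 6, 1, 2, 4], [0, 6, 2, 7, 8, 1, 3, 4, 5]),
    ([2, 3, 5, 6, 0, 1, 3, 4], [1, 6, 7, 8, 0, 2, 3, 4, 5]),
    ([5, 6, 3, 4, 1, 2, 0, 0], [2, 3, 4, 5, 6, 7, 8, 0, 1]),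
    ([1, 0, 3, 6, 2, 5, 1], [7, 0, 1, 4, 5, 3, 6, 8, 2])]

def a2reps_23 : List (List ℕ × List ℕ) :=
  [([0, 6, 3, 5, 6], [7, 1, 0, 3, 4, 2, 6, 8, 5]),
    ([1, 3, 6, 0, 2, 4, 5, 1, 1], [0, 6, 5, 7, 8, 1, 2, 4, 3]),
    ([0, 2, 2, 4, 1, 6, 3], [8, 5, 0, 1, 2, 3, 4, 7, 6]),
    ([2, 0, 4, 1, 3, 3], [5, 6, 1, 2, 0, 3, 4, 7, 8]),
    ([0, 4, 1, 5, 2, 6], [4, 8, 0, 2, 3, 5, 1, 6, 7]),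
    ([2, 0, 4, 2, 5, 3, 6], [5, 8, 1, 3, 2, 0, 4, 6, 7]),
    ([2, 4, 6, 0, 1, 3, 4, 5], [1, 7, 6, 8, 0, 2, 3, 5, 4]),
    ([2, 2, 3], [0, 5, 2, 3, 1, 4, 6, 7, 8]),
    ([0, 4, 1, 6, 2, 3, 3], [5, 8, 0, 2, 3, 4, 1, 7, 6]),
    ([1, 2, 4, 5, 6, 0, 3, 3], [5, 8, 7, 0, 1, 2, 3, 4, 6]),
    ([3, 2, 6, 5, 2, 1, 4, 0], [6, 2, 3, 7, 8, 0, 1, 4, 5]),
    ([2, 0, 5, 3, 1, 6, 4, 2, 0], [0, 1, 6, 7, 8, 2, 3, 4, 5]),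
    ([2, 0, 1, 1, 5, 3, 6, 4], [8, 6, 1, 2, 0, 4, 5, 3, 7]),
    ([1, 2, 3, 4, 0, 5, 6, 0, 0], [5, 7, 8, 0, 1, 3, 4, 6, 2]),
    ([0, 4, 3, 5, 4], [7, 1, 0, 3, 4, 2, 5, 6, 8]),
    ([0, 2, 3, 4, 5, 0, 6, 1], [8, 3, 6, 0, 1, 2, 4, 5, 7]),
    ([3, 2, 4, 3, 6], [0, 8, 2, 3, 1, 4, 5, 7, 6]),
    ([4, 0, 2, 5, 6, 2, 3, 1, 0], [3, 1, 5, 6, 7, 8, 0, 2, 4]),
    ([0, 4, 5, 2, 2, 6, 1, 3], [3, 5, 0, 6, 7, 8, 1, 2, 4]),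
    ([2, 0, 1, 2, 0], [0, 1, 3, 4, 2, 5, 6, 7, 8]),
    ([4, 4, 1, 0, 6, 5, 3, 2], [5, 4, 0, 6, 7, 8, 1, 2, 3]),
    ([3, 1, 6, 0, 4, 2, 5, 4, 0], [8, 3, 7, 1, 2, 0, 4, 6, 5]),
    ([3, 6, 0, 2, 4, 5, 1, 1], [3, 6, 5, 7, 8, 0, 2, 4, 1])]

def a2reps : List (List ℕ × List ℕ) :=
  a2reps_0 ++ a2reps_1 ++ a2reps_2 ++ a2reps_3 ++ a2reps_4 ++ a2reps_5 ++ a2reps_6 ++ a2reps_7 ++ a2reps_8 ++ a2reps_9 ++ a2reps_10 ++ a2reps_11 ++ a2reps_12 ++ a2reps_13 ++ a2reps_14 ++ a2reps_15 ++ a2reps_16 ++ a2reps_17 ++ a2reps_18 ++ a2reps_19 ++ a2reps_20 ++ a2reps_21 ++ a2reps_22 ++ a2reps_23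

def a2stab_0 : List (List ℕ × List ℕ) :=
  [([], [0, 1, 2, 3, 4, 5, 6, 7, 8]),
    ([5, 3, 1, 0, 2, 4, 0, 5, 3, 0, 1, 2, 4, 5, 3, 0, 1, 2, 4, 5, 3, 0, 1, 2, 4, 5, 3, 1, 0, 2, 4, 0, 5, 3, 1, 0, 2, 4, 0, 5, 3, 0, 1, 2, 4, 5, 3, 1, 0, 2, 4, 0, 5, 3, 0, 1, 2, 4], [7, 5, 4, 6, 2, 1, 3, 0, 8]),
    ([5, 3, 1, 0, 2, 4, 0, 5, 3, 1, 0, 2, 4, 0, 5, 3, 0, 1, 2, 4, 5, 3, 1, 0, 2, 4, 0, 5, 3, 0, 1, 2, 4, 5, 3, 0, 1, 2, 4, 5, 3, 0, 1, 2, 4, 5, 3, 1, 0, 2, 4, 0], [1, 2, 0, 3, 6, 4, 5, 7, 8]),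
    ([5, 3, 1, 0, 2, 4, 0, 5, 3, 0, 1, 2, 4, 5, 3, 1, 0, 2, 4, 0, 5, 3, 0, 1, 2, 4, 5, 3, 1, 0, 2, 4, 0, 5, 3, 1, 0, 2, 4, 0, 5, 3, 1, 0, 2, 4, 0], [4, 5, 7, 6, 1, 0, 2, 3, 8]),
    ([5, 3, 1, 0, 2, 4, 0, 5, 3, 0, 1, 2, 4, 5, 3, 1, 0, 2, 4, 0, 5, 3, 0, 1, 2, 4, 5, 3, 0, 1, 2, 4, 5, 3, 1, 0, 2, 4, 0, 5, 3, 0, 1, 2, 4], [5, 7, 4, 6, 3, 0, 1, 2, 8]),
    ([5, 3, 1, 0, 2, 4, 0, 5, 3, 1, 0, 2, 4, 0, 5, 3, 1, 0, 2, 4, 0, 5, 3, 1, 0, 2, 4, 0, 5, 3, 1, 0, 2, 4, 0, 5, 3, 0, 1, 2, 4, 5, 3, 0, 1, 2, 4], [6, 4, 7, 5, 3, 0, 1, 2, 8]),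
    ([5, 3, 1, 0, 2, 4, 0, 5, 3, 1, 0, 2, 4, 0, 5, 3, 0, 1, 2, 4, 5, 3, 1, 0, 2, 4, 0, 5, 3, 0, 1, 2, 4, 5, 3, 1, 0, 2, 4, 0, 5, 3, 1, 0, 2, 4, 0], [7, 6, 4, 5, 0, 1, 3, 2, 8]),
    ([5, 3, 1, 0, 2, 4, 0, 5, 3, 1, 0, 2, 4, 0, 5, 3, 1, 0, 2, 4, 0, 5, 3, 0, 1, 2, 4, 5, 3, 1, 0, 2, 4, 0, 5, 3, 0, 1, 2, 4, 5, 3, 1, 0, 2, 4, 0, 5, 3, 1, 0, 2, 4, 0, 5, 3, 0, 1, 2, 4], [6, 7, 4, 5, 3, 2, 1, 0, 8]),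
    ([5, 3, 0, 1, 2, 4, 5, 3, 1, 0, 2, 4, 0, 5, 3, 0, 1, 2, 4, 5, 3, 1, 0, 2, 4, 0, 5, 3, 0, 1, 2, 4, 5, 3, 1, 0, 2, 4, 0, 5, 3, 1, 0, 2, 4, 0], [5, 4, 7, 6, 0, 1, 2, 3, 8]),
    ([5, 3, 1, 0, 2, 4, 0, 5, 3, 1, 0, 2, 4, 0, 5, 3, 1, 0, 2, 4, 0, 5, 3, 1, 0, 2, 4, 0, 5, 3, 0, 1, 2, 4, 5, 3, 1, 0, 2, 4, 0, 5, 3, 0, 1, 2, 4], [5, 4, 6, 7, 0, 1, 3, 2, 8]),
    ([5, 3, 0, 1, 2, 4, 5, 3, 1, 0, 2, 4, 0, 5, 3, 0, 1, 2, 4, 5, 3, 1, 0, 2, 4, 0, 5, 3, 1, 0, 2, 4, 0, 5, 3, 1, 0, 2, 4, 0, 5, 3, 1, 0, 2, 4, 0, 5, 3, 1, 0, 2, 4, 0], [3, 1, 0, 2, 4, 7, 5, 6, 8]),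
    ([5, 3, 1, 0, 2, 4, 0, 5, 3, 0, 1, 2, 4, 5, 3, 1, 0, 2, 4, 0, 5, 3, 0, 1, 2, 4, 5, 3, 0, 1, 2, 4, 5, 3, 1, 0, 2, 4, 0], [2, 0, 3, 1, 5, 6, 7, 4, 8]),
    ([5, 3, 1, 0, 2, 4, 0, 5, 3, 1, 0, 2, 4, 0, 5, 3, 0, 1, 2, 4, 5, 3, 1, 0, 2, 4, 0, 5, 3, 0, 1, 2, 4, 5, 3, 1, 0, 2, 4, 0, 5, 3, 0, 1, 2, 4, 5, 3, 0, 1, 2, 4, 5, 3, 0, 1, 2, 4], [5, 6, 4, 7, 2, 0, 1, 3, 8]),
    ([5, 3, 1, 0, 2, 4, 0, 5, 3, 1, 0, 2, 4, 0, 5, 3, 1, 0, 2, 4, 0], [4, 5, 7, 6, 0, 1, 3, 2, 8]),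
    ([5, 3, 0, 1, 2, 4, 5, 3, 0, 1, 2, 4, 5, 3, 0, 1, 2, 4, 5, 3, 1, 0, 2, 4, 0], [1, 3, 0, 2, 6, 5, 4, 7, 8]),
    ([5, 3, 1, 0, 2, 4, 0, 5, 3, 0, 1, 2, 4, 5, 3, 1, 0, 2, 4, 0, 5, 3, 0, 1, 2, 4, 5, 3, 1, 0, 2, 4, 0, 5, 3, 1, 0, 2, 4, 0, 5, 3, 0, 1, 2, 4], [7, 4, 6, 5, 2, 0, 1, 3, 8]),
    ([5, 3, 1, 0, 2, 4, 0, 5, 3, 0, 1, 2, 4, 5, 3, 1, 0, 2, 4, 0, 5, 3, 0, 1, 2, 4, 5, 3, 0, 1, 2, 4], [4, 6, 7, 5, 3, 0, 2, 1, 8]),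
    ([5, 3, 0, 1, 2, 4, 5, 3, 0, 1, 2, 4, 5, 3, 1, 0, 2, 4, 0, 5, 3, 0, 1, 2, 4], [1, 0, 2, 3, 7, 6, 4, 5, 8]),
    ([5, 3, 0, 1, 2, 4, 5, 3, 1, 0, 2, 4, 0, 5, 3, 1, 0, 2, 4, 0, 5, 3, 0, 1, 2, 4, 5, 3, 1, 0, 2, 4, 0, 5, 3, 0, 1, 2, 4, 5, 3, 0, 1, 2, 4, 5, 3, 0, 1, 2, 4], [0, 2, 1, 3, 4, 7, 6, 5, 8]),
    ([5, 3, 1, 0, 2, 4, 0], [6, 5, 4, 7, 3, 1, 2, 0, 8]),
    ([5, 3, 1, 0, 2, 4, 0, 5, 3, 0, 1, 2, 4, 5, 3, 0, 1, 2, 4, 5, 3, 0, 1, 2, 4, 5, 3, 1, 0, 2, 4, 0, 5, 3, 0, 1, 2, 4], [2, 3, 0, 1, 6, 7, 4, 5, 8]),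
    ([5, 3, 1, 0, 2, 4, 0, 5, 3, 0, 1, 2, 4, 5, 3, 0, 1, 2, 4, 5, 3, 1, 0, 2, 4, 0, 5, 3, 1, 0, 2, 4, 0, 5, 3, 0, 1, 2, 4], [3, 0, 1, 2, 5, 7, 4, 6, 8]),
    ([5, 3, 1, 0, 2, 4, 0, 5, 3, 0, 1, 2, 4, 5, 3, 1, 0, 2, 4, 0, 5, 3, 0, 1, 2, 4, 5, 3, 1, 0, 2, 4, 0, 5, 3, 1, 0, 2, 4, 0, 5, 3, 0, 1, 2, 4, 5, 3, 0, 1, 2, 4], [2, 1, 3, 0, 6, 4, 5, 7, 8]),
    ([5, 3, 1, 0, 2, 4, 0, 5, 3, 1, 0, 2, 4, 0, 5, 3, 1, 0, 2, 4, 0, 5, 3, 0, 1, 2, 4, 5, 3, 0, 1, 2, 4, 5, 3, 1, 0, 2, 4, 0, 5, 3, 0, 1, 2, 4], [5, 4, 7, 6, 2, 3, 0, 1, 8]),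
    ([5, 3, 1, 0, 2, 4, 0, 5, 3, 1, 0, 2, 4, 0, 5, 3, 1, 0, 2, 4, 0, 5, 3, 1, 0, 2, 4, 0, 5, 3, 0, 1, 2, 4, 5, 3, 0, 1, 2, 4, 5, 3, 1, 0, 2, 4, 0, 5, 3, 1, 0, 2, 4, 0, 5, 3, 0, 1, 2, 4], [6, 4, 5, 7, 1, 2, 0, 3, 8]),
    ([5, 3, 1, 0, 2, 4, 0, 5, 3, 0, 1, 2, 4, 5, 3, 1, 0, 2, 4, 0, 5, 3, 0, 1, 2, 4, 5, 3, 1, 0, 2, 4, 0, 5, 3, 0, 1, 2, 4, 5, 3, 0, 1, 2, 4], [4, 7, 6, 5, 1, 3, 0, 2, 8]),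
    ([5, 3, 0, 1, 2, 4, 5, 3, 1, 0, 2, 4, 0, 5, 3, 0, 1, 2, 4, 5, 3, 1, 0, 2, 4, 0, 5, 3, 1, 0, 2, 4, 0, 5, 3, 1, 0, 2, 4, 0], [2, 1, 3, 0, 5, 7, 6, 4, 8]),
    ([5, 3, 1, 0, 2, 4, 0, 5, 3, 1, 0, 2, 4, 0, 5, 3, 0, 1, 2, 4, 5, 3, 1, 0, 2, 4, 0, 5, 3, 0, 1, 2, 4, 5, 3, 1, 0, 2, 4, 0, 5, 3, 1, 0, 2, 4, 0, 5, 3, 0, 1, 2, 4, 5, 3, 0, 1, 2, 4, 5, 3, 0, 1, 2, 4], [2, 1, 0, 3, 7, 5, 6, 4, 8]),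
    ([5, 3, 1, 0, 2, 4, 0, 5, 3, 0, 1, 2, 4, 5, 3, 1, 0, 2, 4, 0, 5, 3, 1, 0, 2, 4, 0, 5, 3, 1, 0, 2, 4, 0, 5, 3, 1, 0, 2, 4, 0, 5, 3, 1, 0, 2, 4, 0, 5, 3, 0, 1, 2, 4], [0, 3, 1, 2, 7, 5, 4, 6, 8]),
    ([5, 3, 1, 0, 2, 4, 0, 5, 3, 1, 0, 2, 4, 0, 5, 3, 0, 1, 2, 4, 5, 3, 0, 1, 2, 4, 5, 3, 0, 1, 2, 4, 5, 3, 1, 0, 2, 4, 0, 5, 3, 0, 1, 2, 4], [4, 7, 6, 5, 2, 0, 3, 1, 8]),
    ([5, 3, 1, 0, 2, 4, 0, 5, 3, 0, 1, 2, 4, 5, 3, 1, 0, 2, 4, 0, 5, 3, 1, 0, 2, 4, 0, 5, 3, 1, 0, 2, 4, 0], [4, 5, 6, 7, 3, 2, 1, 0, 8]),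
    ([5, 3, 1, 0, 2, 4, 0, 5, 3, 0, 1, 2, 4, 5, 3, 1, 0, 2, 4, 0, 5, 3, 1, 0, 2, 4, 0, 5, 3, 0, 1, 2, 4, 5, 3, 0, 1, 2, 4, 5, 3, 0, 1, 2, 4, 5, 3, 1, 0, 2, 4, 0, 5, 3, 0, 1, 2, 4], [4, 6, 7, 5, 0, 3, 1, 2, 8]),
    ([5, 3, 1, 0, 2, 4, 0, 5, 3, 0, 1, 2, 4, 5, 3, 1, 0, 2, 4, 0, 5, 3, 0, 1, 2, 4, 5, 3, 1, 0, 2, 4, 0, 5, 3, 0, 1, 2, 4, 5, 3, 0, 1, 2, 4, 5, 3, 1, 0, 2, 4, 0], [0, 3, 1, 2, 5, 7, 6, 4, 8]),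
    ([5, 3, 1, 0, 2, 4, 0, 5, 3, 1, 0, 2, 4, 0, 5, 3, 0, 1, 2, 4, 5, 3, 0, 1, 2, 4, 5, 3, 1, 0, 2, 4, 0, 5, 3, 1, 0, 2, 4, 0, 5, 3, 0, 1, 2, 4], [7, 6, 5, 4, 1, 0, 3, 2, 8]),
    ([5, 3, 1, 0, 2, 4, 0, 5, 3, 0, 1, 2, 4, 5, 3, 1, 0, 2, 4, 0, 5, 3, 1, 0, 2, 4, 0, 5, 3, 0, 1, 2, 4, 5, 3, 1, 0, 2, 4, 0, 5, 3, 0, 1, 2, 4, 5, 3, 0, 1, 2, 4], [1, 0, 3, 2, 6, 7, 4, 5, 8]),
    ([5, 3, 0, 1, 2, 4, 5, 3, 1, 0, 2, 4, 0, 5, 3, 1, 0, 2, 4, 0, 5, 3, 1, 0, 2, 4, 0, 5, 3, 1, 0, 2, 4, 0, 5, 3, 1, 0, 2, 4, 0, 5, 3, 0, 1, 2, 4, 5, 3, 0, 1, 2, 4], [3, 2, 0, 1, 5, 4, 6, 7, 8]),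
    ([5, 3, 0, 1, 2, 4, 5, 3, 1, 0, 2, 4, 0, 5, 3, 1, 0, 2, 4, 0, 5, 3, 1, 0, 2, 4, 0, 5, 3, 1, 0, 2, 4, 0, 5, 3, 0, 1, 2, 4, 5, 3, 1, 0, 2, 4, 0, 5, 3, 0, 1, 2, 4], [1, 2, 3, 0, 4, 6, 5, 7, 8]),
    ([5, 3, 1, 0, 2, 4, 0, 5, 3, 0, 1, 2, 4, 5, 3, 1, 0, 2, 4, 0, 5, 3, 1, 0, 2, 4, 0, 5, 3, 0, 1, 2, 4, 5, 3, 0, 1, 2, 4, 5, 3, 0, 1, 2, 4, 5, 3, 1, 0, 2, 4, 0], [2, 3, 0, 1, 4, 5, 6, 7, 8]),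
    ([5, 3, 0, 1, 2, 4], [4, 6, 7, 5, 2, 1, 3, 0, 8]),
    ([5, 3, 0, 1, 2, 4, 5, 3, 1, 0, 2, 4, 0, 5, 3, 1, 0, 2, 4, 0, 5, 3, 0, 1, 2, 4, 5, 3, 1, 0, 2, 4, 0, 5, 3, 0, 1, 2, 4, 5, 3, 1, 0, 2, 4, 0, 5, 3, 0, 1, 2, 4, 5, 3, 0, 1, 2, 4, 5, 3, 0, 1, 2, 4], [1, 3, 2, 0, 7, 4, 6, 5, 8])]

def a2stab_1 : List (List ℕ × List ℕ) :=
  [([5, 3, 1, 0, 2, 4, 0, 5, 3, 1, 0, 2, 4, 0, 5, 3, 1, 0, 2, 4, 0, 5, 3, 1, 0, 2, 4, 0, 5, 3, 0, 1, 2, 4, 5, 3, 0, 1, 2, 4, 5, 3, 1, 0, 2, 4, 0, 5, 3, 0, 1, 2, 4], [1, 3, 0, 2, 4, 7, 6, 5, 8]),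
    ([5, 3, 0, 1, 2, 4, 5, 3, 1, 0, 2, 4, 0, 5, 3, 0, 1, 2, 4, 5, 3, 0, 1, 2, 4, 5, 3, 0, 1, 2, 4], [4, 6, 5, 7, 3, 0, 1, 2, 8]),
    ([5, 3, 0, 1, 2, 4, 5, 3, 1, 0, 2, 4, 0, 5, 3, 0, 1, 2, 4, 5, 3, 1, 0, 2, 4, 0, 5, 3, 0, 1, 2, 4], [6, 4, 5, 7, 2, 1, 3, 0, 8]),
    ([5, 3, 0, 1, 2, 4, 5, 3, 1, 0, 2, 4, 0, 5, 3, 0, 1, 2, 4, 5, 3, 1, 0, 2, 4, 0, 5, 3, 1, 0, 2, 4, 0, 5, 3, 1, 0, 2, 4, 0, 5, 3, 1, 0, 2, 4, 0, 5, 3, 1, 0, 2, 4, 0, 5, 3, 0, 1, 2, 4], [4, 5, 6, 7, 0, 1, 2, 3, 8]),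
    ([5, 3, 1, 0, 2, 4, 0, 5, 3, 1, 0, 2, 4, 0, 5, 3, 0, 1, 2, 4, 5, 3, 0, 1, 2, 4, 5, 3, 1, 0, 2, 4, 0], [5, 4, 6, 7, 1, 0, 2, 3, 8]),
    ([5, 3, 0, 1, 2, 4, 5, 3, 1, 0, 2, 4, 0, 5, 3, 1, 0, 2, 4, 0, 5, 3, 1, 0, 2, 4, 0, 5, 3, 1, 0, 2, 4, 0, 5, 3, 1, 0, 2, 4, 0, 5, 3, 0, 1, 2, 4], [7, 4, 5, 6, 3, 1, 2, 0, 8]),
    ([5, 3, 1, 0, 2, 4, 0, 5, 3, 1, 0, 2, 4, 0], [2, 1, 3, 0, 7, 5, 4, 6, 8]),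
    ([5, 3, 0, 1, 2, 4, 5, 3, 0, 1, 2, 4, 5, 3, 1, 0, 2, 4, 0, 5, 3, 0, 1, 2, 4, 5, 3, 0, 1, 2, 4], [7, 4, 5, 6, 2, 0, 3, 1, 8]),
    ([5, 3, 1, 0, 2, 4, 0, 5, 3, 1, 0, 2, 4, 0, 5, 3, 1, 0, 2, 4, 0, 5, 3, 1, 0, 2, 4, 0, 5, 3, 0, 1, 2, 4, 5, 3, 1, 0, 2, 4, 0, 5, 3, 0, 1, 2, 4, 5, 3, 0, 1, 2, 4], [0, 3, 2, 1, 6, 4, 7, 5, 8]),
    ([5, 3, 1, 0, 2, 4, 0, 5, 3, 1, 0, 2, 4, 0, 5, 3, 0, 1, 2, 4, 5, 3, 0, 1, 2, 4, 5, 3, 0, 1, 2, 4, 5, 3, 1, 0, 2, 4, 0], [1, 0, 2, 3, 4, 5, 7, 6, 8]),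
    ([5, 3, 1, 0, 2, 4, 0, 5, 3, 0, 1, 2, 4, 5, 3, 0, 1, 2, 4, 5, 3, 0, 1, 2, 4, 5, 3, 1, 0, 2, 4, 0, 5, 3, 0, 1, 2, 4, 5, 3, 0, 1, 2, 4, 5, 3, 0, 1, 2, 4], [0, 1, 2, 3, 5, 4, 7, 6, 8]),
    ([5, 3, 1, 0, 2, 4, 0, 5, 3, 1, 0, 2, 4, 0, 5, 3, 0, 1, 2, 4, 5, 3, 1, 0, 2, 4, 0, 5, 3, 0, 1, 2, 4, 5, 3, 1, 0, 2, 4, 0, 5, 3, 0, 1, 2, 4], [4, 7, 5, 6, 3, 1, 0, 2, 8]),
    ([5, 3, 0, 1, 2, 4, 5, 3, 1, 0, 2, 4, 0, 5, 3, 0, 1, 2, 4, 5, 3, 1, 0, 2, 4, 0, 5, 3, 0, 1, 2, 4, 5, 3, 0, 1, 2, 4, 5, 3, 0, 1, 2, 4], [5, 7, 6, 4, 0, 3, 1, 2, 8]),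
    ([5, 3, 1, 0, 2, 4, 0, 5, 3, 1, 0, 2, 4, 0, 5, 3, 1, 0, 2, 4, 0, 5, 3, 1, 0, 2, 4, 0, 5, 3, 0, 1, 2, 4], [6, 7, 4, 5, 0, 1, 2, 3, 8]),
    ([5, 3, 0, 1, 2, 4, 5, 3, 1, 0, 2, 4, 0, 5, 3, 0, 1, 2, 4, 5, 3, 1, 0, 2, 4, 0, 5, 3, 1, 0, 2, 4, 0, 5, 3, 1, 0, 2, 4, 0, 5, 3, 1, 0, 2, 4, 0, 5, 3, 0, 1, 2, 4, 5, 3, 0, 1, 2, 4], [5, 4, 6, 7, 2, 3, 1, 0, 8]),
    ([5, 3, 0, 1, 2, 4, 5, 3, 1, 0, 2, 4, 0, 5, 3, 1, 0, 2, 4, 0, 5, 3, 1, 0, 2, 4, 0, 5, 3, 1, 0, 2, 4, 0, 5, 3, 1, 0, 2, 4, 0], [0, 1, 3, 2, 7, 6, 4, 5, 8]),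
    ([5, 3, 0, 1, 2, 4, 5, 3, 1, 0, 2, 4, 0, 5, 3, 1, 0, 2, 4, 0, 5, 3, 1, 0, 2, 4, 0, 5, 3, 1, 0, 2, 4, 0, 5, 3, 0, 1, 2, 4, 5, 3, 0, 1, 2, 4], [4, 7, 5, 6, 2, 0, 1, 3, 8]),
    ([5, 3, 0, 1, 2, 4, 5, 3, 1, 0, 2, 4, 0, 5, 3, 1, 0, 2, 4, 0, 5, 3, 0, 1, 2, 4, 5, 3, 1, 0, 2, 4, 0], [4, 6, 5, 7, 1, 2, 3, 0, 8]),
    ([5, 3, 1, 0, 2, 4, 0, 5, 3, 0, 1, 2, 4, 5, 3, 1, 0, 2, 4, 0, 5, 3, 1, 0, 2, 4, 0, 5, 3, 0, 1, 2, 4, 5, 3, 1, 0, 2, 4, 0, 5, 3, 0, 1, 2, 4, 5, 3, 0, 1, 2, 4, 5, 3, 0, 1, 2, 4], [6, 4, 5, 7, 3, 0, 2, 1, 8]),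
    ([5, 3, 1, 0, 2, 4, 0, 5, 3, 0, 1, 2, 4, 5, 3, 1, 0, 2, 4, 0, 5, 3, 1, 0, 2, 4, 0, 5, 3, 1, 0, 2, 4, 0, 5, 3, 1, 0, 2, 4, 0, 5, 3, 1, 0, 2, 4, 0], [6, 5, 7, 4, 0, 2, 3, 1, 8]),
    ([5, 3, 0, 1, 2, 4, 5, 3, 1, 0, 2, 4, 0], [3, 1, 2, 0, 5, 6, 7, 4, 8]),
    ([5, 3, 0, 1, 2, 4, 5, 3, 1, 0, 2, 4, 0, 5, 3, 1, 0, 2, 4, 0], [7, 6, 5, 4, 0, 1, 2, 3, 8]),
    ([5, 3, 1, 0, 2, 4, 0, 5, 3, 0, 1, 2, 4, 5, 3, 1, 0, 2, 4, 0, 5, 3, 1, 0, 2, 4, 0, 5, 3, 1, 0, 2, 4, 0, 5, 3, 1, 0, 2, 4, 0, 5, 3, 0, 1, 2, 4, 5, 3, 0, 1, 2, 4], [3, 0, 1, 2, 4, 6, 5, 7, 8]),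
    ([5, 3, 0, 1, 2, 4, 5, 3, 1, 0, 2, 4, 0, 5, 3, 0, 1, 2, 4, 5, 3, 1, 0, 2, 4, 0, 5, 3, 1, 0, 2, 4, 0, 5, 3, 0, 1, 2, 4, 5, 3, 0, 1, 2, 4], [6, 5, 4, 7, 0, 2, 1, 3, 8]),
    ([5, 3, 1, 0, 2, 4, 0, 5, 3, 1, 0, 2, 4, 0, 5, 3, 1, 0, 2, 4, 0, 5, 3, 1, 0, 2, 4, 0, 5, 3, 0, 1, 2, 4, 5, 3, 1, 0, 2, 4, 0, 5, 3, 0, 1, 2, 4, 5, 3, 0, 1, 2, 4, 5, 3, 0, 1, 2, 4], [6, 7, 5, 4, 2, 3, 1, 0, 8]),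
    ([5, 3, 1, 0, 2, 4, 0, 5, 3, 0, 1, 2, 4, 5, 3, 1, 0, 2, 4, 0, 5, 3, 0, 1, 2, 4], [1, 0, 3, 2, 4, 5, 6, 7, 8]),
    ([5, 3, 1, 0, 2, 4, 0, 5, 3, 0, 1, 2, 4, 5, 3, 1, 0, 2, 4, 0, 5, 3, 1, 0, 2, 4, 0, 5, 3, 1, 0, 2, 4, 0, 5, 3, 1, 0, 2, 4, 0, 5, 3, 1, 0, 2, 4, 0, 5, 3, 0, 1, 2, 4, 5, 3, 0, 1, 2, 4], [7, 4, 6, 5, 1, 3, 2, 0, 8]),
    ([5, 3, 0, 1, 2, 4, 5, 3, 1, 0, 2, 4, 0, 5, 3, 0, 1, 2, 4, 5, 3, 1, 0, 2, 4, 0, 5, 3, 1, 0, 2, 4, 0], [4, 7, 6, 5, 3, 1, 2, 0, 8]),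
    ([5, 3, 0, 1, 2, 4, 5, 3, 1, 0, 2, 4, 0, 5, 3, 0, 1, 2, 4, 5, 3, 1, 0, 2, 4, 0, 5, 3, 1, 0, 2, 4, 0, 5, 3, 1, 0, 2, 4, 0, 5, 3, 1, 0, 2, 4, 0], [6, 7, 5, 4, 0, 1, 3, 2, 8]),
    ([5, 3, 1, 0, 2, 4, 0, 5, 3, 1, 0, 2, 4, 0, 5, 3, 0, 1, 2, 4, 5, 3, 1, 0, 2, 4, 0, 5, 3, 0, 1, 2, 4, 5, 3, 1, 0, 2, 4, 0], [2, 1, 3, 0, 4, 6, 7, 5, 8]),
    ([5, 3, 1, 0, 2, 4, 0, 5, 3, 1, 0, 2, 4, 0, 5, 3, 1, 0, 2, 4, 0, 5, 3, 1, 0, 2, 4, 0, 5, 3, 1, 0, 2, 4, 0, 5, 3, 0, 1, 2, 4, 5, 3, 1, 0, 2, 4, 0, 5, 3, 0, 1, 2, 4, 5, 3, 0, 1, 2, 4], [6, 7, 4, 5, 2, 3, 0, 1, 8]),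
    ([5, 3, 1, 0, 2, 4, 0, 5, 3, 0, 1, 2, 4, 5, 3, 1, 0, 2, 4, 0, 5, 3, 1, 0, 2, 4, 0, 5, 3, 0, 1, 2, 4, 5, 3, 0, 1, 2, 4], [1, 3, 0, 2, 7, 4, 5, 6, 8]),
    ([5, 3, 0, 1, 2, 4, 5, 3, 1, 0, 2, 4, 0, 5, 3, 0, 1, 2, 4, 5, 3, 1, 0, 2, 4, 0, 5, 3, 1, 0, 2, 4, 0, 5, 3, 1, 0, 2, 4, 0, 5, 3, 1, 0, 2, 4, 0, 5, 3, 0, 1, 2, 4], [0, 3, 2, 1, 5, 7, 4, 6, 8]),
    ([5, 3, 1, 0, 2, 4, 0, 5, 3, 0, 1, 2, 4, 5, 3, 0, 1, 2, 4, 5, 3, 1, 0, 2, 4, 0, 5, 3, 0, 1, 2, 4], [5, 6, 4, 7, 0, 2, 3, 1, 8]),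
    ([5, 3, 1, 0, 2, 4, 0, 5, 3, 0, 1, 2, 4], [3, 2, 0, 1, 4, 5, 7, 6, 8]),
    ([5, 3, 1, 0, 2, 4, 0, 5, 3, 1, 0, 2, 4, 0, 5, 3, 0, 1, 2, 4], [7, 4, 6, 5, 3, 1, 0, 2, 8]),
    ([5, 3, 1, 0, 2, 4, 0, 5, 3, 1, 0, 2, 4, 0, 5, 3, 1, 0, 2, 4, 0, 5, 3, 0, 1, 2, 4, 5, 3, 1, 0, 2, 4, 0, 5, 3, 0, 1, 2, 4, 5, 3, 0, 1, 2, 4], [7, 4, 6, 5, 0, 2, 3, 1, 8]),
    ([5, 3, 1, 0, 2, 4, 0, 5, 3, 0, 1, 2, 4, 5, 3, 0, 1, 2, 4, 5, 3, 0, 1, 2, 4, 5, 3, 1, 0, 2, 4, 0, 5, 3, 0, 1, 2, 4, 5, 3, 0, 1, 2, 4], [6, 4, 5, 7, 0, 3, 1, 2, 8]),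
    ([5, 3, 1, 0, 2, 4, 0, 5, 3, 1, 0, 2, 4, 0, 5, 3, 1, 0, 2, 4, 0, 5, 3, 0, 1, 2, 4, 5, 3, 0, 1, 2, 4, 5, 3, 1, 0, 2, 4, 0, 5, 3, 1, 0, 2, 4, 0], [4, 6, 5, 7, 0, 3, 2, 1, 8]),
    ([5, 3, 0, 1, 2, 4, 5, 3, 1, 0, 2, 4, 0, 5, 3, 0, 1, 2, 4, 5, 3, 0, 1, 2, 4, 5, 3, 0, 1, 2, 4, 5, 3, 1, 0, 2, 4, 0], [1, 0, 3, 2, 7, 6, 5, 4, 8])]

def a2stab_2 : List (List ℕ × List ℕ) :=
  [([5, 3, 1, 0, 2, 4, 0, 5, 3, 0, 1, 2, 4, 5, 3, 1, 0, 2, 4, 0, 5, 3, 0, 1, 2, 4, 5, 3, 0, 1, 2, 4, 5, 3, 0, 1, 2, 4, 5, 3, 1, 0, 2, 4, 0], [5, 6, 7, 4, 0, 2, 1, 3, 8]),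
    ([5, 3, 0, 1, 2, 4, 5, 3, 0, 1, 2, 4, 5, 3, 1, 0, 2, 4, 0, 5, 3, 1, 0, 2, 4, 0], [0, 3, 1, 2, 4, 6, 7, 5, 8]),
    ([5, 3, 1, 0, 2, 4, 0, 5, 3, 0, 1, 2, 4, 5, 3, 0, 1, 2, 4], [4, 7, 6, 5, 0, 2, 1, 3, 8]),
    ([5, 3, 1, 0, 2, 4, 0, 5, 3, 1, 0, 2, 4, 0, 5, 3, 1, 0, 2, 4, 0, 5, 3, 0, 1, 2, 4, 5, 3, 1, 0, 2, 4, 0, 5, 3, 0, 1, 2, 4, 5, 3, 0, 1, 2, 4, 5, 3, 0, 1, 2, 4], [0, 3, 1, 2, 6, 4, 5, 7, 8]),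
    ([5, 3, 0, 1, 2, 4, 5, 3, 1, 0, 2, 4, 0, 5, 3, 1, 0, 2, 4, 0, 5, 3, 1, 0, 2, 4, 0, 5, 3, 1, 0, 2, 4, 0, 5, 3, 0, 1, 2, 4, 5, 3, 1, 0, 2, 4, 0], [7, 6, 4, 5, 1, 0, 2, 3, 8]),
    ([5, 3, 1, 0, 2, 4, 0, 5, 3, 0, 1, 2, 4, 5, 3, 0, 1, 2, 4, 5, 3, 0, 1, 2, 4, 5, 3, 1, 0, 2, 4, 0, 5, 3, 1, 0, 2, 4, 0, 5, 3, 0, 1, 2, 4], [4, 6, 5, 7, 2, 1, 0, 3, 8]),
    ([5, 3, 1, 0, 2, 4, 0, 5, 3, 1, 0, 2, 4, 0, 5, 3, 0, 1, 2, 4, 5, 3, 1, 0, 2, 4, 0, 5, 3, 0, 1, 2, 4, 5, 3, 0, 1, 2, 4, 5, 3, 0, 1, 2, 4], [7, 4, 5, 6, 0, 2, 1, 3, 8]),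
    ([5, 3, 1, 0, 2, 4, 0, 5, 3, 1, 0, 2, 4, 0, 5, 3, 1, 0, 2, 4, 0, 5, 3, 0, 1, 2, 4, 5, 3, 0, 1, 2, 4, 5, 3, 1, 0, 2, 4, 0, 5, 3, 1, 0, 2, 4, 0, 5, 3, 0, 1, 2, 4], [0, 2, 1, 3, 5, 6, 7, 4, 8]),
    ([5, 3, 1, 0, 2, 4, 0, 5, 3, 0, 1, 2, 4, 5, 3, 1, 0, 2, 4, 0, 5, 3, 1, 0, 2, 4, 0, 5, 3, 1, 0, 2, 4, 0, 5, 3, 1, 0, 2, 4, 0], [1, 2, 3, 0, 7, 5, 6, 4, 8]),
    ([5, 3, 0, 1, 2, 4, 5, 3, 1, 0, 2, 4, 0, 5, 3, 0, 1, 2, 4, 5, 3, 0, 1, 2, 4, 5, 3, 1, 0, 2, 4, 0, 5, 3, 0, 1, 2, 4], [1, 3, 2, 0, 4, 7, 5, 6, 8]),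
    ([5, 3, 1, 0, 2, 4, 0, 5, 3, 0, 1, 2, 4, 5, 3, 1, 0, 2, 4, 0, 5, 3, 0, 1, 2, 4, 5, 3, 0, 1, 2, 4, 5, 3, 0, 1, 2, 4, 5, 3, 1, 0, 2, 4, 0, 5, 3, 1, 0, 2, 4, 0, 5, 3, 0, 1, 2, 4], [4, 7, 5, 6, 0, 2, 3, 1, 8]),
    ([5, 3, 1, 0, 2, 4, 0, 5, 3, 1, 0, 2, 4, 0, 5, 3, 1, 0, 2, 4, 0, 5, 3, 0, 1, 2, 4, 5, 3, 0, 1, 2, 4, 5, 3, 1, 0, 2, 4, 0], [1, 3, 2, 0, 5, 6, 4, 7, 8]),
    ([5, 3, 1, 0, 2, 4, 0, 5, 3, 1, 0, 2, 4, 0, 5, 3, 1, 0, 2, 4, 0, 5, 3, 1, 0, 2, 4, 0, 5, 3, 1, 0, 2, 4, 0, 5, 3, 0, 1, 2, 4, 5, 3, 1, 0, 2, 4, 0, 5, 3, 0, 1, 2, 4], [1, 3, 2, 0, 6, 5, 7, 4, 8]),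
    ([5, 3, 1, 0, 2, 4, 0, 5, 3, 1, 0, 2, 4, 0, 5, 3, 1, 0, 2, 4, 0, 5, 3, 0, 1, 2, 4, 5, 3, 1, 0, 2, 4, 0, 5, 3, 0, 1, 2, 4, 5, 3, 1, 0, 2, 4, 0], [4, 5, 7, 6, 3, 2, 0, 1, 8]),
    ([5, 3, 0, 1, 2, 4, 5, 3, 1, 0, 2, 4, 0, 5, 3, 0, 1, 2, 4, 5, 3, 1, 0, 2, 4, 0], [0, 1, 2, 3, 6, 7, 4, 5, 8]),
    ([5, 3, 0, 1, 2, 4, 5, 3, 1, 0, 2, 4, 0, 5, 3, 0, 1, 2, 4, 5, 3, 0, 1, 2, 4], [2, 0, 3, 1, 4, 7, 6, 5, 8]),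
    ([5, 3, 1, 0, 2, 4, 0, 5, 3, 0, 1, 2, 4, 5, 3, 0, 1, 2, 4, 5, 3, 0, 1, 2, 4, 5, 3, 1, 0, 2, 4, 0, 5, 3, 1, 0, 2, 4, 0, 5, 3, 0, 1, 2, 4, 5, 3, 1, 0, 2, 4, 0], [0, 1, 2, 3, 7, 6, 5, 4, 8]),
    ([5, 3, 0, 1, 2, 4, 5, 3, 0, 1, 2, 4, 5, 3, 1, 0, 2, 4, 0, 5, 3, 0, 1, 2, 4, 5, 3, 0, 1, 2, 4, 5, 3, 0, 1, 2, 4], [2, 3, 1, 0, 5, 4, 6, 7, 8]),
    ([5, 3, 0, 1, 2, 4, 5, 3, 0, 1, 2, 4, 5, 3, 1, 0, 2, 4, 0], [5, 6, 7, 4, 1, 3, 0, 2, 8]),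
    ([5, 3, 1, 0, 2, 4, 0, 5, 3, 1, 0, 2, 4, 0, 5, 3, 0, 1, 2, 4, 5, 3, 1, 0, 2, 4, 0, 5, 3, 0, 1, 2, 4], [5, 6, 7, 4, 3, 1, 2, 0, 8]),
    ([5, 3, 0, 1, 2, 4, 5, 3, 1, 0, 2, 4, 0, 5, 3, 0, 1, 2, 4, 5, 3, 1, 0, 2, 4, 0, 5, 3, 0, 1, 2, 4, 5, 3, 1, 0, 2, 4, 0, 5, 3, 1, 0, 2, 4, 0, 5, 3, 1, 0, 2, 4, 0], [2, 1, 0, 3, 6, 4, 7, 5, 8]),
    ([5, 3, 1, 0, 2, 4, 0, 5, 3, 1, 0, 2, 4, 0, 5, 3, 1, 0, 2, 4, 0, 5, 3, 1, 0, 2, 4, 0, 5, 3, 0, 1, 2, 4, 5, 3, 1, 0, 2, 4, 0], [2, 1, 0, 3, 5, 7, 4, 6, 8]),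
    ([5, 3, 1, 0, 2, 4, 0, 5, 3, 1, 0, 2, 4, 0, 5, 3, 0, 1, 2, 4, 5, 3, 0, 1, 2, 4, 5, 3, 0, 1, 2, 4], [6, 5, 7, 4, 2, 0, 1, 3, 8]),
    ([5, 3, 0, 1, 2, 4, 5, 3, 1, 0, 2, 4, 0, 5, 3, 1, 0, 2, 4, 0, 5, 3, 1, 0, 2, 4, 0], [2, 1, 0, 3, 4, 6, 5, 7, 8]),
    ([5, 3, 0, 1, 2, 4, 5, 3, 1, 0, 2, 4, 0, 5, 3, 0, 1, 2, 4, 5, 3, 1, 0, 2, 4, 0, 5, 3, 1, 0, 2, 4, 0, 5, 3, 0, 1, 2, 4, 5, 3, 0, 1, 2, 4, 5, 3, 0, 1, 2, 4], [0, 1, 3, 2, 4, 5, 7, 6, 8]),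
    ([5, 3, 1, 0, 2, 4, 0, 5, 3, 1, 0, 2, 4, 0, 5, 3, 1, 0, 2, 4, 0, 5, 3, 1, 0, 2, 4, 0, 5, 3, 0, 1, 2, 4, 5, 3, 0, 1, 2, 4], [0, 2, 3, 1, 4, 7, 5, 6, 8]),
    ([5, 3, 1, 0, 2, 4, 0, 5, 3, 0, 1, 2, 4, 5, 3, 1, 0, 2, 4, 0, 5, 3, 1, 0, 2, 4, 0, 5, 3, 0, 1, 2, 4], [6, 4, 7, 5, 1, 2, 3, 0, 8]),
    ([5, 3, 0, 1, 2, 4, 5, 3, 1, 0, 2, 4, 0, 5, 3, 1, 0, 2, 4, 0, 5, 3, 0, 1, 2, 4], [0, 2, 3, 1, 5, 6, 4, 7, 8]),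
    ([5, 3, 1, 0, 2, 4, 0, 5, 3, 0, 1, 2, 4, 5, 3, 1, 0, 2, 4, 0, 5, 3, 1, 0, 2, 4, 0, 5, 3, 0, 1, 2, 4, 5, 3, 1, 0, 2, 4, 0, 5, 3, 0, 1, 2, 4], [5, 7, 6, 4, 1, 2, 0, 3, 8]),
    ([5, 3, 1, 0, 2, 4, 0, 5, 3, 1, 0, 2, 4, 0, 5, 3, 0, 1, 2, 4, 5, 3, 1, 0, 2, 4, 0, 5, 3, 0, 1, 2, 4, 5, 3, 1, 0, 2, 4, 0, 5, 3, 1, 0, 2, 4, 0, 5, 3, 1, 0, 2, 4, 0], [3, 1, 0, 2, 5, 6, 4, 7, 8]),
    ([5, 3, 0, 1, 2, 4, 5, 3, 1, 0, 2, 4, 0, 5, 3, 0, 1, 2, 4, 5, 3, 1, 0, 2, 4, 0, 5, 3, 0, 1, 2, 4, 5, 3, 1, 0, 2, 4, 0, 5, 3, 1, 0, 2, 4, 0, 5, 3, 0, 1, 2, 4, 5, 3, 0, 1, 2, 4], [7, 6, 5, 4, 3, 2, 1, 0, 8]),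
    ([5, 3, 0, 1, 2, 4, 5, 3, 1, 0, 2, 4, 0, 5, 3, 1, 0, 2, 4, 0, 5, 3, 0, 1, 2, 4, 5, 3, 0, 1, 2, 4, 5, 3, 0, 1, 2, 4, 5, 3, 1, 0, 2, 4, 0], [6, 4, 7, 5, 2, 1, 0, 3, 8]),
    ([5, 3, 1, 0, 2, 4, 0, 5, 3, 1, 0, 2, 4, 0, 5, 3, 0, 1, 2, 4, 5, 3, 0, 1, 2, 4, 5, 3, 1, 0, 2, 4, 0, 5, 3, 1, 0, 2, 4, 0], [2, 0, 1, 3, 7, 4, 6, 5, 8]),
    ([5, 3, 0, 1, 2, 4, 5, 3, 1, 0, 2, 4, 0, 5, 3, 0, 1, 2, 4, 5, 3, 0, 1, 2, 4, 5, 3, 0, 1, 2, 4, 5, 3, 1, 0, 2, 4, 0, 5, 3, 1, 0, 2, 4, 0], [5, 6, 7, 4, 2, 0, 3, 1, 8]),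
    ([5, 3, 1, 0, 2, 4, 0, 5, 3, 0, 1, 2, 4, 5, 3, 1, 0, 2, 4, 0, 5, 3, 0, 1, 2, 4, 5, 3, 1, 0, 2, 4, 0, 5, 3, 1, 0, 2, 4, 0], [3, 0, 2, 1, 7, 5, 4, 6, 8]),
    ([5, 3, 1, 0, 2, 4, 0, 5, 3, 1, 0, 2, 4, 0, 5, 3, 1, 0, 2, 4, 0, 5, 3, 1, 0, 2, 4, 0, 5, 3, 1, 0, 2, 4, 0, 5, 3, 0, 1, 2, 4, 5, 3, 1, 0, 2, 4, 0, 5, 3, 0, 1, 2, 4, 5, 3, 0, 1, 2, 4, 5, 3, 0, 1, 2, 4], [2, 0, 1, 3, 4, 7, 5, 6, 8]),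
    ([5, 3, 1, 0, 2, 4, 0, 5, 3, 0, 1, 2, 4, 5, 3, 1, 0, 2, 4, 0, 5, 3, 1, 0, 2, 4, 0, 5, 3, 0, 1, 2, 4, 5, 3, 1, 0, 2, 4, 0], [3, 2, 1, 0, 5, 4, 7, 6, 8]),
    ([5, 3, 0, 1, 2, 4, 5, 3, 1, 0, 2, 4, 0, 5, 3, 1, 0, 2, 4, 0, 5, 3, 0, 1, 2, 4, 5, 3, 0, 1, 2, 4, 5, 3, 0, 1, 2, 4], [3, 1, 0, 2, 7, 4, 6, 5, 8]),
    ([5, 3, 1, 0, 2, 4, 0, 5, 3, 0, 1, 2, 4, 5, 3, 1, 0, 2, 4, 0, 5, 3, 1, 0, 2, 4, 0, 5, 3, 0, 1, 2, 4, 5, 3, 0, 1, 2, 4, 5, 3, 0, 1, 2, 4], [7, 5, 6, 4, 0, 3, 2, 1, 8]),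
    ([5, 3, 1, 0, 2, 4, 0, 5, 3, 0, 1, 2, 4, 5, 3, 0, 1, 2, 4, 5, 3, 0, 1, 2, 4, 5, 3, 1, 0, 2, 4, 0, 5, 3, 1, 0, 2, 4, 0], [3, 1, 2, 0, 4, 7, 6, 5, 8])]

def a2stab_3 : List (List ℕ × List ℕ) :=
  [([5, 3, 1, 0, 2, 4, 0, 5, 3, 1, 0, 2, 4, 0, 5, 3, 0, 1, 2, 4, 5, 3, 1, 0, 2, 4, 0, 5, 3, 0, 1, 2, 4, 5, 3, 1, 0, 2, 4, 0, 5, 3, 1, 0, 2, 4, 0, 5, 3, 0, 1, 2, 4], [0, 3, 2, 1, 4, 6, 5, 7, 8]),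
    ([5, 3, 0, 1, 2, 4, 5, 3, 1, 0, 2, 4, 0, 5, 3, 0, 1, 2, 4, 5, 3, 1, 0, 2, 4, 0, 5, 3, 0, 1, 2, 4, 5, 3, 1, 0, 2, 4, 0], [3, 1, 2, 0, 7, 4, 5, 6, 8]),
    ([5, 3, 0, 1, 2, 4, 5, 3, 0, 1, 2, 4, 5, 3, 1, 0, 2, 4, 0, 5, 3, 1, 0, 2, 4, 0, 5, 3, 0, 1, 2, 4, 5, 3, 1, 0, 2, 4, 0], [2, 3, 1, 0, 6, 7, 5, 4, 8]),
    ([5, 3, 1, 0, 2, 4, 0, 5, 3, 1, 0, 2, 4, 0, 5, 3, 1, 0, 2, 4, 0, 5, 3, 1, 0, 2, 4, 0, 5, 3, 0, 1, 2, 4, 5, 3, 0, 1, 2, 4, 5, 3, 1, 0, 2, 4, 0, 5, 3, 1, 0, 2, 4, 0], [3, 2, 1, 0, 6, 7, 4, 5, 8]),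
    ([5, 3, 1, 0, 2, 4, 0, 5, 3, 1, 0, 2, 4, 0, 5, 3, 1, 0, 2, 4, 0, 5, 3, 1, 0, 2, 4, 0], [3, 1, 0, 2, 6, 5, 7, 4, 8]),
    ([5, 3, 0, 1, 2, 4, 5, 3, 0, 1, 2, 4, 5, 3, 0, 1, 2, 4, 5, 3, 1, 0, 2, 4, 0, 5, 3, 0, 1, 2, 4, 5, 3, 0, 1, 2, 4, 5, 3, 0, 1, 2, 4], [7, 5, 6, 4, 1, 2, 3, 0, 8]),
    ([5, 3, 1, 0, 2, 4, 0, 5, 3, 1, 0, 2, 4, 0, 5, 3, 1, 0, 2, 4, 0, 5, 3, 0, 1, 2, 4, 5, 3, 1, 0, 2, 4, 0, 5, 3, 0, 1, 2, 4, 5, 3, 1, 0, 2, 4, 0, 5, 3, 1, 0, 2, 4, 0], [0, 2, 3, 1, 6, 5, 7, 4, 8]),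
    ([5, 3, 0, 1, 2, 4, 5, 3, 1, 0, 2, 4, 0, 5, 3, 1, 0, 2, 4, 0, 5, 3, 0, 1, 2, 4, 5, 3, 0, 1, 2, 4, 5, 3, 0, 1, 2, 4, 5, 3, 1, 0, 2, 4, 0, 5, 3, 0, 1, 2, 4], [2, 0, 3, 1, 7, 4, 5, 6, 8]),
    ([5, 3, 0, 1, 2, 4, 5, 3, 1, 0, 2, 4, 0, 5, 3, 1, 0, 2, 4, 0, 5, 3, 1, 0, 2, 4, 0, 5, 3, 1, 0, 2, 4, 0], [5, 6, 4, 7, 3, 1, 0, 2, 8]),
    ([5, 3, 1, 0, 2, 4, 0, 5, 3, 0, 1, 2, 4, 5, 3, 1, 0, 2, 4, 0], [7, 5, 4, 6, 1, 2, 0, 3, 8]),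
    ([5, 3, 1, 0, 2, 4, 0, 5, 3, 0, 1, 2, 4, 5, 3, 1, 0, 2, 4, 0, 5, 3, 0, 1, 2, 4, 5, 3, 1, 0, 2, 4, 0, 5, 3, 0, 1, 2, 4, 5, 3, 0, 1, 2, 4, 5, 3, 1, 0, 2, 4, 0, 5, 3, 0, 1, 2, 4], [5, 6, 4, 7, 1, 3, 2, 0, 8]),
    ([5, 3, 1, 0, 2, 4, 0, 5, 3, 1, 0, 2, 4, 0, 5, 3, 0, 1, 2, 4, 5, 3, 1, 0, 2, 4, 0, 5, 3, 0, 1, 2, 4, 5, 3, 1, 0, 2, 4, 0, 5, 3, 1, 0, 2, 4, 0, 5, 3, 0, 1, 2, 4, 5, 3, 0, 1, 2, 4], [4, 5, 7, 6, 2, 3, 1, 0, 8]),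
    ([5, 3, 1, 0, 2, 4, 0, 5, 3, 1, 0, 2, 4, 0, 5, 3, 1, 0, 2, 4, 0, 5, 3, 0, 1, 2, 4], [0, 3, 2, 1, 7, 5, 6, 4, 8]),
    ([5, 3, 1, 0, 2, 4, 0, 5, 3, 1, 0, 2, 4, 0, 5, 3, 0, 1, 2, 4, 5, 3, 1, 0, 2, 4, 0, 5, 3, 0, 1, 2, 4, 5, 3, 1, 0, 2, 4, 0, 5, 3, 0, 1, 2, 4, 5, 3, 0, 1, 2, 4, 5, 3, 1, 0, 2, 4, 0, 5, 3, 0, 1, 2, 4], [1, 2, 3, 0, 5, 7, 4, 6, 8]),
    ([5, 3, 0, 1, 2, 4, 5, 3, 0, 1, 2, 4, 5, 3, 0, 1, 2, 4, 5, 3, 1, 0, 2, 4, 0, 5, 3, 1, 0, 2, 4, 0, 5, 3, 0, 1, 2, 4, 5, 3, 1, 0, 2, 4, 0, 5, 3, 0, 1, 2, 4], [3, 1, 2, 0, 6, 5, 4, 7, 8]),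
    ([5, 3, 0, 1, 2, 4, 5, 3, 0, 1, 2, 4, 5, 3, 0, 1, 2, 4, 5, 3, 1, 0, 2, 4, 0, 5, 3, 0, 1, 2, 4, 5, 3, 0, 1, 2, 4], [0, 2, 1, 3, 7, 4, 5, 6, 8]),
    ([5, 3, 0, 1, 2, 4, 5, 3, 1, 0, 2, 4, 0, 5, 3, 1, 0, 2, 4, 0, 5, 3, 0, 1, 2, 4, 5, 3, 1, 0, 2, 4, 0, 5, 3, 0, 1, 2, 4, 5, 3, 1, 0, 2, 4, 0], [7, 6, 5, 4, 2, 3, 0, 1, 8]),
    ([5, 3, 1, 0, 2, 4, 0, 5, 3, 0, 1, 2, 4, 5, 3, 1, 0, 2, 4, 0, 5, 3, 0, 1, 2, 4, 5, 3, 1, 0, 2, 4, 0, 5, 3, 1, 0, 2, 4, 0, 5, 3, 0, 1, 2, 4, 5, 3, 0, 1, 2, 4, 5, 3, 0, 1, 2, 4], [6, 5, 7, 4, 3, 1, 0, 2, 8]),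
    ([5, 3, 0, 1, 2, 4, 5, 3, 1, 0, 2, 4, 0, 5, 3, 0, 1, 2, 4, 5, 3, 0, 1, 2, 4, 5, 3, 0, 1, 2, 4, 5, 3, 1, 0, 2, 4, 0, 5, 3, 0, 1, 2, 4, 5, 3, 0, 1, 2, 4], [3, 2, 1, 0, 4, 5, 6, 7, 8]),
    ([5, 3, 1, 0, 2, 4, 0, 5, 3, 0, 1, 2, 4, 5, 3, 1, 0, 2, 4, 0, 5, 3, 0, 1, 2, 4, 5, 3, 1, 0, 2, 4, 0, 5, 3, 0, 1, 2, 4, 5, 3, 0, 1, 2, 4, 5, 3, 0, 1, 2, 4], [1, 0, 2, 3, 6, 7, 5, 4, 8]),
    ([5, 3, 0, 1, 2, 4, 5, 3, 1, 0, 2, 4, 0, 5, 3, 0, 1, 2, 4, 5, 3, 1, 0, 2, 4, 0, 5, 3, 0, 1, 2, 4, 5, 3, 0, 1, 2, 4, 5, 3, 1, 0, 2, 4, 0, 5, 3, 0, 1, 2, 4], [1, 0, 2, 3, 5, 4, 6, 7, 8]),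
    ([5, 3, 1, 0, 2, 4, 0, 5, 3, 0, 1, 2, 4, 5, 3, 1, 0, 2, 4, 0, 5, 3, 0, 1, 2, 4, 5, 3, 1, 0, 2, 4, 0], [6, 5, 4, 7, 2, 0, 3, 1, 8]),
    ([5, 3, 0, 1, 2, 4, 5, 3, 1, 0, 2, 4, 0, 5, 3, 0, 1, 2, 4, 5, 3, 1, 0, 2, 4, 0, 5, 3, 0, 1, 2, 4, 5, 3, 0, 1, 2, 4, 5, 3, 1, 0, 2, 4, 0], [7, 4, 5, 6, 1, 3, 0, 2, 8]),
    ([5, 3, 0, 1, 2, 4, 5, 3, 1, 0, 2, 4, 0, 5, 3, 1, 0, 2, 4, 0, 5, 3, 0, 1, 2, 4, 5, 3, 0, 1, 2, 4], [5, 4, 7, 6, 3, 2, 1, 0, 8]),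
    ([5, 3, 0, 1, 2, 4, 5, 3, 1, 0, 2, 4, 0, 5, 3, 0, 1, 2, 4, 5, 3, 1, 0, 2, 4, 0, 5, 3, 0, 1, 2, 4, 5, 3, 0, 1, 2, 4], [2, 3, 0, 1, 5, 4, 7, 6, 8]),
    ([5, 3, 0, 1, 2, 4, 5, 3, 1, 0, 2, 4, 0, 5, 3, 0, 1, 2, 4, 5, 3, 0, 1, 2, 4, 5, 3, 1, 0, 2, 4, 0], [6, 7, 4, 5, 1, 0, 3, 2, 8]),
    ([5, 3, 1, 0, 2, 4, 0, 5, 3, 0, 1, 2, 4, 5, 3, 1, 0, 2, 4, 0, 5, 3, 1, 0, 2, 4, 0], [0, 2, 1, 3, 6, 5, 4, 7, 8]),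
    ([5, 3, 1, 0, 2, 4, 0, 5, 3, 1, 0, 2, 4, 0, 5, 3, 1, 0, 2, 4, 0, 5, 3, 0, 1, 2, 4, 5, 3, 0, 1, 2, 4], [7, 6, 4, 5, 2, 3, 1, 0, 8]),
    ([5, 3, 1, 0, 2, 4, 0, 5, 3, 0, 1, 2, 4, 5, 3, 1, 0, 2, 4, 0, 5, 3, 0, 1, 2, 4, 5, 3, 1, 0, 2, 4, 0, 5, 3, 0, 1, 2, 4], [2, 3, 1, 0, 4, 5, 7, 6, 8]),
    ([5, 3, 1, 0, 2, 4, 0, 5, 3, 1, 0, 2, 4, 0, 5, 3, 0, 1, 2, 4, 5, 3, 1, 0, 2, 4, 0, 5, 3, 0, 1, 2, 4, 5, 3, 0, 1, 2, 4, 5, 3, 0, 1, 2, 4, 5, 3, 1, 0, 2, 4, 0, 5, 3, 1, 0, 2, 4, 0, 5, 3, 0, 1, 2, 4], [3, 0, 1, 2, 6, 4, 7, 5, 8]),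
    ([5, 3, 1, 0, 2, 4, 0, 5, 3, 0, 1, 2, 4, 5, 3, 1, 0, 2, 4, 0, 5, 3, 1, 0, 2, 4, 0, 5, 3, 1, 0, 2, 4, 0, 5, 3, 1, 0, 2, 4, 0, 5, 3, 0, 1, 2, 4], [7, 6, 4, 5, 3, 2, 0, 1, 8]),
    ([5, 3, 0, 1, 2, 4, 5, 3, 0, 1, 2, 4, 5, 3, 0, 1, 2, 4, 5, 3, 1, 0, 2, 4, 0, 5, 3, 1, 0, 2, 4, 0, 5, 3, 0, 1, 2, 4], [2, 0, 1, 3, 6, 5, 7, 4, 8]),
    ([5, 3, 0, 1, 2, 4, 5, 3, 1, 0, 2, 4, 0, 5, 3, 0, 1, 2, 4, 5, 3, 0, 1, 2, 4, 5, 3, 0, 1, 2, 4, 5, 3, 1, 0, 2, 4, 0, 5, 3, 1, 0, 2, 4, 0, 5, 3, 0, 1, 2, 4], [2, 3, 1, 0, 7, 6, 4, 5, 8]),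
    ([5, 3, 1, 0, 2, 4, 0, 5, 3, 1, 0, 2, 4, 0, 5, 3, 0, 1, 2, 4, 5, 3, 0, 1, 2, 4], [3, 0, 2, 1, 6, 4, 5, 7, 8]),
    ([5, 3, 0, 1, 2, 4, 5, 3, 1, 0, 2, 4, 0, 5, 3, 0, 1, 2, 4, 5, 3, 0, 1, 2, 4, 5, 3, 0, 1, 2, 4, 5, 3, 1, 0, 2, 4, 0, 5, 3, 0, 1, 2, 4], [7, 5, 4, 6, 3, 0, 2, 1, 8]),
    ([5, 3, 1, 0, 2, 4, 0, 5, 3, 1, 0, 2, 4, 0, 5, 3, 1, 0, 2, 4, 0, 5, 3, 1, 0, 2, 4, 0, 5, 3, 1, 0, 2, 4, 0, 5, 3, 0, 1, 2, 4, 5, 3, 0, 1, 2, 4, 5, 3, 1, 0, 2, 4, 0], [1, 0, 3, 2, 5, 4, 7, 6, 8]),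
    ([5, 3, 0, 1, 2, 4, 5, 3, 1, 0, 2, 4, 0, 5, 3, 0, 1, 2, 4, 5, 3, 1, 0, 2, 4, 0, 5, 3, 0, 1, 2, 4, 5, 3, 1, 0, 2, 4, 0, 5, 3, 1, 0, 2, 4, 0, 5, 3, 0, 1, 2, 4], [0, 2, 3, 1, 7, 4, 6, 5, 8]),
    ([5, 3, 1, 0, 2, 4, 0, 5, 3, 1, 0, 2, 4, 0, 5, 3, 0, 1, 2, 4, 5, 3, 1, 0, 2, 4, 0, 5, 3, 0, 1, 2, 4, 5, 3, 0, 1, 2, 4, 5, 3, 0, 1, 2, 4, 5, 3, 1, 0, 2, 4, 0, 5, 3, 1, 0, 2, 4, 0], [5, 4, 6, 7, 3, 2, 0, 1, 8]),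
    ([5, 3, 1, 0, 2, 4, 0, 5, 3, 1, 0, 2, 4, 0, 5, 3, 1, 0, 2, 4, 0, 5, 3, 0, 1, 2, 4, 5, 3, 1, 0, 2, 4, 0], [6, 5, 7, 4, 1, 3, 2, 0, 8]),
    ([5, 3, 1, 0, 2, 4, 0, 5, 3, 1, 0, 2, 4, 0, 5, 3, 1, 0, 2, 4, 0, 5, 3, 1, 0, 2, 4, 0, 5, 3, 1, 0, 2, 4, 0], [7, 5, 6, 4, 2, 1, 0, 3, 8])]

def a2stab_4 : List (List ℕ × List ℕ) :=
  [([5, 3, 0, 1, 2, 4, 5, 3, 0, 1, 2, 4], [2, 3, 0, 1, 7, 6, 5, 4, 8]),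
    ([5, 3, 1, 0, 2, 4, 0, 5, 3, 0, 1, 2, 4, 5, 3, 1, 0, 2, 4, 0, 5, 3, 0, 1, 2, 4, 5, 3, 0, 1, 2, 4, 5, 3, 0, 1, 2, 4, 5, 3, 1, 0, 2, 4, 0, 5, 3, 1, 0, 2, 4, 0], [1, 2, 0, 3, 4, 6, 7, 5, 8]),
    ([5, 3, 0, 1, 2, 4, 5, 3, 0, 1, 2, 4, 5, 3, 0, 1, 2, 4], [7, 5, 4, 6, 0, 3, 1, 2, 8]),
    ([5, 3, 1, 0, 2, 4, 0, 5, 3, 0, 1, 2, 4, 5, 3, 0, 1, 2, 4, 5, 3, 0, 1, 2, 4], [0, 1, 3, 2, 6, 7, 5, 4, 8]),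
    ([5, 3, 0, 1, 2, 4, 5, 3, 1, 0, 2, 4, 0, 5, 3, 1, 0, 2, 4, 0, 5, 3, 0, 1, 2, 4, 5, 3, 1, 0, 2, 4, 0, 5, 3, 0, 1, 2, 4, 5, 3, 1, 0, 2, 4, 0, 5, 3, 0, 1, 2, 4, 5, 3, 0, 1, 2, 4], [5, 4, 7, 6, 1, 0, 3, 2, 8]),
    ([5, 3, 1, 0, 2, 4, 0, 5, 3, 1, 0, 2, 4, 0, 5, 3, 1, 0, 2, 4, 0, 5, 3, 1, 0, 2, 4, 0, 5, 3, 0, 1, 2, 4, 5, 3, 0, 1, 2, 4, 5, 3, 1, 0, 2, 4, 0], [5, 7, 4, 6, 1, 2, 3, 0, 8]),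
    ([5, 3, 1, 0, 2, 4, 0, 5, 3, 1, 0, 2, 4, 0, 5, 3, 0, 1, 2, 4, 5, 3, 1, 0, 2, 4, 0, 5, 3, 0, 1, 2, 4, 5, 3, 1, 0, 2, 4, 0, 5, 3, 0, 1, 2, 4, 5, 3, 0, 1, 2, 4, 5, 3, 1, 0, 2, 4, 0], [6, 7, 5, 4, 1, 0, 2, 3, 8]),
    ([5, 3, 1, 0, 2, 4, 0, 5, 3, 1, 0, 2, 4, 0, 5, 3, 0, 1, 2, 4, 5, 3, 1, 0, 2, 4, 0, 5, 3, 0, 1, 2, 4, 5, 3, 0, 1, 2, 4, 5, 3, 1, 0, 2, 4, 0], [4, 6, 7, 5, 1, 2, 0, 3, 8]),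
    ([5, 3, 0, 1, 2, 4, 5, 3, 0, 1, 2, 4, 5, 3, 0, 1, 2, 4, 5, 3, 1, 0, 2, 4, 0, 5, 3, 1, 0, 2, 4, 0], [4, 5, 6, 7, 2, 3, 0, 1, 8]),
    ([5, 3, 1, 0, 2, 4, 0, 5, 3, 1, 0, 2, 4, 0, 5, 3, 1, 0, 2, 4, 0, 5, 3, 0, 1, 2, 4, 5, 3, 1, 0, 2, 4, 0, 5, 3, 0, 1, 2, 4, 5, 3, 1, 0, 2, 4, 0, 5, 3, 0, 1, 2, 4], [3, 0, 1, 2, 7, 5, 6, 4, 8]),
    ([5, 3, 1, 0, 2, 4, 0, 5, 3, 1, 0, 2, 4, 0, 5, 3, 0, 1, 2, 4, 5, 3, 1, 0, 2, 4, 0], [0, 1, 3, 2, 5, 4, 6, 7, 8]),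
    ([5, 3, 0, 1, 2, 4, 5, 3, 1, 0, 2, 4, 0, 5, 3, 1, 0, 2, 4, 0, 5, 3, 1, 0, 2, 4, 0, 5, 3, 1, 0, 2, 4, 0, 5, 3, 0, 1, 2, 4], [3, 0, 2, 1, 4, 6, 7, 5, 8]),
    ([5, 3, 1, 0, 2, 4, 0, 5, 3, 1, 0, 2, 4, 0, 5, 3, 0, 1, 2, 4, 5, 3, 1, 0, 2, 4, 0, 5, 3, 0, 1, 2, 4, 5, 3, 1, 0, 2, 4, 0, 5, 3, 0, 1, 2, 4, 5, 3, 0, 1, 2, 4], [3, 0, 2, 1, 5, 7, 6, 4, 8]),
    ([5, 3, 0, 1, 2, 4, 5, 3, 0, 1, 2, 4, 5, 3, 0, 1, 2, 4, 5, 3, 1, 0, 2, 4, 0, 5, 3, 0, 1, 2, 4], [6, 4, 7, 5, 0, 3, 2, 1, 8]),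
    ([5, 3, 0, 1, 2, 4, 5, 3, 1, 0, 2, 4, 0, 5, 3, 1, 0, 2, 4, 0, 5, 3, 0, 1, 2, 4, 5, 3, 1, 0, 2, 4, 0, 5, 3, 0, 1, 2, 4, 5, 3, 0, 1, 2, 4], [5, 7, 4, 6, 0, 3, 2, 1, 8]),
    ([5, 3, 1, 0, 2, 4, 0, 5, 3, 1, 0, 2, 4, 0, 5, 3, 1, 0, 2, 4, 0, 5, 3, 1, 0, 2, 4, 0, 5, 3, 1, 0, 2, 4, 0, 5, 3, 0, 1, 2, 4, 5, 3, 1, 0, 2, 4, 0], [4, 5, 6, 7, 1, 0, 3, 2, 8]),
    ([5, 3, 1, 0, 2, 4, 0, 5, 3, 0, 1, 2, 4, 5, 3, 0, 1, 2, 4, 5, 3, 1, 0, 2, 4, 0], [1, 2, 0, 3, 5, 7, 6, 4, 8]),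
    ([5, 3, 0, 1, 2, 4, 5, 3, 1, 0, 2, 4, 0, 5, 3, 1, 0, 2, 4, 0, 5, 3, 0, 1, 2, 4, 5, 3, 1, 0, 2, 4, 0, 5, 3, 0, 1, 2, 4, 5, 3, 1, 0, 2, 4, 0, 5, 3, 0, 1, 2, 4], [2, 0, 1, 3, 5, 6, 4, 7, 8]),
    ([5, 3, 1, 0, 2, 4, 0, 5, 3, 0, 1, 2, 4, 5, 3, 0, 1, 2, 4, 5, 3, 1, 0, 2, 4, 0, 5, 3, 1, 0, 2, 4, 0], [6, 7, 5, 4, 3, 2, 0, 1, 8]),
    ([5, 3, 0, 1, 2, 4, 5, 3, 0, 1, 2, 4, 5, 3, 1, 0, 2, 4, 0, 5, 3, 1, 0, 2, 4, 0, 5, 3, 0, 1, 2, 4], [4, 7, 5, 6, 1, 3, 2, 0, 8]),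
    ([5, 3, 0, 1, 2, 4, 5, 3, 1, 0, 2, 4, 0, 5, 3, 0, 1, 2, 4], [5, 7, 4, 6, 2, 1, 0, 3, 8]),
    ([5, 3, 1, 0, 2, 4, 0, 5, 3, 1, 0, 2, 4, 0, 5, 3, 1, 0, 2, 4, 0, 5, 3, 0, 1, 2, 4, 5, 3, 1, 0, 2, 4, 0, 5, 3, 0, 1, 2, 4], [1, 2, 0, 3, 7, 5, 4, 6, 8]),
    ([5, 3, 1, 0, 2, 4, 0, 5, 3, 0, 1, 2, 4, 5, 3, 1, 0, 2, 4, 0, 5, 3, 0, 1, 2, 4, 5, 3, 0, 1, 2, 4, 5, 3, 0, 1, 2, 4], [3, 2, 1, 0, 7, 6, 5, 4, 8]),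
    ([5, 3, 0, 1, 2, 4, 5, 3, 0, 1, 2, 4, 5, 3, 0, 1, 2, 4, 5, 3, 1, 0, 2, 4, 0, 5, 3, 1, 0, 2, 4, 0, 5, 3, 0, 1, 2, 4, 5, 3, 1, 0, 2, 4, 0], [7, 5, 6, 4, 3, 0, 1, 2, 8]),
    ([5, 3, 0, 1, 2, 4, 5, 3, 0, 1, 2, 4, 5, 3, 1, 0, 2, 4, 0, 5, 3, 1, 0, 2, 4, 0, 5, 3, 0, 1, 2, 4, 5, 3, 1, 0, 2, 4, 0, 5, 3, 0, 1, 2, 4], [6, 5, 4, 7, 1, 3, 0, 2, 8]),
    ([5, 3, 1, 0, 2, 4, 0, 5, 3, 0, 1, 2, 4, 5, 3, 0, 1, 2, 4, 5, 3, 0, 1, 2, 4, 5, 3, 1, 0, 2, 4, 0], [5, 7, 6, 4, 2, 1, 3, 0, 8]),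
    ([5, 3, 0, 1, 2, 4, 5, 3, 1, 0, 2, 4, 0, 5, 3, 1, 0, 2, 4, 0, 5, 3, 0, 1, 2, 4, 5, 3, 1, 0, 2, 4, 0, 5, 3, 0, 1, 2, 4], [1, 3, 0, 2, 5, 6, 7, 4, 8]),
    ([5, 3, 1, 0, 2, 4, 0, 5, 3, 1, 0, 2, 4, 0, 5, 3, 0, 1, 2, 4, 5, 3, 1, 0, 2, 4, 0, 5, 3, 0, 1, 2, 4, 5, 3, 0, 1, 2, 4], [3, 2, 0, 1, 7, 6, 4, 5, 8]),
    ([5, 3, 0, 1, 2, 4, 5, 3, 1, 0, 2, 4, 0, 5, 3, 0, 1, 2, 4, 5, 3, 1, 0, 2, 4, 0, 5, 3, 1, 0, 2, 4, 0, 5, 3, 0, 1, 2, 4], [3, 2, 0, 1, 6, 7, 5, 4, 8]),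
    ([5, 3, 1, 0, 2, 4, 0, 5, 3, 1, 0, 2, 4, 0, 5, 3, 1, 0, 2, 4, 0, 5, 3, 1, 0, 2, 4, 0, 5, 3, 1, 0, 2, 4, 0, 5, 3, 0, 1, 2, 4], [2, 0, 3, 1, 6, 5, 4, 7, 8]),
    ([5, 3, 1, 0, 2, 4, 0, 5, 3, 1, 0, 2, 4, 0, 5, 3, 0, 1, 2, 4, 5, 3, 0, 1, 2, 4, 5, 3, 1, 0, 2, 4, 0, 5, 3, 0, 1, 2, 4], [1, 2, 3, 0, 6, 4, 7, 5, 8]),
    ([5, 3, 1, 0, 2, 4, 0, 5, 3, 1, 0, 2, 4, 0, 5, 3, 1, 0, 2, 4, 0, 5, 3, 1, 0, 2, 4, 0, 5, 3, 1, 0, 2, 4, 0, 5, 3, 0, 1, 2, 4, 5, 3, 0, 1, 2, 4, 5, 3, 1, 0, 2, 4, 0, 5, 3, 0, 1, 2, 4], [5, 7, 6, 4, 3, 0, 2, 1, 8])]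

def a2stab : List (List ℕ × List ℕ) :=
  a2stab_0 ++ a2stab_1 ++ a2stab_2 ++ a2stab_3 ++ a2stab_4

def a2exps_0 : List (List ℕ) :=
  [[],
    [1, 0, 0, 0, 1, 1, 0, 1, 0],
    [1, 1, 0, 1, 0, 0, 0, 1],
    [1, 0, 1, 0, 1, 1, 1],
    [1, 0, 1, 0, 0, 1, 0],
    [1, 1, 1, 1, 1, 0, 0],
    [1, 1, 0, 1, 0, 1, 1],
    [1, 1, 1, 0, 1, 0, 1, 1, 0],
    [0, 1, 0, 1, 0, 1, 1],
    [1, 1, 1, 1, 0, 1, 0],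
    [0, 1, 0, 1, 1, 1, 1, 1],
    [1, 0, 1, 0, 0, 1],
    [1, 1, 0, 1, 0, 1, 0, 0, 0],
    [1, 1, 1],
    [0, 0, 0, 1],
    [1, 0, 1, 0, 1, 1, 0],
    [1, 0, 1, 0, 0],
    [0, 0, 1, 0],
    [0, 1, 1, 0, 1, 0, 0, 0],
    [1],
    [1, 0, 0, 0, 1, 0],
    [1, 0, 0, 1, 1, 0],
    [1, 0, 1, 0, 1, 1, 0, 0],
    [1, 1, 1, 0, 0, 1, 0],
    [1, 1, 1, 1, 0, 0, 1, 1, 0],
    [1, 0, 1, 0, 1, 0, 0],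
    [0, 1, 0, 1, 1, 1],
    [1, 1, 0, 1, 0, 1, 1, 0, 0, 0],
    [1, 0, 1, 1, 1, 1, 1, 0],
    [1, 1, 0, 0, 0, 1, 0],
    [1, 0, 1, 1, 1],
    [1, 0, 1, 1, 0, 0, 0, 1, 0],
    [1, 0, 1, 0, 1, 0, 0, 1],
    [1, 1, 0, 0, 1, 1, 0],
    [1, 0, 1, 1, 0, 1, 0, 0],
    [0, 1, 1, 1, 1, 1, 0, 0],
    [0, 1, 1, 1, 1, 0, 1, 0],
    [1, 0, 1, 1, 0, 0, 0, 1],
    [0],
    [0, 1, 1, 0, 1, 0, 1, 0, 0, 0]]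

def a2exps_1 : List (List ℕ) :=
  [[1, 1, 1, 1, 0, 0, 1, 0],
    [0, 1, 0, 0, 0],
    [0, 1, 0, 1, 0],
    [0, 1, 0, 1, 1, 1, 1, 1, 0],
    [1, 1, 0, 0, 1],
    [0, 1, 1, 1, 1, 1, 0],
    [1, 1],
    [0, 0, 1, 0, 0],
    [1, 1, 1, 1, 0, 1, 0, 0],
    [1, 1, 0, 0, 0, 1],
    [1, 0, 0, 0, 1, 0, 0, 0],
    [1, 1, 0, 1, 0, 1, 0],
    [0, 1, 0, 1, 0, 0, 0],
    [1, 1, 1, 1, 0],
    [0, 1, 0, 1, 1, 1, 1, 0, 0],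
    [0, 1, 1, 1, 1, 1],
    [0, 1, 1, 1, 1, 0, 0],
    [0, 1, 1, 0, 1],
    [1, 0, 1, 1, 0, 1, 0, 0, 0],
    [1, 0, 1, 1, 1, 1, 1],
    [0, 1],
    [0, 1, 1],
    [1, 0, 1, 1, 1, 1, 0, 0],
    [0, 1, 0, 1, 1, 0, 0],
    [1, 1, 1, 1, 0, 1, 0, 0, 0],
    [1, 0, 1, 0],
    [1, 0, 1, 1, 1, 1, 1, 0, 0],
    [0, 1, 0, 1, 1],
    [0, 1, 0, 1, 1, 1, 1],
    [1, 1, 0, 1, 0, 1],
    [1, 1, 1, 1, 1, 0, 1, 0, 0],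
    [1, 0, 1, 1, 0, 0],
    [0, 1, 0, 1, 1, 1, 1, 0],
    [1, 0, 0, 1, 0],
    [1, 0],
    [1, 1, 0],
    [1, 1, 1, 0, 1, 0, 0],
    [1, 0, 0, 0, 1, 0, 0],
    [1, 1, 1, 0, 0, 1, 1],
    [0, 1, 0, 0, 0, 1]]

def a2exps_2 : List (List ℕ) :=
  [[1, 0, 1, 0, 0, 0, 1],
    [0, 0, 1, 1],
    [1, 0, 0],
    [1, 1, 1, 0, 1, 0, 0, 0],
    [0, 1, 1, 1, 1, 0, 1],
    [1, 0, 0, 0, 1, 1, 0],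
    [1, 1, 0, 1, 0, 0, 0],
    [1, 1, 1, 0, 0, 1, 1, 0],
    [1, 0, 1, 1, 1, 1],
    [0, 1, 0, 0, 1, 0],
    [1, 0, 1, 0, 0, 0, 1, 1, 0],
    [1, 1, 1, 0, 0, 1],
    [1, 1, 1, 1, 1, 0, 1, 0],
    [1, 1, 1, 0, 1, 0, 1],
    [0, 1, 0, 1],
    [0, 1, 0, 0],
    [1, 0, 0, 0, 1, 1, 0, 1],
    [0, 0, 1, 0, 0, 0],
    [0, 0, 1],
    [1, 1, 0, 1, 0],
    [0, 1, 0, 1, 0, 1, 1, 1],
    [1, 1, 1, 1, 0, 1],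
    [1, 1, 0, 0, 0],
    [0, 1, 1, 1],
    [0, 1, 0, 1, 1, 0, 0, 0],
    [1, 1, 1, 1, 0, 0],
    [1, 0, 1, 1, 0],
    [0, 1, 1, 0],
    [1, 0, 1, 1, 0, 1, 0],
    [1, 1, 0, 1, 0, 1, 1, 1],
    [0, 1, 0, 1, 0, 1, 1, 0, 0],
    [0, 1, 1, 0, 0, 0, 1],
    [1, 1, 0, 0, 1, 1],
    [0, 1, 0, 0, 0, 1, 1],
    [1, 0, 1, 0, 1, 1],
    [1, 1, 1, 1, 1, 0, 1, 0, 0, 0],
    [1, 0, 1, 1, 0, 1],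
    [0, 1, 1, 0, 0, 0],
    [1, 0, 1, 1, 0, 0, 0],
    [1, 0, 0, 0, 1, 1]]

def a2exps_3 : List (List ℕ) :=
  [[1, 1, 0, 1, 0, 1, 1, 0],
    [0, 1, 0, 1, 0, 1],
    [0, 0, 1, 1, 0, 1],
    [1, 1, 1, 1, 0, 0, 1, 1],
    [1, 1, 1, 1],
    [0, 0, 0, 1, 0, 0, 0],
    [1, 1, 1, 0, 1, 0, 1, 1],
    [0, 1, 1, 0, 0, 0, 1, 0],
    [0, 1, 1, 1, 1],
    [1, 0, 1],
    [1, 0, 1, 0, 1, 0, 0, 1, 0],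
    [1, 1, 0, 1, 0, 1, 1, 0, 0],
    [1, 1, 1, 0],
    [1, 1, 0, 1, 0, 1, 0, 0, 1, 0],
    [0, 0, 0, 1, 1, 0, 1, 0],
    [0, 0, 0, 1, 0, 0],
    [0, 1, 1, 0, 1, 0, 1],
    [1, 0, 1, 0, 1, 1, 0, 0, 0],
    [0, 1, 0, 0, 0, 1, 0, 0],
    [1, 0, 1, 0, 1, 0, 0, 0],
    [0, 1, 0, 1, 0, 0, 1, 0],
    [1, 0, 1, 0, 1],
    [0, 1, 0, 1, 0, 0, 1],
    [0, 1, 1, 0, 0],
    [0, 1, 0, 1, 0, 0],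
    [0, 1, 0, 0, 1],
    [1, 0, 1, 1],
    [1, 1, 1, 0, 0],
    [1, 0, 1, 0, 1, 0],
    [1, 1, 0, 1, 0, 0, 0, 1, 1, 0],
    [1, 0, 1, 1, 1, 1, 0],
    [0, 0, 0, 1, 1, 0],
    [0, 1, 0, 0, 0, 1, 1, 0],
    [1, 1, 0, 0],
    [0, 1, 0, 0, 0, 1, 0],
    [1, 1, 1, 1, 1, 0, 0, 1],
    [0, 1, 0, 1, 0, 1, 1, 0],
    [1, 1, 0, 1, 0, 0, 0, 1, 1],
    [1, 1, 1, 0, 1],
    [1, 1, 1, 1, 1]]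

def a2exps_4 : List (List ℕ) :=
  [[0, 0],
    [1, 0, 1, 0, 0, 0, 1, 1],
    [0, 0, 0],
    [1, 0, 0, 0],
    [0, 1, 1, 0, 1, 0, 1, 0, 0],
    [1, 1, 1, 1, 0, 0, 1],
    [1, 1, 0, 1, 0, 1, 0, 0, 1],
    [1, 1, 0, 1, 0, 0, 1],
    [0, 0, 0, 1, 1],
    [1, 1, 1, 0, 1, 0, 1, 0],
    [1, 1, 0, 1],
    [0, 1, 1, 1, 1, 0],
    [1, 1, 0, 1, 0, 1, 0, 0],
    [0, 0, 0, 1, 0],
    [0, 1, 1, 0, 1, 0, 0],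
    [1, 1, 1, 1, 1, 0, 1],
    [1, 0, 0, 1],
    [0, 1, 1, 0, 1, 0, 1, 0],
    [1, 0, 0, 1, 1],
    [0, 0, 1, 1, 0],
    [0, 1, 0],
    [1, 1, 1, 0, 1, 0],
    [1, 0, 1, 0, 0, 0],
    [0, 0, 0, 1, 1, 0, 1],
    [0, 0, 1, 1, 0, 1, 0],
    [1, 0, 0, 0, 1],
    [0, 1, 1, 0, 1, 0],
    [1, 1, 0, 1, 0, 0],
    [0, 1, 0, 1, 1, 0],
    [1, 1, 1, 1, 1, 0],
    [1, 1, 0, 0, 1, 0],
    [1, 1, 1, 1, 1, 0, 0, 1, 0]]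

def a2exps : List (List ℕ) :=
  a2exps_0 ++ a2exps_1 ++ a2exps_2 ++ a2exps_3 ++ a2exps_4

def a2rels_0 : List (List (ℕ × ℕ × ℕ)) :=
  [[(1, 0, 1), (1, 0, 2), (1, 0, 3), (1, 0, 4), (1, 0, 5), (1, 0, 6), (1, 0, 7), (1, 0, 8), (1, 0, 9), (1, 0, 10), (1, 0, 11), (1, 0, 12), (1, 0, 13), (1, 0, 14), (1, 0, 15), (1, 0, 16), (1, 0, 17), (1, 0, 18), (1, 0, 19), (1, 0, 20), (1, 0, 21), (1, 0, 22), (1, 0, 23), (1, 0, 24), (1, 0, 25), (1, 0, 26), (1, 0, 27), (1, 0, 28), (1, 0, 29), (1, 0, 30)],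
    [(1, 0, 31), (1, 0, 32), (1, 0, 33), (1, 0, 34), (1, 0, 35), (1, 0, 36), (1, 0, 37), (1, 0, 38), (1, 0, 39), (1, 0, 40), (1, 0, 41), (1, 0, 42), (1, 0, 43), (1, 0, 44), (1, 0, 45), (1, 0, 46), (1, 0, 47), (1, 0, 48), (1, 0, 49), (1, 0, 50), (1, 0, 51), (1, 0, 52), (1, 0, 53), (1, 0, 54), (1, 0, 55), (1, 0, 56), (1, 0, 57), (1, 0, 58), (1, 0, 59), (1, 0, 60)],
    [(1, 0, 61), (1, 0, 62), (1, 0, 63), (1, 0, 64), (1, 0, 65), (1, 0, 66), (1, 0, 67), (1, 0, 68), (1, 0, 69), (1, 0, 70)],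
    [(1, 0, 71), (1, 0, 72), (1, 0, 73), (1, 0, 74), (1, 0, 75), (1, 0, 76), (1, 0, 77)],
    [(1, 0, 78), (1, 0, 79), (1, 0, 80), (1, 0, 81), (1, 0, 82), (1, 0, 83), (1, 0, 84)],
    [(1, 0, 85), (1, 0, 86), (1, 0, 87), (1, 0, 88), (1, 0, 89), (1, 0, 90), (1, 0, 91)],
    [(1, 0, 0), (1, 0, 92), (1, 0, 93), (1, 0, 94), (1, 0, 95), (1, 0, 96), (1, 0, 97), (1, 0, 98), (1, 0, 16), (1, 0, 99), (1, 0, 100), (1, 0, 101), (1, 0, 102), (1, 0, 103), (1, 0, 104), (1, 0, 105), (1, 0, 106), (1, 0, 107), (1, 0, 108), (1, 0, 109), (1, 0, 110), (1, 0, 111), (1, 0, 112), (1, 0, 113), (1, 0, 114), (1, 0, 28), (1, 0, 115), (1, 0, 116), (1, 0, 117), (1, 0, 118), (1, 0, 119), (1, 0, 120), (1, 0, 121), (1, 0, 122), (1, 0, 123), (1, 0, 47), (1, 0, 124), (1, 0, 125), (1,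 0, 126), (1, 0, 127), (1, 0, 128), (1, 0, 129), (1, 0, 130), (1, 0, 131), (1, 0, 132), (1, 0, 133), (1, 0, 134), (1, 0, 135), (1, 0, 136), (1, 0, 137), (1, 0, 138), (1, 0, 77), (1, 0, 139), (1, 0, 140), (1, 0, 141), (1, 0, 142), (1, 0, 143), (1, 0, 144), (1, 0, 145), (1, 0, 146), (1, 0, 147), (1, 0, 148), (1, 0, 149)]]

def a2rels : List (List (ℕ × ℕ × ℕ)) :=
  a2rels_0

def a2invs_0 : List (ℕ × List (ℕ × List (ℕ × ℕ))) :=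
  [(1, [(1, [(4, 65), (8, 0), (17, 80), (3, 138), (9, 0), (14, 0), (29, 73), (12, 0), (26, 141), (1, 43), (24, 44), (19, 73), (23, 0), (25, 57), (13, 81), (15, 27), (10, 87), (20, 65), (28, 0), (6, 44), (5, 86), (16, 176), (22, 133), (7, 44), (18, 177), (30, 0), (11, 129), (2, 56), (27, 177), (21, 177), (1, 0), (2, 0), (3, 0), (4, 0), (5, 0), (6, 0), (7, 0), (8, 0), (9, 0), (10, 0), (11, 0), (12, 0), (13, 0), (14, 0), (15, 0), (16, 0), (17, 0), (18, 0), (19, 0), (20, 0), (21, 0), (22, 0), (23, 0), (24, 0), (25, 0), (26, 0), (27, 0), (28, 0), (29, 0), (30, 0)]), (2, [(13, 183), (10, 125), (5, 121), (20, 137), (3, 60), (15, 59), (22, 125), (27, 185), (18, 68), (2, 45), (17, 185), (12, 138), (1, 99), (26, 113), (6, 51), (30, 96), (11, 154), (9, 93),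 (29, 96), (4, 137), (24, 117), (7, 45), (28, 107), (21, 26), (25, 96), (14, 4), (8, 154), (23, 83), (19, 96), (16, 96), (1, 0), (2, 0), (3, 0), (4, 0), (5, 0), (6, 0), (7, 0), (8, 0), (9, 0), (10, 0), (11, 0), (12, 0), (13, 0), (14, 0), (15, 0), (16, 0), (17, 0), (18, 0), (19, 0), (20, 0), (21, 0), (22, 0), (23, 0), (24, 0), (25, 0), (26, 0), (27, 0), (28, 0), (29, 0), (30, 0)])])]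

def a2invs_1 : List (ℕ × List (ℕ × List (ℕ × ℕ))) :=
  [(1, [(1, [(34, 0), (40, 0), (48, 57), (36, 0), (38, 0), (58, 56), (50, 141), (56, 12), (43, 140), (57, 8), (46, 0), (39, 103), (51, 107), (47, 140), (59, 31), (45, 177), (52, 177), (32, 24), (44, 75), (35, 12), (55, 125), (60, 25), (31, 43), (41, 45), (42, 118), (37, 180), (33, 13), (53, 161), (54, 35), (49, 2), (31, 0), (32, 0), (33, 0), (34, 0), (35, 0), (36, 0), (37, 0), (38, 0), (39, 0), (40, 0), (41, 0), (42, 0), (43, 0), (44, 0), (45, 0), (46, 0), (47, 0), (48, 0), (49, 0), (50, 0), (51, 0), (52, 0), (53, 0), (54, 0), (55, 0), (56, 0), (57, 0), (58, 0), (59, 0), (60, 0)]), (2, [(54, 122), (52, 85), (60, 34), (56, 141), (45, 24), (51, 141), (59, 34), (55, 122), (49, 185), (58, 47), (44,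 97), (46, 153), (57, 155), (41, 35), (35, 24), (42, 91), (53, 83), (48, 134), (39, 154), (50, 120), (36, 180), (32, 63), (47, 107), (31, 187), (38, 187), (34, 180), (43, 155), (40, 165), (37, 34), (33, 34), (31, 0), (32, 0), (33, 0), (34, 0), (35, 0), (36, 0), (37, 0), (38, 0), (39, 0), (40, 0), (41, 0), (42, 0), (43, 0), (44, 0), (45, 0), (46, 0), (47, 0), (48, 0), (49, 0), (50, 0), (51, 0), (52, 0), (53, 0), (54, 0), (55, 0), (56, 0), (57, 0), (58, 0), (59, 0), (60, 0)])])]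

def a2invs_2 : List (ℕ × List (ℕ × List (ℕ × ℕ))) :=
  [(1, [(1, [(66, 140), (70, 177), (69, 115), (62, 177), (64, 0), (63, 0), (61, 97), (65, 162), (67, 171), (68, 66), (61, 0), (62, 0), (63, 0), (64, 0), (65, 0), (66, 0), (67, 0), (68, 0), (69, 0), (70, 0)]), (2, [(68, 67), (67, 2), (70, 146), (65, 91), (64, 153), (66, 146), (62, 177), (61, 118), (69, 119), (63, 146), (61, 0), (62, 0), (63, 0), (64, 0), (65, 0), (66, 0), (67, 0), (68, 0), (69, 0), (70, 0)])])]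

def a2invs_3 : List (ℕ × List (ℕ × List (ℕ × ℕ))) :=
  [(2, [(3, [(72, 35), (73, 71), (74, 133), (77, 176), (71, 161), (75, 125), (76, 167), (71, 0), (72, 0), (73, 0), (74, 0), (75, 0), (76, 0), (77, 0)]), (4, [(76, 64), (72, 50), (73, 170), (77, 36), (75, 146), (71, 150), (74, 62), (71, 0), (72, 0), (73, 0), (74, 0), (75, 0), (76, 0), (77, 0)])])]

def a2invs_4 : List (ℕ × List (ℕ × List (ℕ × ℕ))) :=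
  [(3, [(3, [(79, 87), (80, 0), (84, 45), (83, 36), (81, 138), (78, 179), (82, 140), (78, 0), (79, 0), (80, 0), (81, 0), (82, 0), (83, 0), (84, 0)]), (5, [(83, 143), (82, 112), (80, 160), (81, 12), (79, 176), (78, 33), (84, 110), (78, 0), (79, 0), (80, 0), (81, 0), (82, 0), (83, 0), (84, 0)])])]

def a2invs_5 : List (ℕ × List (ℕ × List (ℕ × ℕ))) :=
  [(3, [(3, [(86, 0), (90, 4), (88, 0), (91, 22), (85, 87), (87, 0), (89, 162), (85, 0), (86, 0), (87, 0), (88, 0), (89, 0), (90, 0), (91, 0)]), (5, [(87, 27), (86, 79), (85, 27), (88, 110), (91, 51), (90, 137), (89, 59), (85, 0), (86, 0), (87, 0), (88, 0), (89, 0), (90, 0), (91, 0)])])]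

def a2invs_6 : List (ℕ × List (ℕ × List (ℕ × ℕ))) :=
  [(5, [(6, [(0, 155), (28, 24), (145, 154), (143, 43), (96, 35), (95, 97), (100, 104), (140, 162), (105, 140), (117, 43), (97, 104), (122, 175), (108, 177), (134, 9), (144, 8), (16, 140), (138, 158), (112, 74), (102, 2), (115, 2), (110, 144), (119, 83), (107, 148), (130, 13), (135, 8), (92, 24), (109, 177), (136, 0), (99, 43), (118, 70), (111, 107), (125, 67), (121, 137), (101, 8), (124, 5), (149, 175), (123, 98), (120, 118), (137, 42), (127, 66), (128, 116), (147, 150), (113, 13), (141, 140), (132, 164), (139, 107), (103, 3), (114, 175), (116, 0), (126, 129), (106, 75), (146, 35), (133, 83), (98, 38), (131, 140), (148, 66), (94, 43), (104, 175), (93, 185), (77, 97), (129, 64), (142, 66), (47,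 8), (0, 0), (92, 0), (93, 0), (94, 0), (95, 0), (96, 0), (97, 0), (98, 0), (16, 0), (99, 0), (100, 0), (101, 0), (102, 0), (103, 0), (104, 0), (105, 0), (106, 0), (107, 0), (108, 0), (109, 0), (110, 0), (111, 0), (112, 0), (113, 0), (114, 0), (28, 0), (115, 0), (116, 0), (117, 0), (118, 0), (119, 0), (120, 0), (121, 0), (122, 0), (123, 0), (47, 0), (124, 0), (125, 0), (126, 0), (127, 0), (128, 0), (129, 0), (130, 0), (131, 0), (132, 0), (133, 0), (134, 0), (135, 0), (136, 0), (137, 0), (138, 0), (77, 0), (139, 0), (140, 0), (141, 0), (142, 0), (143, 0), (144, 0), (145, 0), (146, 0), (147, 0), (148, 0), (149, 0)]), (7, [(132, 104), (47, 5), (125, 122), (139, 122), (106, 166), (101, 38), (149, 139), (97, 138), (92, 175), (142, 21), (147, 106), (120,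 144), (111, 171), (131, 21), (146, 8), (141, 78), (140, 35), (102, 176), (77, 190), (117, 36), (121, 94), (135, 109), (124, 89), (143, 167), (134, 167), (129, 184), (116, 127), (113, 85), (126, 127), (110, 165), (93, 175), (100, 8), (128, 2), (16, 85), (96, 105), (130, 103), (133, 16), (109, 19), (144, 107), (118, 89), (0, 161), (137, 28), (104, 57), (99, 17), (127, 31), (145, 19), (28, 97), (98, 13), (112, 22), (94, 22), (103, 100), (138, 106), (114, 163), (115, 49), (136, 143), (108, 23), (95, 80), (119, 161), (105, 124), (122, 162), (148, 95), (123, 61), (107, 102), (0, 0), (92, 0), (93, 0), (94, 0), (95, 0), (96, 0), (97, 0), (98, 0), (16, 0), (99, 0), (100, 0), (101, 0), (102, 0), (103, 0), (104, 0), (105, 0), (106, 0), (107, 0), (108, 0), (109,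 0), (110, 0), (111, 0), (112, 0), (113, 0), (114, 0), (28, 0), (115, 0), (116, 0), (117, 0), (118, 0), (119, 0), (120, 0), (121, 0), (122, 0), (123, 0), (47, 0), (124, 0), (125, 0), (126, 0), (127, 0), (128, 0), (129, 0), (130, 0), (131, 0), (132, 0), (133, 0), (134, 0), (135, 0), (136, 0), (137, 0), (138, 0), (77, 0), (139, 0), (140, 0), (141, 0), (142, 0), (143, 0), (144, 0), (145, 0), (146, 0), (147, 0), (148, 0), (149, 0)]), (8, [(137, 53), (92, 90), (125, 49), (128, 7), (113, 188), (101, 123), (102, 157), (111, 165), (47, 64), (77, 2), (148, 115), (96, 123), (97, 166), (103, 43), (146, 65), (112, 159), (116, 60), (149, 179), (142, 172), (119, 46), (114, 76), (98, 47), (105, 19), (95, 152), (110, 179), (127, 108), (140, 163), (106, 121), (144,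 100), (134, 84), (109, 124), (123, 172), (139, 180), (130, 163), (120, 39), (16, 150), (145, 173), (93, 49), (126, 123), (28, 58), (94, 136), (132, 57), (122, 55), (138, 76), (129, 86), (133, 43), (118, 54), (135, 34), (141, 32), (0, 168), (131, 179), (99, 177), (121, 141), (115, 55), (136, 156), (108, 39), (143, 116), (117, 101), (124, 25), (104, 65), (147, 24), (100, 161), (107, 76), (0, 0), (92, 0), (93, 0), (94, 0), (95, 0), (96, 0), (97, 0), (98, 0), (16, 0), (99, 0), (100, 0), (101, 0), (102, 0), (103, 0), (104, 0), (105, 0), (106, 0), (107, 0), (108, 0), (109, 0), (110, 0), (111, 0), (112, 0), (113, 0), (114, 0), (28, 0), (115, 0), (116, 0), (117, 0), (118, 0), (119, 0), (120, 0), (121, 0), (122, 0), (123, 0), (47, 0), (124, 0), (125, 0), (126,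 0), (127, 0), (128, 0), (129, 0), (130, 0), (131, 0), (132, 0), (133, 0), (134, 0), (135, 0), (136, 0), (137, 0), (138, 0), (77, 0), (139, 0), (140, 0), (141, 0), (142, 0), (143, 0), (144, 0), (145, 0), (146, 0), (147, 0), (148, 0), (149, 0)])])]

def a2invs : List (ℕ × List (ℕ × List (ℕ × ℕ))) :=
  a2invs_0 ++ a2invs_1 ++ a2invs_2 ++ a2invs_3 ++ a2invs_4 ++ a2invs_5 ++ a2invs_6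

def a2steps_0 : List (Step) :=
  [⟨1, [4, 6, 2, 3, 0, 1, 5, 4], 4, [(150, 1), (4, 2), (151, 3), (152, 4), (147, 5), (153, 6), (154, 7)]⟩,
    ⟨1, [0, 3, 5, 1, 6, 4, 2, 0, 0], 5, [(64, 8), (155, 9), (66, 8), (156, 10), (157, 11), (158, 12), (63, 13)]⟩,
    ⟨1, [0, 4, 5, 6, 3, 1, 2, 2, 1], 5, [(159, 14), (160, 15), (161, 16), (162, 17), (163, 18), (164, 19), (165, 20)]⟩,
    ⟨1, [3, 0, 1, 5, 2, 6, 4, 3], 4, [(166, 21), (167, 22), (168, 23), (169, 24), (170, 25), (171, 26), (172, 27)]⟩,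
    ⟨1, [4, 2, 0, 6, 3, 2, 1, 1], 5, [(173, 28), (174, 29), (175, 16), (176, 30), (119, 31), (177, 30), (178, 32)]⟩,
    ⟨1, [1, 1, 3, 0, 4], 4, [(128, 1), (179, 33), (180, 34), (132, 35), (181, 36), (182, 37), (183, 37)]⟩,
    ⟨1, [1, 2, 5, 3, 6, 0, 1, 4], 5, [(184, 38), (185, 39), (72, 40), (186, 41), (187, 24), (188, 42), (189, 43)]⟩,
    ⟨1, [3, 5, 0, 2, 4, 6, 1], 5, [(190, 44), (191, 45), (192, 46), (193, 47), (194, 9), (195, 48), (196, 49)]⟩,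
    ⟨1, [5, 0, 6, 1, 5, 2, 4], 4, [(197, 1), (198, 50), (199, 27), (200, 51), (201, 52), (202, 6), (203, 7)]⟩,
    ⟨1, [4, 5, 1, 6, 3, 1, 2, 0], 5, [(68, 26), (204, 40), (67, 34), (61, 8), (205, 53), (187, 54), (206, 55)]⟩,
    ⟨1, [2, 4, 1, 0, 5, 3, 6, 0, 1], 5, [(166, 44), (167, 19), (204, 21), (207, 15), (208, 56), (168, 8), (169, 10)]⟩,
    ⟨1, [4, 0, 1, 5, 6, 1, 2, 3, 0], 5, [(209, 57), (210, 58), (211, 59), (212, 60), (213, 61), (214, 62), (215, 63)]⟩,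
    ⟨1, [1, 4, 3, 6, 0, 4, 2, 0, 0], 5, [(216, 46), (217, 64), (218, 65), (219, 66), (220, 38), (221, 67), (101, 68)]⟩,
    ⟨1, [6, 3, 5, 2, 4, 1, 3, 0], 3, [(222, 0), (223, 0), (81, 60), (183, 0), (224, 0), (225, 69), (226, 70)]⟩,
    ⟨1, [6, 2, 0, 3, 2, 5, 1, 0], 5, [(227, 8), (228, 71), (229, 72), (230, 1), (231, 9), (232, 73), (233, 74)]⟩,
    ⟨1, [1, 4, 0, 6, 5, 4, 2, 3], 5, [(234, 75), (235, 76), (236, 77), (115, 12), (107, 78), (237, 79), (238, 80)]⟩,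
    ⟨1, [0, 6, 1, 3, 2, 0, 5], 5, [(239, 11), (29, 38), (133, 81), (240, 82), (126, 83), (241, 84), (242, 50)]⟩,
    ⟨1, [1, 5, 0, 3, 6, 2, 4, 1], 5, [(243, 85), (244, 45), (245, 5), (246, 86), (247, 65), (248, 48), (249, 87)]⟩,
    ⟨1, [0, 4, 5, 2, 3, 3, 1], 5, [(0, 88), (250, 89), (251, 90), (252, 91), (224, 53), (253, 92), (254, 8)]⟩,
    ⟨1, [6, 5, 1, 0, 3, 6, 2], 5, [(255, 90), (256, 53), (245, 51), (257, 93), (258, 94), (259, 13), (260, 95)]⟩,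
    ⟨1, [0, 6, 4, 3, 5, 2, 0, 1], 4, [(143, 96), (261, 97), (152, 98), (147, 99), (262, 100), (263, 101), (150, 102)]⟩,
    ⟨1, [1, 5, 6, 3, 5, 4, 0, 1], 4, [(264, 23), (265, 103), (266, 104), (209, 86), (50, 19), (267, 59), (149, 105)]⟩,
    ⟨1, [6, 3, 4, 2, 5, 1, 0, 6], 5, [(268, 106), (269, 38), (270, 78), (271, 82), (272, 2), (214, 102), (273, 50)]⟩,
    ⟨1, [4, 1, 5, 3, 2, 6, 0, 2], 5, [(274, 107), (275, 108), (276, 28), (124, 109), (277, 17), (278, 19), (279, 31)]⟩,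
    ⟨1, [6, 1, 0, 2, 5, 4, 3, 3, 1], 5, [(280, 110), (281, 111), (282, 4), (283, 41), (284, 55), (285, 112), (137, 113)]⟩]

def a2steps_1 : List (Step) :=
  [⟨1, [3, 1, 5, 4, 0, 6, 2], 5, [(115, 57), (286, 114), (287, 10), (288, 0), (236, 61), (107, 62), (289, 105)]⟩,
    ⟨1, [3, 4, 6, 0, 2, 5, 1, 1, 0], 5, [(290, 3), (291, 24), (292, 115), (293, 12), (294, 12), (22, 38), (295, 115)]⟩,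
    ⟨1, [2, 5, 1, 0, 4, 1, 0], 5, [(296, 116), (297, 117), (224, 80), (298, 57), (299, 63), (300, 58), (301, 118)]⟩,
    ⟨1, [1, 2, 0, 5, 3, 6, 4, 0], 4, [(171, 106), (157, 44), (302, 2), (155, 116), (66, 59), (303, 119), (158, 120)]⟩,
    ⟨1, [6, 5, 5, 4, 0, 3, 1, 2], 4, [(304, 6), (305, 71), (306, 3), (307, 121), (308, 97), (309, 62), (139, 35)]⟩,
    ⟨1, [6, 4, 0, 2, 5, 3, 0, 1], 5, [(310, 88), (311, 122), (312, 34), (313, 123), (314, 45), (233, 124), (315, 53)]⟩,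
    ⟨1, [1, 2, 4, 5, 3], 5, [(316, 125), (317, 126), (297, 108), (318, 127), (319, 53), (128, 102), (320, 72)]⟩,
    ⟨1, [2, 3, 4, 5, 6, 0, 1], 5, [(115, 128), (163, 2), (321, 105), (161, 89), (322, 13), (162, 78), (323, 35)]⟩,
    ⟨1, [2, 3, 5, 1, 4, 6, 1, 1, 0], 5, [(324, 129), (325, 58), (326, 23), (327, 75), (328, 90), (329, 120), (330, 69)]⟩,
    ⟨1, [6, 3, 5, 2, 1, 4, 2, 1, 0], 4, [(331, 130), (332, 1), (227, 15), (333, 22), (312, 131), (334, 36), (134, 76)]⟩,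
    ⟨1, [3, 0, 1, 6, 4, 0, 2], 4, [(335, 112), (336, 132), (337, 133), (338, 30), (5, 100), (339, 101), (340, 102)]⟩,
    ⟨1, [0, 4, 5, 6, 3, 1, 2, 2, 1], 4, [(101, 18), (115, 134), (323, 3), (341, 123), (342, 25), (322, 34), (321, 68)]⟩,
    ⟨1, [1, 5, 2, 6, 4, 3, 5, 0], 4, [(112, 135), (109, 1), (343, 136), (344, 137), (167, 74), (200, 138), (345, 35)]⟩,
    ⟨1, [4, 0, 6, 3, 4], 5, [(346, 139), (347, 68), (348, 140), (349, 45), (237, 57), (350, 35), (351, 141)]⟩,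
    ⟨1, [0, 6, 5, 4, 3, 1, 4, 0], 4, [(352, 142), (353, 143), (354, 144), (355, 118), (241, 23), (356, 6), (357, 6)]⟩,
    ⟨1, [0, 1, 6, 2, 3, 5, 1], 5, [(358, 83), (145, 111), (359, 14), (131, 27), (48, 103), (5, 58), (360, 95)]⟩,
    ⟨1, [1, 6, 2, 3, 4, 0, 5, 1, 0], 4, [(241, 53), (361, 87), (362, 16), (240, 113), (363, 145), (242, 140), (126, 62)]⟩,
    ⟨1, [4, 0, 5, 1, 6, 2, 3, 3], 5, [(198, 100), (364, 70), (200, 0), (201, 2), (365, 57), (203, 5), (74, 146)]⟩,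
    ⟨1, [1, 4, 3, 2, 0, 0], 5, [(366, 82), (367, 123), (368, 14), (223, 57), (369, 143), (370, 112), (254, 118)]⟩,
    ⟨1, [3, 4, 1, 2, 6, 0, 2, 5], 4, [(371, 147), (372, 140), (31, 65), (18, 121), (373, 71), (266, 86), (52, 86)]⟩,
    ⟨1, [0, 1, 6, 5, 3, 1, 2, 0, 0], 4, [(243, 142), (244, 143), (249, 148), (248, 118), (374, 23), (375, 149), (376, 6)]⟩,
    ⟨1, [4, 5, 3, 1, 2, 0, 1, 6], 4, [(8, 47), (340, 58), (377, 2), (378, 4), (379, 60), (380, 150), (381, 106)]⟩,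
    ⟨1, [4, 5, 2, 2, 6, 1, 3, 0], 5, [(10, 43), (382, 135), (40, 115), (119, 44), (130, 87), (383, 151), (384, 152)]⟩,
    ⟨1, [5, 0, 6, 2, 1, 1, 4, 3, 0], 5, [(385, 153), (170, 108), (166, 51), (202, 111), (171, 17), (167, 154), (204, 95)]⟩,
    ⟨1, [3, 5, 6, 2, 4, 4, 1], 3, [(386, 152), (387, 65), (388, 90), (389, 72), (390, 155), (361, 52), (154, 156)]⟩]

def a2steps_2 : List (Step) :=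
  [⟨1, [5, 3, 6, 4, 5, 1, 0, 2, 1, 0], 4, [(391, 83), (75, 132), (392, 103), (62, 157), (393, 158), (394, 103), (395, 42)]⟩,
    ⟨1, [2, 1, 5, 4, 0, 0], 5, [(396, 93), (397, 80), (398, 40), (222, 114), (87, 63), (399, 19), (400, 43)]⟩,
    ⟨1, [5, 1, 4, 3, 6, 2, 4, 0, 2], 5, [(125, 159), (401, 111), (350, 160), (402, 78), (216, 77), (321, 60), (403, 31)]⟩,
    ⟨1, [4, 3, 1, 2, 6, 1, 0, 5], 5, [(11, 47), (404, 148), (405, 161), (406, 134), (407, 145), (408, 52), (50, 153)]⟩,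
    ⟨1, [2, 6, 5, 1, 4, 3, 0, 0], 3, [(409, 162), (410, 84), (411, 148), (412, 163), (10, 164), (413, 91), (414, 120)]⟩,
    ⟨1, [6, 1, 3, 5, 4, 0, 3, 2], 5, [(415, 42), (283, 165), (416, 166), (417, 112), (418, 53), (419, 23), (420, 166)]⟩,
    ⟨1, [3, 6, 4, 1, 5, 0, 2, 3, 0], 4, [(421, 18), (352, 134), (422, 3), (423, 46), (424, 72), (425, 137), (426, 143)]⟩,
    ⟨1, [2, 3, 4, 5, 0, 3, 6, 0], 4, [(3, 167), (37, 32), (427, 119), (428, 95), (429, 152), (430, 80), (48, 101)]⟩,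
    ⟨1, [3, 1, 4, 0, 6, 2, 0, 0], 4, [(219, 83), (431, 122), (432, 147), (146, 140), (433, 7), (434, 0), (435, 164)]⟩,
    ⟨1, [2, 6, 5, 1, 4, 0, 2, 3], 5, [(436, 159), (437, 108), (390, 28), (438, 85), (426, 168), (439, 27), (152, 26)]⟩,
    ⟨1, [3, 5, 6, 4, 1, 2], 4, [(22, 77), (440, 16), (100, 80), (39, 129), (55, 141), (441, 125), (442, 169)]⟩,
    ⟨1, [0, 1, 2, 0, 0], 5, [(443, 165), (444, 140), (87, 170), (400, 105), (397, 2), (445, 64), (446, 150)]⟩,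
    ⟨1, [0, 3, 2, 5, 1, 3, 4, 1], 4, [(319, 108), (254, 59), (447, 100), (251, 89), (250, 131), (444, 115), (252, 104)]⟩,
    ⟨1, [0, 6, 1, 4, 2, 3, 5, 0], 4, [(152, 30), (261, 13), (151, 98), (448, 69), (449, 165), (154, 69), (262, 102)]⟩,
    ⟨1, [5, 6, 4, 3, 2, 1, 3], 5, [(352, 57), (450, 58), (357, 59), (354, 171), (437, 61), (241, 172), (387, 140)]⟩,
    ⟨1, [2, 3, 6, 5, 4, 2, 0, 1], 4, [(20, 142), (451, 23), (452, 39), (453, 118), (454, 25), (455, 158), (411, 74)]⟩,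
    ⟨1, [3, 1, 4, 6, 5, 0, 3], 4, [(371, 3), (372, 165), (456, 104), (329, 162), (457, 75), (458, 24), (52, 35)]⟩,
    ⟨1, [1, 1, 5, 3, 6, 0, 4, 2], 4, [(187, 164), (68, 13), (67, 31), (61, 30), (459, 112), (460, 5), (102, 89)]⟩,
    ⟨1, [4, 1, 6, 3, 5, 0, 4, 2, 0, 0], 5, [(165, 127), (161, 68), (164, 173), (323, 118), (341, 153), (115, 29), (101, 53)]⟩,
    ⟨1, [6, 4, 0, 3, 4, 5, 2, 0], 5, [(461, 93), (462, 80), (314, 174), (233, 114), (310, 77), (463, 19), (464, 36)]⟩,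
    ⟨1, [3, 4, 5, 6, 0, 1, 2, 3], 4, [(465, 68), (164, 51), (466, 161), (467, 131), (434, 121), (219, 109), (432, 42)]⟩,
    ⟨1, [3, 1, 2, 6, 1, 4, 0, 5], 4, [(212, 165), (468, 175), (469, 47), (470, 172), (471, 107), (472, 50), (473, 162)]⟩,
    ⟨1, [3, 4, 6, 3, 0, 2, 5], 4, [(474, 18), (43, 134), (475, 143), (42, 123), (117, 108), (16, 105), (442, 128)]⟩,
    ⟨1, [0, 3, 2, 5, 3, 6, 1, 4], 4, [(476, 165), (477, 50), (478, 142), (479, 51), (155, 140), (480, 147), (168, 10)]⟩,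
    ⟨1, [6, 2, 5, 4, 0, 3, 1, 5], 5, [(481, 93), (482, 80), (483, 147), (38, 154), (484, 63), (485, 19), (7, 43)]⟩]

def a2steps_3 : List (Step) :=
  [⟨1, [6, 1, 3, 4, 5, 0, 3, 2], 5, [(94, 87), (486, 75), (114, 106), (487, 15), (481, 166), (313, 36), (420, 33)]⟩,
    ⟨1, [1, 3, 6, 2, 4, 5, 1, 2], 5, [(488, 22), (489, 73), (372, 53), (271, 162), (326, 135), (473, 42), (490, 168)]⟩,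
    ⟨1, [5, 6, 4], 5, [(133, 71), (361, 43), (363, 92), (448, 150), (241, 165), (242, 176), (491, 111)]⟩,
    ⟨1, [6, 0, 1, 2, 3, 4, 5, 6], 3, [(492, 166), (493, 140), (494, 11), (495, 149), (277, 177), (496, 114), (497, 28)]⟩,
    ⟨1, [3, 5, 6, 4, 1, 2, 0], 4, [(498, 23), (499, 18), (500, 80), (501, 86), (502, 20), (503, 59), (504, 173)]⟩,
    ⟨1, [1, 6, 4, 0, 2, 2, 5, 1], 5, [(437, 178), (353, 104), (356, 38), (449, 179), (354, 53), (357, 43), (505, 3)]⟩,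
    ⟨1, [2, 1, 6, 5, 1, 3, 4, 0], 4, [(453, 108), (506, 73), (451, 168), (99, 140), (507, 144), (455, 10), (508, 37)]⟩,
    ⟨1, [1, 4, 6, 5, 3, 2, 2, 1, 0], 4, [(509, 96), (407, 29), (510, 178), (511, 180), (512, 141), (471, 153), (513, 102)]⟩,
    ⟨1, [2, 6, 0, 5, 1, 3, 4, 2], 5, [(514, 24), (147, 104), (515, 35), (516, 171), (517, 9), (518, 66), (388, 120)]⟩,
    ⟨1, [1, 0, 2, 6, 4, 3, 5, 1, 0], 5, [(144, 130), (519, 107), (520, 42), (521, 181), (428, 181), (522, 22), (337, 22)]⟩,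
    ⟨1, [6, 2, 3, 6, 2, 0, 1], 5, [(523, 178), (123, 74), (106, 118), (524, 128), (525, 12), (526, 170), (527, 3)]⟩,
    ⟨1, [6, 5, 2, 3, 4, 1, 2], 5, [(280, 129), (28, 58), (231, 23), (528, 182), (283, 29), (137, 120), (461, 106)]⟩,
    ⟨1, [5, 0, 1, 6, 3, 2, 4, 5, 0], 4, [(529, 60), (37, 2), (530, 8), (428, 71), (531, 123), (430, 47), (375, 168)]⟩,
    ⟨1, [4, 3, 6, 0, 2, 5, 0, 1], 4, [(532, 8), (286, 73), (533, 175), (534, 86), (535, 43), (536, 43), (537, 1)]⟩,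
    ⟨1, [6, 5, 0, 1, 3, 0, 2], 5, [(461, 79), (538, 80), (285, 160), (231, 154), (539, 77), (282, 27), (137, 36)]⟩,
    ⟨1, [6, 1, 5, 3, 0, 5, 4], 5, [(114, 49), (46, 96), (462, 21), (28, 153), (540, 90), (541, 136), (542, 10)]⟩,
    ⟨1, [3, 1, 5, 4, 3, 6, 0, 1, 2, 0, 0], 5, [(543, 38), (236, 129), (402, 104), (544, 131), (146, 15), (350, 1), (216, 65)]⟩,
    ⟨1, [2, 3, 4, 5, 6, 1, 1], 5, [(402, 80), (289, 12), (545, 103), (546, 10), (347, 157), (547, 29), (548, 37)]⟩,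
    ⟨1, [4, 5, 3, 1, 2, 3, 1, 0], 5, [(549, 88), (183, 47), (317, 34), (550, 66), (551, 117), (552, 124), (553, 53)]⟩,
    ⟨1, [3, 5, 5, 1, 0, 4, 2, 6, 0], 4, [(554, 94), (543, 145), (351, 107), (555, 121), (323, 83), (556, 105), (557, 127)]⟩,
    ⟨1, [5, 6, 1, 2, 4, 3, 6], 5, [(431, 106), (237, 145), (220, 78), (350, 163), (558, 7), (346, 52), (341, 141)]⟩,
    ⟨1, [2, 1, 3, 6, 5, 1, 0], 5, [(559, 2), (560, 62), (456, 105), (561, 40), (268, 11), (562, 130), (563, 104)]⟩,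
    ⟨1, [4, 5, 3, 0, 2, 6, 1, 3, 0], 5, [(521, 2), (564, 86), (565, 75), (566, 89), (567, 106), (568, 176), (260, 161)]⟩,
    ⟨1, [3, 4, 1, 0, 6, 5, 2], 4, [(569, 151), (469, 12), (570, 156), (457, 121), (571, 13), (572, 170), (488, 99)]⟩,
    ⟨1, [6, 2, 3, 6, 2, 0, 1], 4, [(412, 43), (573, 183), (176, 104), (24, 110), (574, 110), (194, 86), (575, 35)]⟩]

def a2steps_4 : List (Step) :=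
  [⟨1, [3, 1, 5, 4, 0, 1, 2, 0, 0], 5, [(222, 90), (0, 129), (576, 62), (577, 115), (553, 101), (127, 13), (578, 89)]⟩,
    ⟨1, [4, 3, 1, 6, 2, 5, 0, 4], 4, [(579, 167), (580, 122), (581, 66), (23, 52), (582, 182), (583, 168), (584, 164)]⟩,
    ⟨1, [3, 4, 1, 0, 6, 5, 2, 0], 4, [(585, 43), (586, 66), (210, 56), (587, 121), (264, 37), (588, 95), (472, 60)]⟩,
    ⟨1, [1, 2, 5, 6, 2, 3, 4, 1], 5, [(589, 84), (590, 153), (525, 120), (591, 63), (592, 11), (593, 100), (195, 160)]⟩,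
    ⟨1, [1, 1, 5, 0, 6, 4, 2], 4, [(594, 167), (595, 130), (596, 111), (156, 95), (597, 80), (460, 145), (598, 184)]⟩,
    ⟨1, [4, 2, 1, 6, 5, 3, 2], 5, [(599, 56), (600, 135), (525, 103), (601, 44), (602, 69), (195, 151), (593, 152)]⟩,
    ⟨1, [6, 2, 3, 6, 4, 1, 5], 5, [(527, 88), (603, 70), (593, 158), (604, 127), (605, 153), (606, 126), (382, 180)]⟩,
    ⟨1, [0, 5, 6, 2, 1, 4, 5, 1], 4, [(565, 39), (607, 106), (608, 182), (609, 30), (338, 113), (610, 106), (520, 52)]⟩,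
    ⟨1, [5, 3, 6, 2, 5, 0, 4, 1], 5, [(364, 88), (478, 176), (479, 185), (611, 142), (155, 149), (480, 23), (205, 29)]⟩,
    ⟨1, [1, 3, 3, 6, 0, 4, 2, 5, 0], 5, [(442, 84), (612, 60), (39, 65), (440, 75), (613, 132), (55, 67), (614, 68)]⟩,
    ⟨1, [5, 6, 4, 4], 4, [(615, 87), (150, 58), (421, 2), (424, 4), (363, 60), (389, 83), (423, 106)]⟩,
    ⟨1, [4, 1, 2, 5, 0, 6, 3, 2], 4, [(184, 77), (616, 180), (72, 80), (365, 129), (186, 41), (597, 159), (188, 45)]⟩,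
    ⟨1, [4, 0, 5, 1, 6, 2, 3, 3], 4, [(197, 42), (617, 135), (202, 15), (618, 62), (619, 140), (199, 177), (206, 150)]⟩,
    ⟨1, [0, 6, 3, 5, 6, 4, 1, 2], 5, [(42, 100), (620, 86), (117, 76), (492, 128), (475, 12), (621, 65), (16, 111)]⟩,
    ⟨1, [3, 6, 1, 2, 6, 5, 0, 1], 4, [(9, 27), (32, 127), (622, 69), (623, 112), (559, 2), (624, 113), (54, 124)]⟩,
    ⟨1, [2, 6, 5, 3, 1, 2, 0], 5, [(625, 150), (626, 148), (133, 48), (21, 30), (627, 31), (151, 112), (103, 185)]⟩,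
    ⟨1, [2, 6, 5, 0, 3, 1, 4, 2, 3], 4, [(628, 8), (421, 57), (629, 45), (630, 142), (631, 117), (386, 9), (505, 84)]⟩,
    ⟨1, [3, 4, 6, 0, 2, 5, 4, 1], 4, [(632, 42), (39, 41), (113, 2), (633, 132), (634, 24), (635, 49), (636, 44)]⟩,
    ⟨1, [2, 4, 0, 6, 1, 3, 3], 5, [(216, 121), (637, 145), (638, 103), (125, 7), (544, 17), (543, 67), (321, 62)]⟩,
    ⟨1, [5, 6, 3, 1, 4, 0, 2, 5], 4, [(639, 26), (450, 23), (640, 88), (242, 86), (153, 4), (33, 5), (436, 108)]⟩,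
    ⟨1, [2, 0, 0, 4, 3, 6, 5, 1], 5, [(641, 56), (431, 100), (349, 62), (350, 125), (347, 108), (341, 131), (642, 133)]⟩,
    ⟨1, [0, 6, 1, 3, 2, 4, 0, 5], 5, [(361, 11), (643, 126), (644, 74), (626, 127), (517, 53), (261, 33), (645, 71)]⟩,
    ⟨1, [1, 0, 6, 5, 2, 1, 4, 3, 0], 4, [(587, 106), (646, 44), (647, 2), (405, 68), (571, 9), (488, 147), (572, 103)]⟩,
    ⟨1, [3, 0, 6, 2, 5, 1, 4, 5, 1], 4, [(113, 63), (634, 38), (497, 153), (648, 68), (15, 46), (51, 58), (39, 181)]⟩,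
    ⟨1, [3, 4, 1, 2, 6, 0, 4, 5], 5, [(649, 186), (268, 50), (585, 160), (562, 56), (650, 36), (559, 54), (651, 3)]⟩]

def a2steps_5 : List (Step) :=
  [⟨1, [5, 6, 0, 1, 3, 5, 2], 4, [(4, 94), (135, 175), (630, 15), (652, 9), (389, 31), (645, 35), (362, 1)]⟩,
    ⟨1, [0, 1, 6, 2, 3, 4, 5, 3, 1], 5, [(25, 178), (244, 104), (375, 155), (653, 168), (249, 166), (376, 43), (247, 105)]⟩,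
    ⟨1, [1, 5, 6, 3, 5, 2, 0, 1], 5, [(654, 0), (588, 9), (585, 142), (18, 24), (264, 56), (586, 164), (273, 140)]⟩,
    ⟨1, [6, 0, 1, 2, 3, 4, 5, 6, 0], 4, [(238, 6), (655, 44), (547, 65), (656, 121), (657, 71), (160, 62), (658, 57)]⟩,
    ⟨1, [4, 2, 0, 3, 5, 6, 1, 2], 4, [(659, 61), (55, 69), (660, 100), (633, 96), (581, 133), (292, 115), (661, 63)]⟩,
    ⟨1, [2, 4, 6, 3, 0, 5, 1, 0], 5, [(662, 153), (663, 80), (173, 174), (178, 154), (176, 77), (409, 19), (105, 36)]⟩,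
    ⟨1, [4, 5, 0, 1, 3, 0, 6, 2], 4, [(635, 130), (22, 7), (294, 123), (276, 184), (580, 172), (291, 24), (292, 41)]⟩,
    ⟨1, [1, 3, 0, 2, 6, 1, 5], 4, [(664, 108), (248, 171), (607, 41), (338, 21), (427, 31), (665, 115), (608, 103)]⟩,
    ⟨1, [0, 2, 6, 4, 2, 2], 5, [(522, 49), (666, 96), (667, 129), (668, 153), (337, 81), (520, 136), (669, 10)]⟩,
    ⟨1, [4, 1, 6, 4, 3, 0, 5, 2], 5, [(435, 185), (164, 5), (432, 67), (433, 28), (466, 138), (219, 103), (657, 115)]⟩,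
    ⟨1, [4, 5, 1, 3, 0, 6, 3, 2], 4, [(440, 93), (614, 165), (441, 156), (495, 162), (612, 156), (39, 44), (138, 87)]⟩,
    ⟨1, [2, 4, 1, 6, 5, 3, 3], 5, [(670, 83), (671, 129), (342, 167), (536, 79), (672, 101), (673, 15), (674, 89)]⟩,
    ⟨1, [5, 6, 4, 3, 2, 1, 6], 5, [(176, 0), (24, 19), (526, 142), (574, 24), (194, 56), (525, 164), (523, 92)]⟩,
    ⟨1, [4, 1, 3, 0, 6, 3, 2, 5], 4, [(675, 17), (648, 28), (676, 159), (495, 147), (677, 67), (678, 156), (278, 45)]⟩,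
    ⟨1, [2, 1, 0, 4, 3, 6, 5, 1, 0], 5, [(115, 85), (235, 114), (237, 46), (289, 89), (679, 106), (680, 71), (288, 138)]⟩,
    ⟨1, [0, 6, 2, 5, 1, 4, 4], 4, [(92, 142), (630, 143), (681, 145), (362, 98), (518, 67), (652, 158), (56, 110)]⟩,
    ⟨1, [6, 2, 1, 4, 0, 5, 3, 6, 0], 4, [(479, 47), (611, 86), (477, 155), (682, 98), (364, 83), (480, 35), (683, 9)]⟩,
    ⟨1, [5, 0, 4, 3, 2, 1, 6], 5, [(413, 57), (175, 58), (684, 106), (685, 171), (97, 166), (604, 172), (130, 124)]⟩,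
    ⟨1, [5, 6, 0, 4], 3, [(137, 53), (331, 157), (49, 161), (686, 9), (464, 167), (687, 34), (228, 120)]⟩,
    ⟨1, [1, 2, 5, 3, 6, 0, 2, 4], 5, [(688, 93), (392, 80), (157, 182), (71, 114), (689, 63), (690, 19), (170, 43)]⟩,
    ⟨1, [6, 3, 5, 2, 4, 1, 3, 0], 4, [(462, 0), (541, 12), (687, 85), (691, 61), (540, 0), (46, 179), (332, 0)]⟩,
    ⟨1, [6, 5, 1, 0, 2, 4, 3, 1, 1], 5, [(284, 187), (46, 132), (692, 29), (30, 188), (333, 174), (693, 123), (306, 39)]⟩,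
    ⟨1, [2, 1, 4, 3, 6, 5, 1], 5, [(679, 165), (694, 140), (216, 170), (534, 105), (695, 67), (218, 158), (217, 89)]⟩,
    ⟨1, [0, 2, 5, 1, 3, 6, 4, 0], 5, [(696, 14), (404, 123), (214, 14), (210, 27), (212, 63), (512, 112), (490, 95)]⟩,
    ⟨1, [0, 5, 6, 2, 3, 1, 4, 0], 4, [(697, 74), (698, 8), (244, 93), (259, 145), (699, 127), (607, 157), (700, 7)]⟩]

def a2steps_6 : List (Step) :=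
  [⟨1, [2, 2, 6, 0, 3, 1, 2], 4, [(99, 3), (701, 165), (702, 104), (105, 162), (41, 75), (703, 8), (592, 35)]⟩,
    ⟨1, [2, 5, 6, 1, 2, 4, 1, 1, 0], 4, [(605, 165), (704, 88), (705, 180), (382, 4), (662, 24), (527, 104), (593, 78)]⟩,
    ⟨1, [2, 0, 5, 2, 6, 1, 3], 5, [(303, 183), (158, 64), (74, 110), (302, 70), (157, 47), (188, 101), (64, 148)]⟩,
    ⟨1, [6, 2, 5, 3, 0, 5, 4], 4, [(706, 23), (707, 103), (309, 13), (6, 86), (134, 112), (232, 59), (693, 89)]⟩,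
    ⟨1, [3, 4, 1, 0, 6, 5, 2, 1], 5, [(213, 43), (269, 44), (571, 175), (325, 43), (96, 0), (708, 43), (588, 18)]⟩,
    ⟨1, [4, 1, 5, 0, 6, 3, 1, 2], 5, [(187, 82), (683, 123), (709, 14), (72, 57), (597, 143), (365, 112), (186, 133)]⟩,
    ⟨1, [4, 3, 1, 6, 0, 5, 2, 4], 5, [(710, 163), (276, 174), (612, 188), (278, 183), (660, 53), (279, 185), (711, 128)]⟩,
    ⟨1, [4, 1, 3, 6, 5, 2, 0, 3], 4, [(31, 115), (104, 146), (470, 62), (12, 24), (54, 34), (562, 158), (712, 88)]⟩,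
    ⟨1, [3, 2, 6, 5, 2, 1, 4, 0], 4, [(294, 102), (659, 53), (713, 135), (714, 127), (715, 2), (138, 46), (124, 66)]⟩,
    ⟨1, [5, 6, 4, 0, 2, 3], 4, [(426, 157), (390, 124), (514, 8), (716, 137), (436, 33), (152, 35), (56, 60)]⟩,
    ⟨1, [2, 3, 6, 2, 5, 0, 1], 5, [(601, 163), (35, 159), (717, 42), (24, 41), (718, 130), (684, 22), (719, 170)]⟩,
    ⟨1, [4, 3, 5, 6, 4, 1, 0, 2, 1], 4, [(621, 42), (494, 27), (294, 125), (715, 42), (502, 103), (720, 13), (714, 59)]⟩,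
    ⟨1, [1, 4, 2, 5, 3, 6, 4, 0], 5, [(721, 170), (198, 10), (722, 105), (723, 97), (724, 106), (345, 170), (116, 65)]⟩,
    ⟨1, [0, 2, 2, 4, 1], 5, [(127, 68), (725, 50), (726, 7), (299, 83), (81, 99), (551, 173), (727, 107)]⟩,
    ⟨1, [5, 6, 3, 4, 1, 2], 4, [(728, 0), (627, 53), (21, 43), (390, 84), (729, 129), (151, 174), (103, 47)]⟩,
    ⟨1, [6, 1, 3, 4, 5, 0, 3, 2], 4, [(730, 80), (731, 87), (308, 16), (732, 44), (707, 145), (733, 185), (30, 62)]⟩,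
    ⟨1, [1, 3, 0, 2, 6, 1, 5], 5, [(520, 81), (359, 157), (565, 67), (734, 0), (609, 61), (735, 62), (610, 115)]⟩,
    ⟨1, [4, 2, 5, 1, 4, 6, 1, 0], 5, [(736, 8), (149, 9), (569, 89), (104, 6), (31, 11), (54, 130), (562, 104)]⟩,
    ⟨1, [0, 4, 3, 2, 1, 6], 4, [(525, 38), (590, 13), (593, 47), (592, 146), (602, 107), (174, 83), (599, 136)]⟩,
    ⟨1, [4, 1, 3, 2, 0, 5, 1], 5, [(737, 127), (182, 66), (180, 0), (132, 159), (738, 68), (370, 166), (181, 101)]⟩,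
    ⟨1, [3, 5, 4, 6, 3, 1, 2, 0], 4, [(724, 67), (344, 13), (393, 148), (71, 44), (596, 48), (460, 171), (594, 52)]⟩,
    ⟨1, [2, 0, 4, 3, 1, 0, 5], 4, [(551, 188), (549, 56), (739, 57), (78, 112), (183, 53), (550, 47), (740, 43)]⟩,
    ⟨1, [2, 4, 0, 6, 1, 0, 3], 5, [(286, 181), (238, 112), (679, 93), (236, 30), (741, 31), (237, 69), (289, 52)]⟩,
    ⟨1, [4, 5, 2, 2, 6, 1, 3, 0], 4, [(573, 87), (599, 12), (35, 135), (742, 86), (452, 135), (192, 46), (743, 151)]⟩,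
    ⟨1, [0, 6, 1, 5, 4, 3, 2, 0], 4, [(744, 100), (745, 170), (746, 132), (516, 149), (262, 65), (644, 189), (747, 4)]⟩]

def a2steps_7 : List (Step) :=
  [⟨1, [2, 3, 6, 5, 1, 4], 5, [(527, 121), (705, 153), (19, 103), (662, 7), (382, 27), (604, 17), (411, 148)]⟩,
    ⟨1, [3, 2, 6, 5, 0, 1, 4, 0, 0], 4, [(715, 162), (111, 141), (15, 34), (497, 28), (636, 114), (635, 140), (634, 127)]⟩,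
    ⟨1, [3, 5, 0, 2, 4, 6, 1, 3], 5, [(605, 63), (382, 2), (603, 85), (411, 9), (748, 29), (705, 190), (704, 173)]⟩,
    ⟨1, [6, 5, 3, 4, 2, 0, 1, 6, 0], 5, [(430, 68), (3, 50), (530, 7), (48, 56), (428, 36), (749, 54), (531, 75)]⟩,
    ⟨1, [3, 4, 5, 0, 4, 6], 5, [(3, 106), (522, 38), (750, 78), (734, 82), (360, 83), (374, 84), (751, 50)]⟩,
    ⟨1, [0, 1, 2, 0, 0], 4, [(752, 140), (396, 76), (399, 140), (753, 37), (182, 37), (222, 67), (398, 38)]⟩,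
    ⟨1, [3, 6, 6, 2, 0, 5, 4, 1, 0], 4, [(754, 76), (755, 24), (579, 2), (756, 181), (678, 26), (757, 103), (758, 130)]⟩,
    ⟨1, [3, 2, 1, 0, 6, 5, 2], 5, [(328, 84), (654, 45), (270, 89), (759, 186), (325, 104), (330, 167), (12, 146)]⟩,
    ⟨1, [4, 3, 3, 6, 0, 2, 1, 5], 5, [(714, 16), (494, 53), (138, 71), (294, 127), (720, 177), (124, 45), (760, 36)]⟩,
    ⟨1, [4, 5, 1, 3, 6, 2, 5, 1, 0], 4, [(736, 141), (473, 56), (271, 65), (761, 141), (560, 5), (372, 49), (488, 175)]⟩,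
    ⟨1, [6, 1, 0, 5, 2, 0, 4], 5, [(762, 9), (38, 4), (763, 10), (7, 58), (764, 56), (481, 8), (765, 144)]⟩,
    ⟨1, [6, 2, 5, 3, 0, 1, 4, 5], 4, [(304, 168), (230, 183), (766, 148), (6, 110), (767, 29), (730, 15), (768, 24)]⟩,
    ⟨1, [4, 6, 2, 1, 0, 5, 3, 4, 0], 5, [(747, 86), (745, 91), (126, 152), (516, 146), (262, 115), (631, 27), (387, 32)]⟩,
    ⟨1, [6, 3, 5, 1, 2, 6, 4, 0, 1], 5, [(769, 127), (770, 34), (458, 161), (511, 118), (510, 186), (512, 166), (471, 54)]⟩,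
    ⟨1, [3, 0, 5, 6, 0, 4], 4, [(260, 90), (529, 13), (771, 74), (255, 44), (145, 48), (259, 108), (256, 136)]⟩,
    ⟨1, [2, 4, 3, 6, 0, 1, 1], 5, [(772, 153), (773, 108), (217, 103), (348, 109), (774, 17), (403, 19), (775, 31)]⟩,
    ⟨1, [1, 6, 4, 0, 5, 2, 3, 1], 5, [(776, 134), (439, 80), (777, 160), (778, 28), (640, 77), (357, 19), (744, 36)]⟩,
    ⟨1, [0, 4, 6, 3, 2, 5, 4, 2], 4, [(779, 167), (780, 117), (27, 45), (256, 168), (781, 142), (782, 135), (378, 95)]⟩,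
    ⟨1, [3, 0, 2, 6, 5, 3, 1], 5, [(244, 110), (700, 144), (783, 4), (784, 30), (785, 131), (697, 112), (699, 113)]⟩,
    ⟨1, [1, 4, 5, 1, 2, 3, 6, 0], 4, [(454, 1), (506, 12), (123, 93), (455, 71), (411, 20), (99, 0), (786, 190)]⟩,
    ⟨1, [5, 2, 3, 1, 4, 5, 6, 0, 1], 4, [(554, 165), (548, 99), (787, 116), (672, 7), (788, 24), (532, 104), (642, 82)]⟩,
    ⟨1, [5, 1, 3, 4, 1, 2, 0, 1], 5, [(727, 35), (789, 60), (110, 23), (127, 182), (250, 92), (445, 81), (299, 76)]⟩,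
    ⟨1, [4, 3, 5, 2, 4, 1, 0, 6], 5, [(790, 9), (560, 29), (649, 83), (696, 74), (456, 37), (650, 95), (559, 141)]⟩,
    ⟨1, [5, 6, 3, 4, 2, 2], 5, [(135, 170), (4, 138), (729, 159), (630, 115), (652, 106), (56, 11), (681, 65)]⟩,
    ⟨1, [2, 6, 4, 1, 0, 5, 6, 3], 4, [(771, 161), (256, 27), (257, 149), (336, 175), (381, 40), (258, 57), (255, 136)]⟩]

def a2steps_8 : List (Step) :=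
  [⟨1, [5, 5, 6, 0, 5, 4], 4, [(791, 11), (166, 170), (61, 88), (70, 7), (65, 4), (199, 6), (122, 36)]⟩,
    ⟨1, [1, 5, 6, 2, 5, 4, 0, 1], 5, [(570, 76), (456, 119), (585, 77), (650, 134), (562, 81), (790, 10), (563, 184)]⟩,
    ⟨1, [3, 5, 2, 1, 4, 2, 1, 0], 5, [(252, 164), (792, 129), (793, 51), (794, 76), (795, 94), (796, 76), (90, 95)]⟩,
    ⟨1, [1, 2, 3, 5, 0, 4, 4, 0], 5, [(797, 44), (91, 76), (726, 21), (792, 15), (798, 56), (799, 8), (118, 185)]⟩,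
    ⟨1, [3, 0, 4, 1, 5, 2, 6, 3], 4, [(302, 0), (343, 76), (112, 0), (73, 121), (200, 140), (394, 115), (479, 0)]⟩,
    ⟨1, [5, 1, 1, 4, 0, 1], 4, [(726, 26), (223, 115), (549, 88), (118, 96), (737, 4), (792, 45), (91, 34)]⟩,
    ⟨1, [3, 4, 2, 5, 1, 0, 6, 3, 0], 4, [(800, 90), (96, 13), (470, 31), (469, 146), (142, 181), (649, 83), (473, 52)]⟩,
    ⟨1, [4, 0, 3, 5, 6, 2, 2], 4, [(675, 94), (801, 149), (494, 8), (758, 26), (802, 82), (441, 10), (636, 53)]⟩,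
    ⟨1, [5, 0, 2, 3, 6, 4, 2, 1, 1], 5, [(412, 127), (803, 123), (703, 0), (685, 119), (177, 41), (506, 166), (383, 54)]⟩,
    ⟨1, [3, 5, 6, 1, 2, 4, 5, 0], 4, [(16, 47), (111, 58), (493, 2), (804, 71), (499, 188), (500, 0), (502, 54)]⟩,
    ⟨1, [1, 6, 4, 2, 0, 3, 5, 1, 0], 4, [(805, 48), (806, 11), (644, 139), (517, 58), (645, 6), (361, 104), (423, 81)]⟩,
    ⟨1, [4, 5, 0, 2, 6, 1, 3], 4, [(530, 0), (260, 23), (564, 56), (807, 121), (808, 37), (521, 52), (568, 60)]⟩,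
    ⟨1, [1, 3, 2, 4, 3, 5, 0, 6], 4, [(392, 170), (71, 0), (809, 156), (723, 0), (689, 170), (688, 170), (810, 99)]⟩,
    ⟨1, [3, 1, 4, 6, 5, 1, 0], 5, [(559, 100), (9, 86), (330, 133), (811, 17), (141, 94), (624, 102), (32, 111)]⟩,
    ⟨1, [6, 2, 5, 3, 0, 1, 4, 5], 5, [(36, 178), (280, 104), (812, 38), (813, 78), (814, 130), (463, 43), (49, 3)]⟩,
    ⟨1, [2, 4, 6, 1, 3, 5, 0, 2], 4, [(97, 76), (26, 24), (413, 2), (815, 61), (684, 11), (816, 56), (130, 149)]⟩,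
    ⟨1, [1, 4, 0, 5, 4, 6, 2, 0], 5, [(460, 153), (156, 50), (71, 67), (393, 14), (611, 102), (596, 120), (597, 36)]⟩,
    ⟨1, [0, 4, 5, 2, 3, 1, 1, 6], 4, [(649, 171), (817, 15), (468, 2), (470, 16), (800, 140), (328, 46), (472, 172)]⟩,
    ⟨1, [0, 4, 1, 6, 5, 3, 3], 5, [(402, 153), (818, 61), (638, 100), (236, 80), (401, 161), (321, 159), (543, 87)]⟩,
    ⟨1, [4, 5, 1, 2, 5, 6, 0, 3], 5, [(26, 167), (574, 12), (40, 103), (592, 12), (701, 135), (703, 29), (702, 86)]⟩,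
    ⟨1, [2, 4, 1, 0, 3, 1, 5], 5, [(400, 75), (223, 80), (118, 115), (91, 67), (798, 168), (121, 30), (737, 113)]⟩,
    ⟨1, [1, 2, 5, 6, 2, 4, 3, 1, 0], 4, [(589, 53), (701, 2), (196, 112), (815, 86), (575, 122), (819, 103), (453, 48)]⟩,
    ⟨1, [5, 6, 0, 0, 4, 3, 2, 1, 0], 4, [(820, 106), (629, 44), (386, 2), (821, 178), (628, 140), (515, 147), (822, 103)]⟩,
    ⟨1, [5, 0, 3, 3, 0], 4, [(795, 83), (224, 132), (397, 103), (299, 157), (296, 146), (83, 18), (301, 42)]⟩,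
    ⟨1, [4, 6, 1, 0, 5, 4, 2], 4, [(386, 83), (615, 68), (776, 172), (744, 17), (357, 152), (439, 3), (135, 92)]⟩]

def a2steps_9 : List (Step) :=
  [⟨1, [6, 0, 4, 1, 5, 2, 3, 6], 3, [(532, 115), (546, 47), (823, 166), (694, 53), (741, 106), (146, 142), (348, 90)]⟩,
    ⟨1, [3, 6, 1, 4, 0, 2, 5, 3, 0], 4, [(92, 83), (516, 68), (631, 103), (746, 157), (824, 160), (747, 3), (126, 124)]⟩,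
    ⟨1, [2, 6, 5, 0, 1, 4, 6, 3], 5, [(825, 88), (50, 124), (149, 55), (140, 188), (264, 35), (266, 152), (17, 37)]⟩,
    ⟨1, [1, 6, 4, 0, 2, 5, 1, 3], 5, [(628, 46), (629, 73), (14, 36), (822, 66), (821, 27), (630, 29), (421, 68)]⟩,
    ⟨1, [3, 3, 6, 4, 5, 1, 2, 0], 5, [(292, 9), (293, 4), (294, 73), (826, 58), (635, 165), (754, 8), (580, 175)]⟩,
    ⟨1, [5, 3, 6, 2, 5, 1, 4, 0], 4, [(827, 87), (303, 27), (76, 15), (709, 77), (618, 143), (102, 9), (169, 162)]⟩,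
    ⟨1, [1, 1, 5, 0, 6, 2, 4, 0], 5, [(202, 127), (619, 66), (198, 0), (618, 159), (199, 68), (365, 166), (203, 150)]⟩,
    ⟨1, [3, 0, 4, 1, 5, 2, 6, 3, 0], 4, [(70, 6), (595, 71), (166, 140), (109, 35), (722, 135), (199, 140), (828, 35)]⟩,
    ⟨1, [6, 2, 5, 3, 0, 5, 4], 5, [(687, 103), (129, 76), (282, 115), (829, 24), (830, 90), (417, 72), (485, 185)]⟩,
    ⟨1, [1, 3, 4, 6, 1, 5, 0, 2], 4, [(648, 175), (715, 29), (279, 163), (497, 33), (39, 141), (636, 184), (632, 102)]⟩,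
    ⟨1, [3, 1, 2, 6, 5, 2, 4, 0], 4, [(585, 158), (210, 23), (93, 88), (273, 86), (769, 4), (18, 5), (588, 189)]⟩,
    ⟨1, [6, 5, 1, 4, 3, 2, 2, 1, 0], 4, [(306, 180), (831, 132), (482, 103), (692, 157), (57, 146), (46, 3), (30, 124)]⟩,
    ⟨1, [6, 0, 2, 3, 1, 4, 5, 6, 1], 3, [(31, 152), (649, 102), (330, 77), (271, 39), (571, 50), (209, 64), (586, 53)]⟩,
    ⟨1, [0, 3, 2, 5, 6, 3, 1, 1], 5, [(816, 137), (175, 7), (815, 81), (97, 45), (193, 42), (130, 33), (600, 57)]⟩,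
    ⟨1, [4, 3, 2, 1, 6], 4, [(452, 38), (382, 175), (742, 47), (384, 146), (383, 107), (573, 189), (10, 162)]⟩,
    ⟨1, [0, 4, 6, 3, 4], 5, [(664, 8), (338, 114), (565, 72), (248, 1), (607, 11), (610, 73), (735, 104)]⟩,
    ⟨1, [2, 3, 6, 1, 1, 5, 0, 4], 5, [(832, 121), (701, 69), (105, 115), (40, 14), (41, 175), (592, 56), (833, 43)]⟩,
    ⟨1, [3, 2, 6, 5, 2, 1, 4], 5, [(755, 167), (834, 12), (835, 0), (714, 10), (661, 41), (15, 29), (582, 103)]⟩,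
    ⟨1, [1, 1, 6, 0, 4, 2, 5], 3, [(544, 10), (557, 127), (432, 16), (161, 91), (346, 76), (217, 70), (238, 29)]⟩,
    ⟨1, [1, 2, 0, 3, 6, 5, 4, 4, 2, 0], 4, [(836, 123), (59, 43), (360, 36), (145, 117), (131, 152), (359, 145), (246, 74)]⟩,
    ⟨1, [2, 0, 6, 3, 4, 1, 2], 4, [(191, 65), (413, 57), (526, 1), (837, 142), (838, 36), (839, 175), (173, 84)]⟩,
    ⟨1, [5, 0, 4, 3, 0], 5, [(725, 88), (840, 106), (132, 110), (841, 54), (368, 153), (301, 38), (225, 161)]⟩,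
    ⟨1, [0, 3, 4, 6, 3, 5, 2, 0], 5, [(842, 153), (495, 108), (278, 51), (677, 173), (843, 173), (620, 27), (648, 32)]⟩,
    ⟨1, [0, 5, 2, 1, 1, 4, 3, 6], 5, [(533, 14), (537, 154), (656, 16), (536, 17), (286, 115), (844, 125), (322, 32)]⟩,
    ⟨1, [4, 2, 5, 6, 4, 0, 1], 5, [(605, 2), (845, 62), (702, 105), (173, 145), (413, 11), (837, 36), (838, 104)]⟩]

def a2steps_10 : List (Step) :=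
  [⟨1, [2, 3, 6, 0, 1, 4, 5, 1], 5, [(705, 152), (703, 10), (105, 105), (41, 115), (40, 173), (410, 3), (702, 3)]⟩,
    ⟨1, [3, 2, 5, 6, 3, 1, 0, 4], 5, [(34, 88), (195, 124), (846, 116), (60, 188), (194, 35), (833, 152), (190, 37)]⟩,
    ⟨1, [4, 5, 3, 0, 2, 6, 1, 3], 5, [(247, 37), (665, 140), (47, 3), (807, 105), (847, 132), (37, 98), (698, 187)]⟩,
    ⟨1, [4, 0, 1, 6, 5, 0, 2], 5, [(785, 113), (145, 103), (59, 34), (246, 123), (5, 153), (848, 126), (131, 180)]⟩,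
    ⟨1, [0, 6, 2, 1, 4, 3, 6, 5], 4, [(695, 42), (670, 53), (218, 156), (221, 127), (216, 170), (219, 170), (694, 99)]⟩,
    ⟨1, [5, 0, 2, 6, 4, 1, 3, 2, 1], 4, [(836, 142), (98, 143), (429, 145), (849, 118), (608, 25), (779, 113), (669, 58)]⟩,
    ⟨1, [4, 3, 0, 2, 1, 5, 2], 4, [(366, 164), (551, 57), (727, 31), (789, 30), (250, 112), (127, 101), (725, 89)]⟩,
    ⟨1, [6, 1, 0, 5, 2, 4, 0], 5, [(850, 106), (311, 136), (829, 9), (228, 178), (764, 41), (851, 97), (852, 102)]⟩,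
    ⟨1, [6, 0, 4, 1, 5, 2, 3, 3], 5, [(829, 58), (334, 153), (281, 125), (487, 74), (851, 87), (852, 185), (540, 74)]⟩,
    ⟨1, [5, 0, 4, 1, 3, 6, 2, 5], 3, [(552, 120), (84, 162), (400, 37), (727, 120), (300, 38), (369, 161), (853, 65)]⟩,
    ⟨1, [3, 5, 6, 4, 5, 1, 2, 0], 5, [(583, 163), (801, 7), (675, 188), (13, 183), (441, 180), (802, 25), (854, 128)]⟩,
    ⟨1, [1, 3, 0, 4, 5, 1, 2], 3, [(783, 10), (669, 35), (376, 68), (148, 95), (609, 164), (3, 91), (847, 74)]⟩,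
    ⟨1, [2, 3, 6, 1, 1, 5, 0], 5, [(600, 138), (684, 58), (26, 115), (685, 15), (816, 133), (97, 36), (523, 95)]⟩,
    ⟨1, [6, 5, 1, 4, 2, 3, 4, 1], 5, [(766, 154), (304, 112), (49, 93), (36, 30), (813, 131), (768, 106), (767, 106)]⟩,
    ⟨1, [6, 3, 4, 2, 5, 6, 1], 5, [(384, 95), (602, 128), (819, 80), (524, 57), (837, 143), (855, 58), (816, 155)]⟩,
    ⟨1, [2, 4, 0, 0, 5], 4, [(82, 78), (85, 134), (78, 82), (91, 191), (90, 108), (81, 183), (86, 128)]⟩,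
    ⟨1, [0, 2, 2, 3, 1, 5], 4, [(856, 19), (857, 108), (858, 55), (80, 49), (859, 170), (399, 49), (860, 113)]⟩,
    ⟨1, [4, 2, 5, 6, 0, 2, 1, 0], 4, [(703, 177), (705, 7), (41, 15), (40, 44), (833, 105), (592, 147), (26, 145)]⟩,
    ⟨1, [4, 1, 3, 0, 2, 6, 1, 5], 5, [(749, 63), (781, 157), (335, 0), (376, 49), (8, 29), (861, 103), (848, 173)]⟩,
    ⟨1, [5, 2, 3, 6, 1, 2], 4, [(862, 49), (60, 50), (24, 157), (718, 168), (35, 114), (601, 25), (786, 52)]⟩,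
    ⟨1, [6, 3, 5, 2, 4, 0, 3, 1], 5, [(850, 70), (539, 8), (310, 170), (307, 115), (229, 0), (733, 70), (863, 136)]⟩,
    ⟨1, [2, 6, 1, 0, 4, 2], 4, [(640, 77), (33, 16), (21, 148), (864, 109), (45, 23), (806, 113), (639, 58)]⟩,
    ⟨1, [0, 1, 6, 2, 3, 1], 5, [(865, 93), (847, 70), (866, 182), (27, 154), (47, 103), (377, 19), (807, 43)]⟩,
    ⟨1, [0, 3, 6, 5, 1, 0, 0], 2, [(842, 120), (843, 101), (493, 137), (276, 105), (498, 125), (826, 38), (278, 1), (295, 89), (711, 126), (274, 52)]⟩,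
    ⟨1, [1, 3, 4, 6, 3, 2, 5], 2, [(354, 12), (437, 46), (29, 136), (239, 146), (716, 61), (867, 100), (356, 79), (241, 95), (44, 40), (58, 157)]⟩]

def a2steps_11 : List (Step) :=
  [⟨1, [4, 5, 0, 2, 3, 1, 0], 2, [(644, 4), (626, 25), (729, 15), (868, 140), (869, 41), (92, 136), (805, 137), (645, 16), (353, 46), (387, 37)]⟩,
    ⟨1, [2, 5, 6, 0, 4, 2, 3], 2, [(777, 101), (870, 176), (626, 35), (103, 40), (643, 36), (776, 54), (871, 170), (625, 155), (517, 35), (778, 191)]⟩,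
    ⟨1, [1, 2, 4, 5, 0, 6, 3], 2, [(106, 121), (194, 37), (20, 135), (872, 71), (34, 70), (508, 62), (524, 89), (123, 13), (846, 106), (414, 84)]⟩,
    ⟨1, [1, 2, 3, 5, 6], 2, [(574, 35), (701, 186), (815, 165), (684, 58), (575, 54), (523, 135), (410, 29), (26, 37), (717, 0), (24, 76)]⟩,
    ⟨1, [5, 4, 2, 0, 6, 3, 1, 2, 0], 2, [(691, 172), (873, 167), (874, 130), (312, 154), (875, 184), (331, 104), (462, 68), (332, 96), (310, 7), (314, 110)]⟩,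
    ⟨1, [2, 5, 0, 3, 4, 0, 0], 2, [(362, 18), (92, 7), (631, 183), (421, 31), (126, 188), (822, 7), (389, 136), (630, 17), (745, 20), (363, 123)]⟩,
    ⟨1, [3, 0, 5, 2, 4, 1, 6, 3, 4], 2, [(100, 87), (441, 26), (636, 142), (648, 176), (854, 31), (113, 26), (495, 109), (39, 140), (675, 123), (842, 1)]⟩,
    ⟨1, [6, 0, 3, 2, 1, 4, 5, 1], 2, [(588, 189), (140, 96), (825, 137), (646, 105), (264, 125), (587, 38), (325, 124), (571, 80), (759, 178), (654, 152)]⟩,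
    ⟨1, [3, 0, 6, 1, 4, 0, 5], 2, [(557, 128), (844, 31), (322, 76), (321, 157), (537, 111), (159, 158), (543, 191), (323, 36), (637, 183), (818, 110)]⟩,
    ⟨1, [4, 5, 3, 2, 2, 1, 0], 2, [(640, 153), (777, 38), (58, 0), (354, 117), (639, 38), (45, 11), (357, 93), (876, 65), (356, 151), (450, 124)]⟩,
    ⟨1, [5, 1, 0, 2, 3, 6, 4, 1, 0], 2, [(233, 28), (312, 164), (763, 187), (764, 163), (227, 126), (762, 164), (311, 42), (483, 120), (334, 68), (228, 12)]⟩,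
    ⟨1, [5, 0, 4, 5, 3], 2, [(255, 181), (877, 73), (243, 43), (377, 125), (245, 157), (381, 46), (98, 129), (380, 37), (247, 5), (257, 103)]⟩,
    ⟨1, [1, 6, 4, 2, 1, 5, 0], 2, [(838, 111), (605, 125), (705, 180), (592, 84), (603, 104), (703, 157), (590, 143), (702, 188), (593, 62), (878, 103)]⟩,
    ⟨1, [1, 3, 5, 0, 6, 1, 2, 4, 0], 2, [(647, 39), (571, 82), (269, 33), (373, 55), (9, 178), (141, 64), (457, 188), (572, 88), (708, 14), (811, 97)]⟩,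
    ⟨1, [6, 0, 5, 1, 2, 3, 4, 6], 2, [(90, 21), (793, 124), (127, 115), (577, 118), (81, 45), (89, 135), (792, 84), (578, 10), (726, 97), (91, 126)]⟩,
    ⟨1, [0, 3, 5, 6, 2, 4, 1, 3], 2, [(95, 28), (148, 158), (808, 114), (379, 191), (566, 124), (380, 138), (879, 133), (340, 31), (751, 43), (849, 55)]⟩,
    ⟨1, [0, 2, 5, 3, 4, 2, 6, 1, 0], 2, [(735, 114), (771, 164), (257, 120), (880, 98), (664, 126), (665, 164), (335, 175), (866, 167), (336, 25), (338, 57)]⟩,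
    ⟨1, [5, 4, 0, 3, 1, 2, 4, 6], 2, [(280, 178), (28, 104), (484, 117), (763, 127), (36, 97), (49, 167), (528, 24), (538, 125), (332, 1), (768, 82)]⟩,
    ⟨1, [0, 6, 4, 2, 5, 3, 1, 0, 0], 2, [(146, 154), (403, 102), (775, 34), (537, 57), (434, 126), (467, 176), (637, 17), (818, 56), (772, 34), (432, 44)]⟩,
    ⟨1, [6, 0, 2, 4, 1, 1, 5, 3, 0], 2, [(471, 15), (472, 60), (104, 155), (12, 35), (769, 146), (513, 158), (328, 127), (470, 36), (654, 114), (510, 180)]⟩,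
    ⟨1, [0, 2, 5, 3, 4, 0, 1], 2, [(751, 2), (865, 100), (665, 145), (359, 180), (807, 53), (565, 135), (360, 153), (734, 2), (847, 124), (131, 162)]⟩,
    ⟨1, [2, 4, 6, 1, 0, 5, 1, 3], 2, [(513, 107), (54, 77), (624, 91), (817, 89), (623, 90), (407, 105), (470, 142), (712, 142), (468, 124), (471, 17)]⟩,
    ⟨1, [2, 0, 6, 4, 2, 1, 1], 2, [(62, 85), (63, 137), (158, 61), (594, 85), (68, 61), (459, 87), (393, 32), (75, 191), (156, 40), (460, 102)]⟩,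
    ⟨1, [1, 3, 3, 6, 2, 5, 4, 0], 2, [(320, 181), (794, 12), (857, 80), (399, 125), (367, 157), (226, 156), (753, 57), (858, 57), (443, 117), (752, 55)]⟩,
    ⟨1, [6, 5, 0, 3, 4, 1, 2, 6], 2, [(386, 153), (630, 29), (729, 93), (626, 169), (135, 145), (776, 60), (821, 19), (629, 59), (645, 3), (643, 191)]⟩]

def a2steps_12 : List (Step) :=
  [⟨1, [1, 4, 3, 5, 0, 2, 2, 0], 2, [(881, 188), (656, 29), (532, 27), (672, 127), (537, 55), (882, 76), (674, 119), (787, 38), (536, 2), (883, 79)]⟩,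
    ⟨1, [0, 5, 6, 1, 3, 3, 4, 2], 2, [(824, 76), (92, 11), (729, 133), (390, 154), (652, 18), (627, 23), (747, 46), (869, 104), (56, 138), (716, 190)]⟩,
    ⟨1, [0, 1, 4, 5, 6, 2, 1], 2, [(884, 83), (471, 166), (885, 164), (32, 189), (473, 134), (267, 13), (623, 159), (17, 137), (468, 147), (622, 180)]⟩,
    ⟨1, [3, 1, 0, 2, 5, 4, 0, 1], 2, [(779, 63), (256, 158), (258, 15), (360, 17), (255, 17), (849, 52), (358, 8), (782, 54), (145, 20), (836, 137)]⟩,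
    ⟨1, [1, 4, 0, 1], 2, [(72, 87), (597, 176), (203, 81), (200, 119), (385, 31), (202, 26), (886, 153), (365, 140), (344, 123), (167, 1)]⟩,
    ⟨1, [4, 6, 2, 3, 5, 1, 0, 0], 2, [(592, 58), (99, 73), (20, 43), (34, 125), (507, 96), (195, 99), (41, 129), (833, 87), (508, 117), (591, 40)]⟩,
    ⟨1, [1, 5, 3, 0, 6, 2, 1, 4, 0, 0], 2, [(44, 112), (56, 12), (4, 85), (147, 61), (681, 156), (263, 8), (514, 37), (152, 82), (518, 153), (871, 85)]⟩,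
    ⟨1, [6, 3, 1, 5, 2, 4, 1, 0], 2, [(441, 129), (495, 46), (678, 64), (579, 85), (675, 61), (758, 141), (887, 134), (614, 79), (23, 31), (583, 179)]⟩,
    ⟨1, [3, 1, 6, 5, 2, 4, 1, 1, 0], 2, [(458, 169), (18, 29), (93, 27), (468, 156), (769, 55), (623, 107), (800, 105), (811, 11), (472, 85), (471, 184)]⟩,
    ⟨1, [0, 4, 3, 1, 5, 6, 1, 2], 2, [(713, 116), (23, 43), (648, 112), (39, 15), (677, 190), (715, 173), (887, 79), (51, 113), (495, 130), (138, 60)]⟩,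
    ⟨1, [0, 3, 2, 4, 1, 5, 6, 3, 1], 2, [(237, 135), (350, 125), (637, 74), (432, 165), (236, 95), (286, 158), (431, 191), (349, 136), (146, 95), (107, 120)]⟩,
    ⟨1, [5, 3, 6, 4, 0, 2, 1, 0, 0], 2, [(693, 115), (767, 156), (230, 131), (233, 50), (6, 56), (232, 136), (464, 91), (831, 137), (463, 93), (830, 156)]⟩,
    ⟨1, [4, 0, 5, 3, 2, 2, 1], 2, [(888, 32), (217, 169), (108, 34), (537, 11), (694, 126), (136, 55), (772, 17), (775, 120), (534, 131), (535, 88)]⟩,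
    ⟨1, [3, 4, 2, 6, 0, 3], 2, [(345, 53), (302, 11), (171, 15), (166, 149), (721, 18), (207, 136), (109, 137), (167, 50), (66, 3), (722, 137)]⟩,
    ⟨1, [2, 3, 4, 1, 1, 6, 5, 1], 2, [(889, 153), (42, 38), (583, 127), (441, 153), (496, 126), (854, 59), (442, 55), (474, 36), (887, 170), (100, 110)]⟩,
    ⟨1, [4, 0, 5, 6, 4, 2, 1, 3, 0, 2], 2, [(115, 120), (164, 21), (466, 137), (844, 170), (107, 33), (234, 38), (322, 45), (323, 26), (432, 69), (286, 98)]⟩,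
    ⟨1, [0, 2, 6, 4, 3, 3, 5, 1], 2, [(636, 148), (854, 76), (890, 155), (277, 35), (113, 146), (632, 158), (801, 127), (802, 102), (274, 86), (279, 121)]⟩,
    ⟨1, [3, 4, 5, 6, 0, 1, 2, 0, 0], 2, [(16, 187), (492, 90), (15, 146), (648, 117), (500, 94), (111, 86), (620, 89), (634, 23), (891, 153), (843, 77)]⟩,
    ⟨1, [2, 5, 0, 4, 6, 0, 1], 2, [(615, 3), (491, 42), (240, 97), (517, 81), (363, 90), (892, 105), (643, 28), (778, 142), (361, 76), (423, 128)]⟩,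
    ⟨1, [5, 4, 2, 0, 3, 6, 2, 0], 2, [(852, 182), (228, 9), (230, 58), (463, 142), (893, 9), (812, 175), (311, 163), (813, 142), (233, 162), (314, 143)]⟩,
    ⟨1, [4, 0, 5, 6, 3, 1, 0, 0], 2, [(658, 92), (773, 75), (894, 124), (883, 51), (348, 52), (641, 16), (881, 111), (674, 56), (775, 178), (558, 172)]⟩,
    ⟨1, [2, 5, 3, 0, 4, 1, 6, 2], 2, [(747, 121), (628, 8), (14, 85), (422, 63), (631, 43), (746, 8), (426, 37), (44, 120), (421, 2), (745, 68)]⟩,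
    ⟨1, [6, 2, 3, 4, 5, 3, 3, 0], 2, [(895, 158), (890, 28), (584, 50), (582, 120), (757, 97), (579, 113), (834, 116), (496, 30), (896, 7), (755, 114)]⟩,
    ⟨1, [5, 2, 1, 4, 0, 3, 6, 5, 0], 2, [(138, 135), (677, 105), (842, 74), (895, 165), (495, 95), (100, 158), (720, 191), (760, 110), (678, 114), (614, 120)]⟩,
    ⟨1, [6, 0, 0, 3, 1, 5, 2], 2, [(714, 23), (613, 137), (39, 177), (497, 47), (138, 123), (715, 99), (755, 36), (15, 96), (614, 154), (720, 75)]⟩]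

def a2steps_13 : List (Step) :=
  [⟨1, [2, 3, 6, 1, 4, 0, 3], 2, [(810, 136), (619, 110), (198, 143), (724, 191), (201, 52), (897, 5), (71, 23), (723, 190), (203, 108), (594, 143)]⟩,
    ⟨1, [0, 3, 2, 4, 5, 3, 0], 2, [(748, 75), (20, 36), (452, 73), (742, 114), (411, 10), (382, 185), (34, 33), (192, 157), (508, 7), (19, 35)]⟩,
    ⟨1, [2, 0, 3, 5, 2, 4], 2, [(782, 62), (879, 73), (653, 85), (376, 125), (780, 21), (249, 125), (898, 103), (374, 158), (335, 158), (781, 3)]⟩,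
    ⟨1, [3, 4, 6, 0, 2, 5, 1, 1, 0], 2, [(653, 117), (375, 167), (697, 63), (750, 135), (339, 170), (700, 67), (374, 126), (244, 29), (3, 12), (879, 35)]⟩,
    ⟨1, [5, 6, 6, 5, 2, 4, 1, 0], 2, [(224, 64), (301, 147), (368, 75), (369, 98), (899, 113), (254, 88), (296, 97), (900, 170), (840, 187), (0, 110)]⟩,
    ⟨1, [3, 5, 1, 0, 6, 2, 4, 3, 0], 2, [(147, 73), (518, 143), (645, 76), (423, 83), (4, 14), (261, 109), (892, 107), (517, 137), (389, 120), (150, 48)]⟩,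
    ⟨1, [2, 6, 5, 1, 1, 4, 0], 2, [(383, 15), (573, 34), (524, 155), (901, 35), (412, 146), (855, 158), (119, 127), (384, 117), (176, 114), (177, 121)]⟩,
    ⟨1, [0, 2, 3, 5, 6, 1, 4, 4], 2, [(589, 115), (174, 188), (902, 0), (719, 24), (178, 177), (717, 20), (878, 37), (601, 117), (177, 140), (903, 63)]⟩,
    ⟨1, [4, 6, 5, 3, 1, 0, 2], 2, [(162, 142), (342, 47), (673, 168), (844, 188), (894, 87), (904, 43), (322, 63), (323, 12), (536, 166), (772, 119)]⟩,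
    ⟨1, [2, 0, 3, 5, 4, 2, 2], 2, [(749, 118), (375, 49), (243, 30), (53, 116), (376, 43), (8, 24), (428, 18), (531, 62), (25, 11), (667, 131)]⟩,
    ⟨1, [2, 1, 0, 4, 6, 1, 3], 2, [(168, 129), (385, 159), (597, 44), (616, 34), (611, 126), (683, 93), (905, 126), (72, 174), (393, 145), (682, 21)]⟩,
    ⟨1, [2, 5, 1, 4, 6, 3, 0, 2], 2, [(262, 121), (143, 120), (615, 63), (421, 127), (744, 178), (745, 138), (906, 21), (150, 38), (386, 2), (631, 29)]⟩,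
    ⟨1, [5, 0, 2, 4, 6, 1, 1], 2, [(814, 1), (36, 46), (114, 136), (94, 146), (415, 61), (420, 191), (812, 79), (730, 79), (691, 40), (416, 157)]⟩,
    ⟨1, [3, 6, 6, 5, 1], 2, [(132, 98), (738, 127), (318, 107), (752, 2), (853, 30), (316, 158), (182, 25), (128, 158), (446, 93), (396, 71)]⟩,
    ⟨1, [6, 3, 1, 4, 5, 1, 0], 2, [(571, 28), (650, 46), (790, 61), (408, 93), (570, 118), (405, 92), (761, 46), (406, 132), (560, 25), (488, 102)]⟩,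
    ⟨1, [0, 4, 5, 3, 6, 2, 1, 1], 2, [(148, 138), (95, 175), (877, 2), (248, 161), (566, 104), (564, 87), (338, 109), (653, 8), (608, 15), (565, 145)]⟩,
    ⟨1, [6, 0, 5, 4, 3, 3, 2, 1, 0], 2, [(223, 87), (369, 176), (181, 43), (82, 172), (577, 53), (737, 26), (85, 129), (370, 140), (89, 123), (91, 157)]⟩,
    ⟨1, [1, 0, 5, 6, 4, 2, 1, 3], 2, [(327, 45), (11, 156), (141, 21), (468, 112), (270, 82), (330, 62), (817, 3), (624, 30), (142, 130), (328, 58)]⟩,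
    ⟨1, [6, 0, 3, 2, 5, 1, 4, 3, 0], 2, [(660, 129), (711, 42), (843, 185), (620, 56), (503, 166), (907, 28), (117, 134), (278, 39), (16, 180), (43, 90)]⟩,
    ⟨1, [3, 2, 1, 4, 6, 1, 5, 0, 1], 2, [(799, 129), (577, 93), (369, 44), (900, 34), (908, 126), (367, 93), (298, 126), (223, 174), (296, 163), (297, 12)]⟩,
    ⟨1, [5, 3, 6, 2, 0, 1, 1, 0], 2, [(417, 109), (283, 24), (137, 48), (909, 35), (282, 173), (309, 143), (315, 99), (418, 64), (461, 15), (830, 105)]⟩,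
    ⟨1, [6, 2, 4, 1, 2, 5], 2, [(142, 62), (511, 73), (512, 85), (211, 125), (471, 147), (212, 125), (141, 103), (214, 54), (623, 154), (468, 46)]⟩,
    ⟨1, [6, 4, 5, 3, 3, 2, 0, 1], 2, [(792, 149), (252, 88), (899, 161), (86, 27), (121, 18), (118, 41), (90, 48), (225, 81), (79, 12), (91, 98)]⟩,
    ⟨1, [6, 4, 2, 2, 1], 2, [(168, 176), (204, 159), (116, 95), (185, 87), (205, 126), (120, 108), (72, 126), (207, 40), (187, 128), (683, 8)]⟩,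
    ⟨1, [3, 6, 1, 4, 5, 2, 0], 2, [(790, 116), (650, 36), (509, 16), (512, 15), (406, 75), (407, 173), (696, 184), (563, 20), (213, 130), (404, 76)]⟩]

def a2steps_14 : List (Step) :=
  [⟨1, [4, 0, 1, 6, 3, 2, 5, 1, 1], 2, [(675, 149), (494, 102), (715, 112), (111, 154), (677, 92), (648, 173), (804, 79), (636, 167), (502, 107), (843, 190)]⟩,
    ⟨1, [5, 0, 6, 4, 2, 3, 1, 2], 2, [(850, 12), (813, 175), (767, 27), (30, 161), (766, 104), (863, 87), (487, 119), (910, 8), (730, 15), (733, 75)]⟩,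
    ⟨1, [1, 1, 6], 2, [(109, 97), (70, 37), (189, 121), (597, 170), (112, 64), (886, 89), (595, 178), (911, 87), (598, 0), (344, 137)]⟩,
    ⟨1, [2, 6, 1, 0, 3, 5, 1], 2, [(568, 106), (519, 137), (47, 153), (665, 100), (521, 89), (807, 137), (609, 111), (27, 112), (520, 178), (565, 151)]⟩,
    ⟨1, [5, 4, 3, 0, 4, 6], 2, [(851, 33), (912, 108), (481, 112), (94, 5), (764, 182), (487, 8), (913, 172), (308, 179), (765, 78), (852, 115)]⟩,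
    ⟨1, [2, 1, 6, 4, 1, 5, 3], 2, [(466, 153), (107, 38), (238, 127), (655, 15), (234, 190), (823, 59), (433, 79), (657, 113), (680, 145), (555, 152)]⟩,
    ⟨1, [1, 4, 6, 5, 4, 2, 0, 3], 2, [(216, 128), (543, 157), (351, 61), (346, 93), (218, 118), (220, 67), (125, 107), (350, 95), (555, 24), (694, 102)]⟩,
    ⟨1, [5, 3, 0, 2, 4, 1, 6], 2, [(814, 130), (6, 76), (232, 111), (229, 117), (417, 111), (1, 23), (766, 135), (230, 102), (706, 15), (686, 7)]⟩,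
    ⟨1, [6, 3, 5, 1, 4, 4, 2, 0], 2, [(296, 166), (795, 11), (796, 15), (88, 117), (578, 18), (914, 11), (83, 24), (915, 9), (90, 114), (89, 190)]⟩,
    ⟨1, [3, 0, 5, 2, 1, 1, 6, 4], 2, [(276, 23), (711, 38), (916, 24), (887, 36), (493, 102), (580, 113), (612, 111), (917, 46), (501, 110), (22, 128)]⟩,
    ⟨1, [6, 1, 5, 3, 0, 4, 2, 6, 0], 2, [(725, 153), (368, 38), (794, 127), (252, 144), (366, 28), (793, 59), (899, 101), (225, 68), (254, 176), (250, 1)]⟩,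
    ⟨1, [0, 0, 2, 1, 6, 5, 4, 3], 2, [(572, 34), (571, 118), (406, 52), (817, 92), (269, 179), (11, 105), (469, 191), (405, 24), (96, 169), (142, 134)]⟩,
    ⟨1, [2, 1, 4, 0, 5, 6, 3, 0], 2, [(532, 131), (349, 28), (658, 149), (657, 70), (642, 4), (787, 190), (432, 155), (656, 44), (431, 178), (435, 114)]⟩,
    ⟨1, [5, 4, 6, 3, 2, 0, 1], 2, [(137, 62), (539, 20), (875, 183), (852, 151), (307, 77), (913, 64), (281, 75), (285, 78), (850, 43), (851, 123)]⟩,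
    ⟨1, [5, 1, 0, 4, 1, 0], 2, [(331, 183), (419, 29), (415, 27), (46, 117), (416, 80), (691, 171), (333, 164), (332, 35), (57, 146), (692, 33)]⟩,
    ⟨1, [1, 6, 2, 5, 5, 4, 0, 3], 2, [(839, 41), (702, 42), (832, 53), (901, 186), (41, 145), (414, 37), (173, 61), (837, 69), (105, 45), (663, 62)]⟩,
    ⟨1, [4, 0, 2, 3, 5, 1], 2, [(684, 185), (902, 5), (177, 34), (412, 57), (175, 126), (685, 55), (24, 17), (719, 91), (176, 131), (523, 88)]⟩,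
    ⟨1, [2, 3, 3, 6, 0, 4, 1, 2, 0], 2, [(722, 62), (166, 64), (204, 183), (206, 31), (207, 66), (116, 64), (199, 75), (61, 89), (202, 43), (198, 64)]⟩,
    ⟨1, [1, 3, 5, 6, 0, 2, 2], 2, [(586, 32), (585, 134), (456, 158), (371, 11), (790, 126), (52, 83), (210, 175), (18, 120), (696, 112), (404, 8)]⟩,
    ⟨1, [3, 4, 2, 6, 5, 2, 1], 2, [(855, 121), (603, 108), (748, 135), (34, 127), (704, 178), (846, 34), (803, 118), (190, 38), (19, 2), (414, 77)]⟩,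
    ⟨1, [6, 4, 3, 1, 5, 3, 2], 0, [(793, 30), (717, 7), (698, 124), (175, 126), (848, 191), (799, 111), (443, 102), (248, 72), (537, 72), (478, 113), (218, 154), (888, 21), (140, 138), (605, 133), (624, 47), (471, 68), (288, 68), (146, 80), (886, 136), (171, 48), (384, 159), (587, 137), (12, 71), (203, 154), (260, 184), (722, 132), (531, 132), (78, 149), (412, 91), (224, 190)]⟩,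
    ⟨1, [5, 2, 6, 1, 3, 4, 1], 1, [(100, 130), (500, 179), (902, 54), (871, 106), (729, 191), (642, 101), (667, 131), (670, 101), (91, 108), (652, 55), (918, 113), (110, 149), (317, 96), (20, 144), (35, 128), (532, 133), (522, 187), (919, 100), (641, 128), (891, 129), (726, 96), (842, 96), (374, 150), (501, 191), (78, 130), (451, 126), (534, 34), (192, 1), (244, 68), (625, 33)]⟩,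
    ⟨1, [4, 0, 5, 4, 6, 1, 2], 1, [(762, 94), (332, 106), (523, 139), (738, 188), (859, 68), (267, 104), (356, 109), (623, 139), (720, 144), (83, 34), (88, 75), (16, 114), (503, 114), (855, 22), (454, 46), (473, 134), (239, 46), (450, 149), (17, 178), (691, 148), (475, 123), (765, 20), (363, 69), (227, 127), (659, 150), (524, 100), (468, 131), (506, 40), (425, 61), (179, 97)]⟩,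
    ⟨1, [1, 2, 0, 6, 3, 4, 4, 5], 0, [(797, 186), (197, 107), (513, 9), (109, 186), (650, 146), (319, 91), (795, 139), (473, 24), (306, 86), (630, 155), (706, 107), (94, 54), (666, 130), (611, 139), (866, 26), (750, 116), (283, 144), (36, 144), (516, 155), (439, 184), (63, 31), (609, 107), (340, 27), (361, 135), (214, 170), (449, 116), (264, 97), (80, 173), (170, 52), (445, 118)]⟩,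
    ⟨1, [0, 3, 4, 2, 2, 0], 1, [(328, 129), (141, 139), (913, 34), (322, 6), (466, 131), (495, 139), (193, 139), (275, 106), (44, 176), (107, 38), (286, 119), (262, 52), (126, 126), (46, 188), (909, 151), (39, 186), (600, 90), (20, 17), (278, 13), (11, 77), (263, 176), (327, 124), (599, 71), (468, 89), (29, 44), (691, 114), (15, 122), (464, 153), (452, 94), (323, 154)]⟩]

def a2steps_15 : List (Step) :=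
  [⟨1, [2, 1, 6, 0, 5, 4, 3, 0, 2], 0, [(563, 179), (314, 50), (238, 77), (417, 179), (321, 85), (270, 100), (211, 166), (220, 58), (629, 100), (711, 48), (425, 50), (147, 42), (343, 115), (487, 21), (385, 99), (74, 190), (438, 50), (387, 105), (295, 63), (757, 3), (332, 137), (478, 91), (116, 169), (441, 167), (535, 97), (920, 110), (882, 7), (488, 48), (539, 63), (921, 43)]⟩,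
    ⟨1, [6, 6, 5, 0, 4, 2], 1, [(511, 33), (654, 184), (903, 85), (566, 161), (428, 184), (402, 54), (875, 63), (237, 6), (442, 76), (519, 49), (779, 45), (802, 153), (277, 111), (702, 165), (717, 189), (161, 31), (416, 147), (766, 24), (350, 150), (588, 63), (474, 180), (269, 14), (315, 36), (510, 150), (612, 187), (703, 180), (115, 161), (718, 165), (463, 31), (530, 30)]⟩,
    ⟨1, [5, 6, 3, 4, 1, 2, 0, 0], 0, [(609, 0), (817, 0), (413, 0), (458, 0), (855, 0), (243, 0), (807, 0), (748, 0), (620, 0), (671, 0), (720, 115), (277, 0), (594, 0), (570, 103), (198, 0), (64, 0), (111, 0), (834, 0), (922, 0), (115, 0), (654, 0), (184, 0), (73, 0), (637, 0), (786, 0), (657, 0), (742, 0), (668, 0), (269, 0), (360, 0)]⟩,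
    ⟨1, [3, 4, 5, 6, 0, 1, 1, 0], 0, [(224, 162), (595, 41), (649, 65), (343, 37), (712, 135), (753, 37), (739, 186), (270, 15), (785, 111), (412, 50), (877, 121), (379, 161), (137, 86), (116, 186), (230, 176), (874, 187), (336, 3), (749, 50), (901, 50), (833, 54), (303, 54), (417, 54), (483, 151), (454, 112), (761, 44), (382, 50), (264, 50), (841, 179), (364, 168), (923, 132)]⟩,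
    ⟨1, [2, 3, 0, 6, 4, 1, 5, 0, 0], 1, [(795, 96), (0, 14), (325, 146), (280, 86), (851, 129), (599, 86), (197, 189), (176, 146), (449, 10), (540, 189), (36, 127), (869, 127), (629, 135), (93, 120), (329, 135), (35, 65), (924, 61), (199, 82), (525, 70), (577, 111), (262, 51), (792, 157), (723, 84), (224, 78), (505, 176), (588, 39), (902, 65), (811, 85), (791, 7), (137, 182)]⟩,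
    ⟨1, [3, 5, 6, 1, 5, 0], 1, [(616, 63), (925, 44), (47, 42), (701, 118), (414, 3), (643, 71), (560, 141), (242, 9), (485, 49), (872, 57), (453, 49), (416, 98), (420, 115), (898, 49), (669, 79), (135, 10), (696, 115), (488, 88), (806, 105), (596, 146), (129, 38), (597, 0), (212, 48), (75, 142), (481, 190), (865, 169), (362, 20), (861, 99), (469, 143), (41, 93)]⟩,
    ⟨1, [6, 3, 2, 5, 1, 1, 4, 0], 0, [(288, 60), (375, 177), (175, 87), (784, 151), (34, 129), (216, 139), (548, 21), (926, 123), (204, 139), (727, 14), (74, 14), (112, 72), (56, 130), (567, 184), (424, 124), (448, 153), (392, 52), (724, 169), (397, 169), (577, 19), (144, 126), (14, 104), (353, 145), (927, 186), (593, 118), (79, 136), (743, 126), (348, 124), (338, 65), (555, 178)]⟩,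
    ⟨1, [4, 0, 1, 6, 3, 2, 5, 1, 1], 0, [(818, 92), (452, 43), (353, 100), (524, 100), (58, 114), (823, 72), (545, 95), (426, 21), (155, 21), (183, 109), (598, 28), (122, 59), (50, 130), (605, 119), (562, 100), (511, 157), (204, 68), (200, 96), (250, 27), (90, 126), (195, 151), (18, 8), (96, 132), (576, 129), (644, 126), (443, 87), (518, 126), (536, 151), (685, 108), (237, 137)]⟩,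
    ⟨1, [4, 0, 1, 5, 6, 3, 1], 1, [(444, 37), (83, 147), (289, 138), (106, 87), (190, 87), (274, 26), (152, 42), (714, 52), (184, 41), (192, 136), (742, 174), (391, 184), (75, 102), (657, 45), (236, 107), (660, 48), (261, 34), (390, 24), (834, 190), (78, 128), (723, 163), (398, 163), (517, 2), (224, 94), (186, 31), (547, 24), (659, 1), (146, 21), (103, 138), (412, 37)]⟩,
    ⟨1, [5, 2, 3, 6, 4, 2, 0, 1, 1, 0], 1, [(378, 66), (258, 158), (401, 10), (226, 148), (550, 70), (262, 52), (17, 89), (357, 98), (70, 41), (899, 142), (253, 181), (184, 17), (187, 173), (556, 133), (350, 66), (152, 167), (623, 179), (149, 166), (744, 64), (245, 80), (791, 45), (249, 81), (647, 165), (379, 106), (67, 7), (673, 148), (437, 52), (347, 40), (569, 24), (317, 52)]⟩,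
    ⟨1, [6, 2, 5, 0, 3, 6, 1, 4, 0], 1, [(581, 160), (891, 61), (719, 156), (640, 9), (354, 82), (289, 121), (472, 156), (788, 114), (682, 92), (356, 24), (777, 125), (112, 92), (886, 126), (175, 92), (412, 30), (288, 188), (649, 79), (588, 42), (548, 85), (648, 141), (77, 96), (51, 160), (456, 92), (661, 56), (616, 85), (902, 145), (894, 20), (523, 21), (708, 53), (45, 84)]⟩,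
    ⟨1, [3, 6, 1, 0, 5, 2, 4, 4], 0, [(694, 40), (689, 83), (550, 64), (721, 18), (726, 83), (928, 170), (642, 147), (320, 153), (634, 22), (258, 186), (676, 146), (500, 160), (461, 188), (598, 30), (419, 21), (912, 37), (614, 38), (13, 61), (836, 37), (244, 12), (102, 108), (114, 29), (812, 114), (665, 14), (446, 6), (781, 173), (857, 163), (929, 159), (166, 145), (904, 108)]⟩,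
    ⟨1, [4, 3, 0, 6], 1, [(708, 68), (647, 5), (578, 187), (589, 113), (194, 16), (807, 67), (434, 187), (378, 126), (45, 79), (60, 190), (601, 164), (151, 113), (262, 38), (226, 27), (792, 165), (880, 132), (772, 81), (431, 87), (568, 101), (141, 54), (627, 155), (373, 190), (533, 33), (571, 116), (864, 49), (908, 98), (340, 182), (798, 111), (347, 144), (575, 116)]⟩,
    ⟨1, [0, 1, 4, 3, 2, 6, 0, 5], 0, [(686, 154), (619, 191), (606, 137), (70, 128), (195, 110), (311, 93), (542, 176), (872, 45), (242, 5), (234, 164), (518, 166), (746, 33), (215, 114), (385, 176), (142, 31), (330, 105), (152, 17), (626, 29), (350, 119), (432, 160), (721, 89), (488, 139), (52, 124), (163, 121), (130, 40), (775, 86), (862, 145), (692, 31), (187, 171), (485, 88)]⟩,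
    ⟨1, [2, 2, 4, 1, 6, 3], 1, [(419, 151), (912, 97), (659, 3), (437, 30), (777, 35), (914, 145), (836, 170), (857, 96), (209, 189), (615, 19), (426, 135), (468, 45), (647, 37), (889, 146), (930, 37), (88, 102), (566, 138), (785, 37), (576, 145), (765, 170), (212, 52), (416, 187), (808, 23), (139, 25), (825, 122), (760, 65), (85, 65), (931, 11), (783, 119), (356, 40)]⟩,
    ⟨1, [2, 0, 4, 1, 5, 3, 2, 0], 1, [(668, 84), (610, 87), (864, 15), (71, 9), (102, 57), (692, 139), (279, 56), (315, 8), (654, 94), (932, 84), (690, 115), (11, 130), (712, 137), (143, 21), (639, 80), (893, 186), (633, 144), (278, 140), (464, 111), (8, 19), (273, 15), (919, 108), (659, 135), (520, 24), (12, 46), (262, 86), (1, 165), (777, 7), (677, 157), (460, 168)]⟩,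
    ⟨1, [5, 4, 2, 1, 6, 0, 1, 3], 0, [(401, 189), (583, 140), (17, 189), (16, 134), (708, 140), (558, 140), (163, 144), (12, 44), (799, 113), (394, 134), (794, 33), (550, 59), (59, 104), (754, 144), (919, 151), (566, 44), (789, 134), (399, 182), (709, 182), (70, 168), (677, 162), (3, 101), (520, 54), (206, 43), (559, 57), (897, 3), (142, 151), (234, 151), (277, 42), (657, 126)]⟩,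
    ⟨1, [6, 0, 4, 3, 1, 2, 5, 6, 0], 1, [(694, 94), (350, 109), (242, 91), (279, 36), (504, 91), (232, 104), (187, 109), (311, 14), (258, 83), (676, 107), (278, 75), (8, 114), (610, 114), (262, 22), (241, 36), (1, 134), (102, 137), (72, 183), (829, 178), (543, 73), (898, 130), (218, 168), (932, 125), (346, 190), (664, 4), (864, 165), (315, 31), (449, 120), (208, 10), (111, 89)]⟩,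
    ⟨1, [1, 4, 6, 5, 2, 3, 0, 2], 0, [(780, 139), (225, 73), (174, 169), (296, 129), (106, 95), (257, 175), (564, 89), (685, 42), (229, 175), (441, 149), (49, 145), (281, 56), (65, 29), (726, 133), (116, 99), (596, 45), (332, 101), (693, 185), (711, 143), (580, 47), (367, 137), (619, 137), (188, 124), (633, 22), (455, 93), (676, 6), (382, 132), (522, 38), (182, 140), (608, 135)]⟩,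
    ⟨1, [4, 0, 3, 6, 5, 3, 2, 1], 1, [(346, 83), (219, 27), (513, 3), (156, 96), (810, 27), (819, 86), (630, 8), (590, 129), (725, 75), (688, 83), (596, 124), (82, 75), (83, 69), (825, 28), (623, 11), (701, 127), (906, 35), (389, 83), (837, 85), (657, 67), (923, 124), (658, 186), (151, 173), (694, 25), (301, 87), (149, 170), (592, 63), (647, 2), (728, 160), (158, 84)]⟩,
    ⟨1, [5, 4, 3, 2, 6, 0, 4], 0, [(933, 57), (518, 78), (574, 9), (390, 73), (195, 12), (898, 43), (430, 47), (786, 24), (140, 43), (881, 156), (562, 24), (769, 6), (200, 177), (806, 132), (102, 26), (724, 97), (469, 97), (811, 68), (341, 97), (536, 177), (505, 158), (65, 107), (64, 151), (554, 2), (383, 35), (680, 164), (704, 185), (377, 158), (824, 37), (669, 181)]⟩,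
    ⟨1, [4, 2, 3, 5, 6, 2, 1, 1], 1, [(362, 184), (517, 78), (446, 34), (596, 102), (391, 163), (790, 184), (836, 168), (212, 168), (221, 12), (120, 15), (611, 64), (741, 118), (882, 137), (300, 183), (934, 75), (561, 128), (666, 41), (861, 58), (817, 143), (515, 130), (679, 86), (630, 114), (428, 137), (361, 4), (787, 115), (182, 19), (324, 128), (900, 24), (749, 191), (395, 149)]⟩,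
    ⟨1, [6, 1, 5, 6, 2, 4, 3, 0, 1], 1, [(612, 119), (677, 158), (628, 63), (188, 29), (206, 113), (335, 88), (234, 114), (565, 43), (902, 25), (201, 70), (186, 160), (412, 179), (685, 171), (615, 66), (821, 174), (667, 145), (237, 120), (823, 18), (148, 29), (294, 112), (176, 93), (276, 143), (349, 27), (495, 92), (684, 87), (426, 95), (520, 187), (643, 23), (656, 186), (68, 60)]⟩,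
    ⟨1, [3, 4, 0, 5, 1, 2, 0], 1, [(131, 20), (429, 19), (496, 34), (167, 123), (722, 163), (846, 145), (211, 58), (803, 188), (706, 7), (721, 167), (302, 160), (28, 160), (484, 150), (499, 99), (887, 151), (704, 178), (811, 191), (512, 46), (190, 29), (3, 136), (282, 87), (751, 87), (457, 20), (836, 133), (7, 28), (498, 187), (19, 83), (614, 153), (770, 19), (166, 64)]⟩,
    ⟨1, [4, 5, 6, 3, 0, 4], 1, [(54, 29), (456, 47), (49, 3), (119, 16), (507, 29), (257, 3), (225, 86), (608, 84), (157, 46), (455, 133), (743, 145), (185, 145), (198, 89), (284, 181), (813, 180), (865, 3), (316, 10), (578, 74), (255, 172), (708, 136), (188, 65), (9, 8), (297, 155), (562, 72), (619, 103), (482, 49), (734, 38), (281, 96), (296, 66), (174, 121)]⟩]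

def a2steps_16 : List (Step) :=
  [⟨1, [5, 1, 3, 4, 2, 0, 6, 3, 0], 0, [(791, 36), (350, 140), (753, 147), (286, 91), (923, 140), (616, 140), (364, 75), (860, 140), (867, 140), (23, 3), (728, 113), (514, 124), (877, 11), (557, 5), (567, 186), (529, 151), (262, 151), (386, 170), (754, 141), (804, 43), (465, 53), (359, 41), (47, 54), (43, 43), (550, 96), (113, 157), (79, 86), (932, 84), (694, 184), (158, 43)]⟩,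
    ⟨1, [3, 5, 0, 4, 2, 1, 4, 0], 1, [(286, 130), (160, 7), (278, 30), (427, 106), (699, 189), (155, 45), (9, 79), (71, 19), (873, 116), (779, 181), (609, 113), (331, 125), (312, 96), (501, 144), (675, 128), (171, 133), (269, 187), (330, 187), (611, 128), (638, 72), (875, 96), (637, 96), (214, 137), (115, 191), (462, 130), (612, 51), (170, 34), (804, 140), (324, 68), (697, 33)]⟩,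
    ⟨1, [1, 4, 6, 0, 5, 3, 1, 0], 1, [(935, 68), (185, 52), (679, 113), (123, 156), (838, 158), (129, 28), (275, 113), (464, 183), (568, 92), (839, 4), (508, 1), (785, 6), (700, 185), (655, 11), (289, 90), (282, 188), (714, 95), (801, 145), (314, 135), (722, 13), (358, 113), (70, 40), (715, 16), (186, 75), (148, 136), (221, 16), (284, 66), (545, 79), (636, 45), (412, 83)]⟩,
    ⟨1, [2, 6, 5, 1, 0, 0, 4], 0, [(935, 27), (162, 107), (11, 157), (219, 27), (811, 52), (724, 91), (102, 133), (328, 134), (752, 134), (464, 159), (577, 51), (370, 98), (584, 130), (881, 187), (498, 106), (295, 75), (740, 33), (88, 160), (280, 5), (764, 124), (544, 38), (659, 108), (275, 73), (129, 60), (588, 93), (419, 124), (209, 29), (905, 149), (555, 114), (74, 55)]⟩,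
    ⟨1, [3, 4, 5, 1, 0, 0, 6, 2, 0], 1, [(641, 112), (788, 14), (31, 85), (77, 145), (596, 173), (719, 116), (934, 189), (413, 12), (6, 134), (709, 2), (683, 3), (875, 183), (733, 11), (9, 14), (562, 11), (926, 143), (738, 87), (794, 150), (685, 160), (434, 82), (812, 41), (928, 144), (82, 173), (642, 88), (707, 130), (708, 123), (837, 71), (559, 0), (90, 85), (598, 182)]⟩,
    ⟨1, [5, 0, 1, 2, 6, 4, 3], 1, [(66, 74), (169, 69), (648, 24), (27, 69), (735, 108), (788, 158), (387, 127), (555, 65), (118, 131), (734, 76), (782, 149), (366, 48), (727, 188), (440, 104), (620, 131), (348, 119), (745, 34), (450, 9), (936, 12), (204, 58), (223, 17), (61, 17), (421, 92), (303, 108), (841, 129), (632, 1), (351, 179), (442, 10), (820, 97), (866, 35)]⟩,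
    ⟨1, [2, 3, 0, 1, 4, 6, 5, 1], 0, [(65, 49), (930, 3), (106, 49), (42, 49), (717, 103), (709, 115), (208, 115), (413, 77), (444, 115), (481, 146), (737, 103), (89, 115), (261, 190), (501, 115), (421, 100), (354, 17), (853, 17), (366, 96), (134, 27), (852, 126), (854, 8), (625, 111), (744, 90), (305, 5), (192, 181), (873, 84), (603, 180), (345, 3), (891, 17), (460, 55)]⟩,
    ⟨1, [4, 0, 6, 5, 4, 3, 1, 2, 2], 1, [(283, 147), (913, 42), (294, 95), (213, 32), (328, 163), (60, 30), (357, 141), (99, 173), (73, 147), (759, 40), (140, 64), (171, 174), (168, 125), (474, 172), (760, 169), (194, 92), (437, 132), (491, 23), (786, 155), (305, 70), (68, 107), (231, 107), (390, 51), (416, 183), (479, 107), (290, 142), (574, 4), (854, 154), (133, 158), (212, 20)]⟩,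
    ⟨1, [0, 2, 5, 3, 4, 2, 6, 1, 0], 0, [(265, 133), (852, 167), (858, 119), (768, 105), (128, 112), (800, 34), (736, 133), (446, 142), (362, 189), (620, 28), (153, 108), (14, 133), (453, 76), (7, 21), (527, 117), (838, 143), (424, 143), (355, 134), (715, 134), (660, 97), (114, 83), (175, 134), (602, 15), (500, 120), (79, 155), (614, 83), (301, 15), (559, 35), (831, 95), (769, 33)]⟩,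
    ⟨1, [4, 0, 2, 6, 3, 5, 2], 0, [(116, 129), (543, 38), (627, 187), (347, 3), (150, 124), (72, 143), (611, 76), (864, 145), (571, 67), (835, 150), (264, 92), (473, 116), (937, 137), (741, 164), (174, 181), (454, 51), (270, 45), (215, 17), (503, 4), (676, 71), (536, 181), (832, 19), (845, 22), (117, 133), (361, 154), (720, 93), (778, 55), (619, 181), (655, 71), (395, 83)]⟩,
    ⟨1, [0, 6, 1, 3, 4, 2, 6, 0], 1, [(865, 116), (144, 55), (284, 166), (612, 128), (493, 157), (824, 96), (838, 17), (362, 190), (725, 34), (916, 51), (917, 89), (792, 31), (298, 80), (829, 184), (28, 74), (2, 57), (506, 161), (173, 91), (92, 69), (519, 46), (793, 102), (27, 116), (454, 134), (258, 18), (301, 95), (910, 189), (361, 149), (687, 156), (175, 30), (22, 58)]⟩,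
    ⟨1, [0, 2, 5, 6, 4, 2, 3, 0], 0, [(675, 98), (875, 114), (824, 34), (463, 188), (776, 127), (633, 117), (584, 132), (871, 47), (405, 76), (793, 166), (324, 127), (811, 29), (402, 142), (764, 1), (674, 88), (554, 13), (269, 106), (649, 83), (447, 1), (87, 165), (417, 22), (162, 179), (467, 66), (739, 109), (505, 115), (577, 153), (438, 2), (124, 36), (137, 18), (826, 131)]⟩,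
    ⟨1, [3, 6, 4, 1, 5, 3, 2, 0], 1, [(397, 156), (369, 164), (734, 2), (157, 165), (77, 132), (663, 179), (482, 165), (593, 13), (328, 45), (112, 9), (689, 143), (215, 75), (54, 95), (564, 4), (735, 95), (41, 16), (481, 40), (831, 101), (174, 152), (85, 103), (324, 116), (87, 74), (733, 106), (296, 184), (468, 134), (374, 56), (705, 184), (567, 6), (229, 157), (155, 111)]⟩,
    ⟨1, [0, 5, 4, 3, 1, 6, 2, 1], 1, [(86, 62), (128, 33), (342, 62), (563, 87), (736, 168), (453, 137), (416, 120), (702, 65), (303, 78), (569, 65), (770, 70), (72, 174), (186, 191), (655, 142), (164, 19), (454, 144), (765, 39), (57, 51), (845, 171), (317, 24), (171, 163), (78, 163), (7, 83), (132, 89), (925, 179), (674, 86), (26, 4), (433, 166), (863, 6), (560, 165)]⟩,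
    ⟨1, [4, 5, 6, 3, 1, 2, 5, 1], 0, [(746, 94), (182, 78), (783, 94), (252, 165), (735, 129), (776, 54), (421, 142), (751, 77), (410, 54), (295, 35), (872, 69), (177, 60), (385, 28), (299, 184), (74, 168), (187, 73), (523, 1), (938, 151), (492, 57), (124, 23), (577, 77), (120, 30), (935, 60), (887, 35), (337, 157), (758, 157), (246, 19), (438, 57), (226, 168), (867, 130)]⟩,
    ⟨1, [2, 2, 4, 3, 6, 0, 2], 1, [(586, 144), (559, 128), (153, 166), (753, 152), (939, 17), (98, 58), (277, 157), (339, 124), (284, 34), (296, 84), (222, 101), (7, 77), (483, 91), (362, 150), (425, 91), (865, 41), (757, 109), (278, 103), (95, 126), (9, 41), (539, 189), (588, 107), (754, 189), (790, 139), (464, 173), (4, 44), (3, 141), (363, 112), (295, 113), (740, 54)]⟩,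
    ⟨1, [1, 3, 5, 4, 6, 3], 1, [(38, 127), (230, 121), (820, 71), (604, 15), (412, 71), (841, 67), (37, 121), (934, 4), (160, 0), (803, 5), (19, 177), (545, 177), (125, 28), (363, 177), (806, 28), (859, 65), (339, 43), (377, 188), (368, 170), (812, 40), (161, 127), (416, 127), (336, 95), (762, 177), (638, 36), (822, 139), (915, 180), (423, 177), (381, 105), (523, 2)]⟩,
    ⟨1, [0, 4, 6, 5, 2, 3, 1, 0], 1, [(662, 112), (413, 41), (46, 135), (320, 31), (253, 135), (31, 19), (111, 135), (489, 135), (479, 15), (251, 61), (128, 29), (460, 40), (393, 51), (852, 139), (114, 123), (800, 150), (500, 20), (634, 69), (736, 22), (526, 149), (73, 75), (527, 114), (891, 100), (175, 128), (682, 8), (692, 168), (472, 58), (487, 157), (620, 191), (858, 121)]⟩,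
    ⟨1, [6, 5, 3, 1, 0, 2, 4, 0, 0], 0, [(720, 36), (839, 177), (115, 158), (855, 119), (888, 146), (16, 146), (907, 128), (401, 146), (394, 19), (817, 82), (722, 30), (68, 19), (368, 60), (60, 128), (908, 186), (180, 26), (594, 126), (365, 22), (650, 153), (18, 12), (10, 61), (798, 122), (789, 123), (17, 12), (221, 146), (272, 140), (431, 166), (896, 166), (451, 177), (801, 189)]⟩,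
    ⟨1, [0, 6, 2, 4, 1, 1], 1, [(928, 187), (775, 42), (409, 114), (919, 73), (666, 175), (825, 26), (332, 141), (562, 127), (634, 162), (144, 121), (771, 72), (678, 103), (677, 191), (526, 64), (192, 191), (571, 16), (134, 154), (484, 177), (149, 59), (162, 131), (475, 163), (164, 168), (830, 83), (883, 186), (715, 90), (176, 103), (650, 87), (743, 167), (483, 6), (785, 145)]⟩,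
    ⟨1, [4, 3, 5, 6, 2, 0, 1, 4, 0], 1, [(604, 146), (938, 19), (551, 79), (394, 151), (74, 181), (94, 157), (940, 58), (310, 124), (241, 141), (365, 186), (886, 185), (425, 171), (639, 31), (447, 172), (317, 108), (486, 168), (569, 77), (209, 115), (314, 157), (10, 135), (352, 189), (382, 189), (104, 127), (97, 19), (239, 173), (789, 44), (539, 27), (319, 157), (264, 113), (63, 49)]⟩,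
    ⟨1, [2, 0, 3, 6, 1, 4, 0, 0], 1, [(678, 63), (715, 110), (885, 86), (852, 57), (831, 168), (355, 137), (673, 46), (681, 3), (604, 83), (482, 121), (764, 91), (123, 120), (453, 51), (372, 21), (265, 4), (241, 14), (218, 154), (546, 103), (871, 125), (621, 2), (527, 163), (620, 163), (534, 83), (497, 11), (815, 186), (800, 66), (362, 19), (271, 30), (533, 186), (893, 148)]⟩,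
    ⟨1, [4, 2, 6, 3, 5, 1, 0, 5], 1, [(677, 191), (930, 15), (399, 21), (426, 29), (153, 58), (566, 38), (709, 72), (700, 186), (384, 169), (639, 60), (44, 159), (41, 82), (19, 163), (553, 98), (443, 58), (429, 74), (122, 30), (683, 119), (933, 138), (756, 156), (832, 112), (720, 2), (828, 53), (676, 62), (382, 63), (576, 95), (339, 30), (739, 84), (476, 28), (150, 159)]⟩,
    ⟨1, [2, 1, 3, 6, 0, 4, 1, 0], 1, [(376, 86), (780, 48), (678, 77), (280, 99), (139, 77), (806, 184), (680, 168), (422, 13), (845, 76), (333, 73), (767, 91), (719, 91), (703, 186), (634, 145), (720, 186), (864, 131), (741, 147), (555, 179), (423, 76), (879, 115), (717, 143), (898, 143), (882, 120), (249, 142), (702, 159), (648, 11), (746, 24), (621, 124), (554, 48), (137, 75)]⟩,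
    ⟨1, [5, 6, 3, 2, 4, 3, 1, 0], 0, [(736, 162), (784, 39), (460, 20), (520, 94), (682, 121), (457, 127), (211, 186), (122, 15), (774, 127), (737, 50), (238, 71), (164, 115), (105, 86), (429, 186), (453, 176), (525, 152), (558, 173), (554, 50), (915, 50), (858, 139), (898, 18), (192, 154), (19, 47), (368, 112), (343, 150), (553, 100), (208, 50), (265, 18), (336, 12), (563, 67)]⟩]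

def a2steps_17 : List (Step) :=
  [⟨1, [2, 6, 4, 5, 1, 3, 0, 0], 1, [(894, 38), (350, 1), (651, 29), (768, 113), (232, 29), (779, 101), (802, 47), (145, 80), (723, 190), (893, 125), (331, 42), (594, 161), (201, 105), (214, 175), (585, 105), (849, 77), (941, 105), (675, 9), (256, 146), (637, 151), (71, 62), (772, 120), (713, 57), (641, 24), (198, 108), (265, 171), (360, 122), (210, 188), (23, 44), (6, 140)]⟩,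
    ⟨1, [5, 0, 6, 2, 5, 1, 4, 3, 1], 1, [(351, 137), (286, 178), (10, 178), (246, 166), (47, 102), (23, 42), (4, 55), (15, 110), (54, 136), (27, 137), (358, 137), (406, 60), (327, 94), (193, 25), (40, 162), (907, 106), (154, 75), (56, 139), (51, 41), (238, 32), (9, 157), (823, 17), (867, 79), (349, 67), (12, 18), (196, 78), (661, 17), (26, 107), (29, 145), (25, 6)]⟩,
    ⟨1, [1, 5, 2, 6, 3, 5, 4, 1, 0], 1, [(449, 144), (918, 151), (609, 170), (326, 151), (11, 151), (829, 146), (641, 63), (731, 116), (35, 157), (214, 144), (490, 101), (901, 142), (105, 37), (522, 181), (784, 120), (693, 28), (288, 0), (558, 0), (334, 10), (103, 51), (926, 65), (353, 65), (679, 103), (154, 74), (40, 163), (520, 65), (30, 171), (750, 41), (108, 131), (327, 54)]⟩,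
    ⟨1, [2, 3, 5, 1, 6, 0, 3], 0, [(784, 137), (424, 126), (587, 137), (353, 110), (265, 124), (669, 138), (360, 124), (215, 92), (292, 33), (285, 35), (620, 113), (713, 33), (858, 23), (135, 92), (91, 184), (908, 175), (896, 124), (100, 151), (306, 151), (768, 31), (152, 1), (368, 41), (927, 137), (420, 99), (817, 96), (485, 157), (330, 30), (530, 90), (870, 139), (243, 139)]⟩,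
    ⟨1, [1, 6, 5, 4, 3], 1, [(693, 74), (49, 128), (502, 126), (190, 48), (41, 190), (431, 139), (861, 58), (674, 124), (924, 16), (105, 151), (409, 174), (200, 184), (302, 31), (441, 188), (499, 14), (347, 4), (376, 115), (836, 115), (928, 155), (7, 135), (197, 189), (706, 189), (564, 157), (767, 110), (721, 95), (494, 168), (547, 58), (614, 9), (131, 113), (803, 59)]⟩,
    ⟨1, [6, 4, 0, 5, 3, 0, 1, 2], 1, [(492, 127), (648, 53), (34, 4), (83, 134), (740, 59), (588, 47), (74, 117), (572, 51), (47, 86), (551, 46), (299, 176), (568, 176), (565, 142), (603, 56), (414, 41), (585, 8), (201, 45), (156, 26), (571, 3), (843, 52), (519, 94), (500, 94), (935, 160), (634, 54), (665, 120), (190, 188), (268, 51), (704, 86), (598, 138), (90, 41)]⟩,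
    ⟨1, [0, 2, 6, 3, 1, 1, 4], 1, [(614, 164), (890, 53), (694, 165), (729, 61), (449, 62), (726, 118), (461, 149), (301, 83), (26, 104), (437, 154), (56, 39), (938, 7), (591, 82), (674, 104), (136, 53), (793, 8), (312, 86), (231, 79), (118, 180), (113, 155), (815, 3), (497, 111), (331, 25), (440, 171), (592, 149), (221, 160), (795, 14), (883, 113), (893, 104), (151, 11)]⟩,
    ⟨1, [2, 5, 3, 6, 4, 5, 0], 1, [(940, 97), (9, 151), (699, 170), (307, 151), (813, 151), (29, 157), (823, 141), (516, 35), (938, 157), (230, 97), (305, 81), (413, 77), (175, 91), (48, 135), (698, 91), (438, 28), (674, 177), (904, 138), (126, 5), (93, 41), (839, 189), (587, 107), (671, 140), (213, 58), (178, 79), (836, 44), (517, 141), (37, 51), (888, 59), (850, 144)]⟩,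
    ⟨1, [0, 2, 6, 1, 5, 4, 3, 1], 1, [(788, 27), (432, 136), (719, 135), (942, 69), (778, 108), (117, 158), (767, 127), (581, 17), (169, 148), (240, 76), (867, 149), (187, 48), (67, 188), (872, 104), (937, 131), (124, 119), (693, 139), (766, 9), (43, 12), (844, 171), (72, 17), (904, 17), (485, 92), (435, 108), (932, 129), (855, 1), (713, 179), (411, 10), (7, 97), (386, 35)]⟩,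
    ⟨1, [0, 3, 5, 6, 2, 3, 4, 1, 1], 0, [(267, 84), (517, 13), (139, 121), (387, 180), (6, 1), (11, 90), (9, 47), (464, 151), (219, 124), (169, 189), (671, 48), (323, 48), (316, 157), (29, 151), (87, 51), (223, 179), (882, 45), (637, 93), (61, 174), (198, 30), (143, 150), (296, 154), (740, 102), (935, 99), (38, 187), (155, 168), (893, 150), (324, 4), (630, 152), (458, 152)]⟩,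
    ⟨1, [3, 1, 6, 3, 2, 5, 4], 1, [(425, 175), (631, 31), (146, 81), (320, 129), (250, 15), (722, 145), (531, 25), (886, 0), (588, 170), (224, 8), (297, 63), (646, 46), (759, 158), (844, 157), (216, 158), (199, 19), (375, 168), (377, 53), (185, 68), (505, 3), (587, 1), (450, 145), (244, 10), (745, 52), (140, 41), (432, 28), (200, 170), (218, 120), (698, 146), (793, 150)]⟩,
    ⟨1, [6, 0, 0, 1], 1, [(131, 56), (256, 161), (325, 3), (819, 161), (413, 161), (449, 115), (300, 63), (876, 1), (920, 135), (191, 165), (846, 16), (891, 5), (755, 138), (404, 44), (646, 65), (448, 71), (397, 0), (923, 70), (354, 40), (249, 71), (842, 97), (564, 37), (444, 0), (145, 138), (756, 81), (213, 138), (491, 81), (405, 2), (250, 31), (815, 144)]⟩,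
    ⟨1, [2, 3, 0, 5, 3, 6, 4, 0], 1, [(408, 66), (17, 53), (832, 174), (481, 91), (419, 62), (544, 76), (88, 95), (741, 32), (340, 148), (415, 188), (114, 117), (781, 39), (735, 63), (527, 104), (872, 187), (402, 15), (82, 173), (796, 118), (287, 177), (266, 76), (378, 77), (52, 187), (370, 131), (884, 122), (338, 125), (574, 96), (929, 146), (411, 118), (794, 138), (763, 120)]⟩,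
    ⟨1, [6, 2, 5, 4, 1, 6, 3], 1, [(205, 175), (911, 56), (494, 57), (728, 96), (747, 111), (7, 149), (95, 190), (1, 181), (622, 137), (262, 181), (151, 48), (654, 149), (472, 166), (584, 116), (677, 10), (484, 102), (700, 159), (877, 61), (229, 57), (595, 89), (326, 168), (460, 115), (668, 55), (683, 137), (468, 32), (802, 89), (415, 127), (23, 0), (25, 76), (426, 185)]⟩,
    ⟨1, [2, 6, 0, 2], 6, [(262, 127), (314, 125), (622, 6), (335, 180), (383, 20), (825, 49), (179, 9), (855, 139), (835, 60), (934, 43), (22, 149), (936, 113), (364, 145), (767, 47), (559, 151), (927, 113), (226, 0), (236, 117), (671, 83), (189, 135), (729, 50), (801, 48), (70, 142), (612, 87), (340, 151), (808, 85), (544, 184), (74, 22), (755, 142), (491, 65), (549, 107), (171,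 83), (143, 143), (683, 3), (367, 171), (846, 136), (895, 36), (658, 142), (331, 63), (869, 188), (518, 97), (376, 93), (737, 138), (702, 27), (240, 97), (768, 7), (244, 75), (313, 168), (674, 174), (260, 120), (826, 15), (166, 178), (259, 68), (457, 99), (489, 3), (264, 6), (481, 49), (20, 30), (455, 12), (237, 40), (482, 36), (40, 145), (456, 8)]⟩,
    ⟨1, [1, 4, 4, 2, 0, 5, 3, 6, 0], 6, [(171, 71), (241, 165), (49, 49), (366, 101), (495, 0), (692, 136), (881, 86), (23, 165), (249, 121), (289, 7), (429, 10), (210, 77), (525, 53), (652, 62), (483, 157), (115, 24), (674, 21), (761, 171), (696, 108), (413, 93), (598, 172), (246, 100), (845, 167), (836, 186), (725, 179), (396, 85), (489, 133), (599, 65), (378, 167), (395, 53), (323, 135), (383, 108),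 (169, 74), (523, 36), (546, 47), (584, 102), (340, 65), (12, 69), (353, 135), (156, 54), (112, 121), (367, 41), (557, 47), (660, 167), (394, 1), (729, 30), (297, 108), (242, 115), (561, 32), (398, 128), (339, 127), (903, 111), (939, 134), (94, 93), (768, 189), (333, 45), (820, 47), (890, 105), (920, 146), (921, 138), (942, 120), (612, 171), (313, 15)]⟩,
    ⟨1, [2, 1, 4, 5, 0, 6, 3, 1, 0], 6, [(595, 117), (554, 120), (132, 115), (627, 78), (117, 100), (443, 100), (873, 25), (931, 45), (148, 79), (464, 86), (529, 189), (742, 58), (622, 35), (401, 43), (179, 79), (315, 12), (706, 92), (99, 143), (130, 180), (96, 174), (689, 43), (780, 67), (817, 22), (256, 10), (2, 97), (423, 149), (508, 120), (211, 31), (751, 180), (74, 38), (420, 180), (371, 183),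 (156, 42), (761, 179), (693, 165), (930, 22), (734, 18), (176, 57), (788, 163), (109, 56), (809, 172), (103, 126), (114, 116), (497, 170), (206, 185), (403, 106), (515, 85), (557, 15), (175, 181), (745, 74), (427, 104), (52, 72), (631, 78), (254, 36), (86, 90), (87, 189), (108, 127), (661, 135), (15, 37), (574, 105), (670, 82), (710, 0), (253, 166)]⟩,
    ⟨1, [1, 0, 5, 3, 2, 4, 6, 2, 2, 1], 6, [(705, 24), (6, 142), (689, 69), (101, 20), (150, 44), (932, 139), (927, 177), (389, 149), (428, 90), (181, 107), (700, 150), (494, 168), (513, 94), (692, 147), (184, 90), (222, 180), (78, 168), (579, 109), (715, 145), (330, 73), (938, 83), (47, 191), (326, 138), (698, 3), (322, 23), (656, 53), (583, 6), (511, 69), (749, 36), (194, 179), (445, 111), (373, 145),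 (574, 52), (54, 163), (82, 156), (92, 11), (781, 31), (920, 182), (814, 180), (19, 76), (845, 188), (922, 89), (789, 163), (356, 165), (191, 24), (57, 8), (936, 63), (309, 21), (633, 24), (823, 40), (780, 131), (372, 26), (555, 9), (618, 53), (343, 76), (935, 148), (851, 177), (824, 80), (354, 90), (895, 28), (852, 63), (263, 153), (365, 34)]⟩,
    ⟨1, [6, 0, 4, 2, 5, 6, 1], 6, [(803, 148), (561, 176), (480, 187), (281, 77), (389, 140), (76, 182), (700, 93), (4, 150), (896, 105), (898, 134), (634, 153), (86, 31), (236, 128), (215, 134), (205, 152), (734, 82), (699, 152), (298, 58), (78, 150), (658, 157), (601, 18), (661, 47), (642, 72), (633, 124), (486, 93), (732, 159), (301, 48), (401, 84), (277, 51), (574, 191), (359, 90), (671, 150), (412, 95),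 (238, 31), (861, 92), (449, 117), (710, 191), (576, 148), (585, 5), (591, 72), (926, 6), (851, 131), (5, 88), (746, 142), (832, 128), (210, 156), (909, 91), (326, 176), (856, 130), (831, 139), (475, 2), (936, 78), (464, 155), (932, 157), (109, 186), (345, 99), (761, 36), (354, 93), (58, 138), (577, 65), (921, 90), (745, 108), (67, 23)]⟩,
    ⟨1, [0, 1, 2, 3, 4, 5, 6], 6, [(671, 0), (795, 0), (640, 0), (102, 43), (851, 63), (716, 0), (865, 0), (912, 0), (32, 0), (877, 0), (210, 56), (34, 0), (579, 0), (447, 56), (864, 56), (699, 0), (807, 0), (454, 0), (803, 12), (278, 0), (351, 0), (17, 0), (843, 82), (769, 0), (827, 44), (109, 43), (20, 0), (582, 170), (330, 113), (432, 114), (784, 0), (714, 10), (535, 185), (710, 0), (564, 0), (484, 43), (327, 31),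 (717, 115), (301, 8), (673, 127), (558, 0), (67, 0), (782, 127), (863, 0), (467, 125), (853, 57), (77, 70), (740, 0), (903, 72), (722, 0), (404, 44), (502, 38), (120, 0), (426, 0), (491, 0), (867, 0), (183, 158), (332, 181), (333, 106), (684, 34), (251, 114), (850, 2), (745, 140)]⟩,
    ⟨1, [0, 2, 6, 3, 4, 5, 1, 2], 6, [(861, 149), (746, 47), (216, 117), (18, 96), (733, 84), (658, 145), (345, 120), (310, 147), (803, 99), (364, 14), (60, 137), (576, 99), (475, 86), (154, 58), (534, 143), (619, 49), (391, 7), (444, 75), (226, 81), (580, 184), (565, 117), (506, 183), (713, 38), (786, 138), (586, 17), (406, 100), (0, 123), (442, 22), (97, 38), (531, 120), (170, 156), (440, 158), (8, 105), (754, 59), (682, 102), (464, 61), (815, 154), (915, 132), (422,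 127), (566, 38), (665, 169), (458, 98), (167, 11), (417, 44), (37, 110), (424, 139), (770, 104), (92, 87), (297, 148), (921, 112), (196, 146), (941, 130), (569, 164), (881, 118), (402, 132), (347, 43), (868, 112), (46, 93), (415, 169), (446, 138), (449, 113), (707, 94), (537, 93)]⟩,
    ⟨1, [3, 0, 4, 1, 5, 2, 6, 3], 6, [(594, 0), (306, 44), (567, 0), (725, 43), (4, 0), (519, 57), (572, 0), (630, 0), (748, 0), (371, 0), (123, 56), (493, 0), (466, 0), (231, 56), (131, 56), (329, 0), (587, 0), (614, 0), (635, 97), (403, 0), (205, 0), (190, 0), (321, 106), (412, 0), (86, 44), (88, 43), (501, 0), (823, 0), (662, 0), (169, 70), (328, 0), (658, 185), (172, 0), (434, 0), (210, 0), (628, 43), (174, 31), (907, 115), (30, 0), (460, 66), (364, 0), (727, 0), (142,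 127), (864, 0), (618, 0), (486, 57), (226, 0), (909, 0), (633, 33), (796, 0), (507, 0), (341, 38), (320, 0), (53, 0), (898, 0), (782, 0), (311, 0), (438, 0), (644, 0), (678, 55), (228, 114), (153, 2), (59, 0)]⟩,
    ⟨1, [1, 0, 4, 3, 2, 6, 5], 6, [(111, 127), (617, 138), (416, 87), (900, 87), (729, 37), (462, 0), (554, 90), (4, 18), (567, 151), (217, 11), (380, 7), (790, 151), (701, 26), (460, 163), (765, 54), (403, 44), (882, 43), (769, 91), (408, 50), (106, 135), (495, 180), (735, 51), (526, 82), (610, 161), (370, 49), (180, 167), (585, 101), (833, 80), (530, 152), (292, 65), (401, 107), (748, 2), (635, 173), (938, 23), (108, 140), (143, 24), (37, 109), (142, 123), (197, 12), (843, 169), (614, 170), (859, 138), (673, 68), (126, 135), (756, 133),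 (598, 152), (727, 169), (616, 115), (271, 9), (578, 138), (98, 75), (605, 99), (127, 68), (311, 156), (283, 143), (28, 138), (185, 74), (778, 55), (240, 106), (471, 59), (116, 78), (869, 87), (764, 107)]⟩,
    ⟨1, [0, 6, 1, 4, 2, 3, 6], 6, [(839, 6), (21, 179), (145, 22), (677, 160), (481, 187), (375, 63), (96, 25), (7, 70), (238, 28), (622, 86), (672, 55), (91, 80), (189, 53), (871, 54), (258, 143), (490, 153), (817, 92), (182, 164), (84, 6), (810, 70), (662, 140), (655, 125), (688, 83), (671, 123), (659, 48), (55, 66), (737, 65), (112, 137), (236, 42), (719, 35), (371, 190), (200, 6), (718, 126), (186, 108), (624, 174), (686, 33), (350, 52), (795, 161), (436, 23), (663, 83), (382, 188), (675, 175), (708, 158), (304, 171), (383, 140), (44, 69), (835,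 82), (869, 139), (297, 62), (442, 139), (642, 33), (618, 185), (492, 50), (37, 79), (848, 81), (376, 117), (387, 46), (283, 139), (280, 33), (753, 170), (355, 56), (308, 171), (865, 166)]⟩]

def a2steps : List (Step) :=
  a2steps_0 ++ a2steps_1 ++ a2steps_2 ++ a2steps_3 ++ a2steps_4 ++ a2steps_5 ++ a2steps_6 ++ a2steps_7 ++ a2steps_8 ++ a2steps_9 ++ a2steps_10 ++ a2steps_11 ++ a2steps_12 ++ a2steps_13 ++ a2steps_14 ++ a2steps_15 ++ a2steps_16 ++ a2steps_17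

def a2Ctx : Ctx := ⟨9, gi, a2elts, a2reps, a2stab, []⟩

def belts_0 : List (List ℕ × List ℕ) :=
  [([], [0, 1, 2, 3, 4, 5, 6, 7, 8]),
    ([0], [1, 2, 0, 3, 4, 5, 6, 7, 8]),
    ([2, 1, 1, 0], [1, 2, 3, 4, 0, 5, 6, 7, 8]),
    ([0, 1, 5, 4, 3, 2, 1, 0], [1, 0, 4, 5, 6, 7, 3, 2, 8]),
    ([0, 1, 3, 2, 4, 5], [6, 7, 0, 1, 3, 2, 5, 4, 8]),
    ([1, 0, 3, 2, 5, 4, 1, 0], [0, 1, 6, 7, 2, 3, 4, 5, 8]),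
    ([3, 5, 0, 1, 4, 2, 1], [4, 7, 5, 6, 3, 0, 2, 1, 8]),
    ([2, 3, 0, 1, 5, 4, 1, 0], [5, 4, 6, 7, 0, 1, 3, 2, 8]),
    ([5, 4, 0, 1, 2, 3, 1, 0], [6, 7, 5, 4, 2, 3, 1, 0, 8]),
    ([5, 3, 0, 1, 2, 4], [4, 6, 7, 5, 2, 1, 3, 0, 8]),
    ([5, 3, 1, 0, 2, 4, 0], [6, 5, 4, 7, 3, 1, 2, 0, 8])]

def belts : List (List ℕ × List ℕ) :=
  belts_0

def breps_0 : List (List ℕ × List ℕ) :=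
  [([], [0, 1, 2, 3, 4, 5, 6, 7, 8]),
    ([0], [1, 2, 0, 3, 4, 5, 6, 7, 8]),
    ([0, 0], [2, 0, 1, 3, 4, 5, 6, 7, 8]),
    ([1, 2, 4, 5, 0, 1, 3], [0, 5, 6, 7, 1, 2, 3, 4, 8]),
    ([5, 2, 1, 4, 0, 0, 3], [3, 5, 6, 7, 1, 2, 4, 0, 8]),
    ([2, 2, 5, 4, 1, 0, 3], [2, 5, 6, 7, 1, 3, 0, 4, 8]),
    ([3, 5, 0, 1, 2, 4, 5, 0], [1, 5, 6, 7, 2, 0, 3, 4, 8]),
    ([0, 2, 5, 4, 1, 0, 3], [0, 5, 6, 7, 1, 3, 4, 2, 8]),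
    ([3, 5, 0, 2, 2, 4, 1, 0], [3, 5, 6, 7, 2, 0, 4, 1, 8]),
    ([3, 2, 0, 5, 4, 1, 0], [3, 5, 6, 7, 1, 0, 2, 4, 8]),
    ([2, 4, 5, 0, 1, 2, 3], [0, 5, 6, 7, 2, 3, 1, 4, 8]),
    ([2, 1, 5, 4, 1, 0, 3], [2, 5, 6, 7, 0, 1, 3, 4, 8]),
    ([5, 0, 1, 2, 3, 4, 0, 0], [1, 5, 6, 7, 2, 3, 4, 0, 8]),
    ([2, 0, 5, 4, 1, 0, 3], [1, 5, 6, 7, 0, 3, 2, 4, 8]),
    ([2, 5, 4, 1, 0, 3], [2, 5, 6, 7, 0, 3, 4, 1, 8]),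
    ([5, 4, 3, 2, 1, 0], [3, 2, 4, 5, 6, 7, 1, 0, 8]),
    ([1, 0, 5, 4, 3, 2, 1, 0], [0, 1, 4, 5, 6, 7, 2, 3, 8]),
    ([4, 2, 1, 0, 5, 3, 1], [5, 6, 4, 7, 1, 2, 0, 3, 8]),
    ([4, 2, 0, 1, 5, 3, 1, 0], [4, 6, 5, 7, 1, 3, 0, 2, 8]),
    ([5, 2, 1, 0, 4, 3, 0, 0], [4, 6, 5, 7, 1, 2, 3, 0, 8]),
    ([5, 2, 1, 0, 3, 4], [5, 6, 4, 7, 1, 3, 2, 0, 8]),
    ([2, 5, 0, 3, 1, 4, 3], [6, 7, 4, 2, 0, 3, 5, 1, 8]),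
    ([3, 3, 5, 2, 1, 0, 4], [2, 6, 4, 7, 0, 1, 3, 5, 8]),
    ([4, 2, 3, 1, 5, 3, 1], [6, 4, 2, 7, 1, 3, 0, 5, 8]),
    ([5, 3, 4, 2, 3, 1], [1, 3, 2, 4, 5, 6, 7, 0, 8]),
    ([3, 2, 0, 5, 4, 2, 1], [1, 3, 5, 6, 7, 0, 2, 4, 8]),
    ([3, 4, 1, 1, 5, 0, 2], [2, 4, 5, 6, 7, 0, 1, 3, 8]),
    ([3, 0, 0, 4, 1, 5, 2, 0], [4, 5, 7, 1, 3, 0, 2, 6, 8]),
    ([4, 1, 5, 3, 0, 2, 2, 0], [5, 7, 4, 1, 2, 3, 0, 6, 8]),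
    ([3, 1, 0, 4, 2, 5], [4, 7, 5, 1, 2, 0, 3, 6, 8]),
    ([0, 2, 3, 5, 1, 2, 4, 0, 1], [0, 5, 1, 6, 7, 2, 3, 4, 8]),
    ([4, 2, 5], [4, 7, 2, 3, 1, 5, 0, 6, 8]),
    ([5, 4, 2, 3, 1, 2], [3, 7, 2, 4, 5, 6, 1, 0, 8]),
    ([2, 0, 4, 3, 5], [5, 7, 1, 3, 0, 2, 4, 6, 8]),
    ([2, 0, 3, 5, 0, 0], [1, 5, 7, 3, 0, 4, 6, 2, 8]),
    ([4, 0, 5, 2, 0, 3, 1], [5, 3, 7, 1, 2, 4, 0, 6, 8]),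
    ([0, 5, 3, 1, 1, 4, 2, 1], [4, 5, 0, 6, 7, 2, 3, 1, 8]),
    ([1, 5, 0, 4, 5, 0], [1, 3, 6, 0, 4, 5, 7, 2, 8]),
    ([0, 3, 1, 5, 2, 0, 4], [0, 6, 7, 2, 3, 1, 4, 5, 8]),
    ([1, 5, 2, 0, 3], [2, 5, 7, 0, 3, 4, 6, 1, 8])]

def breps_1 : List (List ℕ × List ℕ) :=
  [([0, 2, 1, 4, 2, 5, 3, 0], [5, 0, 7, 2, 3, 1, 4, 6, 8]),
    ([1, 3, 5], [5, 7, 2, 0, 4, 1, 6, 3, 8]),
    ([3, 2, 1, 5, 0, 1, 4], [5, 6, 3, 7, 1, 0, 2, 4, 8]),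
    ([2, 0, 3, 2, 4, 1, 5], [3, 7, 1, 0, 2, 4, 5, 6, 8]),
    ([4, 3, 2, 2, 5, 1, 2], [3, 5, 2, 6, 7, 1, 0, 4, 8]),
    ([2, 0, 3, 5, 0], [7, 1, 5, 3, 0, 4, 6, 2, 8]),
    ([2, 1, 3, 4, 5, 0, 0], [2, 6, 7, 1, 0, 4, 3, 5, 8]),
    ([1, 2, 3, 0, 5, 4, 1, 0], [0, 4, 6, 7, 1, 3, 2, 5, 8]),
    ([1, 4, 5, 2, 3, 1, 1], [0, 4, 2, 5, 6, 7, 1, 3, 8]),
    ([0, 1, 2, 5, 3, 4, 4, 0], [7, 0, 6, 1, 2, 4, 5, 3, 8]),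
    ([3, 1, 5, 2, 0, 3, 4], [0, 6, 7, 1, 3, 4, 2, 5, 8]),
    ([1, 1, 5, 4, 3, 2, 1, 0], [1, 2, 4, 5, 6, 7, 0, 3, 8]),
    ([2, 4, 1, 3, 4], [5, 1, 2, 4, 0, 6, 3, 7, 8]),
    ([3, 2, 5, 3, 0, 1, 4], [3, 6, 7, 0, 1, 4, 2, 5, 8]),
    ([5, 0, 1, 1], [3, 7, 1, 2, 4, 5, 6, 0, 8]),
    ([1, 5, 4, 2, 0, 0, 3, 1, 0], [0, 4, 5, 6, 7, 2, 3, 1, 8]),
    ([0, 1, 4, 5, 1, 2, 3, 0], [5, 0, 4, 6, 7, 1, 2, 3, 8]),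
    ([3, 2, 5, 4, 1, 0, 0], [2, 6, 3, 7, 1, 0, 4, 5, 8]),
    ([2, 4, 3, 0, 5, 1, 0], [3, 6, 7, 2, 0, 4, 1, 5, 8]),
    ([0, 1, 4, 5, 2, 3, 1, 1], [1, 4, 0, 5, 6, 7, 2, 3, 8]),
    ([0, 4, 5, 2, 3, 1, 1], [3, 4, 0, 5, 6, 7, 1, 2, 8]),
    ([2, 1, 4, 3, 0, 5, 1, 0], [1, 6, 7, 2, 0, 3, 4, 5, 8]),
    ([5, 4, 3, 3, 2, 0, 1], [2, 3, 7, 4, 5, 6, 1, 0, 8]),
    ([4, 2, 5, 0, 0], [2, 4, 7, 3, 1, 5, 0, 6, 8]),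
    ([2, 3, 1, 5, 4, 1, 0], [4, 2, 6, 7, 0, 1, 3, 5, 8]),
    ([2, 5, 0, 3, 1, 4, 3, 0], [7, 4, 6, 2, 0, 3, 5, 1, 8]),
    ([3, 5, 2, 4, 1, 3, 0], [0, 2, 3, 4, 5, 6, 7, 1, 8]),
    ([2, 3, 5, 0, 1, 4, 3], [6, 1, 5, 7, 0, 3, 2, 4, 8]),
    ([2, 3, 5, 2, 4, 0], [6, 2, 0, 3, 5, 1, 7, 4, 8]),
    ([3, 0, 2, 1, 4, 2, 0], [5, 1, 6, 2, 3, 0, 4, 7, 8]),
    ([4, 3, 0, 5, 3, 1, 2], [3, 4, 6, 7, 1, 2, 0, 5, 8]),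
    ([3, 2, 5, 0, 1, 4], [3, 6, 4, 7, 1, 0, 2, 5, 8]),
    ([3, 4, 5, 0, 1, 2, 0], [4, 6, 3, 7, 2, 0, 1, 5, 8]),
    ([5, 1, 0, 3, 2, 5, 4], [0, 6, 7, 1, 2, 3, 4, 5, 8]),
    ([5, 4, 3, 2, 1, 0, 0], [2, 4, 3, 5, 6, 7, 1, 0, 8]),
    ([0, 1, 4, 2, 3, 3, 5, 0], [7, 0, 6, 1, 3, 4, 2, 5, 8]),
    ([5, 3, 1, 1, 4, 2, 1], [4, 5, 2, 6, 7, 1, 3, 0, 8]),
    ([3, 1, 5, 2, 0, 4], [2, 6, 7, 1, 3, 0, 4, 5, 8]),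
    ([4, 1, 5, 4, 0, 3, 2], [5, 4, 7, 1, 2, 0, 3, 6, 8]),
    ([2, 0, 4, 3, 0, 5, 1, 0], [3, 6, 7, 1, 0, 2, 4, 5, 8])]

def breps_2 : List (List ℕ × List ℕ) :=
  [([4, 0, 1, 5, 0, 2, 3], [4, 5, 3, 6, 7, 1, 0, 2, 8]),
    ([3, 0, 1, 5, 4, 2, 1, 0], [5, 1, 4, 6, 7, 0, 3, 2, 8]),
    ([0, 1, 2, 3, 4, 0, 5], [0, 7, 5, 1, 2, 3, 4, 6, 8]),
    ([4, 3, 3], [5, 1, 2, 3, 4, 6, 0, 7, 8]),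
    ([1, 4, 5, 2, 3, 1, 1, 0], [4, 2, 0, 5, 6, 7, 1, 3, 8]),
    ([4, 2, 3, 1, 5, 3, 1, 0], [4, 2, 6, 7, 1, 3, 0, 5, 8]),
    ([3, 2, 5, 0, 1, 4, 0, 0], [4, 3, 6, 7, 1, 0, 2, 5, 8]),
    ([3, 4, 5, 0, 1, 2, 0, 0], [6, 3, 4, 7, 2, 0, 1, 5, 8]),
    ([4, 3, 0, 5, 3, 1, 2, 0], [4, 6, 3, 7, 1, 2, 0, 5, 8]),
    ([3, 0, 5, 2, 1, 4, 0], [6, 1, 3, 7, 2, 0, 4, 5, 8]),
    ([2, 1, 3, 0, 4, 5, 0, 0], [3, 6, 7, 1, 0, 4, 5, 2, 8]),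
    ([4, 5, 3, 4, 2, 0, 1], [2, 3, 0, 4, 5, 6, 7, 1, 8]),
    ([3, 5, 0, 1, 2, 4, 5], [6, 1, 5, 7, 2, 0, 3, 4, 8]),
    ([2, 1, 4, 0, 5, 3, 0, 0], [3, 7, 5, 1, 0, 2, 4, 6, 8]),
    ([4, 1, 5, 0, 2, 2, 3], [7, 5, 3, 1, 2, 4, 0, 6, 8]),
    ([0, 2, 2, 4, 1, 5, 3], [7, 5, 0, 1, 2, 3, 4, 6, 8]),
    ([0, 1, 2, 4, 3, 5, 0], [7, 0, 5, 1, 2, 4, 3, 6, 8]),
    ([0, 1, 4, 2, 5, 3, 0], [5, 0, 7, 1, 3, 4, 2, 6, 8]),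
    ([3, 5, 0, 2, 2, 4, 1], [6, 3, 5, 7, 2, 0, 4, 1, 8]),
    ([3, 0, 2, 1, 4, 2], [6, 5, 1, 2, 3, 0, 4, 7, 8]),
    ([0, 2, 5, 1], [7, 3, 0, 4, 1, 5, 6, 2, 8]),
    ([3, 2, 1, 5, 4, 2, 1, 0], [5, 2, 1, 6, 7, 0, 3, 4, 8]),
    ([0, 2, 2, 4, 1, 5, 3, 0], [5, 0, 7, 1, 2, 3, 4, 6, 8]),
    ([1, 0, 5, 2, 3, 3], [5, 7, 1, 0, 2, 4, 6, 3, 8]),
    ([3, 1, 0, 2, 4, 3, 5], [0, 7, 5, 1, 3, 4, 2, 6, 8]),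
    ([2, 0, 3, 1, 4, 2, 0], [0, 1, 6, 2, 3, 4, 5, 7, 8]),
    ([1, 0, 2, 1, 4], [0, 6, 1, 2, 3, 5, 4, 7, 8]),
    ([1, 4, 4], [6, 1, 2, 0, 4, 5, 3, 7, 8]),
    ([3, 5, 2, 4, 1, 3], [3, 0, 2, 4, 5, 6, 7, 1, 8]),
    ([2, 3, 5, 0, 2, 4, 0, 1], [5, 3, 0, 6, 7, 1, 2, 4, 8]),
    ([2, 4, 5, 1, 0, 0, 3, 2, 0], [0, 3, 5, 6, 7, 2, 1, 4, 8]),
    ([2, 0, 1, 1, 5], [4, 7, 1, 2, 0, 5, 6, 3, 8]),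
    ([1, 0, 3, 1, 4, 2], [6, 4, 1, 2, 0, 3, 5, 7, 8]),
    ([4, 1, 0, 2, 1, 0], [1, 6, 4, 2, 3, 5, 0, 7, 8]),
    ([1, 2, 0, 3, 4, 0, 5], [3, 7, 5, 0, 1, 4, 2, 6, 8]),
    ([0, 2, 3, 1, 5, 4, 1, 0], [4, 0, 6, 7, 1, 2, 3, 5, 8]),
    ([0, 4, 5, 2, 3, 1, 1, 0], [4, 0, 3, 5, 6, 7, 1, 2, 8]),
    ([0, 4, 5, 2, 3, 0, 1], [0, 3, 4, 5, 6, 7, 1, 2, 8]),
    ([4, 2, 0, 3, 1, 5, 2, 0], [1, 6, 7, 2, 3, 4, 0, 5, 8]),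
    ([5, 0, 2, 1, 3, 2, 0], [7, 1, 5, 2, 3, 4, 6, 0, 8])]

def breps_3 : List (List ℕ × List ℕ) :=
  [([3, 1, 0, 5, 1, 0], [1, 5, 7, 2, 4, 0, 6, 3, 8]),
    ([3, 0, 2, 1, 4, 2, 5], [5, 7, 1, 2, 3, 0, 4, 6, 8]),
    ([3, 2, 5, 4, 0, 1, 1], [3, 6, 7, 2, 1, 0, 4, 5, 8]),
    ([2, 4, 3, 0, 5, 1], [7, 3, 6, 2, 0, 4, 1, 5, 8]),
    ([3, 0, 2, 4, 5, 1, 2], [3, 5, 1, 6, 7, 0, 2, 4, 8]),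
    ([0, 1, 2, 3, 4, 5, 0], [7, 0, 6, 1, 2, 3, 4, 5, 8]),
    ([3, 0, 4, 1, 5], [3, 7, 1, 2, 4, 0, 5, 6, 8]),
    ([1, 5, 0, 3, 3, 2], [7, 4, 3, 0, 5, 2, 6, 1, 8]),
    ([1, 2, 0, 5, 3, 4, 2], [6, 1, 3, 0, 5, 2, 7, 4, 8]),
    ([3, 1, 4, 0, 0, 5, 2], [7, 4, 6, 1, 3, 0, 5, 2, 8]),
    ([3, 2, 0, 1, 4, 5, 1, 1], [4, 6, 5, 7, 1, 0, 2, 3, 8]),
    ([5, 2, 1, 4, 0, 3, 3], [5, 6, 3, 7, 1, 2, 4, 0, 8]),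
    ([4, 2, 5, 4, 0, 3, 1], [5, 3, 7, 2, 1, 0, 4, 6, 8]),
    ([2, 3, 0, 5, 1, 0, 4], [4, 6, 7, 2, 0, 1, 3, 5, 8]),
    ([4, 5, 1, 2, 0, 0, 3], [3, 5, 4, 6, 7, 2, 0, 1, 8]),
    ([4, 3, 2, 2, 5, 1, 2, 0], [5, 2, 3, 6, 7, 1, 0, 4, 8]),
    ([3, 2, 2, 5, 4, 2, 1], [5, 3, 2, 6, 7, 0, 1, 4, 8]),
    ([1, 1, 3, 0, 4, 2, 5], [4, 7, 0, 1, 2, 3, 5, 6, 8]),
    ([3, 0, 1, 5, 4, 2, 1], [4, 5, 1, 6, 7, 0, 3, 2, 8]),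
    ([4, 2, 1, 0, 5, 3, 2], [5, 1, 4, 6, 7, 2, 0, 3, 8]),
    ([3, 3, 4, 1, 5], [3, 7, 2, 0, 4, 1, 5, 6, 8]),
    ([2, 0, 4, 3, 0], [5, 1, 6, 3, 0, 2, 4, 7, 8]),
    ([4, 2, 1, 5, 0, 2, 3, 0, 0], [3, 1, 5, 6, 7, 2, 0, 4, 8]),
    ([2, 3, 5, 0, 2, 4, 1, 1], [3, 0, 5, 6, 7, 1, 2, 4, 8]),
    ([0, 4, 3, 2, 2, 5, 1, 2], [3, 5, 0, 6, 7, 2, 1, 4, 8]),
    ([5, 1, 0, 4, 2, 5, 3], [0, 5, 7, 1, 2, 4, 3, 6, 8]),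
    ([0, 3, 4, 2, 1, 5, 0, 2], [0, 5, 3, 6, 7, 1, 2, 4, 8]),
    ([4, 2, 0, 3, 2, 5, 1, 0], [3, 6, 7, 1, 2, 4, 0, 5, 8]),
    ([3, 2, 2, 5, 4, 2, 1, 0], [3, 2, 5, 6, 7, 0, 1, 4, 8]),
    ([3, 1, 0, 4, 5, 1, 2], [1, 4, 5, 6, 7, 0, 3, 2, 8]),
    ([5, 3, 4, 2, 3, 1, 0], [3, 2, 1, 4, 5, 6, 7, 0, 8]),
    ([4, 3, 1, 0, 5, 4, 2], [0, 4, 5, 6, 7, 1, 2, 3, 8]),
    ([2, 0, 4, 1, 5], [3, 7, 1, 2, 0, 5, 4, 6, 8]),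
    ([2, 0, 3, 2, 4, 1], [6, 3, 1, 0, 2, 4, 5, 7, 8]),
    ([1, 2, 0, 3, 4, 5, 0], [7, 3, 6, 0, 1, 4, 2, 5, 8]),
    ([0, 5, 2, 0, 3, 1, 4], [3, 6, 7, 0, 2, 4, 5, 1, 8]),
    ([4, 0, 3, 5, 2, 4, 1], [0, 3, 1, 4, 5, 6, 7, 2, 8]),
    ([2, 3, 5, 1, 1, 4, 0], [6, 2, 5, 7, 0, 1, 3, 4, 8]),
    ([1, 4, 5, 1, 2, 3, 0], [5, 2, 4, 6, 7, 0, 1, 3, 8]),
    ([2, 2, 4, 1, 5, 3, 0], [5, 2, 7, 0, 1, 3, 4, 6, 8])]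

def breps_4 : List (List ℕ × List ℕ) :=
  [([1, 2, 3, 0, 4, 5, 0, 0], [4, 6, 7, 0, 1, 3, 5, 2, 8]),
    ([5, 3, 0, 0, 4, 2, 1], [4, 3, 5, 6, 7, 1, 2, 0, 8]),
    ([3, 5, 0, 2, 4, 1, 1, 0], [4, 5, 3, 6, 7, 0, 2, 1, 8]),
    ([1, 3, 3, 4, 2, 5], [4, 7, 2, 0, 1, 3, 5, 6, 8]),
    ([4, 2, 1, 5, 0, 2, 3], [1, 5, 3, 6, 7, 2, 0, 4, 8]),
    ([3, 2, 1, 5, 4, 2, 1, 0, 0], [2, 1, 5, 6, 7, 0, 3, 4, 8]),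
    ([3, 0, 2, 4, 5, 1, 2, 0], [5, 1, 3, 6, 7, 0, 2, 4, 8]),
    ([4, 2, 1, 5, 0, 2, 3, 0], [5, 3, 1, 6, 7, 2, 0, 4, 8]),
    ([3, 1, 4, 0, 5, 2, 0, 0], [3, 7, 4, 1, 2, 0, 5, 6, 8]),
    ([0, 0, 4, 2, 5], [4, 7, 1, 3, 0, 5, 2, 6, 8]),
    ([2, 3, 5, 1, 2, 4, 0, 1], [2, 5, 0, 6, 7, 1, 3, 4, 8]),
    ([0, 3, 5, 2, 4, 1, 3], [3, 1, 0, 4, 5, 6, 7, 2, 8]),
    ([1, 2, 2, 4, 3, 5], [5, 7, 2, 0, 3, 1, 4, 6, 8]),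
    ([2, 0, 4, 1, 5, 3, 0], [5, 1, 7, 2, 0, 3, 4, 6, 8]),
    ([2, 5, 1, 0, 3, 1, 4], [4, 6, 7, 2, 0, 3, 5, 1, 8]),
    ([0, 5, 5, 0], [1, 0, 7, 3, 4, 5, 6, 2, 8]),
    ([5, 3, 2, 1, 1, 4, 0, 1], [2, 4, 5, 6, 7, 1, 3, 0, 8]),
    ([1, 5, 4, 2, 0, 0, 3, 1], [5, 0, 4, 6, 7, 2, 3, 1, 8]),
    ([2, 0, 3, 1, 4, 2, 5], [0, 7, 1, 2, 3, 4, 5, 6, 8]),
    ([5, 0, 2, 4, 0, 1, 3], [3, 5, 4, 6, 7, 1, 2, 0, 8]),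
    ([5, 4, 2, 1, 0, 0, 3], [4, 5, 3, 6, 7, 2, 1, 0, 8]),
    ([0, 0, 4, 2, 0], [4, 1, 6, 3, 0, 5, 2, 7, 8]),
    ([5, 2, 0, 3, 1, 4], [3, 6, 7, 2, 1, 4, 5, 0, 8]),
    ([2, 4, 5, 1, 0, 0, 3, 2], [5, 0, 3, 6, 7, 2, 1, 4, 8]),
    ([3, 4, 2, 1, 5, 0, 2], [2, 5, 3, 6, 7, 0, 1, 4, 8]),
    ([1, 1, 5, 4, 3, 2, 1], [4, 1, 2, 5, 6, 7, 0, 3, 8]),
    ([0, 2, 3, 4, 5, 1, 1], [3, 6, 0, 7, 1, 2, 4, 5, 8]),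
    ([2, 5, 1], [7, 3, 2, 4, 0, 5, 6, 1, 8]),
    ([0, 2, 3, 5, 1, 2, 4, 1, 1, 0], [1, 0, 5, 6, 7, 2, 3, 4, 8]),
    ([5, 0, 2, 2, 1], [7, 3, 1, 4, 2, 5, 6, 0, 8]),
    ([5, 2, 0, 3], [2, 5, 7, 3, 1, 4, 6, 0, 8]),
    ([4, 1, 0, 2, 1], [4, 1, 6, 2, 3, 5, 0, 7, 8]),
    ([1, 2, 5, 3, 0, 4], [2, 6, 7, 0, 1, 4, 5, 3, 8]),
    ([3, 0, 0, 5, 4, 2, 1, 0], [3, 5, 4, 6, 7, 0, 1, 2, 8]),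
    ([4, 2, 1, 5, 3, 1, 0], [6, 2, 5, 7, 1, 3, 0, 4, 8]),
    ([1, 5, 2, 3, 3], [5, 7, 2, 0, 3, 4, 6, 1, 8]),
    ([1, 0, 3, 1, 4, 2, 0], [4, 1, 6, 2, 0, 3, 5, 7, 8]),
    ([2, 5, 1, 4, 5], [6, 1, 2, 4, 0, 5, 7, 3, 8]),
    ([4, 0, 1, 1, 2], [6, 4, 1, 2, 3, 5, 0, 7, 8]),
    ([0, 1, 5, 2, 3, 3], [5, 7, 0, 1, 3, 4, 6, 2, 8])]

def breps_5 : List (List ℕ × List ℕ) :=
  [([0, 2, 5, 4, 1, 3, 3, 0], [6, 0, 5, 7, 1, 3, 4, 2, 8]),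
    ([3, 0, 4, 2, 5], [4, 7, 1, 3, 2, 0, 5, 6, 8]),
    ([2, 4, 0, 5, 4, 0], [1, 4, 7, 3, 0, 5, 2, 6, 8]),
    ([2, 3, 5, 1, 2, 4, 1, 1], [5, 0, 2, 6, 7, 1, 3, 4, 8]),
    ([5, 1, 2, 2, 3, 0, 4], [2, 6, 7, 1, 3, 4, 5, 0, 8]),
    ([4, 5, 3], [7, 5, 2, 3, 4, 6, 0, 1, 8]),
    ([3, 1, 0, 5, 1], [7, 1, 5, 2, 4, 0, 6, 3, 8]),
    ([5, 1, 0, 2, 1, 3], [1, 5, 7, 2, 3, 4, 6, 0, 8]),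
    ([2, 5, 4, 1, 0, 3, 1], [5, 7, 6, 2, 0, 3, 4, 1, 8]),
    ([5, 3, 1, 1, 4, 2, 1, 0], [5, 2, 4, 6, 7, 1, 3, 0, 8]),
    ([2, 1, 4, 2, 5, 3, 0], [5, 2, 7, 1, 3, 0, 4, 6, 8]),
    ([3, 1, 4, 0, 0, 5, 2, 0], [4, 6, 7, 1, 3, 0, 5, 2, 8]),
    ([3, 2, 0, 5, 4, 1], [6, 3, 5, 7, 1, 0, 2, 4, 8]),
    ([1, 3, 2, 4, 3], [6, 1, 2, 0, 3, 4, 5, 7, 8]),
    ([2, 1, 5, 2, 4, 0], [6, 2, 0, 1, 3, 5, 7, 4, 8]),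
    ([1, 0, 4, 1], [6, 0, 1, 2, 4, 5, 3, 7, 8]),
    ([3, 5, 0, 1, 2, 0, 4], [5, 6, 3, 7, 2, 0, 4, 1, 8]),
    ([4, 2, 2, 5, 3, 2, 0, 1], [2, 3, 5, 6, 7, 1, 0, 4, 8]),
    ([3, 2, 1, 5, 4, 2, 1], [1, 5, 2, 6, 7, 0, 3, 4, 8]),
    ([1, 3, 2, 5, 3, 0, 4], [2, 6, 7, 0, 3, 4, 1, 5, 8]),
    ([5, 2, 3, 3, 4, 0], [6, 2, 7, 3, 1, 4, 5, 0, 8]),
    ([2, 3, 5, 1, 2, 4, 1, 1, 0], [0, 2, 5, 6, 7, 1, 3, 4, 8]),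
    ([0, 1, 4, 2, 5], [4, 7, 0, 1, 3, 5, 2, 6, 8]),
    ([1, 0, 4, 1, 0], [0, 1, 6, 2, 4, 5, 3, 7, 8]),
    ([3, 1, 4, 2, 0, 0, 5], [6, 7, 4, 1, 3, 0, 5, 2, 8]),
    ([3, 2, 5, 0, 1, 3, 4], [0, 6, 4, 7, 1, 2, 3, 5, 8]),
    ([1, 4, 3, 0, 5, 2, 1], [4, 0, 6, 7, 2, 3, 1, 5, 8]),
    ([0, 2, 3, 1, 5, 4, 1], [6, 4, 0, 7, 1, 2, 3, 5, 8]),
    ([1, 4, 3, 0, 5, 2, 1, 0], [0, 6, 4, 7, 2, 3, 1, 5, 8]),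
    ([1, 4, 5, 2, 3, 0, 1], [2, 0, 4, 5, 6, 7, 1, 3, 8]),
    ([2, 0, 3, 5, 4, 0], [6, 1, 7, 3, 0, 4, 5, 2, 8]),
    ([2, 4, 3, 5, 0, 1, 1], [3, 7, 5, 2, 0, 4, 1, 6, 8]),
    ([3, 1, 0, 4, 1], [6, 1, 5, 2, 4, 0, 3, 7, 8]),
    ([5, 0, 3, 4, 1, 2, 0, 0], [1, 3, 4, 5, 6, 7, 2, 0, 8]),
    ([1, 4, 5, 1, 2, 3], [4, 5, 2, 6, 7, 0, 1, 3, 8]),
    ([0, 0, 2, 1, 5], [3, 7, 1, 0, 2, 5, 6, 4, 8]),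
    ([2, 1, 4, 0, 5, 3, 0], [5, 3, 7, 1, 0, 2, 4, 6, 8]),
    ([1, 4, 2, 5], [4, 7, 2, 0, 3, 5, 1, 6, 8]),
    ([5, 0, 3, 4, 1, 2, 0], [4, 1, 3, 5, 6, 7, 2, 0, 8]),
    ([5, 2, 0, 3, 1, 5, 4], [0, 6, 7, 2, 1, 4, 3, 5, 8])]

def breps_6 : List (List ℕ × List ℕ) :=
  [([4, 5, 1, 0, 0, 3, 2, 0], [4, 3, 5, 6, 7, 2, 0, 1, 8]),
    ([1, 0, 3, 1, 4, 2, 5], [4, 7, 1, 2, 0, 3, 5, 6, 8]),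
    ([2, 2, 4, 1, 5], [3, 7, 2, 0, 1, 5, 4, 6, 8]),
    ([4, 5, 3, 0], [5, 2, 7, 3, 4, 6, 0, 1, 8]),
    ([5, 5, 0], [0, 2, 7, 3, 4, 5, 6, 1, 8]),
    ([1, 0, 4, 2, 5], [4, 7, 1, 0, 2, 5, 3, 6, 8]),
    ([1, 2, 2, 4, 3, 0], [5, 2, 6, 0, 3, 1, 4, 7, 8]),
    ([0, 1, 4, 5, 1, 2, 3], [4, 5, 0, 6, 7, 1, 2, 3, 8]),
    ([3, 2, 5, 0, 1, 4, 0], [6, 4, 3, 7, 1, 0, 2, 5, 8]),
    ([2, 0, 3, 1, 4, 5, 0, 0], [1, 6, 7, 2, 0, 4, 5, 3, 8]),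
    ([0, 5, 2, 3, 3], [5, 7, 0, 3, 2, 4, 6, 1, 8]),
    ([4, 0, 5, 2, 0, 3, 1, 0], [3, 7, 5, 1, 2, 4, 0, 6, 8]),
    ([1, 2, 3, 4, 5, 0, 0], [2, 6, 7, 0, 1, 3, 4, 5, 8]),
    ([1, 5, 2, 0, 3, 1, 4], [0, 6, 7, 2, 3, 4, 5, 1, 8]),
    ([5, 0, 3, 4, 1, 2], [3, 4, 1, 5, 6, 7, 2, 0, 8]),
    ([0, 3, 5, 2, 4, 1, 3, 0], [1, 0, 3, 4, 5, 6, 7, 2, 8])]

def breps : List (List ℕ × List ℕ) :=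
  breps_0 ++ breps_1 ++ breps_2 ++ breps_3 ++ breps_4 ++ breps_5 ++ breps_6

def bstab_0 : List (List ℕ × List ℕ) :=
  [([], [0, 1, 2, 3, 4, 5, 6, 7, 8]),
    ([2, 3, 1, 0, 5, 4, 1, 0, 4, 2, 5, 3, 4, 2], [4, 5, 6, 7, 1, 0, 3, 2, 8]),
    ([4, 5, 5, 4, 4, 0, 5, 1, 4, 0, 3, 2, 5, 4, 3, 2], [1, 0, 3, 2, 6, 7, 4, 5, 8]),
    ([0, 1, 4, 5, 5, 4, 4, 2, 5, 3, 4, 2], [3, 2, 0, 1, 5, 4, 6, 7, 8]),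
    ([0, 1, 4, 5, 5, 4, 4, 0, 5, 1, 4, 0], [3, 2, 1, 0, 4, 5, 6, 7, 8]),
    ([4, 5, 5, 4], [1, 0, 2, 3, 4, 5, 7, 6, 8]),
    ([2, 3, 1, 0, 5, 4, 1, 0, 4, 0, 5, 1, 4, 0, 3, 2, 5, 4, 3, 2], [4, 5, 7, 6, 3, 2, 0, 1, 8]),
    ([0, 1, 4, 5, 5, 4, 4, 0, 5, 1, 4, 0, 3, 2, 5, 4, 3, 2], [3, 2, 1, 0, 6, 7, 4, 5, 8]),
    ([4, 5, 5, 4, 4, 0, 5, 1, 4, 0, 4, 2, 5, 3, 4, 2], [1, 0, 3, 2, 5, 4, 7, 6, 8]),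
    ([4, 5, 5, 4, 4, 0, 5, 1, 4, 0], [1, 0, 3, 2, 4, 5, 6, 7, 8]),
    ([0, 1, 3, 2, 5, 4, 3, 2, 4, 0, 5, 1, 4, 0], [2, 3, 1, 0, 6, 7, 5, 4, 8]),
    ([4, 5, 5, 4, 3, 2, 5, 4, 3, 2], [1, 0, 2, 3, 7, 6, 4, 5, 8]),
    ([4, 5, 5, 4, 4, 2, 5, 3, 4, 2], [1, 0, 2, 3, 5, 4, 6, 7, 8]),
    ([4, 5, 5, 4, 2, 3, 1, 0, 5, 4, 1, 0], [4, 5, 7, 6, 1, 0, 2, 3, 8]),
    ([2, 3, 1, 0, 5, 4, 1, 0], [4, 5, 6, 7, 0, 1, 2, 3, 8]),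
    ([2, 3, 1, 0, 5, 4, 1, 0, 0, 1, 4, 0, 5, 1, 4, 0], [6, 7, 5, 4, 0, 1, 3, 2, 8]),
    ([2, 3, 1, 0, 5, 4, 1, 0, 0, 1, 3, 2, 5, 4, 3, 2], [6, 7, 4, 5, 2, 3, 0, 1, 8]),
    ([4, 5, 5, 4, 2, 3, 1, 0, 5, 4, 1, 0, 0, 1], [7, 6, 4, 5, 1, 0, 2, 3, 8]),
    ([0, 1, 4, 5, 5, 4], [3, 2, 0, 1, 4, 5, 7, 6, 8]),
    ([2, 3, 1, 0, 5, 4, 1, 0, 4, 5, 5, 4, 3, 2, 5, 4, 3, 2], [5, 4, 6, 7, 3, 2, 0, 1, 8]),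
    ([4, 2, 5, 3, 4, 2, 2, 3, 1, 0, 5, 4, 1, 0, 0, 1, 3, 2, 5, 4, 3, 2], [7, 6, 5, 4, 2, 3, 0, 1, 8]),
    ([2, 3, 1, 0, 5, 4, 1, 0, 4, 5, 5, 4, 4, 2, 5, 3, 4, 2], [5, 4, 6, 7, 1, 0, 2, 3, 8]),
    ([4, 2, 5, 3, 4, 2, 2, 3, 1, 0, 5, 4, 1, 0, 3, 2, 5, 4, 3, 2], [5, 4, 7, 6, 2, 3, 0, 1, 8]),
    ([4, 5, 5, 4, 2, 3, 1, 0, 5, 4, 1, 0, 3, 2, 5, 4, 3, 2], [4, 5, 7, 6, 2, 3, 1, 0, 8]),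
    ([0, 1, 4, 0, 5, 1, 4, 0, 4, 2, 5, 3, 4, 2], [2, 3, 1, 0, 5, 4, 6, 7, 8]),
    ([0, 1, 4, 0, 5, 1, 4, 0, 3, 2, 5, 4, 3, 2], [2, 3, 1, 0, 7, 6, 4, 5, 8]),
    ([0, 1, 4, 2, 5, 3, 4, 2], [2, 3, 0, 1, 5, 4, 7, 6, 8]),
    ([2, 3, 1, 0, 5, 4, 1, 0, 3, 2, 5, 4, 3, 2, 4, 2, 5, 3, 4, 2], [4, 5, 6, 7, 3, 2, 1, 0, 8]),
    ([3, 2, 5, 4, 3, 2], [0, 1, 2, 3, 6, 7, 4, 5, 8]),
    ([4, 2, 5, 3, 4, 2, 2, 3, 1, 0, 5, 4, 1, 0, 0, 1], [7, 6, 5, 4, 0, 1, 2, 3, 8]),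
    ([0, 1, 4, 5, 5, 4, 3, 2, 5, 4, 3, 2, 4, 0, 5, 1, 4, 0], [3, 2, 1, 0, 7, 6, 5, 4, 8]),
    ([0, 1, 4, 0, 5, 1, 4, 0], [2, 3, 1, 0, 4, 5, 7, 6, 8]),
    ([0, 1, 3, 2, 5, 4, 3, 2], [2, 3, 0, 1, 6, 7, 4, 5, 8]),
    ([3, 2, 5, 4, 3, 2, 4, 5, 5, 4], [1, 0, 2, 3, 6, 7, 5, 4, 8]),
    ([0, 1, 4, 5, 5, 4, 3, 2, 5, 4, 3, 2], [3, 2, 0, 1, 7, 6, 4, 5, 8]),
    ([2, 3, 1, 0, 5, 4, 1, 0, 3, 2, 5, 4, 3, 2], [4, 5, 6, 7, 2, 3, 0, 1, 8]),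
    ([2, 3, 1, 0, 5, 4, 1, 0, 0, 1, 4, 5, 5, 4], [7, 6, 4, 5, 0, 1, 3, 2, 8]),
    ([4, 2, 5, 3, 4, 2, 2, 3, 1, 0, 5, 4, 1, 0], [5, 4, 7, 6, 0, 1, 2, 3, 8]),
    ([2, 3, 1, 0, 5, 4, 1, 0, 3, 2, 5, 4, 3, 2, 4, 5, 5, 4], [5, 4, 6, 7, 2, 3, 1, 0, 8]),
    ([4, 2, 5, 3, 4, 2, 2, 3, 1, 0, 5, 4, 1, 0, 4, 2, 5, 3, 4, 2], [5, 4, 7, 6, 1, 0, 3, 2, 8])]

def bstab_1 : List (List ℕ × List ℕ) :=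
  [([0, 1], [2, 3, 0, 1, 4, 5, 6, 7, 8]),
    ([0, 1, 4, 5, 5, 4, 4, 0, 5, 1, 4, 0, 4, 2, 5, 3, 4, 2], [3, 2, 1, 0, 5, 4, 7, 6, 8]),
    ([4, 0, 5, 1, 4, 0, 3, 2, 5, 4, 3, 2], [0, 1, 3, 2, 7, 6, 4, 5, 8]),
    ([4, 0, 5, 1, 4, 0], [0, 1, 3, 2, 4, 5, 7, 6, 8]),
    ([2, 3, 1, 0, 5, 4, 1, 0, 0, 1], [6, 7, 4, 5, 0, 1, 2, 3, 8]),
    ([4, 0, 5, 1, 4, 0, 4, 2, 5, 3, 4, 2], [0, 1, 3, 2, 5, 4, 6, 7, 8]),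
    ([3, 2, 5, 4, 3, 2, 4, 2, 5, 3, 4, 2], [0, 1, 2, 3, 7, 6, 5, 4, 8]),
    ([2, 3, 1, 0, 5, 4, 1, 0, 0, 1, 4, 2, 5, 3, 4, 2], [6, 7, 4, 5, 1, 0, 3, 2, 8]),
    ([3, 2, 5, 4, 3, 2, 4, 0, 5, 1, 4, 0], [0, 1, 3, 2, 6, 7, 5, 4, 8]),
    ([2, 3, 1, 0, 5, 4, 1, 0, 4, 0, 5, 1, 4, 0], [4, 5, 7, 6, 0, 1, 3, 2, 8]),
    ([4, 2, 5, 3, 4, 2, 2, 3, 1, 0, 5, 4, 1, 0, 0, 1, 3, 2, 5, 4, 3, 2, 4, 2, 5, 3, 4, 2], [7, 6, 5, 4, 3, 2, 1, 0, 8]),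
    ([3, 2, 5, 4, 3, 2, 4, 5, 5, 4, 2, 3, 1, 0, 5, 4, 1, 0], [6, 7, 5, 4, 1, 0, 2, 3, 8]),
    ([0, 1, 3, 2, 5, 4, 3, 2, 4, 5, 5, 4], [3, 2, 0, 1, 6, 7, 5, 4, 8]),
    ([4, 2, 5, 3, 4, 2, 2, 3, 1, 0, 5, 4, 1, 0, 0, 1, 4, 2, 5, 3, 4, 2], [7, 6, 5, 4, 1, 0, 3, 2, 8]),
    ([4, 5, 5, 4, 2, 3, 1, 0, 5, 4, 1, 0, 0, 1, 3, 2, 5, 4, 3, 2], [7, 6, 4, 5, 2, 3, 1, 0, 8]),
    ([4, 2, 5, 3, 4, 2], [0, 1, 2, 3, 5, 4, 7, 6, 8]),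
    ([2, 3, 1, 0, 5, 4, 1, 0, 4, 5, 5, 4], [5, 4, 6, 7, 0, 1, 3, 2, 8]),
    ([2, 3, 1, 0, 5, 4, 1, 0, 0, 1, 4, 5, 5, 4, 3, 2, 5, 4, 3, 2], [7, 6, 4, 5, 3, 2, 0, 1, 8]),
    ([2, 3, 1, 0, 5, 4, 1, 0, 0, 1, 3, 2, 5, 4, 3, 2, 4, 2, 5, 3, 4, 2], [6, 7, 4, 5, 3, 2, 1, 0, 8]),
    ([4, 2, 5, 3, 4, 2, 2, 3, 1, 0, 5, 4, 1, 0, 3, 2, 5, 4, 3, 2, 4, 2, 5, 3, 4, 2], [5, 4, 7, 6, 3, 2, 1, 0, 8]),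
    ([0, 1, 3, 2, 5, 4, 3, 2, 4, 2, 5, 3, 4, 2], [2, 3, 0, 1, 7, 6, 5, 4, 8]),
    ([4, 5, 5, 4, 3, 2, 5, 4, 3, 2, 4, 0, 5, 1, 4, 0], [1, 0, 3, 2, 7, 6, 5, 4, 8]),
    ([3, 2, 5, 4, 3, 2, 4, 5, 5, 4, 2, 3, 1, 0, 5, 4, 1, 0, 3, 2, 5, 4, 3, 2], [6, 7, 5, 4, 2, 3, 1, 0, 8]),
    ([2, 3, 1, 0, 5, 4, 1, 0, 0, 1, 4, 0, 5, 1, 4, 0, 3, 2, 5, 4, 3, 2], [6, 7, 5, 4, 3, 2, 0, 1, 8])]

def bstab : List (List ℕ × List ℕ) :=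
  bstab_0 ++ bstab_1

def bexps_0 : List (List ℕ) :=
  [[],
    [5, 0],
    [3, 2, 1],
    [4, 3, 0],
    [4, 3, 2],
    [3],
    [5, 2, 1],
    [4, 3, 2, 1],
    [3, 2, 0],
    [3, 2],
    [4, 1, 2],
    [3, 1],
    [3, 0],
    [3, 5],
    [5],
    [5, 4, 2],
    [5, 4, 1],
    [3, 5, 4],
    [4, 3],
    [5, 3, 1],
    [0, 5, 4, 1],
    [5, 3, 0],
    [0, 5, 1],
    [3, 5, 1],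
    [4, 2, 0],
    [4, 2, 1],
    [4, 0],
    [5, 1, 0],
    [1],
    [0, 5, 4],
    [4, 3, 1, 2],
    [4, 2],
    [4, 1],
    [1, 3],
    [4, 3, 1],
    [5, 1],
    [5, 4, 3],
    [0, 5],
    [5, 1, 3],
    [0, 5, 0]]

def bexps_1 : List (List ℕ) :=
  [[4],
    [4, 3, 2, 0],
    [2, 1],
    [2],
    [5, 4],
    [2, 0],
    [1, 0],
    [5, 4, 0],
    [1, 2],
    [5, 2],
    [0, 5, 4, 1, 0],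
    [1, 3, 5],
    [4, 1, 3],
    [0, 5, 4, 0],
    [3, 5, 4, 1],
    [0],
    [5, 3],
    [5, 4, 3, 1],
    [5, 4, 1, 0],
    [0, 5, 1, 0],
    [4, 1, 0],
    [3, 1, 2],
    [1, 3, 5, 1],
    [5, 4, 2, 1]]

def bexps : List (List ℕ) :=
  bexps_0 ++ bexps_1

def brels_0 : List (List (ℕ × ℕ × ℕ)) :=
  [[(1, 0, 0), (1, 0, 1), (1, 0, 2), (1, 0, 3), (1, 0, 4), (1, 0, 5), (1, 0, 6), (1, 0, 7), (1, 0, 8), (1, 0, 9), (1, 0, 10), (1, 0, 11), (1, 0, 12), (1, 0, 13), (1, 0, 14)],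
    [(1, 0, 0), (1, 0, 15), (1, 0, 16)],
    [(1, 0, 0), (1, 0, 17), (1, 0, 18)],
    [(1, 0, 0), (1, 0, 19), (1, 0, 20)]]

def brels : List (List (ℕ × ℕ × ℕ)) :=
  brels_0

def binvs_0 : List (ℕ × List (ℕ × List (ℕ × ℕ))) :=
  [(0, [(1, [(1, 0), (2, 0), (0, 0), (6, 0), (8, 0), (10, 0), (11, 0), (12, 0), (9, 55), (4, 55), (13, 0), (3, 0), (14, 0), (5, 0), (7, 0), (0, 0), (1, 0), (2, 0), (3, 0), (4, 0), (5, 0), (6, 0), (7, 0), (8, 0), (9, 0), (10, 0), (11, 0), (12, 0), (13, 0), (14, 0)]), (2, [(3, 14), (10, 14), (7, 37), (12, 0), (0, 35), (9, 28), (5, 55), (13, 28), (2, 27), (1, 1), (6, 28), (4, 0), (11, 28), (14, 46), (8, 46), (0, 0), (1, 0), (2, 0), (3, 0), (4, 0), (5, 0), (6, 0), (7, 0), (8, 0), (9, 0), (10, 0), (11, 0), (12, 0), (13, 0), (14, 0)])])]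

def binvs_1 : List (ℕ × List (ℕ × List (ℕ × ℕ))) :=
  [(100, [(3, [(16, 5), (0, 19), (15, 44), (0, 0), (15, 0), (16, 0)]), (4, [(15, 49), (0, 8), (16, 6), (0, 0), (15, 0), (16, 0)]), (5, [(15, 17), (16, 38), (0, 0), (0, 0), (15, 0), (16, 0)])])]

def binvs_2 : List (ℕ × List (ℕ × List (ℕ × ℕ))) :=
  [(101, [(6, [(17, 60), (18, 63), (0, 34), (0, 0), (17, 0), (18, 0)]), (7, [(0, 56), (18, 14), (17, 16), (0, 0), (17, 0), (18, 0)]), (8, [(0, 62), (18, 59), (17, 59), (0, 0), (17, 0), (18, 0)])])]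

def binvs_3 : List (ℕ × List (ℕ × List (ℕ × ℕ))) :=
  [(102, [(9, [(19, 45), (0, 10), (20, 1), (0, 0), (19, 0), (20, 0)]), (10, [(20, 12), (0, 41), (19, 35), (0, 0), (19, 0), (20, 0)])])]

def binvs : List (ℕ × List (ℕ × List (ℕ × ℕ))) :=
  binvs_0 ++ binvs_1 ++ binvs_2 ++ binvs_3

def bsteps_0 : List (Step) :=
  [⟨1, [0, 2, 4, 5, 3, 2, 0, 1], 2, [(21, 1), (22, 2), (23, 3)]⟩,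
    ⟨1, [5, 4, 4, 3, 1, 2, 0], 1, [(24, 4), (25, 0), (26, 5)]⟩,
    ⟨1, [3, 2, 5, 4, 3, 0, 1, 1], 3, [(27, 6), (28, 7), (29, 8)]⟩,
    ⟨1, [1, 2, 4, 5, 0, 2, 3, 1], 2, [(30, 9), (31, 10), (32, 11)]⟩,
    ⟨1, [2, 0, 4, 2, 5, 3], 2, [(33, 12), (34, 13), (35, 14)]⟩,
    ⟨1, [5, 1, 1], 1, [(36, 15), (37, 16), (38, 1)]⟩,
    ⟨1, [1, 5, 3, 1, 1], 3, [(39, 3), (40, 16), (41, 17)]⟩,
    ⟨1, [4, 5, 3, 1, 2, 0], 1, [(32, 18), (42, 3), (43, 19)]⟩,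
    ⟨1, [5, 5, 4, 3, 1], 1, [(44, 11), (45, 15), (46, 20)]⟩,
    ⟨1, [3, 1, 1], 1, [(47, 21), (48, 4), (5, 22)]⟩,
    ⟨1, [1, 0, 3, 2, 5, 4], 3, [(15, 21), (49, 23), (50, 1)]⟩,
    ⟨1, [0, 3, 2, 5, 4], 3, [(51, 21), (52, 24), (53, 1)]⟩,
    ⟨1, [5, 2, 1, 3, 0, 2], 3, [(54, 3), (55, 25), (56, 26)]⟩,
    ⟨1, [3, 2, 5, 4, 0], 2, [(57, 9), (58, 27), (59, 28)]⟩,
    ⟨1, [1, 0, 0, 5, 4, 3, 2, 0], 2, [(60, 9), (46, 10), (61, 12)]⟩,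
    ⟨1, [4, 5, 2, 1, 0], 3, [(62, 8), (63, 29), (30, 8)]⟩,
    ⟨1, [3, 0, 1, 3, 0], 3, [(64, 14), (23, 5), (65, 30)]⟩,
    ⟨1, [3, 5, 2, 4, 1, 3, 0], 2, [(66, 0), (12, 31), (67, 32)]⟩,
    ⟨1, [2, 4, 3, 2, 5, 0, 2], 1, [(68, 33), (69, 13), (65, 34)]⟩,
    ⟨1, [1, 1, 3, 0, 1], 2, [(70, 21), (71, 0), (72, 28)]⟩,
    ⟨1, [5, 1, 0, 3, 2, 5, 4], 3, [(73, 0), (74, 0), (75, 35)]⟩,
    ⟨1, [2, 5, 3, 4, 2, 1], 1, [(27, 21), (76, 4), (77, 22)]⟩,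
    ⟨1, [2, 3, 4, 5, 0, 2], 1, [(78, 23), (79, 28), (80, 36)]⟩,
    ⟨1, [3, 1, 0, 5, 4, 2], 1, [(81, 18), (82, 4), (83, 22)]⟩,
    ⟨1, [2, 1, 1], 1, [(7, 37), (84, 0), (85, 38)]⟩]

def bsteps_1 : List (Step) :=
  [⟨1, [1, 3, 3, 1], 2, [(86, 14), (87, 12), (88, 28)]⟩,
    ⟨1, [4, 0, 3, 2, 5, 3], 3, [(84, 21), (89, 14), (90, 39)]⟩,
    ⟨1, [4, 5, 3, 4, 2, 1, 0], 2, [(91, 9), (13, 10), (92, 40)]⟩,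
    ⟨1, [0, 3, 1, 5, 4, 3, 0, 2], 2, [(45, 1), (93, 2), (94, 3)]⟩,
    ⟨1, [4, 5, 3, 3, 2, 1, 0], 2, [(95, 21), (96, 0), (97, 28)]⟩,
    ⟨1, [3, 1, 4, 2, 5, 1, 3], 2, [(42, 35), (98, 41), (4, 42)]⟩,
    ⟨1, [0, 4, 5, 2, 1, 0], 2, [(99, 14), (100, 38), (101, 3)]⟩,
    ⟨1, [5, 5, 4, 2, 1, 0], 2, [(102, 21), (103, 43), (104, 28)]⟩,
    ⟨1, [5, 4, 1, 0, 0, 3, 2, 0], 2, [(105, 38), (106, 4), (107, 28)]⟩,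
    ⟨1, [5, 0, 1, 3, 2, 1, 4], 3, [(12, 3), (92, 44), (108, 26)]⟩,
    ⟨1, [4, 1, 5, 2, 1, 1], 3, [(109, 21), (110, 5), (111, 39)]⟩,
    ⟨1, [3, 4, 0, 2, 5, 3, 1], 3, [(112, 14), (113, 5), (114, 37)]⟩,
    ⟨1, [0, 2, 3, 1, 5, 4], 1, [(115, 4), (4, 44), (116, 38)]⟩,
    ⟨1, [0, 4, 5, 2, 3, 0, 1], 3, [(117, 0), (118, 5), (46, 10)]⟩,
    ⟨1, [4, 1, 5, 3, 1, 1], 3, [(119, 8), (120, 23), (121, 1)]⟩,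
    ⟨1, [1, 0, 2, 3, 1], 3, [(59, 34), (122, 45), (123, 4)]⟩,
    ⟨1, [4, 1, 1, 2, 0], 1, [(113, 40), (124, 3), (49, 39)]⟩,
    ⟨1, [1, 4, 0, 2, 5, 0, 3], 2, [(116, 40), (77, 25), (118, 11)]⟩,
    ⟨1, [1, 0, 3, 2, 5, 4, 0], 2, [(125, 40), (50, 27), (74, 28)]⟩,
    ⟨1, [1, 3, 5, 0, 2, 4], 2, [(56, 40), (126, 25), (36, 6)]⟩,
    ⟨1, [3, 2, 1, 4, 2, 1, 0], 1, [(127, 23), (128, 46), (129, 47)]⟩,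
    ⟨1, [5, 3, 0, 1, 2, 4, 1], 3, [(17, 8), (130, 16), (2, 26)]⟩,
    ⟨1, [4, 3, 2, 0, 5, 2, 0], 3, [(131, 8), (98, 23), (9, 1)]⟩,
    ⟨1, [4, 5, 3, 1], 1, [(132, 48), (133, 40), (134, 33)]⟩,
    ⟨1, [3, 5, 1, 4, 0, 1], 2, [(135, 11), (136, 37), (137, 28)]⟩]

def bsteps_2 : List (Step) :=
  [⟨1, [2, 1, 0, 5, 4, 3, 0], 2, [(138, 8), (139, 35), (140, 4)]⟩,
    ⟨1, [3, 1, 2, 0, 5, 4, 2, 0], 2, [(124, 9), (141, 6), (142, 14)]⟩,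
    ⟨1, [2, 3, 1, 4, 3, 5], 2, [(143, 21), (144, 0), (111, 13)]⟩,
    ⟨1, [], 2, [(0, 0), (17, 0), (18, 0)]⟩,
    ⟨1, [3, 5, 2, 4, 1, 1, 0], 1, [(145, 21), (146, 4), (147, 22)]⟩,
    ⟨1, [0, 1, 4, 5, 3, 2, 2, 0], 1, [(148, 23), (149, 46), (150, 47)]⟩,
    ⟨1, [4, 3, 1, 0, 5, 4, 2], 3, [(151, 0), (36, 49), (152, 10)]⟩,
    ⟨1, [3, 0, 5, 2, 3, 4], 2, [(37, 34), (128, 15), (153, 49)]⟩,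
    ⟨1, [0, 3, 2, 5, 4], 2, [(51, 21), (154, 35), (155, 13)]⟩,
    ⟨1, [5, 2, 0, 1, 1, 4, 3], 2, [(156, 38), (157, 20), (5, 13)]⟩,
    ⟨1, [2, 1, 0, 5, 1, 3, 4, 0], 1, [(158, 3), (159, 9), (160, 9)]⟩,
    ⟨1, [1, 3, 2, 4, 3, 5], 3, [(161, 21), (134, 0), (162, 0)]⟩,
    ⟨1, [1, 4, 5, 2, 1, 0], 3, [(163, 34), (124, 7), (164, 8)]⟩,
    ⟨1, [0, 4, 5, 2, 1], 3, [(165, 50), (127, 16), (100, 21)]⟩,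
    ⟨1, [1, 4, 5, 2, 1, 0], 2, [(163, 34), (166, 48), (167, 3)]⟩,
    ⟨1, [3, 0, 4, 2, 5, 1], 2, [(168, 9), (169, 27), (170, 28)]⟩,
    ⟨1, [4, 2, 0, 5, 1, 0, 3], 3, [(171, 21), (157, 38), (14, 39)]⟩,
    ⟨1, [0, 1, 5, 0, 3, 4, 2], 1, [(172, 36), (33, 40), (18, 33)]⟩,
    ⟨1, [2, 1, 4, 3, 5, 1, 0, 0], 1, [(173, 4), (174, 44), (139, 38)]⟩,
    ⟨1, [2, 1, 0, 5, 1, 4, 3, 0], 3, [(175, 21), (158, 38), (176, 39)]⟩,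
    ⟨1, [4, 2, 1, 1, 3, 0, 5], 1, [(23, 40), (40, 51), (177, 39)]⟩,
    ⟨1, [2, 0, 3, 1, 4, 2, 5], 3, [(178, 0), (179, 0), (180, 0)]⟩,
    ⟨1, [3, 0, 2, 5, 0, 4, 1], 1, [(181, 26), (182, 35), (183, 18)]⟩,
    ⟨1, [0, 1, 4, 5, 2, 1, 0], 3, [(137, 34), (44, 7), (184, 8)]⟩,
    ⟨1, [3, 1, 1, 2], 2, [(185, 11), (52, 27), (186, 28)]⟩]

def bsteps_3 : List (Step) :=
  [⟨1, [3, 5, 4, 3, 3, 2, 1, 0], 3, [(31, 52), (187, 35), (188, 41)]⟩,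
    ⟨1, [1, 5, 2, 3, 4, 1, 1, 0], 1, [(189, 39), (154, 24), (190, 8)]⟩,
    ⟨1, [5, 0, 2, 2, 4], 2, [(48, 38), (89, 36), (147, 13)]⟩,
    ⟨1, [3, 4, 2, 2, 5, 0, 2], 1, [(136, 40), (191, 13), (192, 0)]⟩,
    ⟨1, [1, 3, 2, 4, 3, 5], 2, [(161, 21), (180, 0), (193, 0)]⟩,
    ⟨1, [3, 2, 0, 5, 1, 2, 4], 1, [(101, 40), (39, 0), (75, 18)]⟩,
    ⟨1, [5, 2, 0, 1, 1, 4, 3], 3, [(156, 38), (194, 23), (11, 53)]⟩,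
    ⟨1, [5, 0, 4, 5, 1, 2, 0], 3, [(181, 43), (159, 18), (195, 42)]⟩,
    ⟨1, [2, 1, 1, 3, 0, 4], 3, [(196, 4), (197, 49), (198, 14)]⟩,
    ⟨1, [3, 2, 0, 5, 1, 4, 4, 0], 1, [(157, 3), (105, 4), (199, 9)]⟩,
    ⟨1, [1, 2, 4, 5, 0, 1, 3], 2, [(3, 0), (150, 5), (200, 23)]⟩,
    ⟨1, [1, 5, 3, 4, 1], 3, [(170, 34), (201, 45), (202, 4)]⟩,
    ⟨1, [0, 2, 1, 5, 3, 4, 2, 2], 1, [(87, 15), (29, 13), (141, 11)]⟩,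
    ⟨1, [1, 5, 2, 4, 3, 1], 1, [(203, 28), (97, 54), (204, 16)]⟩,
    ⟨1, [2, 3, 1, 0, 5, 4, 1], 1, [(130, 12), (95, 0), (205, 38)]⟩,
    ⟨1, [0, 4, 5, 3, 3, 2, 1, 0], 2, [(121, 14), (206, 55), (207, 11)]⟩,
    ⟨1, [4, 2, 0, 5, 1, 0, 3], 2, [(171, 21), (208, 37), (11, 21)]⟩,
    ⟨1, [4, 3, 1, 0, 5, 1, 2], 1, [(209, 18), (210, 12), (211, 12)]⟩,
    ⟨1, [2, 3, 5, 0, 4, 4, 0], 1, [(212, 3), (153, 9), (103, 9)]⟩,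
    ⟨1, [4, 3, 0, 0, 5, 2, 1], 2, [(213, 56), (214, 18), (215, 28)]⟩,
    ⟨1, [4, 1, 3, 0, 2, 5, 0], 1, [(168, 33), (140, 19), (216, 3)]⟩,
    ⟨1, [3, 0, 4, 2, 5, 3], 2, [(26, 14), (175, 13), (209, 11)]⟩,
    ⟨1, [4, 3, 1, 0, 5, 4, 2], 1, [(151, 0), (91, 56), (217, 44)]⟩,
    ⟨1, [2, 5, 3, 4, 2, 1, 0, 0], 2, [(78, 14), (68, 54), (28, 28)]⟩,
    ⟨1, [4, 2, 1, 3, 2], 1, [(218, 33), (104, 36), (219, 57)]⟩]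

def bsteps_4 : List (Step) :=
  [⟨1, [1, 1, 4, 0, 3, 2, 1], 1, [(220, 39), (202, 19), (114, 56)]⟩,
    ⟨1, [3, 5, 2, 4, 1, 3, 0], 1, [(66, 0), (161, 0), (221, 0)]⟩,
    ⟨1, [3, 2, 5, 1, 0, 4], 1, [(22, 45), (222, 43), (214, 9)]⟩,
    ⟨1, [4, 3, 0, 0, 5, 2, 1], 3, [(213, 56), (106, 5), (223, 33)]⟩,
    ⟨1, [4, 1, 2, 5, 0, 3, 1, 0], 1, [(185, 9), (14, 0), (224, 3)]⟩,
    ⟨1, [5, 1, 3, 0, 1], 3, [(225, 38), (160, 0), (226, 52)]⟩,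
    ⟨1, [4, 1, 3, 0, 1], 3, [(227, 21), (47, 5), (228, 33)]⟩,
    ⟨1, [0, 0, 3, 2, 5, 4], 3, [(229, 21), (230, 49), (147, 1)]⟩,
    ⟨1, [1, 2, 4, 5, 0, 1, 3], 1, [(3, 0), (60, 56), (70, 44)]⟩,
    ⟨1, [3, 5, 1, 1, 0], 1, [(231, 26), (232, 36), (230, 15)]⟩,
    ⟨1, [0, 1, 1, 5, 4, 3, 2], 1, [(229, 4), (233, 44), (2, 38)]⟩,
    ⟨1, [4, 0, 3, 2, 5, 4], 2, [(234, 35), (235, 58), (176, 42)]⟩,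
    ⟨1, [2, 3, 1, 4, 5, 0, 1], 0, [(64, 5), (133, 43), (22, 5), (227, 39), (236, 32), (237, 29), (192, 21), (225, 22), (45, 28), (35, 26), (115, 22), (124, 7), (238, 43), (239, 59), (167, 3)]⟩,
    ⟨1, [1, 4, 3, 5, 4, 1, 0], 0, [(161, 29), (178, 3), (240, 29), (241, 27), (131, 3), (142, 12), (137, 27), (110, 55), (42, 18), (216, 18), (143, 12), (163, 27), (217, 55), (148, 12), (25, 55)]⟩,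
    ⟨1, [1, 1, 5, 0, 4, 3], 0, [(32, 59), (187, 19), (63, 51), (220, 28), (152, 24), (242, 41), (190, 11), (123, 60), (54, 25), (126, 10), (57, 8), (140, 30), (243, 28), (231, 25), (244, 28)]⟩,
    ⟨1, [0, 4, 4, 3, 2, 5, 1], 0, [(232, 53), (127, 60), (101, 38), (14, 3), (209, 10), (170, 32), (184, 26), (11, 52), (158, 24), (235, 36), (5, 52), (189, 36), (135, 10), (245, 47), (246, 30)]⟩,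
    ⟨1, [1, 4, 0, 0, 3, 2], 0, [(247, 61), (56, 60), (151, 30), (210, 48), (179, 20), (46, 8), (143, 50), (206, 31), (161, 50), (80, 15), (119, 10), (77, 61), (109, 50), (146, 53), (204, 2)]⟩,
    ⟨1, [4, 5, 2, 2, 0], 0, [(199, 51), (103, 1), (95, 44), (32, 22), (64, 47), (16, 32), (248, 51), (62, 37), (133, 44), (22, 44), (188, 30), (57, 51), (86, 15), (71, 51), (122, 51)]⟩,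
    ⟨1, [1, 0, 2, 5, 0, 4, 3, 0], 0, [(36, 2), (177, 32), (55, 7), (173, 28), (134, 16), (249, 12), (110, 57), (120, 5), (240, 58), (180, 36), (207, 33), (61, 11), (144, 57), (183, 36), (118, 11)]⟩,
    ⟨1, [1, 2, 0, 5, 4, 3, 3, 0], 0, [(197, 51), (113, 49), (250, 42), (64, 7), (35, 47), (176, 32), (103, 36), (21, 8), (94, 47), (251, 44), (85, 30), (43, 47), (145, 47), (96, 44), (26, 40)]⟩,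
    ⟨1, [3, 1, 2, 3, 4, 0, 5], 0, [(134, 21), (193, 13), (179, 17), (82, 1), (159, 35), (210, 38), (72, 3), (102, 35), (172, 19), (40, 38), (95, 35), (173, 27), (248, 41), (88, 3), (121, 19)]⟩,
    ⟨1, [5, 4, 1, 2, 4, 1], 0, [(143, 19), (110, 27), (241, 30), (174, 20), (61, 62), (129, 36), (112, 50), (65, 29), (117, 25), (77, 16), (21, 50), (211, 57), (250, 9), (196, 53), (224, 57)]⟩,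
    ⟨1, [2, 4, 1, 0, 3, 1], 0, [(76, 61), (209, 60), (176, 30), (236, 48), (56, 62), (147, 8), (221, 50), (35, 45), (151, 63), (247, 15), (45, 10), (79, 61), (203, 50), (170, 53), (90, 2)]⟩,
    ⟨1, [5, 0, 4, 1, 3, 3], 0, [(165, 25), (101, 34), (218, 42), (113, 39), (138, 57), (234, 58), (155, 11), (191, 22), (81, 17), (149, 57), (198, 22), (26, 16), (186, 9), (53, 11), (158, 44)]⟩,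
    ⟨1, [5, 1, 0, 3, 2, 5, 4], 0, [(73, 0), (15, 13), (125, 0), (117, 0), (233, 0), (107, 36), (162, 18), (61, 1), (252, 35), (38, 21), (77, 38), (215, 17), (80, 18), (180, 34), (223, 36)]⟩]

def bsteps_5 : List (Step) :=
  [⟨1, [1, 4, 3, 0, 5, 1, 0], 0, [(253, 55), (254, 13), (219, 24), (21, 49), (226, 35), (34, 32), (166, 4), (65, 23), (83, 25), (228, 1), (174, 23), (251, 2), (164, 18), (141, 31), (93, 9)]⟩,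
    ⟨1, [5, 4, 2, 3, 3, 2], 0, [(16, 27), (122, 25), (57, 42), (132, 54), (255, 32), (42, 58), (222, 2), (243, 22), (157, 51), (11, 63), (205, 22), (9, 16), (137, 9), (245, 11), (212, 44)]⟩,
    ⟨1, [0, 2, 5, 0, 3, 4, 1], 0, [(80, 3), (161, 8), (179, 26), (254, 49), (195, 43), (237, 43), (242, 48), (238, 23), (172, 48), (41, 42), (233, 23), (141, 16), (244, 18), (140, 42), (163, 42)]⟩,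
    ⟨1, [4, 1, 2, 5, 3, 2, 2], 0, [(117, 6), (61, 25), (77, 46), (173, 54), (156, 32), (108, 10), (69, 50), (210, 20), (208, 57), (14, 57), (121, 50), (13, 16), (99, 50), (127, 48), (67, 44)]⟩,
    ⟨1, [0, 5, 5, 4, 2, 3, 1], 0, [(249, 44), (61, 37), (118, 44), (156, 1), (174, 55), (253, 0), (182, 46), (255, 35), (23, 2), (133, 28), (171, 35), (239, 46), (58, 0), (122, 46), (38, 46)]⟩,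
    ⟨1, [0, 4, 1, 2, 5, 3, 2, 2], 0, [(233, 6), (252, 25), (38, 46), (159, 54), (24, 32), (171, 10), (246, 50), (40, 20), (200, 17), (7, 57), (172, 50), (5, 16), (201, 12), (169, 11), (194, 44)]⟩]

def bsteps : List (Step) :=
  bsteps_0 ++ bsteps_1 ++ bsteps_2 ++ bsteps_3 ++ bsteps_4 ++ bsteps_5

def bCtx : Ctx := ⟨9, gi, belts, breps, bstab, []⟩

end Cfsg.Agent.AltSolvCent.Two
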