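/-
In characteristic two every nonzero module of the alternating group of degree nine has a nonzero
vector fixed by a nonsolvable subgroup.
-/
import Cfsg.Agent.AltSolvCent.Fixed
import Cfsg.Agent.AltSolvCent.TwoData

set_option autoImplicit false
set_option maxRecDepth 100000

namespace Cfsg.Agent.AltSolvCent.Two

open Equiv Ctx

/-- The generating three-cycles. -/
def cyc (i : Fin 9) : Perm (Fin 9) := swap 0 i * swap 0 1

theorem cyc_mem (k : Fin 7) : cyc ⟨k.val + 2, by omega⟩ ∈ alternatingGroup (Fin 9) := by
  rw [Perm.mem_alternatingGroup, cyc]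
  revert k
  decide +kernel

/-- The generators. -/
def gs : List ↥(alternatingGroup (Fin 9)) := List.ofFn fun k : Fin 7 => ⟨_, cyc_mem k⟩

theorem gi_eq : ∀ k : Fin 7, gi.getD k.val (List.range 9) =
    List.ofFn fun i => (cyc ⟨k.val + 2, by omega⟩ i).val := by decide +kernel

theorem gensOK (elts reps stab : Table) :
    (⟨9, gi, elts, reps, stab, []⟩ : Ctx).GensOK gs := by
  refine ⟨rfl, by simp [gs, gi], ?_⟩
  intro k hk
  have hk' : k < 7 := by simpa [gs] using hk
  clear hk
  have h := gi_eq ⟨k, hk'⟩
  rw [List.getD_eq_getElem gs _ (by simpa [gs] using hk')]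
  simp only [gs, List.getElem_ofFn, idImg]
  exact h

/-- A context for checking identities of words only. -/
def wCtx : Ctx := ⟨9, gi, [], [], [], []⟩

theorem perf_all : simpleSets.all wCtx.perfOK = true := by decide +kernel

/-- The generators of the source of a relation. -/
def srcGens (k : ℕ) : List (List ℕ) :=
  if k = 100 then kgens0 else if k = 101 then kgens1 else if k = 102 then kgens2
  else (simpleSets.getD k ([], [])).1

/-- The sources of all relations are valid and the values are fixed by them. -/
def relsOK (C : Ctx) (rels : List (List (ℕ × ℕ × ℕ)))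
    (invs : List (ℕ × List (ℕ × List (ℕ × ℕ)))) (extra : List ℕ) : Bool :=
  rels.length == invs.length && (List.zip rels invs).all fun a =>
    (Nat.blt a.2.1 simpleSets.length || extra.contains a.2.1) &&
      C.fixOK 2 a.1 (srcGens a.2.1) a.2.2

/-- All checks of a stage. -/
def stageOK (C : Ctx) (G : List (List ℕ)) (exps : List (List ℕ))
    (rels : List (List (ℕ × ℕ × ℕ))) (invs : List (ℕ × List (ℕ × List (ℕ × ℕ))))
    (extra : List ℕ) (steps : List Step) : Bool :=
  C.ok && C.stabOK G exps && relsOK C rels invs extra &&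
    C.check 2 rels steps [(1, 0, 0)] [(0, 0)] && (C.get C.reps 0).1 == [] &&
    (C.get C.elts 0).1 == []

theorem check_a0 : stageOK a0Ctx kgens0 a0exps a0rels a0invs [] a0steps = true := by decide +kernel
theorem check_a1 : stageOK a1Ctx kgens1 a1exps a1rels a1invs [] a1steps = true := by decide +kernel
theorem check_a2 : stageOK a2Ctx kgens2 a2exps a2rels a2invs [] a2steps = true := by decide +kernel
theorem check_b : stageOK bCtx ugens bexps brels binvs [100, 101, 102] bsteps = true := by
  decide +kernel

variable {V : Type*} [AddCommGroup V] [DistribMulAction ↥(alternatingGroup (Fin 9)) V]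

/-- A stage: a vector fixed by the given words vanishes. -/
theorem stage (hp : ∀ v : V, 2 • v = 0) (hN : NoFixed ↥(alternatingGroup (Fin 9)) V)
    {C : Ctx} (hC : C.GensOK gs) (hscal : C.scal = []) {G exps : List (List ℕ)}
    {rels : List (List (ℕ × ℕ × ℕ))} {invs : List (ℕ × List (ℕ × List (ℕ × ℕ)))}
    {extra : List ℕ} {steps : List Step} (h : stageOK C G exps rels invs extra steps = true)
    (hextra : ∀ k ∈ extra, ∀ v : V, (∀ g ∈ srcGens k, el gs g • v = v) → v = 0)
    (w : V) (hw : ∀ g ∈ G, el gs g • w = w) : w = 0 := by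
  simp only [stageOK, Bool.and_eq_true, beq_iff_eq] at h
  obtain ⟨⟨⟨⟨⟨hok, hst⟩, hrel⟩, hc⟩, hr0⟩, he0⟩ := h
  have hU := stab_sound (gs := gs) hst hscal hw
  have hrels : ∀ L ∈ rels, val C gs w L = 0 := by
    simp only [relsOK, Bool.and_eq_true, beq_iff_eq, List.all_eq_true, Bool.or_eq_true,
      Nat.blt_eq, List.contains_iff_mem] at hrel
    obtain ⟨hlen, hall⟩ := hrel
    intro L hL
    obtain ⟨i, hi, rfl⟩ := List.getElem_of_mem hL
    have hz : (rels[i], invs[i]'(hlen ▸ hi)) ∈ List.zip rels invs :=
      List.mem_iff_getElem.2 ⟨i, by rw [List.length_zip]; omega, by simp⟩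
    obtain ⟨hsrc, hfix⟩ := hall _ hz
    have hfx := fix_sound hC hok hp hU hfix
    rcases hsrc with hs | hs
    · have hperf := perf_all
      rw [List.all_eq_true] at hperf
      have h1 := hperf _ (List.getElem_mem hs)
      have hne : srcGens (invs[i]'(hlen ▸ hi)).1 = (simpleSets[(invs[i]'(hlen ▸ hi)).1]'hs).1 := by
        have h100 : simpleSets.length ≤ 100 := by decide +kernel
        unfold srcGens
        simp only at hs
        rw [if_neg (Nat.ne_of_lt (by omega)), if_neg (Nat.ne_of_lt (by omega)), if_neg (Nat.ne_of_lt (by omega)), List.getD_eq_getElem _ _ hs]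
      exact zero_of_perf (C := wCtx) (gensOK [] [] []) hN h1
        (fun g hg => hfx g (hne ▸ hg))
    · exact hextra _ hs _ hfx
  have := sound hC hok hp hU hrels hc
  rwa [val_unit w hr0 he0] at this

/-- Successive squares and conjugates stay in the lower part of the chain. -/
def chainOK : List (List ℕ) → List (List ℕ × List ℕ × List (List ℕ)) → Bool
  | _, [] => true
  | lower, (u, sq, cj) :: rest =>
    (wCtx.img (u ++ u) == wCtx.img (flat lower sq)) && lower.length == cj.length &&
      ((List.zip lower cj).all fun a => wCtx.img (a.1 ++ u) == wCtx.img (u ++ flat lower a.2)) &&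
      chainOK (lower ++ [u]) rest

theorem chain_ok : chainOK [] chain = true ∧ ugens = chain.map Prod.fst := by decide +kernel

theorem chain_fixed (hp : ∀ v : V, 2 • v = 0) :
    ∀ (rest : List (List ℕ × List ℕ × List (List ℕ))) (lower : List (List ℕ)),
      chainOK lower rest = true → ∀ v : V, v ≠ 0 → (∀ g ∈ lower, el gs g • v = v) →
        ∃ v' : V, v' ≠ 0 ∧ ∀ g ∈ lower ++ rest.map Prod.fst, el gs g • v' = v'
  | [], lower, _, v, hv, hf => ⟨v, hv, by simpa using hf⟩
  | (u, sq, cj) :: rest, lower, h, v, hv, hf => by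
    simp only [chainOK, Bool.and_eq_true, beq_iff_eq, List.all_eq_true] at h
    obtain ⟨⟨⟨hsq, hlen⟩, hcj⟩, hrest⟩ := h
    have hg := gensOK [] [] []
    have h2 : el gs u • el gs u • v = v := by
      rw [← mul_smul, ← el_append, eq_of_img hg hsq]
      exact smul_el_flat hf sq
    have hmove : ∀ g ∈ lower, el gs g • el gs u • v = el gs u • v := by
      intro g hg'
      obtain ⟨i, hi, rfl⟩ := List.getElem_of_mem hg'
      have hz : (lower[i], cj[i]'(hlen ▸ hi)) ∈ List.zip lower cj :=
        List.mem_iff_getElem.2 ⟨i, by rw [List.length_zip]; omega, by simp⟩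
      rw [← mul_smul, ← el_append, eq_of_img hg (hcj _ hz), el_append, mul_smul,
        smul_el_flat hf _]
    have key : ∃ v' : V, v' ≠ 0 ∧ (∀ g ∈ lower, el gs g • v' = v') ∧ el gs u • v' = v' := by
      by_cases h0 : v + el gs u • v = 0
      · refine ⟨v, hv, hf, ?_⟩
        calc el gs u • v = (v + el gs u • v) + v := by
              have := hp v; rw [two_nsmul] at this
              rw [add_comm v, add_assoc, this, add_zero]
          _ = v := by rw [h0, zero_add]
      · refine ⟨_, h0, fun g hg' => ?_, ?_⟩
        · rw [smul_add, hf g hg', hmove g hg']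
        · rw [smul_add, h2, add_comm]
    obtain ⟨v', hv', hlow, hu⟩ := key
    have hf' : ∀ g ∈ lower ++ [u], el gs g • v' = v' := by
      intro g hg'
      rcases List.mem_append.1 hg' with hg' | hg'
      · exact hlow g hg'
      · rw [List.mem_singleton.1 hg']; exact hu
    obtain ⟨v'', hv'', h''⟩ := chain_fixed hp rest (lower ++ [u]) hrest v' hv' hf'
    exact ⟨v'', hv'', by simpa using h''⟩

/-- The module lemma in characteristic two. -/
theorem exists_fixed (hp : ∀ v : V, 2 • v = 0) (hV : ∃ v : V, v ≠ 0) :
    ¬ NoFixed ↥(alternatingGroup (Fin 9)) V := by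
  intro hN
  obtain ⟨v, hv⟩ := hV
  obtain ⟨w, hw, hfix⟩ := chain_fixed hp chain [] chain_ok.1 v hv (by simp)
  rw [List.nil_append, ← chain_ok.2] at hfix
  apply hw
  refine stage hp hN (C := bCtx) (gensOK _ _ _) rfl check_b ?_ w hfix
  intro k hk u hu
  simp only [List.mem_cons, List.not_mem_nil, or_false] at hk
  rcases hk with rfl | rfl | rfl
  · exact stage hp hN (C := a0Ctx) (gensOK _ _ _) rfl check_a0 (by simp) u
      (by simpa [srcGens] using hu)
  · exact stage hp hN (C := a1Ctx) (gensOK _ _ _) rfl check_a1 (by simp) u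
      (by simpa [srcGens] using hu)
  · exact stage hp hN (C := a2Ctx) (gensOK _ _ _) rfl check_a2 (by simp) u
      (by simpa [srcGens] using hu)

end Cfsg.Agent.AltSolvCent.Two
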