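/-
Alternating sections in groups whose non-central `p`-elements have solvable centralisers.
-/
import Cfsg.Agent.AltSolvCent.Reduce
import Cfsg.Agent.AltSolvCent.Two
import Cfsg.Agent.AltSolvCent.FiveMain
import Cfsg.Agent.LocalEven61.Involves

set_option autoImplicit false

namespace Cfsg.Agent.AltSolvCent

open Equiv

/-- Permutations of two blocks of points, acting on their union. -/
def block (m : ℕ) : Perm (Fin 5) × Perm (Fin m) →* Perm (Fin (5 + m)) :=
  (finSumFinEquiv.permCongrHom).toMonoidHom.comp (Perm.sumCongrHom (Fin 5) (Fin m))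

theorem block_injective (m : ℕ) : Function.Injective (block m) :=
  finSumFinEquiv.permCongrHom.injective.comp Perm.sumCongrHom_injective

theorem sign_block (m : ℕ) (x : Perm (Fin 5) × Perm (Fin m)) :
    Perm.sign (block m x) = Perm.sign x.1 * Perm.sign x.2 := by
  simp [block, Perm.sign_permCongr, Perm.sign_sumCongr]

theorem not_solvable_a5 : ¬ Group.IsSolvable (alternatingGroup (Fin 5)) := by
  intro hs
  haveI := hs
  haveI : IsSimpleGroup (alternatingGroup (Fin 5)) :=
    alternatingGroup.isSimpleGroup (by simp)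
  have hcomm := (IsSimpleGroup.comm_iff_isSolvable (G := alternatingGroup (Fin 5))).2 hs
  have h : Equiv.swap (0 : Fin 5) 1 * Equiv.swap (1 : Fin 5) 2 ∈ alternatingGroup (Fin 5) :=
    Perm.mem_alternatingGroup.2 (by decide)
  have h' : Equiv.swap (2 : Fin 5) 3 * Equiv.swap (3 : Fin 5) 4 ∈ alternatingGroup (Fin 5) :=
    Perm.mem_alternatingGroup.2 (by decide)
  have hne : (Equiv.swap (0 : Fin 5) 1 * Equiv.swap (1 : Fin 5) 2) *
      (Equiv.swap (2 : Fin 5) 3 * Equiv.swap (3 : Fin 5) 4) ≠
      (Equiv.swap (2 : Fin 5) 3 * Equiv.swap (3 : Fin 5) 4) *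
      (Equiv.swap (0 : Fin 5) 1 * Equiv.swap (1 : Fin 5) 2) := by decide
  exact hne (congrArg Subtype.val (hcomm ⟨_, h⟩ ⟨_, h'⟩))

/-- The element of the second block, and a copy of `A₅` centralising it. -/
theorem exists_pair (m : ℕ) {p : ℕ} {τ : Perm (Fin m)} (hτ : Perm.sign τ = 1) (hp : orderOf τ = p) :
    ∃ (a : alternatingGroup (Fin (5 + m))) (T : Subgroup (alternatingGroup (Fin (5 + m)))),
      orderOf a = p ∧ T ≤ Subgroup.centralizer {a} ∧ ¬ Group.IsSolvable T ∧ Nat.card T = 60 := by
  let g : alternatingGroup (Fin 5) →* alternatingGroup (Fin (5 + m)) :=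
    ((block m).comp ((MonoidHom.inl _ _).comp (alternatingGroup (Fin 5)).subtype)).codRestrict _
      fun x => by
        rw [Perm.mem_alternatingGroup]
        simp [sign_block, Perm.mem_alternatingGroup.1 x.2]
  have hg : Function.Injective g := fun x y h => by
    have h' := block_injective m (congrArg Subtype.val h)
    exact Subtype.ext (congrArg Prod.fst h')
  refine ⟨⟨block m (1, τ), ?_⟩, g.range, ?_, ?_, ?_, ?_⟩
  · rw [Perm.mem_alternatingGroup]; simp [sign_block, hτ]
  · rw [Subgroup.orderOf_mk, orderOf_injective _ (block_injective m)]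
    rw [show ((1 : Perm (Fin 5)), τ) = MonoidHom.inr (Perm (Fin 5)) (Perm (Fin m)) τ from rfl,
      orderOf_injective _ (fun _ _ h => (Prod.ext_iff.1 h).2), hp]
  · rintro _ ⟨x, rfl⟩
    rw [Subgroup.mem_centralizer_singleton_iff]
    refine Subtype.ext ?_
    show block m ((x : Perm (Fin 5)), 1) * block m (1, τ) = block m (1, τ) * block m ((x : Perm (Fin 5)), 1)
    rw [← map_mul, ← map_mul]
    simp
  · intro hs
    exact not_solvable_a5 (@Group.isSolvable_of_isSolvable_injective _ _ _ _ g.rangeRestrict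
      (fun x y h => hg (congrArg Subtype.val h)) hs)
  · rw [← Nat.card_congr (MonoidHom.ofInjective hg).toEquiv, nat_card_alternatingGroup,
      Nat.card_fin]
    rfl

/-- A group mapping onto an alternating group has a bad element, in the degrees needed. -/
theorem hasBad_of_surjective {H : Type*} [Group H] [Finite H] {p : ℕ} [Fact p.Prime] {m : ℕ}
    (hcase : (p = 2 ∧ m = 4) ∨ (p = 5 ∧ m = 5) ∨ (7 ≤ p ∧ m = p))
    (f : H →* alternatingGroup (Fin (5 + m))) (hf : Function.Surjective f)
    (hmin : ∀ K : Subgroup H, K.map f = ⊤ → K = ⊤) : HasBad p H := by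
  obtain ⟨τ, hτ, hord⟩ : ∃ τ : Perm (Fin m), Perm.sign τ = 1 ∧ orderOf τ = p := by
    rcases hcase with ⟨rfl, rfl⟩ | ⟨rfl, rfl⟩ | ⟨h7, rfl⟩
    · exact ⟨swap 0 1 * swap 2 3, by decide, by
        haveI : Fact (Nat.Prime 2) := ⟨Nat.prime_two⟩
        exact orderOf_eq_prime (by decide) (by decide)⟩
    · exact ⟨finRotate 5, by decide, by
        haveI : Fact (Nat.Prime 5) := ⟨by norm_num⟩
        exact orderOf_eq_prime (by decide) (by decide)⟩
    · obtain ⟨k, rfl⟩ : ∃ k, m = k + 2 := ⟨m - 2, by omega⟩
      refine ⟨finRotate (k + 2), ?_, ?_⟩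
      · rw [sign_finRotate]
        have hodd : Odd (k + 2) := (Fact.out : (k + 2).Prime).odd_of_ne_two (by omega)
        exact (show Even (k + 1) from by rcases hodd with ⟨j, hj⟩; exact ⟨j, by omega⟩).neg_one_pow
      · rw [isCycle_finRotate.orderOf, support_finRotate, Finset.card_univ, Fintype.card_fin]
  obtain ⟨a, T, ha, hT, hTns, hTc⟩ := exists_pair m hτ hord
  haveI : IsSimpleGroup (alternatingGroup (Fin (5 + m))) :=
    alternatingGroup.isSimpleGroup (by simp)
  have hZ : Subgroup.center (alternatingGroup (Fin (5 + m))) = ⊥ := by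
    rcases Subgroup.Normal.eq_bot_or_eq_top
      (inferInstance : (Subgroup.center (alternatingGroup (Fin (5 + m)))).Normal) with h | h
    · exact h
    · exfalso
      apply hTns
      letI : CommGroup T :=
        { T.toGroup with
          mul_comm := fun x y => Subtype.ext (Subgroup.mem_center_iff.1
            (show (y : alternatingGroup (Fin (5 + m))) ∈
              Subgroup.center (alternatingGroup (Fin (5 + m))) from h.ge (Subgroup.mem_top _)) x) }
      infer_instance
  have haC : a ∉ Subgroup.center _ := by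
    rw [hZ, Subgroup.mem_bot]
    intro h1
    rw [h1, orderOf_one] at ha
    exact (Fact.out : p.Prime).ne_one ha.symm
  have hC : ¬ Group.IsSolvable (Subgroup.centralizer {a}) := not_solvable_mono hT hTns
  rcases hcase with ⟨rfl, rfl⟩ | ⟨rfl, rfl⟩ | ⟨h7, rfl⟩
  rotate_left 2
  · refine bad_of_coprime hf ha haC T hT hTns ?_
    rw [hTc]
    refine ((Fact.out : m.Prime).coprime_iff_not_dvd.2 fun hd => ?_).symm
    have hm : m.Prime := Fact.out
    rw [show 60 = 2 * 2 * 3 * 5 from rfl, hm.dvd_mul, hm.dvd_mul, hm.dvd_mul,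
      Nat.prime_dvd_prime_iff_eq hm Nat.prime_two, Nat.prime_dvd_prime_iff_eq hm Nat.prime_three,
      Nat.prime_dvd_prime_iff_eq hm (by norm_num)] at hd
    omega
  all_goals
    have hker : f.ker ≤ frattini H := by
      refine le_iInf₂ fun M hM => ?_
      by_contra hle
      refine hM.1 (hmin M ?_)
      have hsup : M ⊔ f.ker = ⊤ := hM.2 _ (left_lt_sup.2 hle)
      have := congrArg (Subgroup.map f) hsup
      rwa [Subgroup.map_sup, (Subgroup.map_eq_bot_iff _).2 le_rfl, sup_bot_eq,
        Subgroup.map_top_of_surjective f hf] at this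
    haveI : Group.IsNilpotent (frattini H) := frattini_nilpotent
    haveI : Group.IsNilpotent f.ker :=
      Group.nilpotent_of_mulEquiv (Subgroup.subgroupOfEquivOfLe hker)
  · rcases bad_or_central hf (p := 2) (fun V _ _ hp hV => Two.exists_fixed (V := V) hp hV) with h | h
    · exact h
    · exact bad_of_central hf h ha haC hC
  · rcases bad_or_central hf (p := 5) (fun V _ _ hp hV => Five.exists_fixed (V := V) hp hV) with h | h
    · exact h
    · exact bad_of_central hf h ha haC hC

/-- The degree bound. -/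
theorem degree_bound {G : Type*} [Group G] [Finite G] (p : ℕ) [Fact p.Prime] (hp3 : p ≠ 3)
    (h : ∀ x : G, x ∉ Subgroup.center G → (∃ k : ℕ, orderOf x = p ^ k) →
      Group.IsSolvable (Subgroup.centralizer ({x} : Set G)))
    (d : ℕ) (hinv : Cfsg.Involves (alternatingGroup (Fin d)) G) :
    d ≤ p + 4 + (if p = 2 then 2 else 0) := by
  by_contra hlt
  obtain ⟨m, hcase, hmd⟩ : ∃ m, ((p = 2 ∧ m = 4) ∨ (p = 5 ∧ m = 5) ∨ (7 ≤ p ∧ m = p)) ∧ 5 + m ≤ d := by
    have h2 := (Fact.out : p.Prime).two_le
    by_cases hp2 : p = 2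
    · exact ⟨4, Or.inl ⟨hp2, rfl⟩, by rw [if_pos hp2] at hlt; omega⟩
    · rw [if_neg hp2] at hlt
      by_cases hp5 : p = 5
      · exact ⟨5, Or.inr (Or.inl ⟨hp5, rfl⟩), by omega⟩
      · refine ⟨p, Or.inr (Or.inr ⟨?_, rfl⟩), by omega⟩
        by_contra h7
        have h6 : p ≤ 6 := by omega
        have hpr : p.Prime := Fact.out
        interval_cases p <;> first | omega | norm_num at hpr
  -- a smallest subgroup mapping onto `A_{5+m}`
  obtain ⟨K, R, hR, ⟨e⟩⟩ := hinv
  haveI := hR
  let f₀ : ↥K →* alternatingGroup (Fin d) := e.toMonoidHom.comp (QuotientGroup.mk' _)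
  have hf₀ : Function.Surjective f₀ := e.surjective.comp (QuotientGroup.mk'_surjective _)
  let ι : alternatingGroup (Fin (5 + m)) →* alternatingGroup (Fin d) :=
    ((Perm.viaEmbeddingHom (Fin.castLEEmb hmd)).comp (alternatingGroup _).subtype).codRestrict _
      fun x => by
        rw [Perm.mem_alternatingGroup]
        classical
        show Perm.sign (Perm.viaEmbedding (x : Perm (Fin (5 + m))) (Fin.castLEEmb hmd)) = 1
        unfold Perm.viaEmbedding
        convert Perm.mem_alternatingGroup.1 x.2 using 1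
        convert Perm.sign_extendDomain _ _ using 3
  have hι : Function.Injective ι := fun x y hxy =>
    Subtype.ext (Perm.viaEmbeddingHom_injective _ (congrArg Subtype.val hxy))
  classical
  have hex : ∃ n, ∃ (H : Subgroup G) (f : ↥H →* alternatingGroup (Fin (5 + m))),
      Nat.card H = n ∧ Function.Surjective f := by
    let eι := MonoidHom.ofInjective hι
    let K' := ι.range.comap f₀
    let g : ↥K' →* ι.range := (f₀.comp K'.subtype).codRestrict _ fun x => x.2
    have hg : Function.Surjective g := fun y => by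
      obtain ⟨x, hx⟩ := hf₀ y
      exact ⟨⟨x, by show f₀ x ∈ ι.range; rw [hx]; exact y.2⟩, Subtype.ext hx⟩
    let eK := Subgroup.equivMapOfInjective K' K.subtype K.subtype_injective
    exact ⟨_, K'.map K.subtype, (eι.symm.toMonoidHom.comp g).comp eK.symm.toMonoidHom, rfl,
      (eι.symm.surjective.comp hg).comp eK.symm.surjective⟩
  obtain ⟨H, f, hcard, hf⟩ := Nat.find_spec hex
  have hmin : ∀ M : Subgroup H, M.map f = ⊤ → M = ⊤ := by
    intro M hM
    let eM := Subgroup.equivMapOfInjective M H.subtype H.subtype_injective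
    have hle := Nat.find_min' hex ⟨M.map H.subtype, (f.comp M.subtype).comp eM.symm.toMonoidHom, rfl,
      (fun y => by
        obtain ⟨x, hx, hxy⟩ := (hM.symm ▸ Subgroup.mem_top y : y ∈ M.map f)
        exact ⟨eM ⟨x, hx⟩, by simp [hxy]⟩)⟩
    rw [← hcard, ← Nat.card_congr eM.toEquiv] at hle
    exact Subgroup.eq_top_of_le_card M hle
  obtain ⟨x, hxc, ⟨k, hk⟩, hns⟩ := hasBad_of_surjective hcase f hf hmin
  apply hns
  have hxG : (x : G) ∉ Subgroup.center G := fun hc =>
    hxc (Subgroup.mem_center_iff.2 fun g => Subtype.ext (Subgroup.mem_center_iff.1 hc g))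
  have hs := h x hxG ⟨k, by rw [Subgroup.orderOf_coe, hk]⟩
  let j : ↥(Subgroup.centralizer ({x} : Set H)) →* ↥(Subgroup.centralizer ({(x : G)} : Set G)) :=
    (H.subtype.comp (Subgroup.centralizer ({x} : Set H)).subtype).codRestrict _ fun y => by
      rw [Subgroup.mem_centralizer_singleton_iff]
      exact congrArg Subtype.val (Subgroup.mem_centralizer_singleton_iff.1 y.2)
  exact @Group.isSolvable_of_isSolvable_injective _ _ _ _ j
    (fun y z hyz => Subtype.ext (Subtype.ext (congrArg Subtype.val hyz : _))) hs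

end Cfsg.Agent.AltSolvCent
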